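import Mathlib
import Groth.Prelude.Def_DualSh
import Groth.Prelude.Def_CxOX
import Groth.Prelude.Def_DCoh3
import Groth.Agent.Helper9.RPL1
import Groth.Agent.Helper9.RPL2
import Groth.Agent.Helper9.RPL3
import Groth.Agent.Helper9.QcPc1
import Groth.Agent.Helper9.TP3
import Groth.Agent.Helper9.TT6
import Groth.Agent.Helper4.FTRestrict
import Groth.Agent.Helper4.FPTilde
import Groth.Agent.Helper4.TildeExact

/-! `S`-perfect ⟺ locally a bounded complex of finitely presented modules flat over `S`. -/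

set_option autoImplicit false
set_option linter.style.haveILetI false
set_option linter.unusedVariables false
set_option linter.unusedSectionVars false
universe u

namespace Groth.Agent.Helper9.RPL4

noncomputable section

open CategoryTheory CategoryTheory.Limits AlgebraicGeometry HomologicalComplex
open Groth.Agent.Lead.PerfLib Groth.Agent.Lead.PcLib Groth.Agent.Lead.FlatLib
  Groth.Agent.Helper9.RelTor1 Groth.Agent.Helper9.RelTor2 Groth.Agent.Helper9.TP1
  Groth.Agent.Helper9.TP2 Groth.Agent.Helper3.DRingLib Scheme.Modules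

attribute [local instance] HasDerivedCategory.standard

variable {X S : Scheme.{u}}

/-- a bounded complex of finitely presented modules flat over the base is pseudo-coherent -/
theorem locPC_of_fp_flat {Y : Scheme.{u}} (g : Y ⟶ S) [Flat g] [LocallyOfFinitePresentation g]
    (G : CochainComplex Y.Modules ℤ) (a b : ℤ) (hG : DCoh.VanishesOutside G a b)
    (hterms : ∀ i : ℤ, CohB1.IsFP (G.X i) ∧ FlatMod.IsFlatOver g (G.X i)) (m : ℤ) (y : Y) :
    LocPC m G y := by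
  obtain ⟨V, hV, hyV, -⟩ :=
    exists_isAffineOpen_mem_and_subset (x := g.base y) (U := ⊤) trivial
  obtain ⟨U, hU, hyU, hUV⟩ :=
    exists_isAffineOpen_mem_and_subset (x := y) (U := g ⁻¹ᵁ V) hyV
  obtain ⟨p, rfl⟩ : ∃ p : Spec Γ(Y, U), hU.fromSpec p = y := by
    have hy' : y ∈ Set.range hU.fromSpec := by
      rw [hU.range_fromSpec]
      exact hyU
    exact hy'
  apply LocPC.of_restrict hU.fromSpec
  letI alg : Algebra Γ(S, V) Γ(Y, U) := (g.appLE V U hUV).hom.toAlgebra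
  have hfl : (g.appLE V U hUV).hom.Flat :=
    HasRingHomProperty.appLE (P := @Flat) g inferInstance ⟨V, hV⟩ ⟨U, hU⟩ hUV
  haveI : Module.Flat Γ(S, V) Γ(Y, U) := hfl
  have hfp : (g.appLE V U hUV).hom.FinitePresentation :=
    HasRingHomProperty.appLE (P := @LocallyOfFinitePresentation) g inferInstance ⟨V, hV⟩ ⟨U, hU⟩
      hUV
  haveI : Algebra.FinitePresentation Γ(S, V) Γ(Y, U) := hfp
  haveI : PreservesFiniteLimits (tilde.functor Γ(Y, U)) :=
    Groth.Agent.Helper4.TildeExact.preservesFiniteLimits_tilde _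
  let E' : CochainComplex (Spec Γ(Y, U)).Modules ℤ := (Rc hU.fromSpec).obj G
  have hq : ∀ i : ℤ, (E'.X i).IsQuasicoherent := fun i => by
    haveI : (G.X i).IsQuasicoherent :=
      Groth.Agent.Helper4.FinLocFree2.isQuasicoherent_of_isFinitePresentation (G.X i) (hterms i).1
    exact inferInstanceAs ((Scheme.Modules.restrictFunctor hU.fromSpec).obj (G.X i)).IsQuasicoherent
  have hiso : ∀ i : ℤ, IsIso ((E'.X i).fromTildeΓ) := fun i => by
    haveI := hq i
    infer_instance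
  haveI : (moduleSpecΓFunctor (R := Γ(Y, U))).Additive :=
    (tilde.adjunction (R := Γ(Y, U))).right_adjoint_additive
  let adj := tilde.adjunction (R := Γ(Y, U))
  let ei : ∀ i : ℤ, tilde (((gCx Γ(Y, U)).obj E').X i) ≅ E'.X i := fun i =>
    @asIso _ _ _ _ ((E'.X i).fromTildeΓ) (hiso i)
  let e : (tCx Γ(Y, U)).obj ((gCx Γ(Y, U)).obj E') ≅ E' :=
    HomologicalComplex.Hom.isoOfComponents ei
      (fun i j _ => by
        exact (adj.counit.naturality (E'.d i j)).symm)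
  let T : DRing.Cx Γ(Y, U) := (gCx Γ(Y, U)).obj E'
  have hTv : DRing.VanishesOutside T a b := fun i hi =>
    Functor.map_isZero (moduleSpecΓFunctor (R := Γ(Y, U)))
      (Functor.map_isZero (Scheme.Modules.restrictFunctor hU.fromSpec) (hG i hi))
  have hTfp : ∀ i : ℤ, Module.FinitePresentation Γ(Y, U) (T.X i) := fun i =>
    Groth.Agent.Helper4.FPTilde.finitePresentation_of_isFP_tilde Γ(Y, U) (T.X i)
      ((SheafOfModules.isFinitePresentation (Spec Γ(Y, U)).ringCatSheaf).prop_of_iso (ei i).symm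
        (Groth.Agent.Helper4.FTRestrict.isFP_restrict hU.fromSpec (G.X i) (hterms i).1))
  have hTfl : ∀ i : ℤ, Module.Flat Γ(S, V)
      ((ModuleCat.restrictScalars.{u} (g.appLE V U hUV).hom).obj (T.X i)) := fun i =>
    Groth.Agent.Helper9.RPL3.flat_of_isFlatOver_tilde g hU hV hUV (T.X i) (fun q =>
      isFlatOverAt_of_iso _ (ei i).symm q
        ((Groth.Agent.Helper9.RPL3.isFlatOverAt_chart_iff g hU hV hUV (G.X i) q).2
          ((hterms i).2 _)))
  have hpc := Groth.Agent.Helper9.RPL2.pc_of_bounded_fp_flat Γ(S, V) Γ(Y, U) T a b hTv hTfp hTfl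
  have hpc' := ((isPseudoCoherent'_iff_forall _).1 hpc) m
  have h1 := (Groth.Agent.Helper9.TP3.isPseudoCoherentD_tildeD_iff Γ(Y, U) (DRing.toD T) m).2 hpc'
  have h2 : DCoh.IsPseudoCoherentD m (DerivedCategory.Q.obj E') :=
    isPseudoCoherentD_of_iso (qIso Γ(Y, U) T ≪≫ DerivedCategory.Q.mapIso e) h1
  exact (isPseudoCoherentD_iff_locPC m _ E' (Iso.refl _)).1 h2 p

variable (f : X ⟶ S) [Flat f] [LocallyOfFinitePresentation f]

/-- the local condition implies `S`-perfectness -/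
theorem P_of_local (E : DCoh.D X)
    (h : ∀ x : X, ∃ V : X.Opens, x ∈ V ∧ ∀ F : CochainComplex X.Modules ℤ,
      Nonempty (DCoh.toD X F ≅ E) →
        ∃ (G : CochainComplex (V : Scheme.{u}).Modules ℤ) (a b : ℤ), DCoh.VanishesOutside G a b ∧
          (∀ i : ℤ, CohB1.IsFP (G.X i) ∧ FlatMod.IsFlatOver (V.ι ≫ f) (G.X i)) ∧
          Nonempty (DerivedCategory.Q.obj ((DCoh.restrictCx V).obj F) ≅ DerivedCategory.Q.obj G)) :
    (∀ m : ℤ, DCoh.IsPseudoCoherentD m E) ∧ DCoh.LocHasFiniteRelTorDim f E := by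
  let F₀ : CochainComplex X.Modules ℤ := DerivedCategory.Q.objPreimage E
  let e₀ : DerivedCategory.Q.obj F₀ ≅ E := DerivedCategory.Q.objObjPreimageIso E
  constructor
  · intro m
    rw [isPseudoCoherentD_iff_locPC m E F₀ e₀]
    intro x
    obtain ⟨V, hxV, hV⟩ := h x
    obtain ⟨G, a, b, hGv, hGt, ⟨eG⟩⟩ := hV F₀ ⟨e₀⟩
    have h1 : LocPC m G ⟨x, hxV⟩ := locPC_of_fp_flat (V.ι ≫ f) G a b hGv hGt m _
    exact LocPC.of_restrict V.ι (z := ⟨x, hxV⟩) (LocPC.of_iso eG.symm h1)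
  · intro x
    obtain ⟨V, hxV, hV⟩ := h x
    obtain ⟨G, a, b, hGv, hGt, ⟨eG⟩⟩ := hV F₀ ⟨e₀⟩
    refine ⟨V, a, b, hxV, fun F' ⟨e'⟩ => ⟨G, hGv, fun i => (hGt i).2, ⟨eG.symm ≪≫ ?_⟩⟩⟩
    exact ((Scheme.Modules.restrictFunctor V.ι).mapDerivedCategoryFactors.app F₀).symm ≪≫
      (DCoh.restrictD V.ι).mapIso (e₀ ≪≫ e'.symm) ≪≫
      (Scheme.Modules.restrictFunctor V.ι).mapDerivedCategoryFactors.app F'

/-- `S`-perfectness implies the local condition -/
theorem exists_local (E : DCoh.D X)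
    (h : (∀ m : ℤ, DCoh.IsPseudoCoherentD m E) ∧ DCoh.LocHasFiniteRelTorDim f E) (x : X) :
    ∃ V : X.Opens, x ∈ V ∧ ∀ F : CochainComplex X.Modules ℤ, Nonempty (DCoh.toD X F ≅ E) →
        ∃ (G : CochainComplex (V : Scheme.{u}).Modules ℤ) (a b : ℤ), DCoh.VanishesOutside G a b ∧
          (∀ i : ℤ, CohB1.IsFP (G.X i) ∧ FlatMod.IsFlatOver (V.ι ≫ f) (G.X i)) ∧
          Nonempty (DerivedCategory.Q.obj ((DCoh.restrictCx V).obj F) ≅ DerivedCategory.Q.obj G) := by
  obtain ⟨V, hV, hxV, -⟩ :=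
    exists_isAffineOpen_mem_and_subset (x := f.base x) (U := ⊤) trivial
  obtain ⟨U, hU, hxU, hUV⟩ :=
    exists_isAffineOpen_mem_and_subset (x := x) (U := f ⁻¹ᵁ V) hxV
  haveI : PreservesFiniteLimits (tilde.functor Γ(X, U)) :=
    Groth.Agent.Helper4.TildeExact.preservesFiniteLimits_tilde _
  let F₀ : CochainComplex X.Modules ℤ := DerivedCategory.Q.objPreimage E
  let e₀ : DerivedCategory.Q.obj F₀ ≅ E := DerivedCategory.Q.objObjPreimageIso E
  have hE : DCoh.IsQCohD E := Groth.Agent.Helper9.QcPc1.isQCohD_of_pc E h.1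
  obtain ⟨M, ⟨eM⟩⟩ := Groth.Agent.Helper9.QcLpull1.exists_iso_tildeD Γ(X, U) _
    (Groth.Agent.Helper9.QP7.isQCohD_restrictD hU.isoSpec.inv _
      (Groth.Agent.Helper9.QP7.isQCohD_restrictD U.ι _ hE))
  have hrel := (Groth.Agent.Helper9.RPL1.affine_iff f hU hV hUV E F₀ e₀ M eM.symm).1
    (fun p => (Groth.Agent.Helper9.RPL1.P_iff_at f E F₀ e₀).1 h _)
  letI alg : Algebra Γ(S, V) Γ(X, U) := (f.appLE V U hUV).hom.toAlgebra
  have hfl : (f.appLE V U hUV).hom.Flat :=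
    HasRingHomProperty.appLE (P := @Flat) f inferInstance ⟨V, hV⟩ ⟨U, hU⟩ hUV
  haveI : Module.Flat Γ(S, V) Γ(X, U) := hfl
  obtain ⟨T, a, b, hTv, hTfp, hTfl, ⟨eT⟩⟩ :=
    Groth.Agent.Helper9.RPL2.exists_fp_flat_rep Γ(S, V) Γ(X, U) M hrel
  refine ⟨U, hxU, fun F ⟨eF⟩ =>
    ⟨(Rc hU.isoSpec.hom).obj ((tCx Γ(X, U)).obj T), a, b, ?_, ?_, ?_⟩⟩
  · intro i hi
    exact Functor.map_isZero (Scheme.Modules.restrictFunctor hU.isoSpec.hom)
      (Functor.map_isZero (tilde.functor Γ(X, U)) (hTv i hi))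
  · intro i
    constructor
    · haveI := hTfp i
      exact Groth.Agent.Helper4.FTRestrict.isFP_restrict hU.isoSpec.hom _
        (Groth.Agent.Helper4.FPTilde.isFP_tilde_of_finitePresentation Γ(X, U) (T.X i))
    · exact Groth.Agent.Helper9.RPL3.isFlatOver_restrict_tilde f hU hV hUV (T.X i) (hTfl i)
  · obtain ⟨ι⟩ := Groth.Agent.Helper9.TT6.nonempty_restrictD_hom_inv_iso hU.isoSpec
      ((DCoh.restrictD U.ι).obj E)
    exact ⟨((Scheme.Modules.restrictFunctor U.ι).mapDerivedCategoryFactors.app F).symm ≪≫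
      (DCoh.restrictD U.ι).mapIso eF ≪≫ ι.symm ≪≫
      (DCoh.restrictD hU.isoSpec.hom).mapIso
        (eM.symm ≪≫ (DCoh.tildeD Γ(X, U)).mapIso eT.symm ≪≫ qIso Γ(X, U) T) ≪≫
      (Scheme.Modules.restrictFunctor hU.isoSpec.hom).mapDerivedCategoryFactors.app _⟩

/-- **S7275** -/
theorem main (E : DCoh.D X) :
    ((∀ m : ℤ, DCoh.IsPseudoCoherentD m E) ∧ DCoh.LocHasFiniteRelTorDim f E) ↔
      ∀ x : X, ∃ V : X.Opens, x ∈ V ∧ ∀ F : CochainComplex X.Modules ℤ,
        Nonempty (DCoh.toD X F ≅ E) →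
        ∃ (G : CochainComplex (V : Scheme.{u}).Modules ℤ) (a b : ℤ), DCoh.VanishesOutside G a b ∧
          (∀ i : ℤ, CohB1.IsFP (G.X i) ∧ FlatMod.IsFlatOver (V.ι ≫ f) (G.X i)) ∧
          Nonempty (DerivedCategory.Q.obj ((DCoh.restrictCx V).obj F) ≅ DerivedCategory.Q.obj G) :=
  ⟨fun h x => exists_local f E h x, fun h => P_of_local f E h⟩

end

end Groth.Agent.Helper9.RPL4
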