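import Groth.Agent.Helper9.RadPrime
import Mathlib
set_option autoImplicit false

namespace Groth.Agent.Helper9.RadPrime

universe u

variable {A : Type u} [CommRing A] [IsDomain A] [IsNoetherianRing A] [IsIntegrallyClosed A]

theorem dvr_of_radical (z : A) (hz0 : z ≠ 0) (hz : (Ideal.span {z}).radical.IsPrime) :
    IsDiscreteValuationRing (Localization.AtPrime (Ideal.span {z}).radical) := by
  set p := (Ideal.span {z}).radical with hpdef
  have hzp : z ∈ p := Ideal.le_radical (Ideal.mem_span_singleton_self z)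
  have hp0 : p ≠ ⊥ := by
    intro h
    rw [h, Ideal.mem_bot] at hzp
    exact hz0 hzp
  have hmin : p ∈ (Ideal.span {z}).minimalPrimes := by
    refine ⟨⟨hz, Ideal.le_radical⟩, fun q hq _ => ?_⟩
    obtain ⟨hqp, hzq⟩ := hq
    exact hqp.radical_le_iff.mpr hzq
  have hht : p.height ≤ 1 := Ideal.height_le_one_of_isPrincipal_of_mem_minimalPrimes _ p hmin
  exact dvr_of_height_le_one p hp0 hht

theorem basicOpen_sub (z : A)
    (hz : (Ideal.span {z}).radical.IsPrime) (V : Set (PrimeSpectrum A)) (hV : IsOpen V)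
    (hVz : V ⊆ (PrimeSpectrum.basicOpen z : Set (PrimeSpectrum A))) (hne : V.Nonempty) :
    ∃ x : A, x ∉ (Ideal.span {z}).radical ∧
      ((PrimeSpectrum.basicOpen (x * z) : TopologicalSpace.Opens (PrimeSpectrum A)) :
        Set (PrimeSpectrum A)) ⊆ V := by
  obtain ⟨q, hqV⟩ := hne
  have hz0 : z ≠ 0 := by
    rintro rfl
    have := hVz hqV
    simp at this
  -- a basic open inside V
  obtain ⟨y, hqy, hyV⟩ : ∃ y : A, q ∈ (PrimeSpectrum.basicOpen y : Set (PrimeSpectrum A)) ∧
      (PrimeSpectrum.basicOpen y : Set (PrimeSpectrum A)) ⊆ V := by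
    obtain ⟨U, ⟨y, rfl⟩, hqU, hUV⟩ :=
      (PrimeSpectrum.isTopologicalBasis_basic_opens (R := A)).exists_subset_of_mem_open hqV hV
    exact ⟨y, hqU, hUV⟩
  have hy0 : y ≠ 0 := by
    rintro rfl
    simp at hqy
  have hdvr := dvr_of_radical z hz0 hz
  set p := (Ideal.span {z}).radical with hpdef
  set S := Localization.AtPrime p
  have hle : p.primeCompl ≤ nonZeroDivisors A := by
    intro x hx
    rw [mem_nonZeroDivisors_iff_ne_zero]
    rintro rfl
    exact hx (Ideal.zero_mem p)
  have hinj : Function.Injective (algebraMap A S) := IsLocalization.injective S hle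
  obtain ⟨ϖ, hϖ⟩ := IsDiscreteValuationRing.exists_irreducible S
  have hz0' : algebraMap A S z ≠ 0 := fun h => hz0 (hinj (by rw [h, map_zero]))
  have hy0' : algebraMap A S y ≠ 0 := fun h => hy0 (hinj (by rw [h, map_zero]))
  obtain ⟨r, hr⟩ := IsDiscreteValuationRing.associated_pow_irreducible hz0' hϖ
  obtain ⟨m, hm⟩ := IsDiscreteValuationRing.associated_pow_irreducible hy0' hϖ
  have hass : Associated (algebraMap A S y ^ r) (algebraMap A S z ^ m) := by
    have h1 : Associated (algebraMap A S y ^ r) ((ϖ ^ m) ^ r) := hm.pow_pow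
    have h2 : Associated (algebraMap A S z ^ m) ((ϖ ^ r) ^ m) := hr.pow_pow
    rw [← pow_mul] at h1 h2
    rw [mul_comm] at h2
    exact h1.trans h2.symm
  obtain ⟨u, hu⟩ := hass
  obtain ⟨a, s, has⟩ := IsLocalization.exists_mk'_eq p.primeCompl (u : S)
  have e1 : y ^ r * a = z ^ m * s := by
    apply hinj
    rw [map_mul, map_mul, map_pow, map_pow, ← hu, ← has, mul_assoc, IsLocalization.mk'_spec]
  have hap : a ∉ p := by
    have h1 : IsUnit (algebraMap A S a) := by
      have : algebraMap A S a = IsLocalization.mk' S a s * algebraMap A S s :=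
        (IsLocalization.mk'_spec S a s).symm
      rw [this, has]
      exact u.isUnit.mul (IsLocalization.map_units S s)
    exact (IsLocalization.AtPrime.isUnit_to_map_iff S p a).mp h1
  refine ⟨a * s, ?_, ?_⟩
  · intro h
    rcases hz.mem_or_mem h with h | h
    · exact hap h
    · exact s.2 h
  · intro q' hq'
    apply hyV
    rw [SetLike.mem_coe, PrimeSpectrum.mem_basicOpen] at hq' ⊢
    intro hyq
    apply hq'
    have h1 : y ^ r * a ∈ q'.asIdeal := by
      by_cases hr0 : r = 0
      · exfalso
        -- r = 0 means z is a unit in S, impossible as z ∈ p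
        rw [hr0, pow_zero] at hr
        have hzunit : IsUnit (algebraMap A S z) := (associated_one_iff_isUnit).mp hr
        exact (IsLocalization.AtPrime.isUnit_to_map_iff S p z).mp hzunit
          (Ideal.le_radical (Ideal.mem_span_singleton_self z))
      · exact Ideal.mul_mem_right _ _ (Ideal.pow_mem_of_mem _ hyq r (Nat.pos_of_ne_zero hr0))
    rw [e1] at h1
    rcases q'.isPrime.mem_or_mem h1 with h2 | h2
    · have := q'.isPrime.mem_of_pow_mem m h2
      exact Ideal.mul_mem_left _ _ this
    · have : a * ↑s * z = (a * z) * s := by ring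
      rw [this]
      exact Ideal.mul_mem_left _ _ h2

end Groth.Agent.Helper9.RadPrime
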