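import Mathlib
import Groth.Agent.Helper9.Reduction

set_option autoImplicit false
set_option linter.unusedSectionVars false

namespace Groth.Agent.Helper9.Reduction

open CategoryTheory CategoryTheory.Limits MonoidalCategory CartesianMonoidalCategory MonObj
  AlgebraicGeometry
open Groth.Agent.Helper9.DescTools Groth.Agent.Helper9.ExactH1

universe u

variable {S : Scheme.{u}}

section Converse

variable {G H F Q E : Over S} [GrpObj G] [GrpObj H] (i : G ⟶ H) [IsMonHom i]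
  (aF : AlgGrp.Action H F) (π : F ⟶ Q)
  (hsq : IsPullback (aF.restrict i).act (snd G F) π π)
  (aE : AlgGrp.Action G E) (hps : NonAbH1.IsPseudoTorsorSch aE)
  (hlocE : NonAbH1.IsLocallyTrivialFor Scheme.fpqcPrecoverage E)
  (φ : E ⟶ F) (hφ : AlgGrp.Action.IsEquivariant aE (aF.restrict i) φ)

include hφ in
theorem phi_pt {T : Over S} (g : T ⟶ G) (e : T ⟶ E) :
    (lift g e ≫ aE.act) ≫ φ = lift g (e ≫ φ) ≫ (aF.restrict i).act := by
  have h : aE.act ≫ φ = (G ◁ φ) ≫ (aF.restrict i).act := hφ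
  rw [Category.assoc, h, lift_whiskerLeft_assoc]

include hsq hps hφ in
theorem const_pt {T : Over S} (x y : T ⟶ E) : x ≫ φ ≫ π = y ≫ φ ≫ π := by
  obtain ⟨g, hg⟩ := exists_act_ps aE hps x y
  rw [← hg, ← Category.assoc, phi_pt i aF aE φ hφ, Category.assoc, hsq.w, lift_snd_assoc,
    Category.assoc]

include hsq hps hlocE hφ in
theorem existsUnique_sigma : ∃! σ : 𝟙_ (Over S) ⟶ Q, toUnit E ≫ σ = φ ≫ π := by
  have hl : Loc Scheme.fpqcPrecoverage (toUnit E) := (loc_toUnit_iff _ E).mpr hlocE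
  obtain ⟨σ, hσ⟩ := over_desc_q (toUnit E) hl (φ ≫ π) (fun T e₁ e₂ _ =>
    const_pt i aF π hsq aE hps φ hφ e₁ e₂)
  refine ⟨σ, hσ, fun σ' hσ' => ?_⟩
  exact over_epi_q (toUnit E) hl σ' σ (hσ'.trans hσ.symm)

include hsq hps hφ in
theorem mono_phi : Mono φ := by
  refine ⟨fun {T} x y hxy => ?_⟩
  obtain ⟨g, hg⟩ := exists_act_ps aE hps x y
  have h1 : lift g (y ≫ φ) ≫ (aF.restrict i).act = lift 1 (y ≫ φ) ≫ (aF.restrict i).act := by
    rw [← phi_pt i aF aE φ hφ, hg, AlgGrp.Action.lift_one_act, hxy]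
  have h2 : g = 1 := TorsorComp.act_unique (aF.restrict i) π hsq g 1 (y ≫ φ) h1
  rw [← hg, h2, AlgGrp.Action.lift_one_act]

include hsq hps hlocE hφ in
theorem isPullback_sigma (σ : 𝟙_ (Over S) ⟶ Q) (hσ : toUnit E ≫ σ = φ ≫ π) :
    IsPullback φ (toUnit E) π σ := by
  haveI := mono_phi i aF π hsq aE hps φ hφ
  have key : ∀ s : PullbackCone π σ, ∃ l : s.pt ⟶ E, l ≫ φ = s.fst := by
    intro s
    have hloc := snd_loc hlocE s.pt
    have h1 : (snd E s.pt ≫ s.fst) ≫ π = (fst E s.pt ≫ φ) ≫ π := by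
      rw [Category.assoc, s.condition, Category.assoc, ← hσ, ← Category.assoc, ← Category.assoc]
      congr 1
      exact toUnit_unique _ _
    obtain ⟨g, hg⟩ := TorsorComp.exists_act (aF.restrict i) π hsq _ _ h1
    exact LocFactor.factor_of_loc φ s.fst (snd E s.pt) hloc (lift g (fst E s.pt) ≫ aE.act) (by
      rw [phi_pt i aF aE φ hφ, hg])
  refine ⟨⟨hσ.symm⟩, ⟨PullbackCone.IsLimit.mk _ (fun s => (key s).choose) ?_ ?_ ?_⟩⟩
  · intro s
    exact (key s).choose_spec
  · intro s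
    exact toUnit_unique _ _
  · intro s m hm1 _
    rw [← cancel_mono φ, hm1, (key s).choose_spec]

end Converse

end Groth.Agent.Helper9.Reduction
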