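import Mathlib

/-!
# A resolution `F ⟶ K⁰ ⟶ K¹ ⟶ ⋯` gives an isomorphism `F[0] ≅ K` in the derived category
-/

set_option autoImplicit false
set_option backward.isDefEq.respectTransparency false

namespace Groth.Agent.Helper9.RelCechA

open CategoryTheory Limits

universe w v u

variable {A : Type u} [Category.{v} A] [Abelian A]
  (K : CochainComplex A ℕ) {F : A} (aug : F ⟶ K.X 0) (w : aug ≫ K.d 0 1 = 0)

/-- the augmentation as a morphism of complexes -/
noncomputable def ι : (CochainComplex.single₀ A).obj F ⟶ K :=
  (CochainComplex.fromSingle₀Equiv _ _).symm ⟨aug, w⟩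

lemma ι_f_zero : (ι K aug w).f 0 = aug :=
  CochainComplex.fromSingle₀Equiv_symm_apply_f_zero _ _

lemma quasiIso_ι (hm : Mono aug) (he : (ShortComplex.mk aug (K.d 0 1) w).Exact)
    (hs : ∀ n : ℕ, K.ExactAt (n + 1)) : QuasiIso (ι K aug w) := ⟨fun n => by
  cases n
  · rw [CochainComplex.quasiIsoAt₀_iff, ShortComplex.quasiIso_iff_of_zeros]
    · refine (ShortComplex.exact_and_mono_f_iff_of_iso ?_).2 ⟨he, hm⟩
      exact ShortComplex.isoMk (Iso.refl _) (Iso.refl _) (Iso.refl _)
        (by
          dsimp
          rw [Category.id_comp, Category.comp_id]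
          exact (ι_f_zero K aug w).symm)
        (by
          dsimp
          rw [Category.id_comp, Category.comp_id]
          rfl)
    · rfl
    · rfl
    · exact K.shape 0 0 (by simp)
  · rw [quasiIsoAt_iff_exactAt]
    · apply hs
    · apply CochainComplex.exactAt_succ_single_obj⟩

/-- the augmentation `F[0] ⟶ K`, integer-indexed -/
noncomputable def φ : (CochainComplex.singleFunctor A 0).obj F ⟶
    K.extend ComplexShape.embeddingUpNat :=
  (HomologicalComplex.extendSingleIso _ _ _ _ (by simp)).inv ≫
    (ComplexShape.embeddingUpNat.extendFunctor A).map (ι K aug w)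

set_option backward.defeqAttrib.useBackward true in
lemma quasiIso_φ (hm : Mono aug) (he : (ShortComplex.mk aug (K.d 0 1) w).Exact)
    (hs : ∀ n : ℕ, K.ExactAt (n + 1)) : QuasiIso (φ K aug w) := by
  haveI := quasiIso_ι K aug w hm he hs
  dsimp [φ]
  infer_instance

/-- a resolution gives an isomorphism in the derived category -/
theorem nonempty_iso [HasDerivedCategory.{w} A] (hm : Mono aug)
    (he : (ShortComplex.mk aug (K.d 0 1) w).Exact) (hs : ∀ n : ℕ, K.ExactAt (n + 1)) :
    Nonempty ((DerivedCategory.singleFunctor A 0).obj F ≅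
      DerivedCategory.Q.obj (K.extend ComplexShape.embeddingUpNat)) := by
  haveI := quasiIso_φ K aug w hm he hs
  haveI : IsIso (DerivedCategory.Q.map (φ K aug w)) := inferInstance
  exact ⟨(DerivedCategory.singleFunctorIsoCompQ A 0).app F ≪≫
    asIso (DerivedCategory.Q.map (φ K aug w))⟩

end Groth.Agent.Helper9.RelCechA
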