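import Mathlib
import Groth.Prelude.Def_CechOX
import Groth.Prelude.Def_DCoh2
import Groth.Agent.Helper9.CechShC
import Groth.Agent.Helper9.RelCechA
import Groth.Agent.Helper9.Leray5
import Groth.Agent.Helper9.FP4
import Groth.Agent.Helper9.CO2
import Groth.Agent.Helper4.RpushComp
import Groth.Agent.Helper4.QcohGlue
import Groth.Agent.Helper4.QcohLimits
import Groth.Agent.Helper1.MapExtend

/-!
# The relative Čech complex of a quasi-coherent module computes `Rf_*`
-/

set_option autoImplicit false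
set_option linter.style.haveILetI false
set_option linter.unusedVariables false
set_option linter.unusedSectionVars false

namespace Groth.Agent.Helper9.RelCechB

open CategoryTheory Limits AlgebraicGeometry Opposite TopologicalSpace CechOX
  Groth.Agent.Helper9.CechShA Groth.Agent.Helper9.CechShB Groth.Agent.Helper9.CechShC
  Groth.Agent.Helper9.Leray1

attribute [local instance] HasDerivedCategory.standard

universe u
variable {X S : Scheme.{u}}

/-- maps from an affine scheme to a scheme with affine diagonal are affine -/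
lemma isAffineHom_of_isAffine {W Y : Scheme.{u}} [IsAffine W]
    [hY : IsAffineHom (pullback.diagonal (terminal.from Y))] (g : W ⟶ Y) : IsAffineHom g := by
  let P : MorphismProperty Scheme.{u} := @IsAffineHom
  haveI : P.HasOfPostcompProperty P.diagonal :=
    MorphismProperty.hasOfPostcompProperty_iff_le_diagonal.2 le_rfl
  have h2 : P (g ≫ terminal.from Y) := (inferInstance : IsAffineHom (g ≫ terminal.from Y))
  exact MorphismProperty.of_postcomp (W := P) (W' := P.diagonal) g (terminal.from Y) hY h2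

lemma isAffineOpen_Wx [IsAffineHom (pullback.diagonal (terminal.from X))] {ι : Type u}
    (𝒰 : ι → X.Opens) (h𝒰 : ∀ i, IsAffineOpen (𝒰 i)) {n : ℕ} (x : Fin (n + 1) → ι) :
    IsAffineOpen (Wx 𝒰 x) := by
  have : Wx 𝒰 x = ⨅ k, 𝒰 (x k) :=
    le_antisymm (le_iInf fun k => Wx_le 𝒰 x k) (le_Wx 𝒰 x _ fun k => iInf_le _ k)
  rw [this]
  exact IsAffineOpen.iInf (fun k => h𝒰 (x k))

lemma isQCoh_restrict (W : X.Opens) (F : X.Modules) (hF : Coh.IsQCoh F) :
    Coh.IsQCoh ((Scheme.Modules.restrictFunctor W.ι).obj F) := by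
  haveI : F.IsQuasicoherent := hF
  exact Scheme.Modules.isQuasicoherent_restrictFunctor W.ι F

lemma isQCoh_pushRestr [IsAffineHom (pullback.diagonal (terminal.from X))] (W : X.Opens)
    (hW : IsAffineOpen W) (F : X.Modules) (hF : Coh.IsQCoh F) :
    Coh.IsQCoh ((pushRestr W).obj F) := by
  haveI : IsAffine (W : Scheme) := hW
  haveI : IsAffineHom W.ι := isAffineHom_of_isAffine W.ι
  haveI : ((Scheme.Modules.restrictFunctor W.ι).obj F).IsQuasicoherent := isQCoh_restrict W F hF
  exact Groth.Agent.Helper4.QcohGlue.isQuasicoherent_pushforward W.ι _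

lemma isQCoh_pi {κ : Type u} [Finite κ] (M : κ → X.Modules) (h : ∀ k, Coh.IsQCoh (M k)) :
    Coh.IsQCoh (∏ᶜ M) := by
  have h1 : (∐ M).IsQuasicoherent := Groth.Agent.Helper4.QcohLimits.isQuasicoherent_sigma M h
  exact Groth.Agent.Helper4.QcohLimits.isQuasicoherent_of_iso
    ((biproduct.isoCoproduct M).symm ≪≫ biproduct.isoProduct M) (hF := h1)

lemma acy_pushRestr (f : X ⟶ S) [IsAffineHom (pullback.diagonal (terminal.from X))]
    [IsAffineHom (pullback.diagonal (terminal.from S))] [DCoh.HasRpush f] (W : X.Opens)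
    (hW : IsAffineOpen W) (F : X.Modules) (hF : Coh.IsQCoh F) :
    haveI := Groth.Agent.Helper4.SchAdj.isGrothendieckAbelian_modules X
    Acy (DCoh.Rpush f) ((pushRestr W).obj F) := by
  haveI := Groth.Agent.Helper4.SchAdj.isGrothendieckAbelian_modules X
  haveI : IsAffine (W : Scheme) := hW
  haveI : IsAffineHom W.ι := isAffineHom_of_isAffine W.ι
  haveI : IsAffineHom (W.ι ≫ f) := isAffineHom_of_isAffine _
  haveI : DCoh.HasRpush W.ι := Groth.Agent.Helper4.HasRD.hasRpush _
  haveI : DCoh.HasRpush (W.ι ≫ f) := Groth.Agent.Helper4.HasRD.hasRpush _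
  let G := (Scheme.Modules.restrictFunctor W.ι).obj F
  have hG : Coh.IsQCoh G := isQCoh_restrict W F hF
  obtain ⟨e1⟩ := Groth.Agent.Helper9.FP4.nonempty_inD_push_iso W.ι G hG
  obtain ⟨e2⟩ := Groth.Agent.Helper4.RpushComp.nonempty_iso W.ι f
  obtain ⟨e3⟩ := Groth.Agent.Helper9.FP4.nonempty_inD_push_iso (W.ι ≫ f) G hG
  intro i hi
  let e : (DCoh.Rpush f).obj (DCoh.inD X ((pushRestr W).obj F)) ≅
      DCoh.inD S ((Scheme.Modules.pushforward (W.ι ≫ f)).obj G) :=
    (DCoh.Rpush f).mapIso e1 ≪≫ e2.app _ ≪≫ e3.symm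
  refine IsZero.of_iso ?_ ((DerivedCategory.homologyFunctor _ i).mapIso e)
  exact DerivedCategory.isZero_of_isLE _ 0 i hi

lemma acy_pi (f : X ⟶ S) [QuasiCompact f] [QuasiSeparated f] [DCoh.HasRpush f] {κ : Type u}
    [Finite κ] (M : κ → X.Modules)
    (h : haveI := Groth.Agent.Helper4.SchAdj.isGrothendieckAbelian_modules X
      ∀ k, Acy (DCoh.Rpush f) (M k)) :
    haveI := Groth.Agent.Helper4.SchAdj.isGrothendieckAbelian_modules X
    Acy (DCoh.Rpush f) (∏ᶜ M) := by
  haveI := Groth.Agent.Helper4.SchAdj.isGrothendieckAbelian_modules X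
  intro i hi
  haveI := Groth.Agent.Helper9.CO2.additive_Rpush f
  let G : X.Modules ⥤ S.Modules := DerivedCategory.singleFunctor X.Modules 0 ⋙ DCoh.Rpush f ⋙
    DerivedCategory.homologyFunctor S.Modules i
  haveI : G.Additive := inferInstance
  haveI : PreservesLimit (Discrete.functor M) G := inferInstance
  let e : G.obj (∏ᶜ M) ≅ ∏ᶜ (fun k => G.obj (M k)) := PreservesProduct.iso G M
  refine IsZero.of_iso ?_ e
  rw [IsZero.iff_id_eq_zero]
  apply Pi.hom_ext
  intro k
  exact (h k i hi).eq_of_tgt _ _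

end Groth.Agent.Helper9.RelCechB
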