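import Mathlib
import Groth.Agent.Helper9.RelCechB

/-!
# The relative Čech complex of a quasi-coherent module computes `Rf_*`: main theorem
-/

set_option autoImplicit false
set_option linter.style.haveILetI false
set_option linter.unusedVariables false
set_option linter.unusedSectionVars false

namespace Groth.Agent.Helper9.RelCechC

open CategoryTheory Limits AlgebraicGeometry Opposite TopologicalSpace CechOX
  Groth.Agent.Helper9.CechShA Groth.Agent.Helper9.CechShB Groth.Agent.Helper9.CechShC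
  Groth.Agent.Helper9.Leray1 Groth.Agent.Helper9.RelCechB

attribute [local instance] HasDerivedCategory.standard

universe u
variable {X S : Scheme.{u}}

lemma quasiSeparatedSpace_of_affineDiagonal (Y : Scheme.{u})
    [IsAffineHom (pullback.diagonal (terminal.from Y))] : QuasiSeparatedSpace Y := by
  rw [quasiSeparatedSpace_iff_quasiSeparated]
  exact ⟨inferInstance⟩

theorem main (f : X ⟶ S) [CompactSpace X]
    [IsAffineHom (pullback.diagonal (terminal.from X))]
    [IsAffineHom (pullback.diagonal (terminal.from S))]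
    (F : X.Modules) (hF : Coh.IsQCoh F) {ι : Type u} [Finite ι] (𝒰 : ι → X.Opens)
    (h𝒰 : ∀ i, IsAffineOpen (𝒰 i)) (hcov : ⨆ i, 𝒰 i = ⊤) [DCoh.HasRpush f] :
    (∀ p : ℕ, Coh.IsQCoh (((CechOX.relCech 𝒰 f).obj F).X p)) ∧
      Nonempty (DCoh.toD S (CechOX.relCechZ 𝒰 f F) ≅ (DCoh.Rpush f).obj (DCoh.inD X F)) := by
  haveI := Groth.Agent.Helper4.SchAdj.isGrothendieckAbelian_modules X
  haveI := quasiSeparatedSpace_of_affineDiagonal X
  haveI := quasiSeparatedSpace_of_affineDiagonal S
  haveI : QuasiCompact f := inferInstance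
  haveI : QuasiSeparated f := inferInstance
  let K : CochainComplex X.Modules ℕ := cx 𝒰 (PF F)
  have hKq : ∀ p : ℕ, Coh.IsQCoh (K.X p) := fun p =>
    isQCoh_pi (fun x : Fin (p + 1) → ι => (PF F).obj (op (prodU 𝒰 x)))
      (fun x => isQCoh_pushRestr _ (isAffineOpen_Wx 𝒰 h𝒰 x) F hF)
  have hKa : ∀ p : ℕ, Acy (DCoh.Rpush f) (K.X p) := fun p =>
    acy_pi f (fun x : Fin (p + 1) → ι => (PF F).obj (op (prodU 𝒰 x)))
      (fun x => acy_pushRestr f _ (isAffineOpen_Wx 𝒰 h𝒰 x) F hF)
  refine ⟨fun p => ?_, ?_⟩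
  · haveI : (K.X p).IsQuasicoherent := hKq p
    exact Groth.Agent.Helper4.QcohGlue.isQuasicoherent_pushforward f (K.X p)
  · obtain ⟨e0⟩ := Groth.Agent.Helper9.RelCechA.nonempty_iso K (aug 𝒰 F) (aug_d 𝒰 F)
      (mono_aug hcov) (exact_aug hcov) (fun n => exactAt_succ hcov n)
    let L : CochainComplex X.Modules ℤ := K.extend ComplexShape.embeddingUpNat
    haveI : L.IsStrictlyGE 0 := by
      dsimp [L]
      infer_instance
    have hL : ∀ n : ℤ, Acy (DCoh.Rpush f) (L.X n) := by
      intro n
      by_cases hn : 0 ≤ n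
      · obtain ⟨p, rfl⟩ := Int.eq_ofNat_of_zero_le hn
        exact Acy.of_iso _ _ ((DCoh.pushKh f).totalRightDerivedUnit DerivedCategory.Qh
          (HomotopyCategory.quasiIso X.Modules (ComplexShape.up ℤ)))
          (HomologicalComplex.extendXIso K ComplexShape.embeddingUpNat (i := p)
            (i' := (p : ℤ)) rfl).symm (hKa p)
      · exact Acy.of_isZero _ _ ((DCoh.pushKh f).totalRightDerivedUnit DerivedCategory.Qh
          (HomotopyCategory.quasiIso X.Modules (ComplexShape.up ℤ))) _
          (L.isZero_of_isStrictlyGE 0 n (by omega))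
    haveI := Groth.Agent.Helper9.Leray2.isIso_βQ_of_isStrictlyGE (Scheme.Modules.pushforward f)
      (DCoh.Rpush f) ((DCoh.pushKh f).totalRightDerivedUnit DerivedCategory.Qh
        (HomotopyCategory.quasiIso X.Modules (ComplexShape.up ℤ))) L 0 hL
    let e1 := asIso (βQ (Scheme.Modules.pushforward f)
      (DCoh.Rpush f) ((DCoh.pushKh f).totalRightDerivedUnit DerivedCategory.Qh
        (HomotopyCategory.quasiIso X.Modules (ComplexShape.up ℤ))) L)
    let e2 := DerivedCategory.Q.mapIso (Groth.Agent.Helper1.MapExtend.mapExtendIso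
      ComplexShape.embeddingUpNat (Scheme.Modules.pushforward f) K)
    exact ⟨e2.symm ≪≫ e1 ≪≫ (DCoh.Rpush f).mapIso e0.symm⟩

end Groth.Agent.Helper9.RelCechC
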