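import Mathlib
import Groth.Prelude.Def_DerSch2
import Groth.Agent.Lead.PcLib8

/-! Relative pseudo-coherence (chart form) passes to direct summands. -/

set_option autoImplicit false
set_option linter.style.haveILetI false
set_option linter.unusedVariables false
set_option linter.unusedSectionVars false
universe u

namespace Groth.Agent.Helper9.RelPcBiprod

open CategoryTheory CategoryTheory.Limits AlgebraicGeometry Opposite TopologicalSpace
open Groth.Agent.Lead.PcLib

attribute [local instance] HasDerivedCategory.standard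
attribute [local instance] preservesBinaryBiproducts_of_preservesBiproducts

variable {X Y : Scheme.{u}}

theorem chartPC_of_biprod (m : ℤ) (E K : DCoh.D X) [HasBinaryBiproduct E K] (U : X.Opens)
    (V : Y.Opens) {n : ℕ} (φ : MvPolynomial (Fin n) Γ(Y, V) →+* Γ(X, U))
    (h : DerSch.ChartPC m (E ⊞ K) U V φ) : DerSch.ChartPC m E U V φ := by
  intro G ⟨e⟩
  let G' : CochainComplex X.Modules ℤ := DerivedCategory.Q.objPreimage K
  have e' : DCoh.toD X G' ≅ K := DerivedCategory.Q.objObjPreimageIso K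
  let T : CochainComplex X.Modules ℤ ⥤ CochainComplex (Spec (CommRingCat.of
      (MvPolynomial (Fin n) Γ(Y, V)))).Modules ℤ :=
    DCoh.restrictCx U ⋙ DerSch.pushCx (DerSch.chartImm U φ)
  haveI : T.Additive := by
    dsimp only [T]
    infer_instance
  have e1 : DCoh.toD X (G ⊞ G') ≅ E ⊞ K :=
    (DerivedCategory.Q.mapBiprod G G') ≪≫ biprod.mapIso e e'
  have h1 := h (G ⊞ G') ⟨e1⟩
  have e2 : DerivedCategory.Q.obj (T.obj (G ⊞ G')) ≅
      DerivedCategory.Q.obj (T.obj G) ⊞ DerivedCategory.Q.obj (T.obj G') :=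
    DerivedCategory.Q.mapIso (T.mapBiprod G G') ≪≫ DerivedCategory.Q.mapBiprod _ _
  exact (isPseudoCoherentD_biprod m _ _ (isPseudoCoherentD_of_iso e2 h1)).1

theorem isPseudoCoherentRel_of_biprod (f : X ⟶ Y) (m : ℤ) (E K : DCoh.D X)
    [HasBinaryBiproduct E K] (h : DerSch.IsPseudoCoherentRel f m (E ⊞ K)) :
    DerSch.IsPseudoCoherentRel f m E := by
  obtain ⟨hft, 𝒱, h𝒱, hV⟩ := h
  refine ⟨hft, 𝒱, h𝒱, fun V hVm => ?_⟩
  obtain ⟨𝒰, h𝒰, hU⟩ := hV V hVm
  refine ⟨𝒰, h𝒰, fun U hUm hle => ?_⟩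
  obtain ⟨n, φ, hc, hpc⟩ := hU U hUm hle
  exact ⟨n, φ, hc, chartPC_of_biprod m E K _ _ φ hpc⟩

end Groth.Agent.Helper9.RelPcBiprod
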