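import Mathlib
import Groth.Prelude.Def_DRing2
import Groth.Prelude.Def_DRing4
import Groth.Agent.Helper6.TenCx
import Groth.Agent.Helper6.TenCxQis
import Groth.Agent.Helper6.TenFin
import Groth.Agent.Helper6.KProjQ
import Groth.Agent.Helper3.DRingPeel
import Groth.Agent.Helper3.DRingPeel2
import Groth.Agent.Helper3.DRingRestr2
import Groth.Agent.Helper9.RingProj2
import Groth.Agent.Helper9.PcTensor1
import Groth.Agent.Helper9.KFlat4

/-! Tensor products of complexes and pseudo-coherence over a base: if `L` is a bounded above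
complex of flat `C`-modules which is pseudo-coherent over `P → C`, and `N` is a pseudo-coherent
complex of `C`-modules, then `L ⊗_C N` is pseudo-coherent over `P`. -/

set_option autoImplicit false
set_option linter.style.haveILetI false
set_option linter.unusedVariables false
set_option linter.unusedSectionVars false
universe u

namespace Groth.Agent.Helper9.TenPCC1

noncomputable section

open CategoryTheory CategoryTheory.Limits MonoidalCategory Pretriangulated DerivedCategory
  HomologicalComplex
open Groth.Agent.Helper3.DRingLib Groth.Agent.Helper6.TenCx Groth.Agent.Helper9.KFlat3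
  Groth.Agent.Helper9.KFlat4

attribute [local instance] HasDerivedCategory.standard

variable {P C : Type u} [CommRing P] [CommRing C] (π : P →+* C) (L : DRing.Cx C)

/-- `L ⊗ E` is pseudo-coherent over `P` -/
def Psi (E : DRing.Cx C) : Prop :=
  ∀ m : ℤ, DRing.IsPseudoCoherent P m ((DRing.restrictD π).obj (DRing.toD (L ⊗ E)))

variable {π L}

lemma psi_of_iso {E E' : DRing.Cx C} (e : E ≅ E') (h : Psi π L E) : Psi π L E' := fun m =>
  isPseudoCoherent_of_iso ((DRing.restrictD π).mapIso (Q.mapIso (whiskerLeftIso L e))) (h m)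

lemma psi_of_isZero (E : DRing.Cx C) (h : ∀ i, IsZero (E.X i)) : Psi π L E := by
  intro m
  apply isPseudoCoherent_of_isZero
  apply Functor.map_isZero
  apply isZero_toD_of_isZero
  intro n
  apply Groth.Agent.Helper6.TenFin.isZero_X
  intro p q _
  exact Or.inr (h q)

lemma psi_ses {S : ShortComplex (DRing.Cx C)} (hS : S.ShortExact) (h3 : DRing.TermwiseFlat S.X₃)
    (h1 : Psi π L S.X₁) (h3' : Psi π L S.X₃) : Psi π L S.X₂ := by
  intro m
  have hS' := tenSC_shortExact L hS h3
  have hT := DerivedCategory.triangleOfSES_distinguished hS'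
  have hT' := (DRing.restrictD π).map_distinguished _ hT
  exact isPseudoCoherent_obj₂ _ hT' m (h1 m) (h3' m)

/-- `L ⊗ E⟦n⟧ ≅ (L ⊗ E)⟦n⟧` -/
def tensorShiftIso (E : DRing.Cx C) (n : ℤ) : L ⊗ (E⟦n⟧) ≅ (L ⊗ E)⟦n⟧ :=
  (((curriedTensor (ModuleCat.{u} C)).map₂CochainComplex.obj L).commShiftIso n).app E

lemma psi_shift (E : DRing.Cx C) (n : ℤ) (h : Psi π L E) : Psi π L (E⟦n⟧) := by
  intro m
  have h1 := isPseudoCoherent_shift (K := (DRing.restrictD π).obj (DRing.toD (L ⊗ E))) n m rfl
    (h (n + m))
  refine isPseudoCoherent_of_iso ?_ h1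
  exact (((DRing.restrictD π).commShiftIso n).app _).symm ≪≫
    (DRing.restrictD π).mapIso ((toDShiftIso (L ⊗ E) n).symm ≪≫
      Q.mapIso (tensorShiftIso E n).symm)

lemma psi_unit (hL : ∀ m : ℤ, DRing.IsPseudoCoherent P m ((DRing.restrictD π).obj (DRing.toD L))) :
    Psi π L (𝟙_ (DRing.Cx C)) := fun m =>
  isPseudoCoherent_of_iso ((DRing.restrictD π).mapIso (Q.mapIso (ρ_ L).symm)) (hL m)

/-- the single complex functor in degree `b` -/
abbrev sg (b : ℤ) : ModuleCat.{u} C ⥤ DRing.Cx C :=
  HomologicalComplex.single (ModuleCat.{u} C) (ComplexShape.up ℤ) b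

lemma isZero_sg_X (b : ℤ) (M : ModuleCat.{u} C) (hM : IsZero M) (i : ℤ) :
    IsZero (((sg b).obj M).X i) :=
  Functor.map_isZero (HomologicalComplex.eval _ _ i) (Functor.map_isZero (sg b) hM)

lemma flat_sg_X (b : ℤ) (M : ModuleCat.{u} C) [Module.Flat C M] (i : ℤ) :
    Module.Flat C (((sg b).obj M).X i) := by
  by_cases hi : i = b
  · subst hi
    exact Module.Flat.of_linearEquiv
      (HomologicalComplex.singleObjXSelf (ComplexShape.up ℤ) i M).toLinearEquiv
  · haveI : Subsingleton (((sg b).obj M).X i) := ModuleCat.subsingleton_of_isZero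
      (HomologicalComplex.isZero_single_obj_X (ComplexShape.up ℤ) b M i hi)
    infer_instance

lemma psi_single_prod (X Y : Type u) [AddCommGroup X] [Module C X] [AddCommGroup Y] [Module C Y]
    [Module.Flat C Y] (hX : Psi π L ((sg 0).obj (ModuleCat.of C X)))
    (hY : Psi π L ((sg 0).obj (ModuleCat.of C Y))) :
    Psi π L ((sg 0).obj (ModuleCat.of C (X × Y))) := by
  let S : ShortComplex (ModuleCat.{u} C) :=
    ShortComplex.mk (ModuleCat.ofHom (LinearMap.inl C X Y)) (ModuleCat.ofHom (LinearMap.snd C X Y))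
      (by ext x; rfl)
  have hS : S.ShortExact := by
    refine ModuleCat.shortComplex_shortExact S ?_ ?_ ?_
    · exact (LinearMap.exact_iff).mpr (LinearMap.range_inl C X Y).symm
    · exact LinearMap.inl_injective
    · exact LinearMap.snd_surjective
  have hS' : (S.map (sg 0)).ShortExact := hS.map_of_exact (sg 0)
  have h1 : Psi π L (S.map (sg 0)).X₁ := hX
  have h3 : Psi π L (S.map (sg 0)).X₃ := hY
  have hfl : DRing.TermwiseFlat (S.map (sg 0)).X₃ := fun i => flat_sg_X 0 (ModuleCat.of C Y) i
  exact psi_ses (S := S.map (sg 0)) hS' hfl h1 h3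

lemma psi_single_fin
    (hL : ∀ m : ℤ, DRing.IsPseudoCoherent P m ((DRing.restrictD π).obj (DRing.toD L))) :
    ∀ r : ℕ, Psi π L ((sg 0).obj (ModuleCat.of C (Fin r → C)))
  | 0 => psi_of_isZero _ (isZero_sg_X 0 _ (ModuleCat.isZero_of_subsingleton _))
  | r + 1 =>
    psi_of_iso ((sg 0).mapIso (Fin.consLinearEquiv C (fun _ : Fin (r + 1) => C)).toModuleIso)
      (psi_single_prod C (Fin r → C) (psi_unit hL) (psi_single_fin hL r))

lemma psi_single_zero
    (hL : ∀ m : ℤ, DRing.IsPseudoCoherent P m ((DRing.restrictD π).obj (DRing.toD L)))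
    (M : ModuleCat.{u} C) [Module.Finite C M] [Module.Free C M] : Psi π L ((sg 0).obj M) := by
  let b := Module.Free.chooseBasis C M
  let e : M ≃ₗ[C] (Fin (Fintype.card (Module.Free.ChooseBasisIndex C M)) → C) :=
    b.equivFun ≪≫ₗ (LinearEquiv.funCongrLeft C C (Fintype.equivFin _).symm)
  exact psi_of_iso ((sg 0).mapIso e.symm.toModuleIso) (psi_single_fin hL _)

lemma psi_single
    (hL : ∀ m : ℤ, DRing.IsPseudoCoherent P m ((DRing.restrictD π).obj (DRing.toD L)))
    (b : ℤ) (M : ModuleCat.{u} C) [Module.Finite C M] [Module.Free C M] :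
    Psi π L ((sg b).obj M) :=
  psi_of_iso (((CochainComplex.singleFunctors (ModuleCat.{u} C)).shiftIso (-b) b 0
    (by omega)).app M) (psi_shift _ (-b) (psi_single_zero hL M))

/-- the induction over bounded complexes of finite free modules -/
theorem psi_bff
    (hL : ∀ m : ℤ, DRing.IsPseudoCoherent P m ((DRing.restrictD π).obj (DRing.toD L)))
    (n : ℕ) : ∀ (E : DRing.Cx C) (a b : ℤ), b < a + n → DRing.VanishesOutside E a b →
      DRing.TermwiseFiniteFree E → Psi π L E := by
  induction n with
  | zero =>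
    intro E a b hab hE _
    exact psi_of_isZero E (fun i => hE i (by simp at hab; omega))
  | succ n ih =>
    intro E a b hab hE hff
    have hv : DRing.VanishesAbove E b := fun i hi => hE i (Or.inr hi)
    have hS := peelSC_shortExact E b hv
    have hX₃v : DRing.VanishesOutside (sigmaLE E (b - 1)) a (b - 1) := by
      intro i hi
      by_cases hib : i ≤ b - 1
      · have := isIso_piLE_f E (b - 1) i hib
        exact (hE i (Or.inl (by omega))).of_iso (asIso ((piLE E (b - 1)).f i)).symm
      · exact isZero_sigmaLE_X E (b - 1) i (by omega)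
    have hX₃f : DRing.TermwiseFiniteFree (sigmaLE E (b - 1)) := by
      intro i
      by_cases hib : i ≤ b - 1
      · have := isIso_piLE_f E (b - 1) i hib
        let e' : E.X i ≃ₗ[C] (sigmaLE E (b - 1)).X i :=
          (asIso ((piLE E (b - 1)).f i)).toLinearEquiv
        obtain ⟨f1, f2⟩ := hff i
        exact ⟨Module.Finite.equiv e', Module.Free.of_equiv e'⟩
      · have := ModuleCat.subsingleton_of_isZero (isZero_sigmaLE_X E (b - 1) i (by omega))
        exact ⟨Module.Finite.of_finite, Module.Free.of_subsingleton C _⟩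
    have h3 := ih (sigmaLE E (b - 1)) a (b - 1) (by push_cast at hab; omega) hX₃v hX₃f
    obtain ⟨f1, f2⟩ := hff b
    have h1 : Psi π L ((sg b).obj (E.X b)) := psi_single hL b (E.X b)
    have h1' : Psi π L (peelSC E b hv).X₁ := h1
    have h3' : Psi π L (peelSC E b hv).X₃ := h3
    have hfl : DRing.TermwiseFlat (peelSC E b hv).X₃ := by
      intro i
      obtain ⟨g1, g2⟩ := hX₃f i
      show Module.Flat C ((sigmaLE E (b - 1)).X i)
      infer_instance
    exact psi_ses (S := peelSC E b hv) hS hfl h1' h3'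

/-- **the tensor product of a bounded above flat complex which is pseudo-coherent over `P` with a
pseudo-coherent complex of `C`-modules is pseudo-coherent over `P`** -/
theorem main_all (bL : ℤ) (hLv : DRing.VanishesAbove L bL) (hLf : DRing.TermwiseFlat L)
    (hL : ∀ m : ℤ, DRing.IsPseudoCoherent P m ((DRing.restrictD π).obj (DRing.toD L)))
    (N : DRing.Cx C) (hN : ∀ m : ℤ, DRing.IsPseudoCoherent C m (DRing.toD N)) :
    Psi π L N := by
  intro t
  obtain ⟨E, a, b, α, hEv, hEff, hiso, hepi⟩ := hN (t - bL)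
  haveI : E.IsKProjective := IsBFF.isKProjective E hEv hEff
  obtain ⟨g, hg⟩ := Groth.Agent.Helper6.KProjQ.Q_map_surjective E N α
  have hT := DerivedCategory.mappingCone_triangle_distinguished g
  have happ : IsApprox (t - bL) (Q.map g) := by
    rw [hg]
    exact ⟨hiso, hepi⟩
  have hle : (Q.obj (CochainComplex.mappingCone g)).IsLE (t - bL - 1) :=
    (isApprox_iff_isLE _ hT (t - bL)).mp happ
  have hcone : ∀ j : ℤ, t - bL - 1 < j → (CochainComplex.mappingCone g).ExactAt j :=
    (CochainComplex.isLE_iff _ _).1 ((DerivedCategory.isLE_Q_obj_iff _ _).1 hle)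
  have htc : ∀ i : ℤ, t ≤ i → IsZero ((L ⊗ CochainComplex.mappingCone g).homology i) := by
    intro i hi
    rw [← exactAt_iff_isZero_homology]
    exact Groth.Agent.Helper9.RingProj2.exactAt_tensor_of_gt L _ bL (t - bL - 1) hLv hLf hcone i
      (by omega)
  have hgood := good_obj (curriedTensor (ModuleCat.{u} C)) L
  obtain ⟨h1, h2⟩ := Groth.Agent.Helper9.PcTensor1.Good.goodC_map hgood g t htc
  have happ2 : IsApprox t (Q.map (L ◁ g)) := by
    refine ⟨fun i hi => ?_, ?_⟩
    · have := h1 i hi
      exact (NatIso.isIso_map_iff (DerivedCategory.homologyFunctorFactors _ i) (L ◁ g)).2 this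
    · exact (Groth.Agent.Helper9.PcTensor1.epi_map_iff_of_natIso
        (DerivedCategory.homologyFunctorFactors _ t) (L ◁ g)).2 h2
  have happ3 := rD_isApprox π _ happ2
  exact isPseudoCoherent_of_isApprox _ happ3
    (psi_bff hL (b - a + 1).toNat E a b (by omega) hEv hEff t)

end

end Groth.Agent.Helper9.TenPCC1
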