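import Mathlib
import Groth.Prelude.Def_DRing2
import Groth.Prelude.Def_DDual2
import Groth.Prelude.Def_DerCA
import Groth.Agent.Helper9.TenPCC1
import Groth.Agent.Helper9.TenPC3
import Groth.Agent.Helper9.RingProj1
import Groth.Agent.Helper9.RingProj4

/-! Relative pseudo-coherence of `(B ⊗_A M) ⊗_B N`: `M` over `A` pseudo-coherent relative to `R`,
`N` over `B` pseudo-coherent relative to `A`. -/

set_option autoImplicit false
set_option linter.style.haveILetI false
set_option linter.unusedVariables false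
set_option linter.unusedSectionVars false
universe u

namespace Groth.Agent.Helper9.TenPCC2

noncomputable section

open CategoryTheory CategoryTheory.Limits MonoidalCategory Pretriangulated DerivedCategory
  TensorProduct
open Groth.Agent.Helper3.DRingLib Groth.Agent.Helper9.TenPC1 Groth.Agent.Helper9.TenPC2
  Groth.Agent.Helper6.LBCCompute Groth.Agent.Helper9.FBC2b Groth.Agent.Helper9.FBC2c
  Groth.Agent.Helper9.RingProj1

attribute [local instance] HasDerivedCategory.standard

variable {R A B : Type u} [CommRing R] [CommRing A] [CommRing B] [Algebra R A] [Algebra A B]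
  [Algebra R B] [IsScalarTower R A B]

/-- a presentation of `B` over `R` from presentations of `A` over `R` and of `B` over `A` -/
theorem relPC_of_composite {n k : ℕ} (α : MvPolynomial (Fin n) R →ₐ[R] A)
    (hα : Function.Surjective α) (β : MvPolynomial (Fin k) A →ₐ[A] B) (hβ : Function.Surjective β)
    (K : Dual.D B) (m : ℤ)
    (h : DRing.IsPseudoCoherent (MvPolynomial (Fin n) (MvPolynomial (Fin k) R)) m
      ((DRing.restrictD (alpha' (MvPolynomial.map (σ := Fin k) (algebraMap R A))
        (algebraMap A (MvPolynomial (Fin k) A)) (α : MvPolynomial (Fin n) R →+* A))).obj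
        ((DRing.restrictD (β : MvPolynomial (Fin k) A →+* B)).obj K))) :
    DerCA.IsRelPseudoCoherent R B m K := by
  let a : R →+* MvPolynomial (Fin k) R := algebraMap R (MvPolynomial (Fin k) R)
  let f : R →+* A := algebraMap R A
  let f' : MvPolynomial (Fin k) R →+* MvPolynomial (Fin k) A := MvPolynomial.map f
  let c : A →+* MvPolynomial (Fin k) A := algebraMap A (MvPolynomial (Fin k) A)
  have hpo : IsPushout (CommRingCat.ofHom f) (CommRingCat.ofHom a) (CommRingCat.ofHom c)
      (CommRingCat.ofHom f') := Groth.Agent.Helper9.TenPC3.isPushout_mvPoly k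
  let αr : MvPolynomial (Fin n) R →+* A := (α : MvPolynomial (Fin n) R →+* A)
  have hαr : αr.comp MvPolynomial.C = f := by
    ext r
    exact α.commutes r
  have hπ : Function.Surjective (alpha' f' c αr) := alpha'_surjective a f f' c hpo αr hαr hα
  let eAlg : MvPolynomial (Fin (n + k)) R ≃ₐ[R] MvPolynomial (Fin n) (MvPolynomial (Fin k) R) :=
    (MvPolynomial.renameEquiv R finSumFinEquiv.symm).trans
      (MvPolynomial.sumAlgEquiv R (Fin n) (Fin k))
  let g : MvPolynomial (Fin n) (MvPolynomial (Fin k) R) →+* B :=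
    (β : MvPolynomial (Fin k) A →+* B).comp (alpha' f' c αr)
  have hgC : ∀ r : R, g (MvPolynomial.C (MvPolynomial.C r)) = algebraMap R B r := by
    intro r
    have h1 : alpha' f' c αr (MvPolynomial.C (MvPolynomial.C r)) = f' (MvPolynomial.C r) :=
      congrArg (fun t : MvPolynomial (Fin k) R →+* MvPolynomial (Fin k) A =>
        t (MvPolynomial.C r)) (alpha'_C f' c αr)
    show β (alpha' f' c αr (MvPolynomial.C (MvPolynomial.C r))) = _
    rw [h1]
    show β (MvPolynomial.map f (MvPolynomial.C r)) = _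
    rw [MvPolynomial.map_C]
    have h2 : β (MvPolynomial.C (f r)) = algebraMap A B (f r) := β.commutes (f r)
    rw [h2]
    exact (IsScalarTower.algebraMap_apply R A B r).symm
  let γ : MvPolynomial (Fin (n + k)) R →ₐ[R] B :=
    { toRingHom := g.comp eAlg.toRingEquiv.toRingHom
      commutes' := fun r => by
        show g (eAlg (algebraMap R _ r)) = algebraMap R B r
        rw [eAlg.commutes]
        exact hgC r }
  have hγ : Function.Surjective γ := by
    intro b
    obtain ⟨t, rfl⟩ := hβ b
    obtain ⟨s, rfl⟩ := hπ t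
    obtain ⟨p, rfl⟩ := eAlg.surjective s
    exact ⟨p, rfl⟩
  have hγ' : (γ : MvPolynomial (Fin (n + k)) R →+* B) = g.comp eAlg.toRingEquiv.toRingHom := rfl
  refine ⟨n + k, γ, hγ, ?_⟩
  unfold DerCA.IsRelPseudoCoherentVia
  rw [hγ', goodHom_ringEquiv eAlg.toRingEquiv B g _ m]
  exact isPseudoCoherent_of_iso
    (rDComp (alpha' f' c αr) (β : MvPolynomial (Fin k) A →+* B) _).symm h

/-- **`(B ⊗_A M) ⊗_B N` is pseudo-coherent relative to `R`** -/
theorem relPC_tensor (PF : DRing.Cx A) (bF : ℤ) (hPFv : DRing.VanishesAbove PF bF)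
    (hPFf : DRing.TermwiseFlat PF) (hM : DerCA.IsRelPseudoCoherentAll R A (DRing.toD PF))
    (N' : DRing.Cx B) (hN : DerCA.IsRelPseudoCoherentAll A B (DRing.toD N')) :
    DerCA.IsRelPseudoCoherentAll R B
      (DRing.toD ((bcCxF (algebraMap A B)).obj PF ⊗ N')) := by
  obtain ⟨n, α, hα, -⟩ := hM 0
  have hM' : ∀ m : ℤ, DRing.IsPseudoCoherent (MvPolynomial (Fin n) R) m
      ((DRing.restrictD (α : MvPolynomial (Fin n) R →+* A)).obj (DRing.toD PF)) :=
    fun m => (relPC_iff_via α hα m _).mp (hM m)
  obtain ⟨k, β, hβ, -⟩ := hN 0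
  have hN' : ∀ m : ℤ, DRing.IsPseudoCoherent (MvPolynomial (Fin k) A) m
      ((DRing.restrictD (β : MvPolynomial (Fin k) A →+* B)).obj (DRing.toD N')) :=
    fun m => (relPC_iff_via β hβ m _).mp (hN m)
  let a : R →+* MvPolynomial (Fin k) R := algebraMap R (MvPolynomial (Fin k) R)
  let f : R →+* A := algebraMap R A
  let f' : MvPolynomial (Fin k) R →+* MvPolynomial (Fin k) A := MvPolynomial.map f
  let c : A →+* MvPolynomial (Fin k) A := algebraMap A (MvPolynomial (Fin k) A)
  have hpo : IsPushout (CommRingCat.ofHom f) (CommRingCat.ofHom a) (CommRingCat.ofHom c)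
      (CommRingCat.ofHom f') := Groth.Agent.Helper9.TenPC3.isPushout_mvPoly k
  let αr : MvPolynomial (Fin n) R →+* A := (α : MvPolynomial (Fin n) R →+* A)
  have hαr : αr.comp MvPolynomial.C = f := by
    ext r
    exact α.commutes r
  have hfl : a.Flat := RingHom.flat_algebraMap_iff.mpr inferInstance
  let βr : MvPolynomial (Fin k) A →+* B := (β : MvPolynomial (Fin k) A →+* B)
  have hβc : βr.comp c = algebraMap A B := by
    ext r
    exact β.commutes r
  -- the two complexes over `A[x]`
  let L : DRing.Cx (MvPolynomial (Fin k) A) := (bcCxF c).obj PF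
  let N : DRing.Cx (MvPolynomial (Fin k) A) := (Groth.Agent.Helper9.RingProj1.rCx βr).obj N'
  have hLv : DRing.VanishesAbove L bF := fun i hi =>
    Functor.map_isZero (ModuleCat.extendScalars.{u, u, u} c) (hPFv i hi)
  have hLf : DRing.TermwiseFlat L := bcCx_termwiseFlat (MvPolynomial (Fin k) A) PF hPFf
  have hL : ∀ m : ℤ, DRing.IsPseudoCoherent (MvPolynomial (Fin n) (MvPolynomial (Fin k) R)) m
      ((DRing.restrictD (alpha' f' c αr)).obj (DRing.toD L)) :=
    fun m => pc_lift a f f' c hpo αr hαr hfl PF m (hM' m)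
  have hNpc : ∀ m : ℤ, DRing.IsPseudoCoherent (MvPolynomial (Fin k) A) m (DRing.toD N) :=
    fun m => isPseudoCoherent_of_iso (rDToD βr N') (hN' m)
  have hmain := Groth.Agent.Helper9.TenPCC1.main_all (π := alpha' f' c αr) bF hLv hLf hL N hNpc
  -- the identification
  have e0 : (bcCxF (algebraMap A B)).obj PF ≅ (extCx βr).obj L :=
    (Groth.Agent.Helper6.LBCFibreGlobal.bcCxFCongr hβc PF).symm ≪≫
      Groth.Agent.Helper6.LBCFibreGlobal.bcCxFComp c βr PF
  have e1 : (Groth.Agent.Helper9.RingProj1.rCx βr).obj ((bcCxF (algebraMap A B)).obj PF ⊗ N') ≅ L ⊗ N :=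
    (Groth.Agent.Helper9.RingProj1.rCx βr).mapIso (DTen.braidCx _ _ ≪≫ whiskerLeftIso N' e0) ≪≫ projCxIso βr N' L ≪≫
      DTen.braidCx _ _
  intro m
  apply relPC_of_composite α hα β hβ _ m
  refine isPseudoCoherent_of_iso ?_ (hmain m)
  exact (DRing.restrictD (alpha' f' c αr)).mapIso
    (Q.mapIso e1.symm ≪≫ (rDToD βr _).symm)

end

end Groth.Agent.Helper9.TenPCC2
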