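import Mathlib
import Groth.Prelude.Def_DCoh4
import Groth.Prelude.Def_DRing4
import Groth.Agent.Helper9.TildeTen1
import Groth.Agent.Helper9.QcTensor3
import Groth.Agent.Helper9.Tilde2
import Groth.Agent.Helper9.LTCx5
import Groth.Agent.Helper4.TildeExact

/-! The restriction of a derived tensor product to an affine open is the `tilde` of the derived
tensor product of complexes of modules. -/

set_option autoImplicit false
set_option linter.style.haveILetI false
set_option linter.unusedVariables false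
set_option linter.unusedSectionVars false
universe u

namespace Groth.Agent.Helper9.TildeTen2

open CategoryTheory CategoryTheory.Limits AlgebraicGeometry Opposite TopologicalSpace
  MonoidalCategory HomologicalComplex
open Groth.Agent.Helper9.Lpull1 Groth.Agent.Helper9.Lpull2 Groth.Agent.Helper9.Lpull3
  Groth.Agent.Helper9.TildeTen1

attribute [local instance] HasDerivedCategory.standard

variable {X : Scheme.{u}} {U : X.Opens} (hU : IsAffineOpen U)

/-- **the derived tensor product on an affine open** -/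
theorem nonempty_tildeD_ltensor_iso (E : CochainComplex X.Modules ℤ) [DCoh.HasLTensorCx E]
    (K : DCoh.D X) [PreservesFiniteLimits (tilde.functor Γ(X, U))]
    (L₀ : DRing.Cx Γ(X, U)) (hL₀ : DRing.IsKFlat Γ(X, U) L₀)
    (eL : (DCoh.tildeD Γ(X, U)).obj (DRing.toD L₀) ≅ (DCoh.restrictD hU.fromSpec).obj K)
    (N' : DRing.Cx Γ(X, U))
    (eN : (DCoh.tildeD Γ(X, U)).obj (DRing.toD N') ≅
      (DCoh.restrictD hU.fromSpec).obj (DCoh.toD X E)) :
    Nonempty ((DCoh.tildeD Γ(X, U)).obj (DRing.toD (L₀ ⊗ N')) ≅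
      (DCoh.restrictD hU.fromSpec).obj ((DCoh.LTensorCx E).obj K)) := by
  obtain ⟨P, hP, ⟨eP⟩⟩ := exists_kflat_rep K
  have i1 : @ModSite.HasLTensorCx _ _ _ X.sheaf E := ‹DCoh.HasLTensorCx E›
  have hc := @Groth.Agent.Helper9.LTCx5.isIso_counit_app _ _ _ X.sheaf E i1 P hP
  let a1 : (DCoh.LTensorCx E).obj K ≅ DerivedCategory.Q.obj ((DCoh.tensorCx.obj P).obj E) :=
    (DCoh.LTensorCx E).mapIso eP.symm ≪≫ @asIso _ _ _ _ _ hc
  let j := hU.fromSpec
  -- restriction as pullback
  have rIso : ∀ C : CochainComplex X.Modules ℤ,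
      (DCoh.restrictD j).obj (DerivedCategory.Q.obj C) ≅
        DerivedCategory.Q.obj ((PullMon5.pCx j).obj C) := fun C =>
    (Scheme.Modules.restrictFunctor j).mapDerivedCategoryFactors.app C ≪≫
      DerivedCategory.Q.mapIso ((NatIso.mapHomologicalComplex
        (Scheme.Modules.restrictFunctorIsoPullback j) (ComplexShape.up ℤ)).app C)
  let P' := (PullMon5.pCx j).obj P
  let E' := (PullMon5.pCx j).obj E
  have hP' : DCoh.IsKFlat P' := isKFlat_pullback j P hP
  let T := (tCx Γ(X, U)).obj L₀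
  let T' := (tCx Γ(X, U)).obj N'
  have hT : DCoh.IsKFlat T := Groth.Agent.Helper9.Tilde2.isKFlat_tilde Γ(X, U) L₀ hL₀
  have tIso : ∀ C : DRing.Cx Γ(X, U), (DCoh.tildeD Γ(X, U)).obj (DRing.toD C) ≅
      DerivedCategory.Q.obj ((tCx Γ(X, U)).obj C) := fun C =>
    (tilde.functor Γ(X, U)).mapDerivedCategoryFactors.app C
  have e1 : DerivedCategory.Q.obj P' ≅ DerivedCategory.Q.obj T :=
    (rIso P).symm ≪≫ (DCoh.restrictD j).mapIso eP ≪≫ eL.symm ≪≫ tIso L₀
  have e2 : DerivedCategory.Q.obj E' ≅ DerivedCategory.Q.obj T' :=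
    (rIso E).symm ≪≫ eN.symm ≪≫ tIso N'
  obtain ⟨a⟩ := QcTensor2.nonempty_iso_left E' hP' hT e1
  obtain ⟨b⟩ := QcTensor2.nonempty_iso_right T hT e2
  have e3 : (PullMon5.pCx j).obj ((DCoh.tensorCx.obj P).obj E) ≅ (DCoh.tensorCx.obj P').obj E' :=
    PullMon5.pullTensorCxIso j P E
  exact ⟨tIso (L₀ ⊗ N') ≪≫ DerivedCategory.Q.mapIso (tildeTensorCxIso L₀ N') ≪≫ b.symm ≪≫
    a.symm ≪≫ DerivedCategory.Q.mapIso e3.symm ≪≫ (rIso _).symm ≪≫
    (DCoh.restrictD j).mapIso a1.symm⟩

end Groth.Agent.Helper9.TildeTen2
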