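import Mathlib
import Groth.Prelude.Def_DualSh
import Groth.Prelude.Def_DerSch2
import Groth.Prelude.Def_DerCA
import Groth.Agent.Helper9.PcPull1
import Groth.Agent.Helper9.TenPCC2
import Groth.Agent.Helper9.TildeTen2
import Groth.Agent.Helper9.ClImm4

/-! `Lf^* G ⊗^L E` is pseudo-coherent relative to `f ≫ g` when `E` is pseudo-coherent relative to
`f` and `G` is pseudo-coherent relative to `g`. -/

set_option autoImplicit false
set_option linter.style.haveILetI false
set_option linter.unusedVariables false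
set_option linter.unusedSectionVars false
universe u

namespace Groth.Agent.Helper9.RelTen1

open CategoryTheory CategoryTheory.Limits AlgebraicGeometry HomologicalComplex Pretriangulated
  MonoidalCategory
open Groth.Agent.Lead.PcLib Scheme.Modules Groth.Agent.Helper3.DRingLib
  Groth.Agent.Helper6.LBCCompute

attribute [local instance] HasDerivedCategory.standard

variable {X Y Z : Scheme.{u}}

/-- the ring-level input: boundedness above of a relatively pseudo-coherent object -/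
lemma exists_isLE_of_relPC {R A : Type u} [CommRing R] [CommRing A] [Algebra R A] (m : ℤ)
    (K : Dual.D A) (h : DerCA.IsRelPseudoCoherent R A m K) : ∃ b : ℤ, K.IsLE b := by
  obtain ⟨n, α, hα, h1⟩ := h
  obtain ⟨b, hb⟩ := exists_isLE_of_isPseudoCoherent h1
  exact ⟨b, (rD_isLE_iff _ K b).mp hb⟩

/-- **`Lf^* G ⊗^L E` is pseudo-coherent relative to the composite** -/
theorem rel_ltensor_lpull (f : X ⟶ Y) (g : Y ⟶ Z) [LocallyOfFiniteType f] [LocallyOfFiniteType g]
    (E : CochainComplex X.Modules ℤ) (hE : DerSch.IsPseudoCoherentRelAll f (DCoh.toD X E))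
    (G : DCoh.D Y) (hG : DerSch.IsPseudoCoherentRelAll g G)
    [DCoh.HasLpull f] [DCoh.HasLTensorCx E] :
    DerSch.IsPseudoCoherentRelAll (f ≫ g) ((DCoh.LTensorCx E).obj ((DCoh.Lpull f).obj G)) := by
  intro m
  have hqE : DCoh.IsQCohD (DCoh.toD X E) :=
    Groth.Agent.Helper9.ClImm4.isQCohD_of_isPseudoCoherentRelAll f _ hE
  have hqG : DCoh.IsQCohD G := Groth.Agent.Helper9.ClImm4.isQCohD_of_isPseudoCoherentRelAll g _ hG
  have hE' := fun n => (Chart6.rel_iff f n _).1 (hE n)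
  have hG' := fun n => (Chart6.rel_iff g n G).1 (hG n)
  refine ⟨inferInstance, Set.univ, ?_, fun W _ => ?_⟩
  · rw [eq_top_iff]
    intro z _
    obtain ⟨_, ⟨W, hW, rfl⟩, hzW, -⟩ :=
      (Z.isBasis_affineOpens).exists_subset_of_mem_open (Set.mem_univ z) isOpen_univ
    simp only [TopologicalSpace.Opens.mem_iSup]
    exact ⟨⟨W, hW⟩, Set.mem_univ _, hzW⟩
  · refine ⟨{U | ∃ V : Y.affineOpens, (V : Y.Opens) ≤ g ⁻¹ᵁ (W : Z.Opens) ∧
        (U : X.Opens) ≤ f ⁻¹ᵁ (V : Y.Opens)}, ?_, ?_⟩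
    · apply le_antisymm
      · refine iSup₂_le ?_
        rintro U ⟨V, hVW, hUV⟩ x hx
        exact hVW (hUV hx)
      · intro x hx
        have hx' : f.base x ∈ g ⁻¹ᵁ (W : Z.Opens) := hx
        obtain ⟨_, ⟨V, hV, rfl⟩, hxV, hVW⟩ :=
          (Y.isBasis_affineOpens).exists_subset_of_mem_open hx' (g ⁻¹ᵁ (W : Z.Opens)).2
        obtain ⟨_, ⟨U, hU, rfl⟩, hxU, hUV⟩ :=
          (X.isBasis_affineOpens).exists_subset_of_mem_open
            (show x ∈ (f ⁻¹ᵁ V : Set X) from hxV) (f ⁻¹ᵁ V).2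
        simp only [TopologicalSpace.Opens.mem_iSup]
        exact ⟨⟨U, hU⟩, ⟨⟨V, hV⟩, hVW, hUV⟩, hxU⟩
    · rintro U ⟨V, hVW, hUV⟩ hUW
      have hUa : IsAffineOpen (U : X.Opens) := U.2
      have hVa : IsAffineOpen (V : Y.Opens) := V.2
      have hWa : IsAffineOpen (W : Z.Opens) := W.2
      haveI : PreservesFiniteLimits (tilde.functor Γ(X, (U : X.Opens))) :=
        Groth.Agent.Helper4.TildeExact.preservesFiniteLimits_tilde _
      haveI : PreservesFiniteLimits (tilde.functor Γ(Y, (V : Y.Opens))) :=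
        Groth.Agent.Helper4.TildeExact.preservesFiniteLimits_tilde _
      obtain ⟨NG, ⟨eNG⟩⟩ := Groth.Agent.Helper9.QcLpull1.exists_iso_tildeD Γ(Y, (V : Y.Opens))
        ((DCoh.restrictD hVa.fromSpec).obj G)
        (Groth.Agent.Helper9.QP7.isQCohD_restrictD hVa.fromSpec G hqG)
      obtain ⟨NE, ⟨eNE⟩⟩ := Groth.Agent.Helper9.QcLpull1.exists_iso_tildeD Γ(X, (U : X.Opens))
        ((DCoh.restrictD hUa.fromSpec).obj (DCoh.toD X E))
        (Groth.Agent.Helper9.QP7.isQCohD_restrictD hUa.fromSpec _ hqE)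
      letI algRA : Algebra Γ(Z, (W : Z.Opens)) Γ(Y, (V : Y.Opens)) :=
        (g.appLE (W : Z.Opens) (V : Y.Opens) hVW).hom.toAlgebra
      letI algAB : Algebra Γ(Y, (V : Y.Opens)) Γ(X, (U : X.Opens)) :=
        (f.appLE (V : Y.Opens) (U : X.Opens) hUV).hom.toAlgebra
      letI algRB : Algebra Γ(Z, (W : Z.Opens)) Γ(X, (U : X.Opens)) :=
        ((f ≫ g).appLE (W : Z.Opens) (U : X.Opens) hUW).hom.toAlgebra
      haveI : IsScalarTower Γ(Z, (W : Z.Opens)) Γ(Y, (V : Y.Opens)) Γ(X, (U : X.Opens)) := by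
        refine IsScalarTower.of_algebraMap_eq' ?_
        show ((f ≫ g).appLE (W : Z.Opens) (U : X.Opens) hUW).hom =
          (f.appLE (V : Y.Opens) (U : X.Opens) hUV).hom.comp
            (g.appLE (W : Z.Opens) (V : Y.Opens) hVW).hom
        rw [← CommRingCat.hom_comp, Scheme.Hom.appLE_comp_appLE]
      haveI := Groth.Agent.Helper6.HasLBC.hasLBaseChange
        (f.appLE (V : Y.Opens) (U : X.Opens) hUV).hom
      -- the ring-level hypotheses
      have hNG : DerCA.IsRelPseudoCoherentAll Γ(Z, (W : Z.Opens)) Γ(Y, (V : Y.Opens)) NG :=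
        fun n => (Chart18.exists_chart_iff_ring' g hVa hWa hVW n G NG eNG).1 (hG' n V W hVW)
      have hNE : DerCA.IsRelPseudoCoherentAll Γ(Y, (V : Y.Opens)) Γ(X, (U : X.Opens)) NE :=
        fun n => (Chart18.exists_chart_iff_ring' f hUa hVa hUV n _ NE eNE).1 (hE' n U V hUV)
      -- representatives
      obtain ⟨bG, hbG⟩ := exists_isLE_of_relPC 0 NG (hNG 0)
      haveI := hbG
      obtain ⟨PF, hPFv, hPFp, ⟨ePF⟩⟩ := exists_projective_rep NG bG
      haveI : ∀ i, Projective (PF.X i) := fun i => (IsProjective.iff_projective _).mp (hPFp i)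
      haveI : PF.IsStrictlyLE bG := isStrictlyLE_of_vanishesAbove _ _ hPFv
      haveI : PF.IsKProjective := CochainComplex.isKProjective_of_projective PF bG
      have hPFf : DRing.TermwiseFlat PF := fun i => haveI := hPFp i; inferInstance
      let N' : DRing.Cx Γ(X, (U : X.Opens)) := DerivedCategory.Q.objPreimage NE
      let eN' : DRing.toD N' ≅ NE := DerivedCategory.Q.objObjPreimageIso NE
      let L₀ : DRing.Cx Γ(X, (U : X.Opens)) :=
        (bcCxF (algebraMap Γ(Y, (V : Y.Opens)) Γ(X, (U : X.Opens)))).obj PF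
      have hL₀v : DRing.VanishesAbove L₀ bG := fun i hi =>
        Functor.map_isZero (ModuleCat.extendScalars.{u, u, u}
          (algebraMap Γ(Y, (V : Y.Opens)) Γ(X, (U : X.Opens)))) (hPFv i hi)
      have hL₀f : DRing.TermwiseFlat L₀ := bcCx_termwiseFlat Γ(X, (U : X.Opens)) PF hPFf
      have hL₀k : DRing.IsKFlat Γ(X, (U : X.Opens)) L₀ :=
        Groth.Agent.Helper9.RingProj2.kflat_of_flat L₀ bG hL₀v hL₀f
      obtain ⟨eM⟩ := Groth.Agent.Helper9.FBC4.nonempty_tildeD_lbc_iso f hVa hUa hUV G NG eNG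
      have eL : (DCoh.tildeD Γ(X, (U : X.Opens))).obj (DRing.toD L₀) ≅
          (DCoh.restrictD hUa.fromSpec).obj ((DCoh.Lpull f).obj G) :=
        (DCoh.tildeD Γ(X, (U : X.Opens))).mapIso
          ((lbcIso (algebraMap Γ(Y, (V : Y.Opens)) Γ(X, (U : X.Opens))) PF).symm ≪≫
            (DRing.LBaseChange _).mapIso ePF) ≪≫ eM
      have eN : (DCoh.tildeD Γ(X, (U : X.Opens))).obj (DRing.toD N') ≅
          (DCoh.restrictD hUa.fromSpec).obj (DCoh.toD X E) :=
        (DCoh.tildeD Γ(X, (U : X.Opens))).mapIso eN' ≪≫ eNE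
      obtain ⟨eK⟩ := Groth.Agent.Helper9.TildeTen2.nonempty_tildeD_ltensor_iso hUa E
        ((DCoh.Lpull f).obj G) L₀ hL₀k eL N' eN
      rw [Chart18.exists_chart_iff_ring' (f ≫ g) hUa hWa hUW m _ _ eK]
      have hM : DerCA.IsRelPseudoCoherentAll Γ(Z, (W : Z.Opens)) Γ(Y, (V : Y.Opens))
          (DRing.toD PF) := fun n => relPC_of_iso ePF.symm (hNG n)
      have hN : DerCA.IsRelPseudoCoherentAll Γ(Y, (V : Y.Opens)) Γ(X, (U : X.Opens))
          (DRing.toD N') := fun n => relPC_of_iso eN'.symm (hNE n)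
      exact Groth.Agent.Helper9.TenPCC2.relPC_tensor PF bG hPFv hPFf hM N' hN m

end Groth.Agent.Helper9.RelTen1
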