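import Mathlib
import Groth.Prelude.Def_DRing2
import Groth.Prelude.Def_DRing4
import Groth.Agent.Helper9.TenPCC1
import Groth.Agent.Helper3.DRingRes
import Groth.Agent.Helper3.DRingPC5

/-! Precise version of `TenPCC1`: if `L` is a bounded above (`≤ bL`) complex of flat `C`-modules
which is `a`-pseudo-coherent over `P → C`, and `N` is a `c`-pseudo-coherent complex of
`C`-modules with cohomology in degrees `≤ bN`, then `L ⊗_C N` is `max (a + bN) (c + bL)`-pseudo-
coherent over `P`. -/

set_option autoImplicit false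
set_option linter.style.haveILetI false
set_option linter.unusedVariables false
set_option linter.unusedSectionVars false
universe u

namespace Groth.Agent.Helper9.TenPCC3

noncomputable section

open CategoryTheory CategoryTheory.Limits MonoidalCategory Pretriangulated DerivedCategory
  HomologicalComplex
open ZeroObject
open Groth.Agent.Helper3.DRingLib Groth.Agent.Helper6.TenCx Groth.Agent.Helper9.KFlat3
  Groth.Agent.Helper9.KFlat4 Groth.Agent.Helper9.TenPCC1

attribute [local instance] HasDerivedCategory.standard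

section Normal

variable {A : Type u} [CommRing A]

lemma isApprox_zero_of_isLE (c : ℤ) (K : Dual.D A) [K.IsLE (c - 1)] :
    IsApprox c (0 : (0 : Dual.D A) ⟶ K) := by
  apply isApprox_of_epi_mono
  · intro i hi
    have hz : IsZero ((homologyFunctor (ModuleCat.{u} A) i).obj K) :=
      K.isZero_of_isLE (c - 1) i (by omega)
    exact ⟨fun _ _ _ => hz.eq_of_src _ _⟩
  · intro i hi
    have hz : IsZero ((homologyFunctor (ModuleCat.{u} A) i).obj (0 : Dual.D A)) :=
      Functor.map_isZero _ (isZero_zero _)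
    exact ⟨fun _ _ _ => hz.eq_of_tgt _ _⟩

/-- normal form with controlled top degree: a `c`-pseudo-coherent object of `D^{≤ b}` admits a
`c`-approximation by a complex of finite free modules placed in `[c, b]` -/
theorem exists_normal_le_aux (c : ℤ) (n : ℕ) : ∀ (K : Dual.D A) (b : ℤ), K.IsLE b → b < c + n →
    DRing.IsPseudoCoherent A c K →
    ∃ (X : Dual.D A) (α : X ⟶ K), IsBFF c b X ∧ IsApprox c α := by
  induction n with
  | zero =>
    intro K b hb hbc _
    haveI : K.IsLE (c - 1) := TStructure.t.isLE_of_le _ b (c - 1) (by simp at hbc; omega)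
    exact ⟨0, 0, IsBFF.of_isZero (isZero_zero _), isApprox_zero_of_isLE c K⟩
  | succ n ih =>
    intro K b hb hbc h
    by_cases hbc' : b < c
    · haveI : K.IsLE (c - 1) := TStructure.t.isLE_of_le _ b (c - 1) (by omega)
      exact ⟨0, 0, IsBFF.of_isZero (isZero_zero _), isApprox_zero_of_isLE c K⟩
    have hfin : Module.Finite A (Dual.HD A K b) :=
      finite_HD_of_isPseudoCoherent K b (isPseudoCoherent_of_le (by omega) h)
    obtain ⟨X₀, α₀, hX₀, hα₀⟩ := exists_single_approx' K b hfin
    obtain ⟨K₁, q, r, hT₂⟩ := distinguished_cocone_triangle α₀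
    have hK₁ : K₁.IsLE (b - 1) := (isApprox_iff_isLE _ hT₂ b).mp hα₀
    have hK₁pc : DRing.IsPseudoCoherent A c K₁ :=
      isPseudoCoherent_obj₃ _ hT₂ c (isPseudoCoherent_of_isBFF hX₀ (c + 1)) h
    obtain ⟨X₁, α₁, hX₁, hα₁⟩ := ih K₁ (b - 1) hK₁ (by push_cast at hbc; omega) hK₁pc
    obtain ⟨X', f, p, hT₃⟩ := distinguished_cocone_triangle₂ (α₁ ≫ r)
    obtain ⟨α', hα'1, hα'2⟩ := complete_distinguished_triangle_morphism₂ _ _ hT₃ hT₂ (𝟙 _) α₁
      (by
        change (α₁ ≫ r) ≫ (shiftFunctor (Dual.D A) (1 : ℤ)).map (𝟙 _) = α₁ ≫ r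
        rw [CategoryTheory.Functor.map_id, Category.comp_id])
    let ψ : Triangle.mk f p (α₁ ≫ r) ⟶ Triangle.mk α₀ q r :=
      { hom₁ := 𝟙 _, hom₂ := α', hom₃ := α₁, comm₁ := hα'1, comm₂ := hα'2,
        comm₃ := by
          change (α₁ ≫ r) ≫ (shiftFunctor (Dual.D A) (1 : ℤ)).map (𝟙 _) = α₁ ≫ r
          rw [CategoryTheory.Functor.map_id, Category.comp_id] }
    have hα' : IsApprox c α' :=
      IsApprox.mid _ _ hT₃ hT₂ ψ c (isApprox_of_isIso _ (𝟙 _)) hα₁
    exact ⟨X', α', IsBFF.obj₂ _ hT₃ (hX₀.mono (by omega) le_rfl)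
      (hX₁.mono le_rfl (by omega)), hα'⟩

theorem exists_normal_le (c b : ℤ) (K : Dual.D A) [K.IsLE b]
    (h : DRing.IsPseudoCoherent A c K) :
    ∃ (X : Dual.D A) (α : X ⟶ K), IsBFF c b X ∧ IsApprox c α :=
  exists_normal_le_aux c (b - c + 1).toNat K b inferInstance (by omega) h

end Normal

variable {P C : Type u} [CommRing P] [CommRing C] (π : P →+* C) (L : DRing.Cx C)

/-- `L ⊗ E` is `t`-pseudo-coherent over `P` -/
def PsiAt (t : ℤ) (E : DRing.Cx C) : Prop :=
  DRing.IsPseudoCoherent P t ((DRing.restrictD π).obj (DRing.toD (L ⊗ E)))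

variable {π L}

lemma psiAt_of_iso {t : ℤ} {E E' : DRing.Cx C} (e : E ≅ E') (h : PsiAt π L t E) :
    PsiAt π L t E' :=
  isPseudoCoherent_of_iso ((DRing.restrictD π).mapIso (Q.mapIso (whiskerLeftIso L e))) h

lemma psiAt_mono {t t' : ℤ} (htt : t ≤ t') {E : DRing.Cx C} (h : PsiAt π L t E) :
    PsiAt π L t' E :=
  isPseudoCoherent_of_le htt h

lemma psiAt_of_isZero (t : ℤ) (E : DRing.Cx C) (h : ∀ i, IsZero (E.X i)) : PsiAt π L t E := by
  apply isPseudoCoherent_of_isZero
  apply Functor.map_isZero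
  apply isZero_toD_of_isZero
  intro n
  apply Groth.Agent.Helper6.TenFin.isZero_X
  intro p q _
  exact Or.inr (h q)

lemma psiAt_ses {t : ℤ} {S : ShortComplex (DRing.Cx C)} (hS : S.ShortExact)
    (h3 : DRing.TermwiseFlat S.X₃)
    (h1 : PsiAt π L t S.X₁) (h3' : PsiAt π L t S.X₃) : PsiAt π L t S.X₂ := by
  have hS' := tenSC_shortExact L hS h3
  have hT := DerivedCategory.triangleOfSES_distinguished hS'
  have hT' := (DRing.restrictD π).map_distinguished _ hT
  exact isPseudoCoherent_obj₂ _ hT' t h1 h3'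

lemma psiAt_shift (E : DRing.Cx C) (n m : ℤ) (h : PsiAt π L (n + m) E) :
    PsiAt π L m (E⟦n⟧) := by
  have h1 := isPseudoCoherent_shift (K := (DRing.restrictD π).obj (DRing.toD (L ⊗ E))) n m rfl h
  refine isPseudoCoherent_of_iso ?_ h1
  exact (((DRing.restrictD π).commShiftIso n).app _).symm ≪≫
    (DRing.restrictD π).mapIso ((toDShiftIso (L ⊗ E) n).symm ≪≫
      Q.mapIso (tensorShiftIso E n).symm)

lemma psiAt_unit {a : ℤ}
    (hL : DRing.IsPseudoCoherent P a ((DRing.restrictD π).obj (DRing.toD L))) :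
    PsiAt π L a (𝟙_ (DRing.Cx C)) :=
  isPseudoCoherent_of_iso ((DRing.restrictD π).mapIso (Q.mapIso (ρ_ L).symm)) hL

lemma psiAt_single_prod {t : ℤ} (X Y : Type u) [AddCommGroup X] [Module C X] [AddCommGroup Y]
    [Module C Y] [Module.Flat C Y] (hX : PsiAt π L t ((sg 0).obj (ModuleCat.of C X)))
    (hY : PsiAt π L t ((sg 0).obj (ModuleCat.of C Y))) :
    PsiAt π L t ((sg 0).obj (ModuleCat.of C (X × Y))) := by
  let S : ShortComplex (ModuleCat.{u} C) :=
    ShortComplex.mk (ModuleCat.ofHom (LinearMap.inl C X Y)) (ModuleCat.ofHom (LinearMap.snd C X Y))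
      (by ext x; rfl)
  have hS : S.ShortExact := by
    refine ModuleCat.shortComplex_shortExact S ?_ ?_ ?_
    · exact (LinearMap.exact_iff).mpr (LinearMap.range_inl C X Y).symm
    · exact LinearMap.inl_injective
    · exact LinearMap.snd_surjective
  have hS' : (S.map (sg 0)).ShortExact := hS.map_of_exact (sg 0)
  have h1 : PsiAt π L t (S.map (sg 0)).X₁ := hX
  have h3 : PsiAt π L t (S.map (sg 0)).X₃ := hY
  have hfl : DRing.TermwiseFlat (S.map (sg 0)).X₃ := fun i => flat_sg_X 0 (ModuleCat.of C Y) i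
  exact psiAt_ses (S := S.map (sg 0)) hS' hfl h1 h3

lemma psiAt_single_fin {a : ℤ}
    (hL : DRing.IsPseudoCoherent P a ((DRing.restrictD π).obj (DRing.toD L))) :
    ∀ r : ℕ, PsiAt π L a ((sg 0).obj (ModuleCat.of C (Fin r → C)))
  | 0 => psiAt_of_isZero a _ (isZero_sg_X 0 _ (ModuleCat.isZero_of_subsingleton _))
  | r + 1 =>
    psiAt_of_iso ((sg 0).mapIso (Fin.consLinearEquiv C (fun _ : Fin (r + 1) => C)).toModuleIso)
      (psiAt_single_prod C (Fin r → C) (psiAt_unit hL) (psiAt_single_fin hL r))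

lemma psiAt_single_zero {a : ℤ}
    (hL : DRing.IsPseudoCoherent P a ((DRing.restrictD π).obj (DRing.toD L)))
    (M : ModuleCat.{u} C) [Module.Finite C M] [Module.Free C M] :
    PsiAt π L a ((sg 0).obj M) := by
  let b := Module.Free.chooseBasis C M
  let e : M ≃ₗ[C] (Fin (Fintype.card (Module.Free.ChooseBasisIndex C M)) → C) :=
    b.equivFun ≪≫ₗ (LinearEquiv.funCongrLeft C C (Fintype.equivFin _).symm)
  exact psiAt_of_iso ((sg 0).mapIso e.symm.toModuleIso) (psiAt_single_fin hL _)

lemma psiAt_single {a : ℤ}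
    (hL : DRing.IsPseudoCoherent P a ((DRing.restrictD π).obj (DRing.toD L)))
    (b : ℤ) (M : ModuleCat.{u} C) [Module.Finite C M] [Module.Free C M] :
    PsiAt π L (a + b) ((sg b).obj M) :=
  psiAt_of_iso (((CochainComplex.singleFunctors (ModuleCat.{u} C)).shiftIso (-b) b 0
    (by omega)).app M) (psiAt_shift _ (-b) (a + b)
      (by
        have h0 := psiAt_single_zero hL M
        have : -b + (a + b) = a := by omega
        rw [this]
        exact h0))

/-- the induction over bounded complexes of finite free modules -/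
theorem psiAt_bff {a : ℤ}
    (hL : DRing.IsPseudoCoherent P a ((DRing.restrictD π).obj (DRing.toD L)))
    (n : ℕ) : ∀ (E : DRing.Cx C) (a' b' : ℤ), b' < a' + n → DRing.VanishesOutside E a' b' →
      DRing.TermwiseFiniteFree E → ∀ t : ℤ, a + b' ≤ t → PsiAt π L t E := by
  induction n with
  | zero =>
    intro E a' b' hab hE _ t _
    exact psiAt_of_isZero t E (fun i => hE i (by simp at hab; omega))
  | succ n ih =>
    intro E a' b hab hE hff t ht
    have hv : DRing.VanishesAbove E b := fun i hi => hE i (Or.inr hi)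
    have hS := peelSC_shortExact E b hv
    have hX₃v : DRing.VanishesOutside (sigmaLE E (b - 1)) a' (b - 1) := by
      intro i hi
      by_cases hib : i ≤ b - 1
      · have := isIso_piLE_f E (b - 1) i hib
        exact (hE i (Or.inl (by omega))).of_iso (asIso ((piLE E (b - 1)).f i)).symm
      · exact isZero_sigmaLE_X E (b - 1) i (by omega)
    have hX₃f : DRing.TermwiseFiniteFree (sigmaLE E (b - 1)) := by
      intro i
      by_cases hib : i ≤ b - 1
      · have := isIso_piLE_f E (b - 1) i hib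
        let e' : E.X i ≃ₗ[C] (sigmaLE E (b - 1)).X i :=
          (asIso ((piLE E (b - 1)).f i)).toLinearEquiv
        obtain ⟨f1, f2⟩ := hff i
        exact ⟨Module.Finite.equiv e', Module.Free.of_equiv e'⟩
      · have := ModuleCat.subsingleton_of_isZero (isZero_sigmaLE_X E (b - 1) i (by omega))
        exact ⟨Module.Finite.of_finite, Module.Free.of_subsingleton C _⟩
    have h3 := ih (sigmaLE E (b - 1)) a' (b - 1) (by push_cast at hab; omega) hX₃v hX₃f t
      (by omega)
    obtain ⟨f1, f2⟩ := hff b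
    have h1 : PsiAt π L t ((sg b).obj (E.X b)) := psiAt_mono ht (psiAt_single hL b (E.X b))
    have h1' : PsiAt π L t (peelSC E b hv).X₁ := h1
    have h3' : PsiAt π L t (peelSC E b hv).X₃ := h3
    have hfl : DRing.TermwiseFlat (peelSC E b hv).X₃ := by
      intro i
      obtain ⟨g1, g2⟩ := hX₃f i
      show Module.Flat C ((sigmaLE E (b - 1)).X i)
      infer_instance
    exact psiAt_ses (S := peelSC E b hv) hS hfl h1' h3'

/-- **precise tensor statement**: `L` bounded above by `bL`, termwise flat, `a`-pseudo-coherent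
over `P`; `N` is `c`-pseudo-coherent over `C` with cohomology in degrees `≤ bN`; then `L ⊗ N`
is `t`-pseudo-coherent over `P` for `t ≥ a + bN`, `t ≥ c + bL` -/
theorem main_at (bL : ℤ) (hLv : DRing.VanishesAbove L bL) (hLf : DRing.TermwiseFlat L) (a : ℤ)
    (hL : DRing.IsPseudoCoherent P a ((DRing.restrictD π).obj (DRing.toD L)))
    (N : DRing.Cx C) (c bN : ℤ) [(DRing.toD N).IsLE bN]
    (hN : DRing.IsPseudoCoherent C c (DRing.toD N)) (t : ℤ) (h1t : a + bN ≤ t)
    (h2t : c + bL ≤ t) :
    PsiAt π L t N := by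
  obtain ⟨X, α₀, hX, hα₀⟩ := exists_normal_le c bN (DRing.toD N) hN
  obtain ⟨E, hEv, hEff, ⟨eE⟩⟩ := hX
  let α : DRing.toD E ⟶ DRing.toD N := eE.hom ≫ α₀
  have hα : IsApprox c α := IsApprox.comp (isApprox_of_isIso c eE.hom) hα₀
  haveI : E.IsKProjective := IsBFF.isKProjective E hEv hEff
  obtain ⟨g, hg⟩ := Groth.Agent.Helper6.KProjQ.Q_map_surjective E N α
  have hT := DerivedCategory.mappingCone_triangle_distinguished g
  have happ : IsApprox c (Q.map g) := by
    rw [hg]
    exact hα
  have hle : (Q.obj (CochainComplex.mappingCone g)).IsLE (c - 1) :=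
    (isApprox_iff_isLE _ hT c).mp happ
  have hcone : ∀ j : ℤ, c - 1 < j → (CochainComplex.mappingCone g).ExactAt j :=
    (CochainComplex.isLE_iff _ _).1 ((DerivedCategory.isLE_Q_obj_iff _ _).1 hle)
  have htc : ∀ i : ℤ, t ≤ i → IsZero ((L ⊗ CochainComplex.mappingCone g).homology i) := by
    intro i hi
    rw [← exactAt_iff_isZero_homology]
    exact Groth.Agent.Helper9.RingProj2.exactAt_tensor_of_gt L _ bL (c - 1) hLv hLf hcone i
      (by omega)
  have hgood := good_obj (curriedTensor (ModuleCat.{u} C)) L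
  obtain ⟨h1, h2⟩ := Groth.Agent.Helper9.PcTensor1.Good.goodC_map hgood g t htc
  have happ2 : IsApprox t (Q.map (L ◁ g)) := by
    refine ⟨fun i hi => ?_, ?_⟩
    · have := h1 i hi
      exact (NatIso.isIso_map_iff (DerivedCategory.homologyFunctorFactors _ i) (L ◁ g)).2 this
    · exact (Groth.Agent.Helper9.PcTensor1.epi_map_iff_of_natIso
        (DerivedCategory.homologyFunctorFactors _ t) (L ◁ g)).2 h2
  have happ3 := rD_isApprox π _ happ2
  exact isPseudoCoherent_of_isApprox _ happ3
    (psiAt_bff hL (bN - c + 1).toNat E c bN (by omega) hEv hEff t h1t)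

end

end Groth.Agent.Helper9.TenPCC3
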