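import Mathlib
import Groth.Prelude.Def_DRing2
import Groth.Prelude.Def_DDual2
import Groth.Prelude.Def_DerCA
import Groth.Agent.Helper9.TenPCC2
import Groth.Agent.Helper9.TenPCC3

/-! Precise relative pseudo-coherence of `(B ⊗_A M) ⊗_B N`: `M` over `A` `a₁`-pseudo-coherent
relative to `R` and `≤ bF`, `N` over `B` `a₂`-pseudo-coherent relative to `A` and `≤ b₂`. -/

set_option autoImplicit false
set_option linter.style.haveILetI false
set_option linter.unusedVariables false
set_option linter.unusedSectionVars false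
universe u

namespace Groth.Agent.Helper9.TenPCC4

noncomputable section

open CategoryTheory CategoryTheory.Limits MonoidalCategory Pretriangulated DerivedCategory
  TensorProduct
open Groth.Agent.Helper3.DRingLib Groth.Agent.Helper9.TenPC1 Groth.Agent.Helper9.TenPC2
  Groth.Agent.Helper6.LBCCompute Groth.Agent.Helper9.FBC2b Groth.Agent.Helper9.FBC2c
  Groth.Agent.Helper9.RingProj1 Groth.Agent.Helper9.TenPCC2

attribute [local instance] HasDerivedCategory.standard

variable {R A B : Type u} [CommRing R] [CommRing A] [CommRing B] [Algebra R A] [Algebra A B]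
  [Algebra R B] [IsScalarTower R A B]

/-- **`(B ⊗_A M) ⊗_B N` is `t`-pseudo-coherent relative to `R`** -/
theorem relPC_tensor_at (PF : DRing.Cx A) (bF : ℤ) (hPFv : DRing.VanishesAbove PF bF)
    (hPFf : DRing.TermwiseFlat PF) (a₁ : ℤ)
    (hM : DerCA.IsRelPseudoCoherent R A a₁ (DRing.toD PF))
    (N' : DRing.Cx B) (a₂ b₂ : ℤ) [(DRing.toD N').IsLE b₂]
    (hN : DerCA.IsRelPseudoCoherent A B a₂ (DRing.toD N'))
    (t : ℤ) (h1t : a₁ + b₂ ≤ t) (h2t : a₂ + bF ≤ t) :
    DerCA.IsRelPseudoCoherent R B t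
      (DRing.toD ((bcCxF (algebraMap A B)).obj PF ⊗ N')) := by
  obtain ⟨n, α, hα, -⟩ := id hM
  have hM' : DRing.IsPseudoCoherent (MvPolynomial (Fin n) R) a₁
      ((DRing.restrictD (α : MvPolynomial (Fin n) R →+* A)).obj (DRing.toD PF)) :=
    (relPC_iff_via α hα a₁ _).mp hM
  obtain ⟨k, β, hβ, -⟩ := id hN
  have hN' : DRing.IsPseudoCoherent (MvPolynomial (Fin k) A) a₂
      ((DRing.restrictD (β : MvPolynomial (Fin k) A →+* B)).obj (DRing.toD N')) :=
    (relPC_iff_via β hβ a₂ _).mp hN
  let a : R →+* MvPolynomial (Fin k) R := algebraMap R (MvPolynomial (Fin k) R)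
  let f : R →+* A := algebraMap R A
  let f' : MvPolynomial (Fin k) R →+* MvPolynomial (Fin k) A := MvPolynomial.map f
  let c : A →+* MvPolynomial (Fin k) A := algebraMap A (MvPolynomial (Fin k) A)
  have hpo : IsPushout (CommRingCat.ofHom f) (CommRingCat.ofHom a) (CommRingCat.ofHom c)
      (CommRingCat.ofHom f') := Groth.Agent.Helper9.TenPC3.isPushout_mvPoly k
  let αr : MvPolynomial (Fin n) R →+* A := (α : MvPolynomial (Fin n) R →+* A)
  have hαr : αr.comp MvPolynomial.C = f := by
    ext r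
    exact α.commutes r
  have hfl : a.Flat := RingHom.flat_algebraMap_iff.mpr inferInstance
  let βr : MvPolynomial (Fin k) A →+* B := (β : MvPolynomial (Fin k) A →+* B)
  have hβc : βr.comp c = algebraMap A B := by
    ext r
    exact β.commutes r
  -- the two complexes over `A[x]`
  let L : DRing.Cx (MvPolynomial (Fin k) A) := (bcCxF c).obj PF
  let N : DRing.Cx (MvPolynomial (Fin k) A) := (Groth.Agent.Helper9.RingProj1.rCx βr).obj N'
  have hLv : DRing.VanishesAbove L bF := fun i hi =>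
    Functor.map_isZero (ModuleCat.extendScalars.{u, u, u} c) (hPFv i hi)
  have hLf : DRing.TermwiseFlat L := bcCx_termwiseFlat (MvPolynomial (Fin k) A) PF hPFf
  have hL : DRing.IsPseudoCoherent (MvPolynomial (Fin n) (MvPolynomial (Fin k) R)) a₁
      ((DRing.restrictD (alpha' f' c αr)).obj (DRing.toD L)) :=
    pc_lift a f f' c hpo αr hαr hfl PF a₁ hM'
  have hNpc : DRing.IsPseudoCoherent (MvPolynomial (Fin k) A) a₂ (DRing.toD N) :=
    isPseudoCoherent_of_iso (rDToD βr N') hN'
  haveI hNle : (DRing.toD N).IsLE b₂ := by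
    have h0 : ((DRing.restrictD βr).obj (DRing.toD N')).IsLE b₂ :=
      (rD_isLE_iff βr (DRing.toD N') b₂).mpr inferInstance
    exact TStructure.t.isLE_of_iso (rDToD βr N') b₂
  have hmain := Groth.Agent.Helper9.TenPCC3.main_at (π := alpha' f' c αr) bF hLv hLf a₁ hL N a₂ b₂
    hNpc t h1t h2t
  -- the identification
  have e0 : (bcCxF (algebraMap A B)).obj PF ≅ (extCx βr).obj L :=
    (Groth.Agent.Helper6.LBCFibreGlobal.bcCxFCongr hβc PF).symm ≪≫
      Groth.Agent.Helper6.LBCFibreGlobal.bcCxFComp c βr PF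
  have e1 : (Groth.Agent.Helper9.RingProj1.rCx βr).obj ((bcCxF (algebraMap A B)).obj PF ⊗ N') ≅ L ⊗ N :=
    (Groth.Agent.Helper9.RingProj1.rCx βr).mapIso (DTen.braidCx _ _ ≪≫ whiskerLeftIso N' e0) ≪≫ projCxIso βr N' L ≪≫
      DTen.braidCx _ _
  apply relPC_of_composite α hα β hβ _ t
  refine isPseudoCoherent_of_iso ?_ hmain
  exact (DRing.restrictD (alpha' f' c αr)).mapIso
    (Q.mapIso e1.symm ≪≫ (rDToD βr _).symm)

end

end Groth.Agent.Helper9.TenPCC4
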