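import Mathlib
import Groth.Prelude.Def_DualSh
import Groth.Prelude.Def_DerSch2
import Groth.Prelude.Def_DerCA
import Groth.Agent.Helper9.RelTen1
import Groth.Agent.Helper9.TenPCC4
import Groth.Agent.Helper9.FC5
import Groth.Agent.Helper9.Van1

/-! Precise version of `RelTen1`: `Lf^* G ⊗^L E` is `max (a₁ + b₂) (a₂ + b₁)`-pseudo-coherent
relative to `f ≫ g` and lies in `D^{≤ b₁ + b₂}` when `E` (on `X`, quasi-coherent cohomology,
`≤ b₂`) is `a₂`-pseudo-coherent relative to `f` and `G` (on `Y`, quasi-coherent cohomology,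
`≤ b₁`) is `a₁`-pseudo-coherent relative to `g`. -/

set_option autoImplicit false
set_option linter.style.haveILetI false
set_option linter.unusedVariables false
set_option linter.unusedSectionVars false
universe u

namespace Groth.Agent.Helper9.RelTen2

open CategoryTheory CategoryTheory.Limits AlgebraicGeometry HomologicalComplex Pretriangulated
  MonoidalCategory
open Groth.Agent.Lead.PcLib Scheme.Modules Groth.Agent.Helper3.DRingLib
  Groth.Agent.Helper6.LBCCompute Groth.Agent.Lead.PerfLib DerivedCategory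

attribute [local instance] HasDerivedCategory.standard

section IsLE

/-- `IsLE` is local -/
theorem isLE_of_locally {Y : Scheme.{u}} (K : DCoh.D Y) (b : ℤ)
    (h : ∀ y : Y, ∃ (Z : Scheme.{u}) (j : Z ⟶ Y) (_ : IsOpenImmersion j), y ∈ Set.range j ∧
      ((DCoh.restrictD j).obj K).IsLE b) : K.IsLE b := by
  rw [DerivedCategory.isLE_iff]
  intro i hi
  apply isZero_of_locally
  intro y
  obtain ⟨Z, j, hj, hy, hLE⟩ := h y
  haveI := hj
  haveI := hLE
  exact ⟨Z, j, hj, hy, IsZero.of_iso (((DCoh.restrictD j).obj K).isZero_of_isLE b i hi)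
    (Groth.Agent.Helper9.FC5.hdRestrictIso j K i).symm⟩

variable (R : CommRingCat.{u}) [PreservesFiniteLimits (tilde.functor R)]

theorem isLE_of_isLE_tildeD (M : DerivedCategory (ModuleCat.{u} R)) (b : ℤ)
    [((DCoh.tildeD R).obj M).IsLE b] : M.IsLE b := by
  rw [DerivedCategory.isLE_iff]
  intro i hi
  have h1 : IsZero ((tilde.functor R).obj
      ((DerivedCategory.homologyFunctor (ModuleCat.{u} R) i).obj M)) :=
    IsZero.of_iso (((DCoh.tildeD R).obj M).isZero_of_isLE b i hi)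
      ((mapDerivedCategoryHomologyIso (tilde.functor R) i).app M).symm
  exact IsZero.of_full_of_faithful_of_isZero (tilde.functor R) _ h1

theorem isLE_tildeD (M : DerivedCategory (ModuleCat.{u} R)) (b : ℤ) [M.IsLE b] :
    ((DCoh.tildeD R).obj M).IsLE b := by
  rw [DerivedCategory.isLE_iff]
  intro i hi
  exact IsZero.of_iso (Functor.map_isZero (tilde.functor R) (M.isZero_of_isLE b i hi))
    ((mapDerivedCategoryHomologyIso (tilde.functor R) i).app M)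

end IsLE

variable {X Y Z : Scheme.{u}}

/-- ring-level boundedness of the tensor product -/
lemma isLE_toD_tensor {C : Type u} [CommRing C] (L N : DRing.Cx C) (bL bN : ℤ)
    (hLv : DRing.VanishesAbove L bL) (hLf : DRing.TermwiseFlat L) [(DRing.toD N).IsLE bN] :
    (DRing.toD (L ⊗ N)).IsLE (bL + bN) := by
  have hN : ∀ j : ℤ, bN < j → N.ExactAt j :=
    (CochainComplex.isLE_iff _ _).1 ((DerivedCategory.isLE_Q_obj_iff _ _).1
      (inferInstanceAs ((DerivedCategory.Q.obj N).IsLE bN)))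
  show (DerivedCategory.Q.obj (L ⊗ N)).IsLE (bL + bN)
  rw [DerivedCategory.isLE_Q_obj_iff, CochainComplex.isLE_iff]
  intro i hi
  exact Groth.Agent.Helper9.RingProj2.exactAt_tensor_of_gt L N bL bN hLv hLf hN i hi

/-- the local representatives -/
theorem local_rep (f : X ⟶ Y) (E : CochainComplex X.Modules ℤ)
    (hqE : DCoh.IsQCohD (DCoh.toD X E)) (b₂ : ℤ) [(DCoh.toD X E).IsLE b₂]
    (G : DCoh.D Y) (hqG : DCoh.IsQCohD G) (b₁ : ℤ) [G.IsLE b₁]
    [DCoh.HasLpull f] [DCoh.HasLTensorCx E]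
    {U : X.Opens} (hUa : IsAffineOpen U) {V : Y.Opens} (hVa : IsAffineOpen V)
    (hUV : U ≤ f ⁻¹ᵁ V)
    [PreservesFiniteLimits (tilde.functor Γ(X, U))]
    [PreservesFiniteLimits (tilde.functor Γ(Y, V))] :
    ∃ (PF : DRing.Cx Γ(Y, V)) (N' : DRing.Cx Γ(X, U)),
      DRing.VanishesAbove PF b₁ ∧ DRing.TermwiseFlat PF ∧ (DRing.toD N').IsLE b₂ ∧
      Nonempty ((DCoh.tildeD Γ(Y, V)).obj (DRing.toD PF) ≅
        (DCoh.restrictD hVa.fromSpec).obj G) ∧
      Nonempty ((DCoh.tildeD Γ(X, U)).obj (DRing.toD N') ≅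
        (DCoh.restrictD hUa.fromSpec).obj (DCoh.toD X E)) ∧
      Nonempty ((DCoh.tildeD Γ(X, U)).obj
          (DRing.toD ((bcCxF (f.appLE V U hUV).hom).obj PF ⊗ N')) ≅
        (DCoh.restrictD hUa.fromSpec).obj
          ((DCoh.LTensorCx E).obj ((DCoh.Lpull f).obj G))) := by
  obtain ⟨NG, ⟨eNG⟩⟩ := Groth.Agent.Helper9.QcLpull1.exists_iso_tildeD Γ(Y, V)
    ((DCoh.restrictD hVa.fromSpec).obj G)
    (Groth.Agent.Helper9.QP7.isQCohD_restrictD hVa.fromSpec G hqG)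
  obtain ⟨NE, ⟨eNE⟩⟩ := Groth.Agent.Helper9.QcLpull1.exists_iso_tildeD Γ(X, U)
    ((DCoh.restrictD hUa.fromSpec).obj (DCoh.toD X E))
    (Groth.Agent.Helper9.QP7.isQCohD_restrictD hUa.fromSpec _ hqE)
  haveI := Groth.Agent.Helper6.HasLBC.hasLBaseChange (f.appLE V U hUV).hom
  -- bounds
  haveI hNGle : NG.IsLE b₁ := by
    haveI : ((DCoh.restrictD hVa.fromSpec).obj G).IsLE b₁ :=
      Groth.Agent.Helper9.Van1.isLE_restrictD _ G b₁
    haveI : ((DCoh.tildeD Γ(Y, V)).obj NG).IsLE b₁ :=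
      TStructure.t.isLE_of_iso eNG.symm b₁
    exact isLE_of_isLE_tildeD Γ(Y, V) NG b₁
  haveI hNEle : NE.IsLE b₂ := by
    haveI : ((DCoh.restrictD hUa.fromSpec).obj (DCoh.toD X E)).IsLE b₂ :=
      Groth.Agent.Helper9.Van1.isLE_restrictD _ _ b₂
    haveI : ((DCoh.tildeD Γ(X, U)).obj NE).IsLE b₂ :=
      TStructure.t.isLE_of_iso eNE.symm b₂
    exact isLE_of_isLE_tildeD Γ(X, U) NE b₂
  obtain ⟨PF, hPFv, hPFp, ⟨ePF⟩⟩ := exists_projective_rep NG b₁
  haveI : ∀ i, Projective (PF.X i) := fun i => (IsProjective.iff_projective _).mp (hPFp i)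
  haveI : PF.IsStrictlyLE b₁ := isStrictlyLE_of_vanishesAbove _ _ hPFv
  haveI : PF.IsKProjective := CochainComplex.isKProjective_of_projective PF b₁
  have hPFf : DRing.TermwiseFlat PF := fun i => haveI := hPFp i; inferInstance
  let N' : DRing.Cx Γ(X, U) := DerivedCategory.Q.objPreimage NE
  let eN' : DRing.toD N' ≅ NE := DerivedCategory.Q.objObjPreimageIso NE
  let L₀ : DRing.Cx Γ(X, U) := (bcCxF (f.appLE V U hUV).hom).obj PF
  have hL₀v : DRing.VanishesAbove L₀ b₁ := fun i hi =>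
    Functor.map_isZero (ModuleCat.extendScalars.{u, u, u} (f.appLE V U hUV).hom) (hPFv i hi)
  have hL₀f : DRing.TermwiseFlat L₀ := by
    letI := (f.appLE V U hUV).hom.toAlgebra
    exact bcCx_termwiseFlat Γ(X, U) PF hPFf
  have hL₀k : DRing.IsKFlat Γ(X, U) L₀ :=
    Groth.Agent.Helper9.RingProj2.kflat_of_flat L₀ b₁ hL₀v hL₀f
  obtain ⟨eM⟩ := Groth.Agent.Helper9.FBC4.nonempty_tildeD_lbc_iso f hVa hUa hUV G NG eNG
  have eL : (DCoh.tildeD Γ(X, U)).obj (DRing.toD L₀) ≅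
      (DCoh.restrictD hUa.fromSpec).obj ((DCoh.Lpull f).obj G) :=
    (DCoh.tildeD Γ(X, U)).mapIso
      ((lbcIso (f.appLE V U hUV).hom PF).symm ≪≫
        (DRing.LBaseChange _).mapIso ePF) ≪≫ eM
  have eN : (DCoh.tildeD Γ(X, U)).obj (DRing.toD N') ≅
      (DCoh.restrictD hUa.fromSpec).obj (DCoh.toD X E) :=
    (DCoh.tildeD Γ(X, U)).mapIso eN' ≪≫ eNE
  obtain ⟨eK⟩ := Groth.Agent.Helper9.TildeTen2.nonempty_tildeD_ltensor_iso hUa E
    ((DCoh.Lpull f).obj G) L₀ hL₀k eL N' eN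
  refine ⟨PF, N', hPFv, hPFf, TStructure.t.isLE_of_iso eN'.symm b₂,
    ⟨(DCoh.tildeD Γ(Y, V)).mapIso ePF ≪≫ eNG⟩, ⟨eN⟩, ⟨eK⟩⟩

/-- **boundedness above of `Lf^* G ⊗^L E`** -/
theorem isLE_ltensor_lpull (f : X ⟶ Y) (E : CochainComplex X.Modules ℤ)
    (hqE : DCoh.IsQCohD (DCoh.toD X E)) (b₂ : ℤ) [(DCoh.toD X E).IsLE b₂]
    (G : DCoh.D Y) (hqG : DCoh.IsQCohD G) (b₁ : ℤ) [G.IsLE b₁]
    [DCoh.HasLpull f] [DCoh.HasLTensorCx E] :
    ((DCoh.LTensorCx E).obj ((DCoh.Lpull f).obj G)).IsLE (b₁ + b₂) := by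
  apply isLE_of_locally
  intro x
  obtain ⟨_, ⟨V, hV, rfl⟩, hxV, -⟩ :=
    (Y.isBasis_affineOpens).exists_subset_of_mem_open (Set.mem_univ (f.base x)) isOpen_univ
  obtain ⟨_, ⟨U, hU, rfl⟩, hxU, hUV⟩ :=
    (X.isBasis_affineOpens).exists_subset_of_mem_open
      (show x ∈ (f ⁻¹ᵁ V : Set X) from hxV) (f ⁻¹ᵁ V).2
  have hUa : IsAffineOpen U := hU
  have hVa : IsAffineOpen V := hV
  haveI : PreservesFiniteLimits (tilde.functor Γ(X, U)) :=
    Groth.Agent.Helper4.TildeExact.preservesFiniteLimits_tilde _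
  haveI : PreservesFiniteLimits (tilde.functor Γ(Y, V)) :=
    Groth.Agent.Helper4.TildeExact.preservesFiniteLimits_tilde _
  obtain ⟨PF, N', hPFv, hPFf, hN'le, -, -, ⟨eK⟩⟩ :=
    local_rep f E hqE b₂ G hqG b₁ hUa hVa hUV
  refine ⟨_, hUa.fromSpec, inferInstance, ?_, ?_⟩
  · rw [hUa.range_fromSpec]
    exact hxU
  · haveI := hN'le
    have hL₀v : DRing.VanishesAbove ((bcCxF (f.appLE V U hUV).hom).obj PF) b₁ := fun i hi =>
      Functor.map_isZero (ModuleCat.extendScalars.{u, u, u} (f.appLE V U hUV).hom) (hPFv i hi)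
    have hL₀f : DRing.TermwiseFlat ((bcCxF (f.appLE V U hUV).hom).obj PF) := by
      letI := (f.appLE V U hUV).hom.toAlgebra
      exact bcCx_termwiseFlat Γ(X, U) PF hPFf
    haveI := isLE_toD_tensor ((bcCxF (f.appLE V U hUV).hom).obj PF) N' b₁ b₂ hL₀v hL₀f
    haveI := isLE_tildeD Γ(X, U)
      (DRing.toD ((bcCxF (f.appLE V U hUV).hom).obj PF ⊗ N')) (b₁ + b₂)
    exact TStructure.t.isLE_of_iso eK (b₁ + b₂)

/-- **`Lf^* G ⊗^L E` is `t`-pseudo-coherent relative to the composite** -/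
theorem rel_ltensor_lpull_at (f : X ⟶ Y) (g : Y ⟶ Z) [LocallyOfFiniteType f]
    [LocallyOfFiniteType g]
    (E : CochainComplex X.Modules ℤ) (hqE : DCoh.IsQCohD (DCoh.toD X E)) (a₂ b₂ : ℤ)
    [(DCoh.toD X E).IsLE b₂] (hE : DerSch.IsPseudoCoherentRel f a₂ (DCoh.toD X E))
    (G : DCoh.D Y) (hqG : DCoh.IsQCohD G) (a₁ b₁ : ℤ) [G.IsLE b₁]
    (hG : DerSch.IsPseudoCoherentRel g a₁ G)
    [DCoh.HasLpull f] [DCoh.HasLTensorCx E] (t : ℤ) (h1t : a₁ + b₂ ≤ t) (h2t : a₂ + b₁ ≤ t) :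
    DerSch.IsPseudoCoherentRel (f ≫ g) t ((DCoh.LTensorCx E).obj ((DCoh.Lpull f).obj G)) := by
  have hE' := (Chart6.rel_iff f a₂ _).1 hE
  have hG' := (Chart6.rel_iff g a₁ G).1 hG
  refine ⟨inferInstance, Set.univ, ?_, fun W _ => ?_⟩
  · rw [eq_top_iff]
    intro z _
    obtain ⟨_, ⟨W, hW, rfl⟩, hzW, -⟩ :=
      (Z.isBasis_affineOpens).exists_subset_of_mem_open (Set.mem_univ z) isOpen_univ
    simp only [TopologicalSpace.Opens.mem_iSup]
    exact ⟨⟨W, hW⟩, Set.mem_univ _, hzW⟩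
  · refine ⟨{U | ∃ V : Y.affineOpens, (V : Y.Opens) ≤ g ⁻¹ᵁ (W : Z.Opens) ∧
        (U : X.Opens) ≤ f ⁻¹ᵁ (V : Y.Opens)}, ?_, ?_⟩
    · apply le_antisymm
      · refine iSup₂_le ?_
        rintro U ⟨V, hVW, hUV⟩ x hx
        exact hVW (hUV hx)
      · intro x hx
        have hx' : f.base x ∈ g ⁻¹ᵁ (W : Z.Opens) := hx
        obtain ⟨_, ⟨V, hV, rfl⟩, hxV, hVW⟩ :=
          (Y.isBasis_affineOpens).exists_subset_of_mem_open hx' (g ⁻¹ᵁ (W : Z.Opens)).2
        obtain ⟨_, ⟨U, hU, rfl⟩, hxU, hUV⟩ :=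
          (X.isBasis_affineOpens).exists_subset_of_mem_open
            (show x ∈ (f ⁻¹ᵁ V : Set X) from hxV) (f ⁻¹ᵁ V).2
        simp only [TopologicalSpace.Opens.mem_iSup]
        exact ⟨⟨U, hU⟩, ⟨⟨V, hV⟩, hVW, hUV⟩, hxU⟩
    · rintro U ⟨V, hVW, hUV⟩ hUW
      have hUa : IsAffineOpen (U : X.Opens) := U.2
      have hVa : IsAffineOpen (V : Y.Opens) := V.2
      have hWa : IsAffineOpen (W : Z.Opens) := W.2
      haveI : PreservesFiniteLimits (tilde.functor Γ(X, (U : X.Opens))) :=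
        Groth.Agent.Helper4.TildeExact.preservesFiniteLimits_tilde _
      haveI : PreservesFiniteLimits (tilde.functor Γ(Y, (V : Y.Opens))) :=
        Groth.Agent.Helper4.TildeExact.preservesFiniteLimits_tilde _
      obtain ⟨PF, N', hPFv, hPFf, hN'le, ⟨ePF⟩, ⟨eN⟩, ⟨eK⟩⟩ :=
        local_rep f E hqE b₂ G hqG b₁ hUa hVa hUV
      haveI := hN'le
      letI algRA : Algebra Γ(Z, (W : Z.Opens)) Γ(Y, (V : Y.Opens)) :=
        (g.appLE (W : Z.Opens) (V : Y.Opens) hVW).hom.toAlgebra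
      letI algAB : Algebra Γ(Y, (V : Y.Opens)) Γ(X, (U : X.Opens)) :=
        (f.appLE (V : Y.Opens) (U : X.Opens) hUV).hom.toAlgebra
      letI algRB : Algebra Γ(Z, (W : Z.Opens)) Γ(X, (U : X.Opens)) :=
        ((f ≫ g).appLE (W : Z.Opens) (U : X.Opens) hUW).hom.toAlgebra
      haveI : IsScalarTower Γ(Z, (W : Z.Opens)) Γ(Y, (V : Y.Opens)) Γ(X, (U : X.Opens)) := by
        refine IsScalarTower.of_algebraMap_eq' ?_
        show ((f ≫ g).appLE (W : Z.Opens) (U : X.Opens) hUW).hom =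
          (f.appLE (V : Y.Opens) (U : X.Opens) hUV).hom.comp
            (g.appLE (W : Z.Opens) (V : Y.Opens) hVW).hom
        rw [← CommRingCat.hom_comp, Scheme.Hom.appLE_comp_appLE]
      -- the ring-level hypotheses
      have hNG : DerCA.IsRelPseudoCoherent Γ(Z, (W : Z.Opens)) Γ(Y, (V : Y.Opens)) a₁
          (DRing.toD PF) :=
        (Chart18.exists_chart_iff_ring' g hVa hWa hVW a₁ G _ ePF).1 (hG' V W hVW)
      have hNE : DerCA.IsRelPseudoCoherent Γ(Y, (V : Y.Opens)) Γ(X, (U : X.Opens)) a₂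
          (DRing.toD N') :=
        (Chart18.exists_chart_iff_ring' f hUa hVa hUV a₂ _ _ eN).1 (hE' U V hUV)
      rw [Chart18.exists_chart_iff_ring' (f ≫ g) hUa hWa hUW t _ _ eK]
      exact Groth.Agent.Helper9.TenPCC4.relPC_tensor_at PF b₁ hPFv hPFf a₁ hNG N' a₂ b₂ hNE t
        h1t h2t

end Groth.Agent.Helper9.RelTen2
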