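import Mathlib
import Groth.Agent.Helper9.BCT6
import Groth.Agent.Helper9.FBC2c
import Groth.Agent.Helper9.TenPC3
import Groth.Agent.Helper9.RelTen1

/-! Tor-independent base change of relative pseudo-coherence, ring level.
`R₀ → A → C` with `A`, `C` flat over `R₀`; `R₀ → R₀'` arbitrary; `A' = R₀' ⊗ A`, `C' = A' ⊗_A C`. -/

set_option autoImplicit false
set_option linter.style.haveILetI false
set_option linter.unusedVariables false
set_option linter.unusedSectionVars false
universe u

namespace Groth.Agent.Helper9.TIPC1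

noncomputable section

open CategoryTheory CategoryTheory.Limits TensorProduct MvPolynomial DerivedCategory
open Groth.Agent.Helper9.FBC2a Groth.Agent.Helper9.FBC2b Groth.Agent.Helper9.FBC2c
  Groth.Agent.Helper6.LBCCompute Groth.Agent.Helper3.DRingLib

attribute [local instance] HasDerivedCategory.standard
attribute [local instance] Algebra.TensorProduct.rightAlgebra

section General

variable {A B : Type u} [CommRing A] [CommRing B] (φ : A →+* B) [DRing.HasLBaseChange φ]

/-- the comparison `LBaseChange (Q E) ⟶ Q (B ⊗ E)` is an isomorphism as soon as termwise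
extension of scalars preserves one K-projective resolution of `E` -/
theorem isIso_lbcNat_app_of_quasiIso (E P : DRing.Cx A) (π : P ⟶ E) [P.IsKProjective]
    (hπ : QuasiIso π) (h2 : QuasiIso ((bcCxF φ).map π)) :
    IsIso ((lbcNat φ).app E) := by
  haveI : IsIso (Q.map π) := by
    rw [DerivedCategory.isIso_Q_map_iff_quasiIso]
    exact hπ
  haveI : IsIso (Q.map ((bcCxF φ).map π)) := by
    rw [DerivedCategory.isIso_Q_map_iff_quasiIso]
    exact h2
  have hnat := (lbcNat φ).naturality π
  have h3 : IsIso ((Q ⋙ DRing.LBaseChange φ).map π ≫ (lbcNat φ).app E) := by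
    rw [hnat]
    haveI : IsIso ((bcCxF φ ⋙ Q).map π) := by
      show IsIso (Q.map ((bcCxF φ).map π))
      infer_instance
    infer_instance
  haveI : IsIso ((Q ⋙ DRing.LBaseChange φ).map π) := by
    show IsIso ((DRing.LBaseChange φ).map (Q.map π))
    infer_instance
  exact IsIso.of_isIso_comp_left ((Q ⋙ DRing.LBaseChange φ).map π) _

end General

section Comp

variable {P T P' : Type u} [CommRing P] [CommRing T] [CommRing P']

theorem quasiIso_bcCxF_comp (φ₁ : P →+* T) (φ₂ : T →+* P') (ρ : P →+* P')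
    (h : φ₂.comp φ₁ = ρ) {K L : DRing.Cx P} (π : K ⟶ L)
    (h2 : QuasiIso ((bcCxF φ₂).map ((bcCxF φ₁).map π))) : QuasiIso ((bcCxF ρ).map π) := by
  subst h
  let ν := NatIso.mapHomologicalComplex
    (ModuleCat.extendScalarsComp φ₁ φ₂) (ComplexShape.up ℤ)
  exact (quasiIso_iff_of_arrow_mk_iso _ _
    (Arrow.isoMk (ν.app K) (ν.app L) (ν.hom.naturality π).symm)).2 h2

end Comp

section Abstract

variable {R R' P P' : Type u} [CommRing R] [CommRing R'] [CommRing P] [CommRing P']
  (r : R →+* R') (q : R →+* P) (q' : R' →+* P') (ρ : P →+* P')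
  (hpo : IsPushout (CommRingCat.ofHom q) (CommRingCat.ofHom r) (CommRingCat.ofHom ρ)
    (CommRingCat.ofHom q'))

include hpo in
/-- a quasi-isomorphism between bounded above complexes of `P`-modules which are flat over `R`
stays a quasi-isomorphism after base change to `P' = R' ⊗_R P` -/
theorem quasiIso_bcCxF_map_torind {K L : DRing.Cx P} (π : K ⟶ L) (b b' : ℤ)
    (hK : DRing.VanishesAbove K b) (hL : DRing.VanishesAbove L b')
    (fK : DRing.TermwiseFlat ((Groth.Agent.Helper9.RingProj1.rCx q).obj K))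
    (fL : DRing.TermwiseFlat ((Groth.Agent.Helper9.RingProj1.rCx q).obj L))
    (hπ : QuasiIso π) :
    QuasiIso ((bcCxF ρ).map π) := by
  letI := r.toAlgebra
  letI := q.toAlgebra
  let e : CommRingCat.of (R' ⊗[R] P) ≅ CommRingCat.of P' :=
    (CommRingCat.isPushout_tensorProduct R R' P).isoIsPushout _ _ hpo.flip
  have he : e.hom.hom.comp (algebraMap P (R' ⊗[R] P)) = ρ := by
    have := IsPushout.inr_isoIsPushout_hom _ _ (CommRingCat.isPushout_tensorProduct R R' P) hpo.flip
    exact congrArg CommRingCat.Hom.hom this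
  have h1 : QuasiIso ((bcCxF (algebraMap P (R' ⊗[R] P))).map π) :=
    Groth.Agent.Helper9.BCT6.quasiIso_bcCxF_map_rel (R := R) (A := P) R' π b b' hK hL fK fL hπ
  have hefl : e.hom.hom.Flat := by
    have : e.hom.hom = (e.commRingCatIsoToRingEquiv : R' ⊗[R] P →+* P') := rfl
    rw [this]
    exact RingHom.Flat.of_bijective e.commRingCatIsoToRingEquiv.bijective
  haveI := Groth.Agent.Helper6.HasLBC.hasLBaseChange e.hom.hom
  haveI := h1
  have h2 : QuasiIso ((bcCxF e.hom.hom).map ((bcCxF (algebraMap P (R' ⊗[R] P))).map π)) :=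
    Groth.Agent.Helper9.FBC1.quasiIso_bcCxF_map e.hom.hom hefl _
  exact quasiIso_bcCxF_comp _ _ ρ he π h2

variable [DRing.HasLBaseChange ρ]

include hpo in
/-- `LBaseChange (toD X) ≅ toD (P' ⊗_P X)` for a bounded above complex of `P`-modules which are
flat over `R`, `P` being flat over `R` and `P' = R' ⊗_R P` -/
theorem nonempty_lbcIso_torind (hq : q.Flat) (X : DRing.Cx P) (b : ℤ)
    (hv : DRing.VanishesAbove X b)
    (hf : DRing.TermwiseFlat ((Groth.Agent.Helper9.RingProj1.rCx q).obj X)) :
    Nonempty ((DRing.LBaseChange ρ).obj (DRing.toD X) ≅ DRing.toD ((bcCxF ρ).obj X)) := by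
  have hb : (DRing.toD X).IsLE b := by
    have := isStrictlyLE_of_vanishesAbove X b hv
    infer_instance
  obtain ⟨P₁, α, hPv, hPp, hα⟩ := exists_projective_resolution X b hb
  haveI hPk : P₁.IsKProjective := isKProjective_of_vanishesAbove P₁ b hPv hPp
  have hPf : DRing.TermwiseFlat ((Groth.Agent.Helper9.RingProj1.rCx q).obj P₁) :=
    fun i => by
      letI := q.toAlgebra
      haveI : Module.Flat R P := hq
      have := hPp i
      haveI : Module.Flat P (P₁.X i) := inferInstance
      exact Groth.Agent.Helper9.FlatPC2.flat_rF (R := R) (P₁.X i)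
  haveI := isIso_lbcNat_app_of_quasiIso ρ X P₁ α hα
    (quasiIso_bcCxF_map_torind r q q' ρ hpo α b b hPv hv hPf hf hα)
  exact ⟨asIso ((lbcNat ρ).app X)⟩

end Abstract

section Lift

variable {R₀ R₀' A A' C C' : Type u} [CommRing R₀] [CommRing R₀'] [CommRing A] [CommRing A']
  [CommRing C] [CommRing C']
  (r : R₀ →+* R₀') (q : R₀ →+* A) (q' : R₀' →+* A') (a : A →+* A')
  (f : A →+* C) (f' : A' →+* C') (c : C →+* C')
  (hpo1 : IsPushout (CommRingCat.ofHom q) (CommRingCat.ofHom r) (CommRingCat.ofHom a)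
    (CommRingCat.ofHom q'))
  (hpo2 : IsPushout (CommRingCat.ofHom f) (CommRingCat.ofHom a) (CommRingCat.ofHom c)
    (CommRingCat.ofHom f'))
  {n : ℕ} (α : MvPolynomial (Fin n) A →+* C) (hα : α.comp MvPolynomial.C = f)

include hpo1 in
/-- the pushout square `A'[x] = R₀' ⊗_{R₀} A[x]` -/
lemma isPushout_poly :
    IsPushout (CommRingCat.ofHom ((MvPolynomial.C : A →+* MvPolynomial (Fin n) A).comp q))
      (CommRingCat.ofHom r) (CommRingCat.ofHom (rho (n := n) a))
      (CommRingCat.ofHom ((MvPolynomial.C : A' →+* MvPolynomial (Fin n) A').comp q')) := by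
  letI := a.toAlgebra
  have h2 : IsPushout (CommRingCat.ofHom (MvPolynomial.C : A →+* MvPolynomial (Fin n) A))
      (CommRingCat.ofHom a) (CommRingCat.ofHom (rho (n := n) a))
      (CommRingCat.ofHom (MvPolynomial.C : A' →+* MvPolynomial (Fin n) A')) :=
    (Groth.Agent.Helper9.TenPC3.isPushout_mvPoly (R := A) (A := A') n).flip
  exact hpo1.paste_horiz h2

include hpo1 hpo2 hα in
/-- pseudo-coherence along the lifted presentation, tor-independent case -/
theorem pc_lift_torind (hq : q.Flat) (hfq : (f.comp q).Flat) (E : DRing.Cx C) (b : ℤ)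
    (hEv : DRing.VanishesAbove E b) (hEf : DRing.TermwiseFlat E) (m : ℤ)
    (h : DRing.IsPseudoCoherent (MvPolynomial (Fin n) A) m
      ((DRing.restrictD α).obj (DRing.toD E))) :
    DRing.IsPseudoCoherent (MvPolynomial (Fin n) A') m
      ((DRing.restrictD (alpha' f' c α)).obj (DRing.toD ((bcCxF c).obj E))) := by
  haveI := Groth.Agent.Helper6.HasLBC.hasLBaseChange (rho (n := n) a)
  have e1 : (DRing.restrictD α).obj (DRing.toD E) ≅ DRing.toD ((resCx α).obj E) :=
    (ModuleCat.restrictScalars.{u} α).mapDerivedCategoryFactors.app E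
  have h1 := isPseudoCoherent_of_iso e1 h
  have h2 := Groth.Agent.Helper6.LBCPC.isPseudoCoherent_LBaseChange (rho (n := n) a) _ m h1
  let qP : R₀ →+* MvPolynomial (Fin n) A := (MvPolynomial.C : A →+* MvPolynomial (Fin n) A).comp q
  have hqP : qP.Flat := by
    refine RingHom.Flat.comp hq ?_
    exact RingHom.flat_algebraMap_iff.mpr inferInstance
  have hv : DRing.VanishesAbove ((resCx α).obj E) b := fun i hi =>
    Functor.map_isZero (ModuleCat.restrictScalars.{u} α) (hEv i hi)
  have hf : DRing.TermwiseFlat ((Groth.Agent.Helper9.RingProj1.rCx qP).obj ((resCx α).obj E)) :=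
    fun i => by
      letI := (f.comp q).toAlgebra
      haveI : Module.Flat R₀ C := hfq
      haveI : Module.Flat C (E.X i) := hEf i
      haveI hfl0 : Module.Flat R₀ ↑((rF (algebraMap R₀ C)).obj (E.X i)) :=
        Groth.Agent.Helper9.FlatPC2.flat_rF (R := R₀) (E.X i)
      have hcomp : f.comp q = α.comp qP := by
        rw [← hα, RingHom.comp_assoc]
      let e : ↑((rF qP).obj ((rF α).obj (E.X i))) ≃ₗ[R₀] ↑((rF (algebraMap R₀ C)).obj (E.X i)) :=
        ((HomologicalComplex.eval _ _ i).mapIso
          (Groth.Agent.Helper9.SmTor4.rCxCompIso qP α (f.comp q) hcomp E)).toLinearEquiv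
      exact Module.Flat.of_linearEquiv e
  obtain ⟨e2⟩ := nonempty_lbcIso_torind r qP _ (rho (n := n) a) (isPushout_poly r q q' a hpo1)
    hqP ((resCx α).obj E) b hv hf
  have h3 := isPseudoCoherent_of_iso e2 h2
  exact isPseudoCoherent_of_iso (dIso a f f' c hpo2 α hα E).symm h3

end Lift

section BaseChange

variable {R₀ R₀' A A' C C' : Type u} [CommRing R₀] [CommRing R₀'] [CommRing A] [CommRing A']
  [CommRing C] [CommRing C']
  (r : R₀ →+* R₀') (q : R₀ →+* A) (q' : R₀' →+* A') (a : A →+* A')
  (f : A →+* C) (f' : A' →+* C') (c : C →+* C')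
  (hpo1 : IsPushout (CommRingCat.ofHom q) (CommRingCat.ofHom r) (CommRingCat.ofHom a)
    (CommRingCat.ofHom q'))
  (hpo2 : IsPushout (CommRingCat.ofHom f) (CommRingCat.ofHom a) (CommRingCat.ofHom c)
    (CommRingCat.ofHom f'))

include hpo1 hpo2 in
/-- **relative pseudo-coherence is preserved by tor-independent base change** (ring level):
`A` and `C` flat over `R₀`, `A' = R₀' ⊗_{R₀} A`, `C' = A' ⊗_A C` -/
theorem relPC_baseChange_torind (hq : q.Flat) (hfq : (f.comp q).Flat)
    [DRing.HasLBaseChange c] (K : Dual.D C) (m : ℤ) :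
    letI := f.toAlgebra
    letI := f'.toAlgebra
    DerCA.IsRelPseudoCoherent A C m K →
      DerCA.IsRelPseudoCoherent A' C' m ((DRing.LBaseChange c).obj K) := by
  letI := f.toAlgebra
  letI := f'.toAlgebra
  intro hK
  obtain ⟨b, hb⟩ := Groth.Agent.Helper9.RelTen1.exists_isLE_of_relPC m K hK
  haveI := hb
  obtain ⟨E, hEv, hEp, ⟨eK⟩⟩ := exists_projective_rep K b
  haveI : E.IsKProjective := isKProjective_of_vanishesAbove E b hEv hEp
  have hEf : DRing.TermwiseFlat E := fun i => haveI := hEp i; inferInstance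
  obtain ⟨n, α, hs, h⟩ := hK
  have hα : (α : MvPolynomial (Fin n) A →+* C).comp MvPolynomial.C = f := by
    ext r
    exact α.commutes r
  have e3 : (DRing.LBaseChange c).obj K ≅ DRing.toD ((bcCxF c).obj E) :=
    (DRing.LBaseChange c).mapIso eK.symm ≪≫ lbcIso c E
  refine relPC_of_iso e3.symm ?_
  refine ⟨n, alphaAlg' f' c (α : MvPolynomial (Fin n) A →+* C),
    alpha'_surjective a f f' c hpo2 _ hα hs, ?_⟩
  have h' : DRing.IsPseudoCoherent (MvPolynomial (Fin n) A) m
      ((DRing.restrictD (α : MvPolynomial (Fin n) A →+* C)).obj (DRing.toD E)) :=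
    isPseudoCoherent_of_iso ((DRing.restrictD _).mapIso eK.symm) h
  exact pc_lift_torind r q q' a f f' c hpo1 hpo2 _ hα hq hfq E b hEv hEf m h'

end BaseChange

end

end Groth.Agent.Helper9.TIPC1
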