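import Mathlib
import Groth.Prelude.Def_DualSh
import Groth.Prelude.Def_DerSch2
import Groth.Prelude.Def_DerCA
import Groth.Agent.Helper9.TIPC1
import Groth.Agent.Helper9.FBC5
import Groth.Agent.Helper9.FBC6
import Groth.Agent.Helper9.Chart6

/-! Tor-independent base change of relative pseudo-coherence, scheme level:
`f : X ⟶ Y`, `q : Y ⟶ S` with `Y` and `X` flat over `S`, `r : S' ⟶ S` arbitrary,
`Y' = Y ×_S S'`, `X' = X ×_Y Y'`. -/

set_option autoImplicit false
set_option linter.style.haveILetI false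
set_option linter.unusedVariables false
set_option linter.unusedSectionVars false
universe u

namespace Groth.Agent.Helper9.TIPC2

noncomputable section

open CategoryTheory CategoryTheory.Limits AlgebraicGeometry
open Groth.Agent.Helper9.FBC3 Groth.Agent.Helper6.LBCCompute
open Groth.Agent.Helper9.Lpull1

attribute [local instance] HasDerivedCategory.standard

variable {X Y S S' : Scheme.{u}} (f : X ⟶ Y) [LocallyOfFiniteType f] (q : Y ⟶ S) [Flat q]
  [Flat (f ≫ q)] (r : S' ⟶ S)

section Setup

variable [DCoh.HasLpull (pullback.fst f (pullback.fst q r))]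
  {U : X.Opens} (hU : IsAffineOpen U) {V : Y.Opens} (hV : IsAffineOpen V)
  {W : S.Opens} (hW : IsAffineOpen W) {W' : S'.Opens} (hW' : IsAffineOpen W')
  (hUV : U ≤ f ⁻¹ᵁ V) (hVW : V ≤ q ⁻¹ᵁ W) (hW'W : W' ≤ r ⁻¹ᵁ W)

include hU hV hW hW' hUV hVW hW'W in
/-- **tor-independent base change of a chart** -/
theorem chart_baseChange_torind (m : ℤ) (E : DCoh.D X) (hE : DCoh.IsQCohD E)
    (hc : ∃ (n : ℕ) (φ : MvPolynomial (Fin n) Γ(Y, V) →+* Γ(X, U)),
      DerSch.IsChart f U V hUV φ ∧ DerSch.ChartPC m E U V φ) :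
    ∃ (n : ℕ) (φ : MvPolynomial (Fin n) Γ(pullback q r, prodOpen q r V W') →+*
        Γ(pullback f (pullback.fst q r), prodOpen f (pullback.fst q r) U (prodOpen q r V W'))),
      DerSch.IsChart (pullback.snd f (pullback.fst q r))
        (prodOpen f (pullback.fst q r) U (prodOpen q r V W')) (prodOpen q r V W')
        (prodOpen_le_snd f (pullback.fst q r)) φ ∧
        DerSch.ChartPC m ((DCoh.Lpull (pullback.fst f (pullback.fst q r))).obj E)
          (prodOpen f (pullback.fst q r) U (prodOpen q r V W')) (prodOpen q r V W') φ := by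
  have hV' : IsAffineOpen (prodOpen q r V W') := isAffineOpen_prodOpen q r hV hW hW' hVW hW'W
  have hV'V : prodOpen q r V W' ≤ (pullback.fst q r) ⁻¹ᵁ V := prodOpen_le_fst q r
  have hU' : IsAffineOpen (prodOpen f (pullback.fst q r) U (prodOpen q r V W')) :=
    isAffineOpen_prodOpen f (pullback.fst q r) hU hV hV' hUV hV'V
  haveI : PreservesFiniteLimits (tilde.functor Γ(X, U)) :=
    Groth.Agent.Helper4.TildeExact.preservesFiniteLimits_tilde _
  haveI : PreservesFiniteLimits (tilde.functor
      Γ(pullback f (pullback.fst q r), prodOpen f (pullback.fst q r) U (prodOpen q r V W'))) :=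
    Groth.Agent.Helper4.TildeExact.preservesFiniteLimits_tilde _
  have hEU : DCoh.IsQCohD ((DCoh.restrictD hU.fromSpec).obj E) :=
    QP7.isQCohD_restrictD _ E hE
  obtain ⟨M, ⟨eM⟩⟩ := QcLpull1.exists_iso_tildeD Γ(X, U) _ hEU
  let c := (pullback.fst f (pullback.fst q r)).appLE U
    (prodOpen f (pullback.fst q r) U (prodOpen q r V W')) (prodOpen_le_fst f (pullback.fst q r))
  haveI := Groth.Agent.Helper6.HasLBC.hasLBaseChange c.hom
  obtain ⟨e1⟩ := FBC4.nonempty_tildeD_lbc_iso (pullback.fst f (pullback.fst q r)) hU hU'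
    (prodOpen_le_fst f (pullback.fst q r)) E M eM
  rw [Chart18.exists_chart_iff_ring' (pullback.snd f (pullback.fst q r)) hU' hV'
    (prodOpen_le_snd f (pullback.fst q r)) m _ ((DRing.LBaseChange c.hom).obj M) e1]
  rw [Chart18.exists_chart_iff_ring' f hU hV hUV m E M eM] at hc
  have hqfl : (q.appLE W V hVW).hom.Flat :=
    HasRingHomProperty.appLE (P := @Flat) q inferInstance ⟨W, hW⟩ ⟨V, hV⟩ hVW
  have hUW : U ≤ (f ≫ q) ⁻¹ᵁ W := fun x hx => hVW (hUV hx)
  have hfqfl : ((f.appLE V U hUV).hom.comp (q.appLE W V hVW).hom).Flat := by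
    have h1 : ((f ≫ q).appLE W U hUW).hom.Flat :=
      HasRingHomProperty.appLE (P := @Flat) (f ≫ q) inferInstance ⟨W, hW⟩ ⟨U, hU⟩ hUW
    have h2 : ((f ≫ q).appLE W U hUW).hom =
        (f.appLE V U hUV).hom.comp (q.appLE W V hVW).hom := by
      rw [← CommRingCat.hom_comp, Scheme.Hom.appLE_comp_appLE]
    rw [← h2]
    exact h1
  exact Groth.Agent.Helper9.TIPC1.relPC_baseChange_torind (r.appLE W W' hW'W).hom
    (q.appLE W V hVW).hom
    ((pullback.snd q r).appLE W' (prodOpen q r V W') (prodOpen_le_snd q r)).hom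
    ((pullback.fst q r).appLE V (prodOpen q r V W') hV'V).hom
    (f.appLE V U hUV).hom
    ((pullback.snd f (pullback.fst q r)).appLE (prodOpen q r V W')
      (prodOpen f (pullback.fst q r) U (prodOpen q r V W'))
      (prodOpen_le_snd f (pullback.fst q r))).hom
    c.hom
    (isPushout_sections q r hV hW hW' hVW hW'W hV')
    (isPushout_sections f (pullback.fst q r) hU hV hV' hUV hV'V hU') hqfl hfqfl M m hc

end Setup

/-- **relative pseudo-coherence is preserved by tor-independent base change**: `Y` and `X`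
flat over `S`, base change along `Y ×_S S' ⟶ Y` -/
theorem rel_baseChange_torind [DCoh.HasLpull (pullback.fst f (pullback.fst q r))] (m : ℤ)
    (E : DCoh.D X) (hE : DCoh.IsQCohD E) (hrel : DerSch.IsPseudoCoherentRel f m E) :
    DerSch.IsPseudoCoherentRel (pullback.snd f (pullback.fst q r)) m
      ((DCoh.Lpull (pullback.fst f (pullback.fst q r))).obj E) := by
  rw [Chart6.rel_iff f] at hrel
  refine ⟨inferInstance,
    {V' | ∃ (V : Y.affineOpens) (W : S.affineOpens) (W' : S'.affineOpens),
      (V : Y.Opens) ≤ q ⁻¹ᵁ (W : S.Opens) ∧ (W' : S'.Opens) ≤ r ⁻¹ᵁ (W : S.Opens) ∧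
      (V' : (pullback q r).Opens) = prodOpen q r (V : Y.Opens) (W' : S'.Opens)}, ?_, ?_⟩
  · rw [eq_top_iff]
    intro y' _
    have hcond : q.base ((pullback.fst q r).base y') = r.base ((pullback.snd q r).base y') := by
      have := congrArg (fun t => t.base y') (pullback.condition (f := q) (g := r))
      simpa using this
    obtain ⟨_, ⟨W, hW, rfl⟩, hyW, -⟩ :=
      (S.isBasis_affineOpens).exists_subset_of_mem_open
        (Set.mem_univ (q.base ((pullback.fst q r).base y'))) isOpen_univ
    obtain ⟨_, ⟨V, hV, rfl⟩, hyV, hVW⟩ :=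
      (Y.isBasis_affineOpens).exists_subset_of_mem_open
        (show (pullback.fst q r).base y' ∈ (q ⁻¹ᵁ W : Set Y) from hyW) (q ⁻¹ᵁ W).2
    obtain ⟨_, ⟨W', hW', rfl⟩, hyW', hW'W⟩ :=
      (S'.isBasis_affineOpens).exists_subset_of_mem_open
        (show (pullback.snd q r).base y' ∈ (r ⁻¹ᵁ W : Set S') from by
          show r.base ((pullback.snd q r).base y') ∈ W
          rw [← hcond]
          exact hyW) (r ⁻¹ᵁ W).2
    simp only [TopologicalSpace.Opens.mem_iSup]
    exact ⟨⟨prodOpen q r V W', isAffineOpen_prodOpen q r hV hW hW' hVW hW'W⟩,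
      ⟨⟨V, hV⟩, ⟨W, hW⟩, ⟨W', hW'⟩, hVW, hW'W, rfl⟩, ⟨hyV, hyW'⟩⟩
  · rintro ⟨V', hV'aff⟩ ⟨V, W, W', hVW, hW'W, hV'⟩
    change V' = prodOpen q r (V : Y.Opens) (W' : S'.Opens) at hV'
    subst hV'
    refine ⟨{U' | ∃ U : X.affineOpens, (U : X.Opens) ≤ f ⁻¹ᵁ (V : Y.Opens) ∧
        (U' : (pullback f (pullback.fst q r)).Opens) =
          prodOpen f (pullback.fst q r) (U : X.Opens)
            (prodOpen q r (V : Y.Opens) (W' : S'.Opens))}, ?_, ?_⟩
    · apply le_antisymm
      · refine iSup₂_le ?_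
        rintro U' ⟨U, hUV, hU'⟩
        rw [hU']
        exact prodOpen_le_snd f (pullback.fst q r)
      · intro x' hx'
        have hx'V' : (pullback.snd f (pullback.fst q r)).base x' ∈
            prodOpen q r (V : Y.Opens) (W' : S'.Opens) := hx'
        have hfx : f.base ((pullback.fst f (pullback.fst q r)).base x') ∈ (V : Y.Opens) := by
          have hcond : f.base ((pullback.fst f (pullback.fst q r)).base x') =
              (pullback.fst q r).base ((pullback.snd f (pullback.fst q r)).base x') := by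
            have := congrArg (fun t => t.base x')
              (pullback.condition (f := f) (g := pullback.fst q r))
            simpa using this
          rw [hcond]
          exact (prodOpen_le_fst q r) hx'V'
        obtain ⟨_, ⟨U, hU, rfl⟩, hxU, hUV⟩ :=
          (X.isBasis_affineOpens).exists_subset_of_mem_open
            (show (pullback.fst f (pullback.fst q r)).base x' ∈
              (f ⁻¹ᵁ (V : Y.Opens) : Set X) from hfx)
            (f ⁻¹ᵁ (V : Y.Opens)).2
        simp only [TopologicalSpace.Opens.mem_iSup]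
        exact ⟨⟨prodOpen f (pullback.fst q r) U (prodOpen q r (V : Y.Opens) (W' : S'.Opens)),
            isAffineOpen_prodOpen f (pullback.fst q r) hU V.2 hV'aff hUV (prodOpen_le_fst q r)⟩,
          ⟨⟨U, hU⟩, hUV, rfl⟩, ⟨hxU, hx'V'⟩⟩
    · rintro ⟨U', hU'aff⟩ ⟨U, hUV, hU'⟩ hle
      change U' = prodOpen f (pullback.fst q r) (U : X.Opens)
        (prodOpen q r (V : Y.Opens) (W' : S'.Opens)) at hU'
      subst hU'
      exact chart_baseChange_torind f q r U.2 V.2 W.2 W'.2 hUV hVW hW'W m E hE (hrel U V hUV)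

end

end Groth.Agent.Helper9.TIPC2
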