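import Mathlib
import Groth.Prelude.Def_DualSh
import Groth.Prelude.Def_DerSch2
import Groth.Prelude.Def_DerCA
import Groth.Agent.Helper9.TIPC2
import Groth.Agent.Helper9.PcPull1
import Groth.Agent.Helper9.Chart17
import Groth.Agent.Helper9.Chart10
import Groth.Agent.Helper9.Chart12
import Groth.Agent.Helper9.QcLpull1

/-! Base change of relative pseudo-coherence along arbitrary cartesian squares: the flat case and
the tor-independent case. -/

set_option autoImplicit false
set_option linter.style.haveILetI false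
set_option linter.unusedVariables false
set_option linter.unusedSectionVars false
universe u

namespace Groth.Agent.Helper9.TIPC3

open CategoryTheory CategoryTheory.Limits AlgebraicGeometry
open Groth.Agent.Helper9.Lpull1 Groth.Agent.Helper9.Lpull3

attribute [local instance] HasDerivedCategory.standard

/-- a flat morphism locally of finite presentation is pseudo-coherent -/
theorem isNPseudoCoherent_of_flat_lfp {X Y : Scheme.{u}} (c : X ⟶ Y) [Flat c]
    [LocallyOfFinitePresentation c] (n : ℤ) : DerSch.IsNPseudoCoherent c n :=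
  ((Groth.Agent.Helper9.Chart17.perfDim_zero_iff c).2 ⟨inferInstance, inferInstance⟩).1 n

variable {X Y Y' X' : Scheme.{u}} {f : X ⟶ Y} {h : Y' ⟶ Y} {g : X' ⟶ X} {f' : X' ⟶ Y'}

/-- transport of the base change statement to an arbitrary cartesian square -/
theorem of_isPullback [LocallyOfFiniteType f] (sq : IsPullback g f' f h) [DCoh.HasLpull g]
    (m : ℤ) (E : DCoh.D X) (hE : DCoh.IsQCohD E)
    (H : ∀ [DCoh.HasLpull (pullback.fst f h)],
      DerSch.IsPseudoCoherentRel (pullback.snd f h) m ((DCoh.Lpull (pullback.fst f h)).obj E)) :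
    DerSch.IsPseudoCoherentRel f' m ((DCoh.Lpull g).obj E) := by
  let c : X' ≅ pullback f h := sq.isoPullback
  have hc1 : c.hom ≫ pullback.fst f h = g := sq.isoPullback_hom_fst
  have hc2 : c.hom ≫ pullback.snd f h = f' := sq.isoPullback_hom_snd
  haveI : DCoh.HasLpull (pullback.fst f h) := hasLpull _
  haveI : DCoh.HasLpull c.hom := hasLpull _
  haveI : DCoh.HasLpull (c.hom ≫ pullback.fst f h) := hasLpull _
  have hq : DCoh.IsQCohD ((DCoh.Lpull (pullback.fst f h)).obj E) :=
    Groth.Agent.Helper9.QcLpull1.isQCohD_lpull _ E hE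
  have h1 := Groth.Agent.Helper9.PcPull1.rel_lpull c.hom (pullback.snd f h)
    (fun n => isNPseudoCoherent_of_flat_lfp c.hom n) m _ hq H
  rw [hc2] at h1
  let e2 := (lpullComp c.hom (pullback.fst f h)).app E
  obtain ⟨e3⟩ := Groth.Agent.Helper9.QcLpull1.lpullCongr hc1 E
  haveI : LocallyOfFiniteType f' := h1.1
  exact Groth.Agent.Helper9.Chart12.rel_of_iso f' (e2 ≪≫ e3) m h1

/-- **flat base change of relative pseudo-coherence**, arbitrary cartesian square -/
theorem flat_of_isPullback [LocallyOfFiniteType f] (sq : IsPullback g f' f h) [Flat h]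
    [DCoh.HasLpull g] (m : ℤ) (E : DCoh.D X) (hE : DCoh.IsQCohD E)
    (hrel : DerSch.IsPseudoCoherentRel f m E) :
    DerSch.IsPseudoCoherentRel f' m ((DCoh.Lpull g).obj E) :=
  of_isPullback sq m E hE (Groth.Agent.Helper9.FBC6.rel_baseChange f h m E hE hrel)

/-- **tor-independent base change of relative pseudo-coherence**, arbitrary cartesian squares -/
theorem torind_of_isPullback {S S' : Scheme.{u}} [LocallyOfFiniteType f] (q : Y ⟶ S) [Flat q]
    [Flat (f ≫ q)] (r : S' ⟶ S) (q' : Y' ⟶ S') (sqY : IsPullback h q' q r)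
    (sq : IsPullback g f' f h) [DCoh.HasLpull g] (m : ℤ) (E : DCoh.D X) (hE : DCoh.IsQCohD E)
    (hrel : DerSch.IsPseudoCoherentRel f m E) :
    DerSch.IsPseudoCoherentRel f' m ((DCoh.Lpull g).obj E) := by
  let d : Y' ≅ pullback q r := sqY.isoPullback
  have hd1 : d.hom ≫ pullback.fst q r = h := sqY.isoPullback_hom_fst
  have sq' : IsPullback g (f' ≫ d.hom) f (pullback.fst q r) :=
    IsPullback.of_iso sq (Iso.refl _) (Iso.refl _) d (Iso.refl _) (by simp) (by simp) (by simp)
      (by simp [hd1])
  haveI : LocallyOfFiniteType f' :=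
    MorphismProperty.of_isPullback (P := @LocallyOfFiniteType) sq inferInstance
  have h1 : DerSch.IsPseudoCoherentRel (f' ≫ d.hom) m ((DCoh.Lpull g).obj E) :=
    of_isPullback sq' m E hE
      (Groth.Agent.Helper9.TIPC2.rel_baseChange_torind f q r m E hE hrel)
  exact (Groth.Agent.Helper9.Chart10.rel_comp_flat_iff f' d.hom m _).1 h1

end Groth.Agent.Helper9.TIPC3
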