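import Mathlib
import Groth.Prelude.Def_DualSh
import Groth.Prelude.Def_DerSch2
import Groth.Agent.Helper9.RelTen2
import Groth.Agent.Helper9.BCT8
import Groth.Agent.Helper9.TIPC3
import Groth.Agent.Helper9.FBC6

/-! Right t-exactness of `Lf^*` on `D_QCoh`, and the precise external tensor product statement. -/

set_option autoImplicit false
set_option linter.style.haveILetI false
set_option linter.unusedVariables false
set_option linter.unusedSectionVars false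
universe u

namespace Groth.Agent.Helper9.RelTen3

open CategoryTheory CategoryTheory.Limits AlgebraicGeometry HomologicalComplex Pretriangulated
  MonoidalCategory
open Groth.Agent.Lead.PcLib Scheme.Modules Groth.Agent.Helper3.DRingLib
  Groth.Agent.Helper6.LBCCompute Groth.Agent.Lead.PerfLib DerivedCategory
  Groth.Agent.Helper9.RelTen2

attribute [local instance] HasDerivedCategory.standard

variable {X Y : Scheme.{u}}

/-- **`Lf^*` is right t-exact on `D_QCoh`** -/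
theorem isLE_lpull (f : X ⟶ Y) [DCoh.HasLpull f] (G : DCoh.D Y) (hqG : DCoh.IsQCohD G) (b : ℤ)
    [G.IsLE b] : ((DCoh.Lpull f).obj G).IsLE b := by
  apply isLE_of_locally
  intro x
  obtain ⟨_, ⟨V, hV, rfl⟩, hxV, -⟩ :=
    (Y.isBasis_affineOpens).exists_subset_of_mem_open (Set.mem_univ (f.base x)) isOpen_univ
  obtain ⟨_, ⟨U, hU, rfl⟩, hxU, hUV⟩ :=
    (X.isBasis_affineOpens).exists_subset_of_mem_open
      (show x ∈ (f ⁻¹ᵁ V : Set X) from hxV) (f ⁻¹ᵁ V).2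
  have hUa : IsAffineOpen U := hU
  have hVa : IsAffineOpen V := hV
  haveI : PreservesFiniteLimits (tilde.functor Γ(X, U)) :=
    Groth.Agent.Helper4.TildeExact.preservesFiniteLimits_tilde _
  haveI : PreservesFiniteLimits (tilde.functor Γ(Y, V)) :=
    Groth.Agent.Helper4.TildeExact.preservesFiniteLimits_tilde _
  refine ⟨_, hUa.fromSpec, inferInstance, ?_, ?_⟩
  · rw [hUa.range_fromSpec]
    exact hxU
  obtain ⟨NG, ⟨eNG⟩⟩ := Groth.Agent.Helper9.QcLpull1.exists_iso_tildeD Γ(Y, V)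
    ((DCoh.restrictD hVa.fromSpec).obj G)
    (Groth.Agent.Helper9.QP7.isQCohD_restrictD hVa.fromSpec G hqG)
  haveI := Groth.Agent.Helper6.HasLBC.hasLBaseChange (f.appLE V U hUV).hom
  haveI hNGle : NG.IsLE b := by
    haveI : ((DCoh.restrictD hVa.fromSpec).obj G).IsLE b :=
      Groth.Agent.Helper9.Van1.isLE_restrictD _ G b
    haveI : ((DCoh.tildeD Γ(Y, V)).obj NG).IsLE b :=
      TStructure.t.isLE_of_iso eNG.symm b
    exact isLE_of_isLE_tildeD Γ(Y, V) NG b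
  obtain ⟨PF, hPFv, hPFp, ⟨ePF⟩⟩ := exists_projective_rep NG b
  haveI : ∀ i, Projective (PF.X i) := fun i => (IsProjective.iff_projective _).mp (hPFp i)
  haveI : PF.IsStrictlyLE b := isStrictlyLE_of_vanishesAbove _ _ hPFv
  haveI : PF.IsKProjective := CochainComplex.isKProjective_of_projective PF b
  let L₀ : DRing.Cx Γ(X, U) := (bcCxF (f.appLE V U hUV).hom).obj PF
  have hL₀v : DRing.VanishesAbove L₀ b := fun i hi =>
    Functor.map_isZero (ModuleCat.extendScalars.{u, u, u} (f.appLE V U hUV).hom) (hPFv i hi)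
  obtain ⟨eM⟩ := Groth.Agent.Helper9.FBC4.nonempty_tildeD_lbc_iso f hVa hUa hUV G NG eNG
  have eL : (DCoh.tildeD Γ(X, U)).obj (DRing.toD L₀) ≅
      (DCoh.restrictD hUa.fromSpec).obj ((DCoh.Lpull f).obj G) :=
    (DCoh.tildeD Γ(X, U)).mapIso
      ((lbcIso (f.appLE V U hUV).hom PF).symm ≪≫
        (DRing.LBaseChange _).mapIso ePF) ≪≫ eM
  haveI : L₀.IsStrictlyLE b := isStrictlyLE_of_vanishesAbove _ _ hL₀v
  haveI : (DRing.toD L₀).IsLE b := inferInstanceAs ((DerivedCategory.Q.obj L₀).IsLE b)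
  haveI := isLE_tildeD Γ(X, U) (DRing.toD L₀) b
  exact TStructure.t.isLE_of_iso eL b

variable {S X₁ Y₁ X₂ Y₂ : Scheme.{u}}

/-- **the precise external tensor product statement** -/
theorem externalTensor (f₁ : X₁ ⟶ Y₁) (q₁ : Y₁ ⟶ S)
    (f₂ : X₂ ⟶ Y₂) (q₂ : Y₂ ⟶ S) [Flat q₂] [Flat (f₂ ≫ q₂)]
    (pX₁ : X ⟶ X₁) (pX₂ : X ⟶ X₂) (hX : IsPullback pX₁ pX₂ (f₁ ≫ q₁) (f₂ ≫ q₂))
    (pY₁ : Y ⟶ Y₁) (pY₂ : Y ⟶ Y₂) (hY : IsPullback pY₁ pY₂ q₁ q₂)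
    (f : X ⟶ Y) (hf₁ : f ≫ pY₁ = pX₁ ≫ f₁) (hf₂ : f ≫ pY₂ = pX₂ ≫ f₂)
    [LocallyOfFiniteType f₁] [LocallyOfFiniteType f₂]
    (E₁ : DCoh.D X₁) (a₁ b₁ : ℤ)
    (hq₁ : DCoh.IsQCohD E₁) (hpc₁ : DerSch.IsPseudoCoherentRel f₁ a₁ E₁)
    [E₁.IsLE b₁]
    (E₂ : DCoh.D X₂) (a₂ b₂ : ℤ)
    (hq₂ : DCoh.IsQCohD E₂) (hpc₂ : DerSch.IsPseudoCoherentRel f₂ a₂ E₂)
    [E₂.IsLE b₂] [DCoh.HasLpull pX₁] [DCoh.HasLpull pX₂]
    (K₂ : CochainComplex X.Modules ℤ) [DCoh.HasLTensorCx K₂]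
    (eK : DCoh.toD X K₂ ≅ (DCoh.Lpull pX₂).obj E₂) :
    DerSch.IsPseudoCoherentRel f (max (a₁ + b₂) (a₂ + b₁))
        ((DCoh.LTensorCx K₂).obj ((DCoh.Lpull pX₁).obj E₁)) ∧
      ((DCoh.LTensorCx K₂).obj ((DCoh.Lpull pX₁).obj E₁)).IsLE (b₁ + b₂) := by
  haveI : Flat pY₁ := Groth.Agent.Helper9.BCT8.flat_pY₁ q₁ q₂ pY₁ pY₂ hY
  haveI : DCoh.HasLpull (pullback.fst f₁ pY₁) := Groth.Agent.Helper9.Lpull1.hasLpull _
  haveI : DCoh.HasLpull (Groth.Agent.Helper9.BCT8.u f₁ pX₁ pY₁ f hf₁) :=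
    Groth.Agent.Helper9.Lpull1.hasLpull _
  haveI : DCoh.HasLpull (Groth.Agent.Helper9.BCT8.u f₁ pX₁ pY₁ f hf₁ ≫ pullback.fst f₁ pY₁) :=
    Groth.Agent.Helper9.Lpull1.hasLpull _
  have sqU := Groth.Agent.Helper9.BCT8.sqU f₁ q₁ f₂ q₂ pX₁ pX₂ hX pY₁ pY₂ hY f hf₁ hf₂
  have hu0 : DerSch.IsPseudoCoherentRel (Groth.Agent.Helper9.BCT8.u f₁ pX₁ pY₁ f hf₁) a₂
      ((DCoh.Lpull pX₂).obj E₂) :=
    Groth.Agent.Helper9.TIPC3.torind_of_isPullback q₂ (f₁ ≫ q₁) (pullback.fst f₁ pY₁)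
      (Groth.Agent.Helper9.BCT8.sqY' f₁ q₁ q₂ pY₁ pY₂ hY) sqU a₂ _ hq₂ hpc₂
  haveI : LocallyOfFiniteType (Groth.Agent.Helper9.BCT8.u f₁ pX₁ pY₁ f hf₁) := hu0.1
  have hK₂ : DerSch.IsPseudoCoherentRel (Groth.Agent.Helper9.BCT8.u f₁ pX₁ pY₁ f hf₁) a₂
      (DCoh.toD X K₂) :=
    Groth.Agent.Helper9.Chart12.rel_of_iso _ eK.symm a₂ hu0
  have hqK₂ : DCoh.IsQCohD (DCoh.toD X K₂) :=
    Groth.Agent.Helper9.QcLpull1.isQCohD_of_iso eK.symm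
      (Groth.Agent.Helper9.QcLpull1.isQCohD_lpull pX₂ E₂ hq₂)
  haveI : (DCoh.toD X K₂).IsLE b₂ := by
    haveI := isLE_lpull pX₂ E₂ hq₂ b₂
    exact TStructure.t.isLE_of_iso eK.symm b₂
  have hG : DerSch.IsPseudoCoherentRel (pullback.snd f₁ pY₁) a₁
      ((DCoh.Lpull (pullback.fst f₁ pY₁)).obj E₁) :=
    Groth.Agent.Helper9.FBC6.rel_baseChange f₁ pY₁ a₁ _ hq₁ hpc₁
  have hqG : DCoh.IsQCohD ((DCoh.Lpull (pullback.fst f₁ pY₁)).obj E₁) :=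
    Groth.Agent.Helper9.QcLpull1.isQCohD_lpull _ E₁ hq₁
  haveI : ((DCoh.Lpull (pullback.fst f₁ pY₁)).obj E₁).IsLE b₁ :=
    isLE_lpull (pullback.fst f₁ pY₁) E₁ hq₁ b₁
  have h3 := Groth.Agent.Helper9.RelTen2.rel_ltensor_lpull_at
    (Groth.Agent.Helper9.BCT8.u f₁ pX₁ pY₁ f hf₁) (pullback.snd f₁ pY₁) K₂ hqK₂ a₂ b₂ hK₂ _ hqG
    a₁ b₁ hG (max (a₁ + b₂) (a₂ + b₁)) (le_max_left _ _) (le_max_right _ _)
  have h4 := Groth.Agent.Helper9.RelTen2.isLE_ltensor_lpull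
    (Groth.Agent.Helper9.BCT8.u f₁ pX₁ pY₁ f hf₁) K₂ hqK₂ b₂
    ((DCoh.Lpull (pullback.fst f₁ pY₁)).obj E₁) hqG b₁
  have huv : Groth.Agent.Helper9.BCT8.u f₁ pX₁ pY₁ f hf₁ ≫ pullback.snd f₁ pY₁ = f :=
    pullback.lift_snd _ _ _
  have huw : Groth.Agent.Helper9.BCT8.u f₁ pX₁ pY₁ f hf₁ ≫ pullback.fst f₁ pY₁ = pX₁ :=
    pullback.lift_fst _ _ _
  rw [huv] at h3
  obtain ⟨e3⟩ := Groth.Agent.Helper9.QcLpull1.lpullCongr huw E₁
  have i1 : (DCoh.Lpull (Groth.Agent.Helper9.BCT8.u f₁ pX₁ pY₁ f hf₁)).obj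
      ((DCoh.Lpull (pullback.fst f₁ pY₁)).obj E₁) ≅
      (DCoh.Lpull pX₁).obj E₁ :=
    (Groth.Agent.Helper9.Lpull3.lpullComp (Groth.Agent.Helper9.BCT8.u f₁ pX₁ pY₁ f hf₁)
      (pullback.fst f₁ pY₁)).app E₁ ≪≫ e3
  haveI : LocallyOfFiniteType f := h3.1
  refine ⟨Groth.Agent.Helper9.Chart12.rel_of_iso f ((DCoh.LTensorCx K₂).mapIso i1) _ h3, ?_⟩
  haveI := h4
  exact TStructure.t.isLE_of_iso ((DCoh.LTensorCx K₂).mapIso i1) (b₁ + b₂)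

end Groth.Agent.Helper9.RelTen3
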