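import Mathlib

/-! Replete topos: sites with enough weakly contractible objects (S14018). -/

set_option autoImplicit false
universe w v u

open CategoryTheory CategoryTheory.Limits Opposite

namespace Groth.Agent.Helper9.Replete

variable {C : Type u} [Category.{v} C] (J : GrothendieckTopology C)

/-- sections over `U` of sheaves of sets -/
abbrev Γ (U : C) : Sheaf J (Type w) ⥤ Type w :=
  sheafToPresheaf J (Type w) ⋙ (evaluation Cᵒᵖ (Type w)).obj (op U)

variable {J} (F : ℕᵒᵖ ⥤ Sheaf J (Type w)) (U : C)

/-- transition map on sections -/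
abbrev tr {a b : ℕ} (h : b ≤ a) : (F.obj (op a)).obj.obj (op U) → (F.obj (op b)).obj.obj (op U) :=
  (F.map (homOfLE h).op).hom.app (op U)

lemma tr_tr {a b c : ℕ} (h : b ≤ a) (h' : c ≤ b) (x : (F.obj (op a)).obj.obj (op U)) :
    tr F U h' (tr F U h x) = tr F U (h'.trans h) x := by
  have : (homOfLE (h'.trans h)).op = (homOfLE h).op ≫ (homOfLE h').op := rfl
  unfold tr
  rw [this, F.map_comp]
  rfl

lemma tr_refl {a : ℕ} (x : (F.obj (op a)).obj.obj (op U)) : tr F U (le_refl a) x = x := by
  have : (homOfLE (le_refl a)).op = 𝟙 (op a) := rfl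
  unfold tr
  rw [this, F.map_id]
  rfl

variable (hsurj : ∀ m : ℕ, Function.Surjective (tr F U (Nat.le_succ m)))

/-- a compatible sequence through a given section at level `n` -/
noncomputable def seq (n : ℕ) (s : (F.obj (op n)).obj.obj (op U)) :
    ∀ m : ℕ, (F.obj (op m)).obj.obj (op U)
  | 0 => tr F U (Nat.zero_le n) s
  | m + 1 => if h : m + 1 ≤ n then tr F U h s else (hsurj m (seq n s m)).choose

lemma seq_succ (n : ℕ) (s : (F.obj (op n)).obj.obj (op U)) (m : ℕ) :
    tr F U (Nat.le_succ m) (seq F U hsurj n s (m + 1)) = seq F U hsurj n s m := by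
  by_cases h : m + 1 ≤ n
  · have h1 : seq F U hsurj n s (m + 1) = tr F U h s := by
      simp only [seq, dif_pos h]
    rw [h1, tr_tr]
    cases m with
    | zero => rfl
    | succ k =>
      have h2 : k + 1 ≤ n := (Nat.le_succ _).trans h
      simp only [seq, dif_pos h2]
  · have h1 : seq F U hsurj n s (m + 1) = (hsurj m (seq F U hsurj n s m)).choose := by
      simp only [seq, dif_neg h]
    rw [h1]
    exact (hsurj m (seq F U hsurj n s m)).choose_spec

lemma seq_self (n : ℕ) (s : (F.obj (op n)).obj.obj (op U)) : seq F U hsurj n s n = s := by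
  cases n with
  | zero => exact tr_refl F U s
  | succ k =>
    simp only [seq, dif_pos (le_refl (k + 1))]
    exact tr_refl F U s

lemma seq_add (n : ℕ) (s : (F.obj (op n)).obj.obj (op U)) (m k : ℕ) :
    tr F U (Nat.le_add_right m k) (seq F U hsurj n s (m + k)) = seq F U hsurj n s m := by
  induction k with
  | zero => exact tr_refl F U _
  | succ k ih =>
    have := tr_tr F U (Nat.le_succ (m + k)) (Nat.le_add_right m k) (seq F U hsurj n s (m + k + 1))
    rw [seq_succ] at this
    rw [← ih, this]
    rfl

include hsurj in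
/-- lifting sections over `U` to the limit -/
theorem exists_lift (c : Cone F) (hc : IsLimit c) (n : ℕ) (s : (F.obj (op n)).obj.obj (op U)) :
    ∃ t : c.pt.obj.obj (op U), (c.π.app (op n)).hom.app (op U) t = s := by
  have hlim : IsLimit ((Γ J U).mapCone c) := isLimitOfPreserves (Γ J U) hc
  let e := Types.isLimitEquivSections hlim
  have hcompat : (fun j : ℕᵒᵖ => seq F U hsurj n s j.unop) ∈ (F ⋙ Γ J U).sections := by
    intro j j' f
    obtain ⟨a⟩ := j
    obtain ⟨b⟩ := j'
    have hba : b ≤ a := leOfHom f.unop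
    obtain ⟨k, rfl⟩ := Nat.exists_eq_add_of_le hba
    have hf : f = (homOfLE (Nat.le_add_right b k)).op := Subsingleton.elim _ _
    subst hf
    exact seq_add F U hsurj n s b k
  refine ⟨e.symm ⟨_, hcompat⟩, ?_⟩
  have := Types.isLimitEquivSections_symm_apply hlim ⟨_, hcompat⟩ (op n)
  refine this.trans ?_
  exact seq_self F U hsurj n s

end Groth.Agent.Helper9.Replete
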