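import Groth.Agent.Helper9.LRint
set_option autoImplicit false

namespace Groth.Agent.Helper9

open TensorProduct

universe u v w w'

section

variable {k : Type u} [Field k] {A : Type v} [CommRing A] [Bialgebra k A]
variable {V : Type w} [AddCommGroup V] [Module k V] [HopfRep.Comod k A V]
variable {W : Type w'} [AddCommGroup W] [Module k W] [HopfRep.Comod k A W]

theorem mem_fixedPts_iff_act (x : V) :
    x ∈ HopfRep.fixedPts k A V ↔ ∀ φ : A →ₗ[k] k, act k A V φ x = φ 1 • x := by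
  constructor
  · intro hx φ
    have h : HopfRep.Comod.coact (k := k) (A := A) x = x ⊗ₜ[k] (1 : A) := hx
    rw [act_apply, h]
    simp
  · intro h
    show HopfRep.Comod.coact (k := k) (A := A) x = x ⊗ₜ[k] (1 : A)
    rw [← sub_eq_zero]
    apply eq_zero_of_forall_functional
    intro φ
    rw [map_sub, map_sub, sub_eq_zero]
    have := h φ
    rw [act_apply] at this
    rw [this]
    simp

theorem isSubcomod_inf {U₁ U₂ : Submodule k V} (h₁ : HopfRep.IsSubcomod (k := k) (A := A) U₁)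
    (h₂ : HopfRep.IsSubcomod (k := k) (A := A) U₂) :
    HopfRep.IsSubcomod (k := k) (A := A) (U₁ ⊓ U₂) := by
  rw [isSubcomod_iff_act] at h₁ h₂ ⊢
  intro φ w hw
  exact ⟨h₁ φ w hw.1, h₂ φ w hw.2⟩

theorem map_mem_fixedPts {u : V →ₗ[k] W} (hu : Hoch.IsComodHom A u) {x : V}
    (hx : x ∈ HopfRep.fixedPts k A V) : u x ∈ HopfRep.fixedPts k A W := by
  rw [mem_fixedPts_iff_act] at hx ⊢
  intro φ
  rw [← act_of_isComodHom hu, hx φ, map_smul]

/-- a comodule map into the invariants kills the kernel of a Reynolds operator, provided `V` is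
semisimple -/
theorem reynolds_kills (hss : HopfRep.IsSemisimpleComod k A V)
    (E : V →ₗ[k] V) (hE₁ : Hoch.IsComodHom A E)
    (hE₃ : ∀ x : V, x ∈ HopfRep.fixedPts k A V → E x = x)
    (g : V →ₗ[k] W) (hg : Hoch.IsComodHom A g) (hgf : ∀ v, g v ∈ HopfRep.fixedPts k A W)
    (n : V) (hn : E n = 0) : g n = 0 := by
  have hN : HopfRep.IsSubcomod (k := k) (A := A) (LinearMap.ker E) := isSubcomod_ker hE₁
  have hKg : HopfRep.IsSubcomod (k := k) (A := A) (LinearMap.ker g) := isSubcomod_ker hg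
  have hM := isSubcomod_inf hKg hN
  obtain ⟨T₀, hT₀, hc⟩ := hss _ hM
  rw [isCompl_iff_mem'] at hc
  obtain ⟨hc1, hc2⟩ := hc
  obtain ⟨m, hm, t₀, ht₀, hmt⟩ := hc2 n
  have ht₀N : t₀ ∈ LinearMap.ker E := by
    have : t₀ = n - m := by rw [← hmt]; abel
    rw [this]
    exact Submodule.sub_mem _ (LinearMap.mem_ker.mpr hn) hm.2
  have hT : HopfRep.IsSubcomod (k := k) (A := A) (T₀ ⊓ LinearMap.ker E) := isSubcomod_inf hT₀ hN
  have hinj : ∀ t ∈ T₀ ⊓ LinearMap.ker E, g t = 0 → t = 0 := by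
    intro t ht hgt
    exact hc1 t ⟨LinearMap.mem_ker.mpr hgt, ht.2⟩ ht.1
  have hfix : t₀ ∈ HopfRep.fixedPts k A V := by
    rw [mem_fixedPts_iff_act]
    intro φ
    rw [← sub_eq_zero]
    apply hinj
    · apply Submodule.sub_mem
      · exact (isSubcomod_iff_act _).mp hT φ t₀ ⟨ht₀, ht₀N⟩
      · exact Submodule.smul_mem _ _ ⟨ht₀, ht₀N⟩
    · rw [map_sub, act_of_isComodHom hg, map_smul, sub_eq_zero]
      exact (mem_fixedPts_iff_act _).mp (hgf t₀) φ
  have ht0 : t₀ = 0 := by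
    rw [← hE₃ t₀ hfix]
    exact LinearMap.mem_ker.mp ht₀N
  rw [← hmt, ht0, add_zero]
  exact LinearMap.mem_ker.mp hm.1

end

end Groth.Agent.Helper9
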