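import Mathlib
import Groth.Prelude.Def_DRing2
import Groth.Agent.Helper3.DRing1
import Groth.Agent.Helper4.KInjRes
import Groth.Agent.Helper6.DComplAmp
import Groth.Agent.Helper9.DProd
import Groth.Agent.Helper9.RlimA

/-!
# `Q (PiCx C)` is the product of the `Q (C n)` in `D(A)`
-/

set_option autoImplicit false
set_option linter.unusedSectionVars false
set_option linter.style.haveILetI false
set_option linter.unusedVariables false
universe u
open CategoryTheory CategoryTheory.Limits DerivedCategory Pretriangulated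

attribute [local instance] HasDerivedCategory.standard

namespace Groth.Agent.Helper9.RlimA2

open Groth.Agent.Helper3.DRingLib Groth.Agent.Helper6.DComplAmp Groth.Agent.Helper9.RlimA

variable {A : Type u} [CommRing A] {ι : Type}

lemma isZero_Q_of_exactAt (L : DRing.Cx A) (h : ∀ i, L.ExactAt i) : IsZero (Q.obj L) := by
  have hall : ∀ i, HZ (Q.obj L) i := fun i => (hz_Q_iff L i).mpr (h i)
  haveI : (Q.obj L).IsLE 0 := isLE_of_HD _ 0 (fun i _ => (hz_iff_subsingleton _ i).mp (hall i))
  haveI : (Q.obj L).IsGE 1 := isGE_of_HD _ 1 (fun i _ => (hz_iff_subsingleton _ i).mp (hall i))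
  exact TStructure.t.isZero (Q.obj L) 0 1 (by omega)

lemma exactAt_of_isZero_Q (L : DRing.Cx A) (h : IsZero (Q.obj L)) (i : ℤ) : L.ExactAt i :=
  (hz_Q_iff L i).mp (Functor.map_isZero _ h)

/-- a short exact sequence of complexes whose first map is a quasi-isomorphism has acyclic
cokernel -/
lemma exactAt_X₃ (S : ShortComplex (DRing.Cx A)) (hS : S.ShortExact) (hf : QuasiIso S.f) (i : ℤ) :
    S.X₃.ExactAt i := by
  apply exactAt_of_isZero_Q
  have hT := DerivedCategory.triangleOfSES_distinguished hS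
  haveI : IsIso (Q.map S.f) := (DerivedCategory.isIso_Q_map_iff_quasiIso _ _).mpr hf
  exact (Triangle.isZero₃_iff_isIso₁ _ hT).mpr (by
    show IsIso (Q.map S.f)
    infer_instance)

/-- a short exact sequence of complexes with acyclic cokernel has quasi-isomorphic first map -/
lemma quasiIso_f (S : ShortComplex (DRing.Cx A)) (hS : S.ShortExact) (h : ∀ i, S.X₃.ExactAt i) :
    QuasiIso S.f := by
  rw [← DerivedCategory.isIso_Q_map_iff_quasiIso]
  have hT := DerivedCategory.triangleOfSES_distinguished hS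
  exact (Triangle.isZero₃_iff_isIso₁ _ hT).mp (isZero_Q_of_exactAt _ h)

/-- products of termwise monic quasi-isomorphisms are quasi-isomorphisms -/
theorem quasiIso_map {C D : ι → DRing.Cx A} (j : ∀ n, C n ⟶ D n) (hj : ∀ n, QuasiIso (j n))
    (hm : ∀ n i, Mono ((j n).f i)) : QuasiIso (RlimA.map j) := by
  haveI : ∀ n, Mono (j n) := fun n => HomologicalComplex.mono_of_mono_f _ (hm n)
  have hS : ∀ n, (ShortComplex.mk (j n) (cokernel.π (j n)) (cokernel.condition _)).ShortExact :=
    fun n => ShortComplex.ShortExact.mk' (ShortComplex.exact_cokernel (j n)) inferInstance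
      inferInstance
  have hex : ∀ n i, (cokernel (j n)).ExactAt i := fun n i => exactAt_X₃ _ (hS n) (hj n) i
  have hP := shortExact_map j (fun n => cokernel.π (j n)) (fun n => cokernel.condition _) hS
  exact quasiIso_f _ hP (fun i => exactAt_PiCx _ i (fun n => hex n i))

/-- **`Q (PiCx C)` is the product of the `Q (C n)`** -/
theorem nonempty_isLimit (C : ι → DRing.Cx A) :
    Nonempty (IsLimit (Fan.mk (Q.obj (PiCx C)) (fun n => Q.map (π C n)))) := by
  have h : ∀ n, ∃ (I : DRing.Cx A) (f : C n ⟶ I), I.IsKInjective ∧ QuasiIso f ∧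
      (∀ i, Mono (f.f i)) ∧ ∀ i, Injective (I.X i) := fun n =>
    Groth.Agent.Helper4.KInjRes.exists_resolution (C n)
  choose I j hI hq hm _ using h
  have hQ : QuasiIso (RlimA.map j) := quasiIso_map j hq hm
  let φ : PiCx I ≅ ∏ᶜ I := (RlimA.isLimit I).conePointUniqueUpToIso (limit.isLimit _)
  have hφ : ∀ n, φ.hom ≫ Pi.π I n = π I n := fun n =>
    (RlimA.isLimit I).conePointUniqueUpToIso_hom_comp (limit.isLimit _) ⟨n⟩
  haveI : IsIso (Q.map (RlimA.map j)) := (DerivedCategory.isIso_Q_map_iff_quasiIso _ _).mpr hQ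
  haveI : ∀ n, IsIso (Q.map (j n)) := fun n =>
    (DerivedCategory.isIso_Q_map_iff_quasiIso _ _).mpr (hq n)
  let u : Q.obj (PiCx C) ⟶ Q.obj (∏ᶜ I) := Q.map (RlimA.map j) ≫ Q.map φ.hom
  haveI : IsIso u := by
    dsimp only [u]
    infer_instance
  have hu : ∀ n, u ≫ Q.map (Pi.π I n) = Q.map (π C n) ≫ Q.map (j n) := by
    intro n
    dsimp only [u]
    rw [Category.assoc, ← Functor.map_comp, hφ, ← Functor.map_comp, map_π, Functor.map_comp]
  refine ⟨Fan.IsLimit.mk _
    (fun s => (DProd.exists_lift_pi I hI (fun n => s.proj n ≫ Q.map (j n))).choose ≫ inv u)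
    (fun s n => ?_) (fun s m hm' => ?_)⟩
  · have h1 := (DProd.exists_lift_pi I hI (fun n => s.proj n ≫ Q.map (j n))).choose_spec n
    show (_ ≫ inv u) ≫ Q.map (π C n) = s.proj n
    rw [← cancel_mono (Q.map (j n)), Category.assoc, Category.assoc, ← hu, IsIso.inv_hom_id_assoc]
    exact h1
  · rw [← cancel_mono u, Category.assoc, IsIso.inv_hom_id, Category.comp_id]
    apply DProd.hom_ext_pi I hI
    intro n
    rw [(DProd.exists_lift_pi I hI (fun n => s.proj n ≫ Q.map (j n))).choose_spec n,
      Category.assoc, hu, ← Category.assoc]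
    congr 1
    exact hm' n

end Groth.Agent.Helper9.RlimA2
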