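import Mathlib
import Groth.Agent.Helper9.LC2

/-!
# The derived limit of a tower of objects which is Mittag-Leffler with respect to a separating
class of acyclic test objects is the ordinary limit
-/

set_option autoImplicit false
set_option linter.style.haveILetI false
set_option linter.unusedSectionVars false
set_option linter.unusedVariables false

universe w v u

namespace Groth.Agent.Helper9.RlimAbs

open CategoryTheory Category Limits Pretriangulated DerivedCategory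
open Groth.Agent.Helper9.LC2 Groth.Agent.Helper9.LC3

variable {A : Type u} [Category.{v} A] [Abelian A] [HasDerivedCategory.{w} A]
  (𝒢 : ObjectProperty A) (h𝒢 : 𝒢.IsSeparating)
  (F : ℕ → A) (t : ∀ n, F (n + 1) ⟶ F n)
  [HasProduct fun n => W (F n) 0]
  (H1 : ∀ G, 𝒢 G → ∀ n, Acyc G (F n))
  (H2 : ∀ G, 𝒢 G → ∀ n, 1 ≤ n → ∀ f : G ⟶ F n, ∃ f' : G ⟶ F (n + 1), f' ≫ t n = f)

/-- the objects of the tower in the derived category -/
noncomputable abbrev Y (n : ℕ) : DerivedCategory A := W (F n) 0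

/-- the transition maps -/
noncomputable abbrev τ (n : ℕ) : Y F (n + 1) ⟶ Y F n := (singleFunctor A 0).map (t n)

/-- identity minus shift -/
noncomputable abbrev φ : ∏ᶜ (Y F) ⟶ ∏ᶜ (Y F) :=
  Pi.lift fun n => Pi.π (Y F) n - Pi.π (Y F) (n + 1) ≫ τ F t n

omit [HasProduct fun n => W (F n) 0] in
lemma single_map_surjective {M N : A} (f : W M 0 ⟶ W N 0) :
    ∃ g : M ⟶ N, (singleFunctor A 0).map g = f :=
  ⟨(singleFunctor A 0).preimage f, Functor.map_preimage _ _⟩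

lemma hom_pi_eq_zero {B : DerivedCategory A} (h : ∀ n, ∀ f : B ⟶ Y F n, f = 0)
    (f : B ⟶ ∏ᶜ (Y F)) : f = 0 := by
  apply Pi.hom_ext
  intro n
  rw [zero_comp]
  exact h n _

lemma hom_pi_eq_zero' {B : DerivedCategory A} (f : B ⟶ ∏ᶜ (Y F))
    (h : ∀ n, f ≫ Pi.π (Y F) n = 0) : f = 0 := by
  apply Pi.hom_ext
  intro n
  rw [zero_comp]
  exact h n

include H2 in
/-- Mittag-Leffler: identity minus shift is surjective on maps from the test objects -/
lemma exists_comp_φ {G : A} (hG : 𝒢 G) (y : W G 0 ⟶ ∏ᶜ (Y F)) :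
    ∃ x : W G 0 ⟶ ∏ᶜ (Y F), x ≫ φ F t = y := by
  -- components
  have hlift : ∀ n, 1 ≤ n → ∀ f : W G 0 ⟶ Y F n, ∃ f' : W G 0 ⟶ Y F (n + 1), f' ≫ τ F t n = f := by
    intro n hn f
    obtain ⟨g, rfl⟩ := single_map_surjective f
    obtain ⟨g', hg'⟩ := H2 G hG n hn g
    exact ⟨(singleFunctor A 0).map g', by rw [← hg', Functor.map_comp]⟩
  let aux : ∀ n : ℕ, (W G 0 ⟶ Y F (n + 1)) := fun n =>
    Nat.rec (motive := fun n => (W G 0 ⟶ Y F (n + 1))) 0
      (fun n x => (hlift (n + 1) (by omega) (x - y ≫ Pi.π (Y F) (n + 1))).choose) n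
  have haux : ∀ n, aux (n + 1) ≫ τ F t (n + 1) = aux n - y ≫ Pi.π (Y F) (n + 1) := fun n =>
    (hlift (n + 1) (by omega) (aux n - y ≫ Pi.π (Y F) (n + 1))).choose_spec
  let x : ∀ n : ℕ, (W G 0 ⟶ Y F n) := fun n =>
    match n with
    | 0 => y ≫ Pi.π (Y F) 0
    | n + 1 => aux n
  refine ⟨Pi.lift x, ?_⟩
  apply Pi.hom_ext
  intro n
  rw [assoc, Pi.lift_π, Preadditive.comp_sub, Pi.lift_π, ← assoc, Pi.lift_π]
  cases n with
  | zero =>
    show y ≫ Pi.π (Y F) 0 - aux 0 ≫ τ F t 0 = _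
    have : aux 0 = 0 := rfl
    rw [this, zero_comp, sub_zero]
  | succ n =>
    show aux n - aux (n + 1) ≫ τ F t (n + 1) = _
    rw [haux, sub_sub_cancel]


section Tri

variable {K : DerivedCategory A} (a : K ⟶ ∏ᶜ (Y F)) (c : ∏ᶜ (Y F) ⟶ K⟦(1 : ℤ)⟧)
  (hT : Triangle.mk a (φ F t) c ∈ distTriang (DerivedCategory A))

include h𝒢 H1 H2 hT in
/-- a map from a shifted test object to `K` vanishes as soon as its composition to the product
does -/
lemma eq_zero_of_comp_a {G : A} (hG : 𝒢 G) (p : ℤ) (g : W G p ⟶ K) (hg : g ≫ a = 0) : g = 0 := by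
  obtain ⟨g', hg'⟩ : ∃ g' : (W G p)⟦(1 : ℤ)⟧ ⟶ ∏ᶜ (Y F), g⟦(1 : ℤ)⟧' = g' ≫ c :=
    Triangle.coyoneda_exact₁ _ hT (g⟦(1 : ℤ)⟧') (by
      show g⟦(1 : ℤ)⟧' ≫ a⟦(1 : ℤ)⟧' = 0
      rw [← Functor.map_comp, hg, Functor.map_zero])
  apply (shiftFunctor (DerivedCategory A) (1 : ℤ)).map_injective
  rw [hg', Functor.map_zero]
  let σ : (W G p)⟦(1 : ℤ)⟧ ≅ W G (p - 1) := wShift G 1 (p - 1) p (by omega)
  by_cases hp : p = 1
  · subst hp
    obtain ⟨x, hx⟩ := exists_comp_φ 𝒢 F t H2 hG (σ.inv ≫ g')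
    have h1 : g' = (σ.hom ≫ x) ≫ φ F t := by
      rw [assoc, hx, Iso.hom_inv_id_assoc]
    have h2 : φ F t ≫ c = 0 := comp_distTriang_mor_zero₂₃ _ hT
    rw [h1, assoc, h2, comp_zero]
  · have h1 : g' = 0 := by
      apply hom_pi_eq_zero F
      intro n f
      have h2 : σ.inv ≫ f = 0 := hom_single_eq_zero (H1 G hG n) (p - 1) 0 (by omega) _
      rw [← cancel_epi σ.inv, h2, comp_zero]
    rw [h1, zero_comp]

include h𝒢 H1 H2 hT in
lemma eq_zero_of_ne {G : A} (hG : 𝒢 G) (p : ℤ) (hp : p ≠ 0) (g : W G p ⟶ K) : g = 0 := by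
  apply eq_zero_of_comp_a 𝒢 h𝒢 F t H1 H2 a c hT hG p g
  apply hom_pi_eq_zero F
  intro n f
  exact hom_single_eq_zero (H1 G hG n) p 0 hp f

include h𝒢 H1 H2 hT in
lemma isZero_homology (p : ℤ) (hp : p ≠ 0) : IsZero ((homologyFunctor A p).obj K) :=
  isZero_homology_of_hom_eq_zero 𝒢 h𝒢 K p
    (fun G hG f => eq_zero_of_ne 𝒢 h𝒢 F t H1 H2 a c hT hG p hp f)

end Tri


section Main

variable {L : A} (ℓ : ∀ n, L ⟶ F n) (hℓ : ∀ n, ℓ (n + 1) ≫ t n = ℓ n)
  (hL : ∀ (Z : A) (z : ∀ n, Z ⟶ F n), (∀ n, z (n + 1) ≫ t n = z n) →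
    ∃ u : Z ⟶ L, (∀ n, u ≫ ℓ n = z n) ∧ ∀ u' : Z ⟶ L, (∀ n, u' ≫ ℓ n = z n) → u' = u)

include h𝒢 H1 H2 hℓ hL in
/-- **The derived limit of a Mittag-Leffler tower of acyclic objects is the ordinary limit, and
the limit is again acyclic.** -/
theorem exists_triangle :
    (∃ c : ∏ᶜ (Y F) ⟶ (W L 0)⟦(1 : ℤ)⟧,
      Triangle.mk (Pi.lift fun n => (singleFunctor A 0).map (ℓ n)) (φ F t) c ∈
        distTriang (DerivedCategory A)) ∧ ∀ G, 𝒢 G → Acyc G L := by
  obtain ⟨K, a, c, hT⟩ := distinguished_cocone_triangle₁ (φ F t)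
  have hz := isZero_homology 𝒢 h𝒢 F t H1 H2 a c hT
  haveI : K.IsGE 0 := (isGE_iff K 0).2 (fun i hi => hz i (by omega))
  haveI : K.IsLE 0 := (isLE_iff K 0).2 (fun i hi => hz i (by omega))
  obtain ⟨M, ⟨e⟩⟩ := exists_iso_singleFunctor_obj_of_isGE_of_isLE K 0
  -- the maps to the tower
  let m : ∀ n, M ⟶ F n := fun n => (singleFunctor A 0).preimage (e.inv ≫ a ≫ Pi.π (Y F) n)
  have hm' : ∀ n, (singleFunctor A 0).map (m n) = e.inv ≫ a ≫ Pi.π (Y F) n :=
    fun n => Functor.map_preimage _ _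
  have haφ : a ≫ φ F t = 0 := comp_distTriang_mor_zero₁₂ _ hT
  have hm : ∀ n, m (n + 1) ≫ t n = m n := by
    intro n
    apply (singleFunctor A 0).map_injective
    rw [Functor.map_comp, hm', hm']
    have h1 := congrArg (fun x => x ≫ Pi.π (Y F) n) haφ
    simp only [assoc, Pi.lift_π, zero_comp, Preadditive.comp_sub] at h1
    rw [sub_eq_zero] at h1
    rw [assoc, assoc, ← h1]
  obtain ⟨lam, hlam, hlam'⟩ := hL M m hm
  -- `lam` is a monomorphism
  have hmono : Mono lam := by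
    constructor
    intro Z g₁ g₂ hg
    apply h𝒢
    intro G hG h
    rw [← sub_eq_zero, ← Preadditive.comp_sub]
    set d := h ≫ (g₁ - g₂) with hd
    have hdl : d ≫ lam = 0 := by
      rw [hd, assoc, Preadditive.sub_comp, hg, sub_self, comp_zero]
    have h1 : (singleFunctor A 0).map d ≫ e.inv = 0 := by
      apply eq_zero_of_comp_a 𝒢 h𝒢 F t H1 H2 a c hT hG 0
      apply hom_pi_eq_zero' F
      intro n
      rw [assoc, assoc, ← hm', ← Functor.map_comp, ← hlam n, ← assoc, hdl, zero_comp,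
        Functor.map_zero]
    apply (singleFunctor A 0).map_injective
    rw [← cancel_mono e.inv, h1, Functor.map_zero, zero_comp]
  -- `lam` is surjective on maps from the test objects
  have hsurj : ∀ G, 𝒢 G → ∀ h : G ⟶ L, ∃ h' : G ⟶ M, h' ≫ lam = h := by
    intro G hG h
    let f : W G 0 ⟶ ∏ᶜ (Y F) := Pi.lift fun n => (singleFunctor A 0).map (h ≫ ℓ n)
    have hf : f ≫ φ F t = 0 := by
      apply Pi.hom_ext
      intro n
      rw [assoc, Pi.lift_π, Preadditive.comp_sub, Pi.lift_π, ← assoc, Pi.lift_π, zero_comp,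
        ← Functor.map_comp, assoc, hℓ, sub_self]
    obtain ⟨g, hg⟩ : ∃ g : W G 0 ⟶ K, f = g ≫ a := Triangle.coyoneda_exact₂ _ hT f hf
    obtain ⟨h', hh'⟩ := single_map_surjective (g ≫ e.hom)
    refine ⟨h', ?_⟩
    obtain ⟨u, hu, hu'⟩ := hL G (fun n => h ≫ ℓ n) (fun n => by rw [assoc, hℓ])
    rw [hu' h (fun n => rfl)]
    apply hu'
    intro n
    apply (singleFunctor A 0).map_injective
    rw [assoc, hlam, Functor.map_comp, hh', hm', assoc, Iso.hom_inv_id_assoc, ← assoc, ← hg,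
      Pi.lift_π]
  have hepi : Epi lam := by
    apply Abelian.epi_of_cokernel_π_eq_zero
    apply h𝒢
    intro G hG h
    obtain ⟨h', rfl⟩ := hsurj G hG h
    rw [assoc, cokernel.condition, comp_zero, comp_zero]
  haveI : IsIso lam := isIso_of_mono_of_epi lam
  let θ : W L 0 ≅ K := (singleFunctor A 0).mapIso (asIso lam).symm ≪≫ e.symm
  have hθ : θ.hom ≫ a = Pi.lift fun n => (singleFunctor A 0).map (ℓ n) := by
    apply Pi.hom_ext
    intro n
    have hθ' : θ.hom = (singleFunctor A 0).map (inv lam) ≫ e.inv := rfl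
    rw [Pi.lift_π, hθ', assoc, assoc, ← hm', ← Functor.map_comp, ← hlam n, IsIso.inv_hom_id_assoc]
  constructor
  · refine ⟨c ≫ θ.inv⟦(1 : ℤ)⟧', ?_⟩
    refine isomorphic_distinguished _ hT _ (Triangle.isoMk _ _ θ (Iso.refl _) (Iso.refl _) ?_ ?_ ?_)
    · show (Pi.lift fun n => (singleFunctor A 0).map (ℓ n)) ≫ 𝟙 _ = θ.hom ≫ a
      rw [comp_id, hθ]
    · show φ F t ≫ 𝟙 _ = 𝟙 _ ≫ φ F t
      rw [comp_id, id_comp]
    · show (c ≫ θ.inv⟦(1 : ℤ)⟧') ≫ θ.hom⟦(1 : ℤ)⟧' = 𝟙 _ ≫ c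
      rw [assoc, ← Functor.map_comp, Iso.inv_hom_id, CategoryTheory.Functor.map_id, comp_id,
        id_comp]
  · intro G hG i j hij f
    let σG : (W G (i - j))⟦-j⟧ ≅ W G i := wShift G (-j) i (i - j) (by omega)
    let σL : (W L 0)⟦-j⟧ ≅ W L j := wShift L (-j) j 0 (by omega)
    obtain ⟨f'', hf''⟩ : ∃ f'' : W G (i - j) ⟶ W L 0, f''⟦-j⟧' = σG.hom ≫ f ≫ σL.inv :=
      ⟨(shiftFunctor _ (-j)).preimage _, Functor.map_preimage _ _⟩
    have h1 : f'' ≫ θ.hom = 0 :=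
      eq_zero_of_ne 𝒢 h𝒢 F t H1 H2 a c hT hG (i - j) (by omega) _
    have h2 : f'' = 0 := by rw [← cancel_mono θ.hom, h1, zero_comp]
    rw [h2, Functor.map_zero] at hf''
    rw [← cancel_epi σG.hom, ← cancel_mono σL.inv, assoc, ← hf'', comp_zero, zero_comp]

end Main

end Groth.Agent.Helper9.RlimAbs
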