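import Mathlib
import Groth.Prelude.Def_DCoh2
import Groth.Prelude.Def_DRing2
import Groth.Agent.Helper9.RlimA2
import Groth.Agent.Helper9.RlimB

/-!
# `Q (T^)` is the derived limit of the tower `Q (T / I^n T)`
-/

set_option autoImplicit false
set_option linter.unusedSectionVars false
set_option linter.style.haveILetI false
set_option linter.unusedVariables false
universe u u' v'
open CategoryTheory CategoryTheory.Limits DerivedCategory Pretriangulated

attribute [local instance] HasDerivedCategory.standard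

namespace Groth.Agent.Helper9.RlimC

section general

variable {T : Type u'} [Category.{v'} T] [Preadditive T] [HasZeroObject T] [HasShift T ℤ]
  [∀ n : ℤ, (shiftFunctor T n).Additive] [Pretriangulated T]

/-- transport of derived limits along an isomorphism of towers -/
lemma isRlim_of_tower_iso (K K' : ℕ → T) (t : ∀ n, K (n + 1) ⟶ K n)
    (t' : ∀ n, K' (n + 1) ⟶ K' n) [HasProduct K] [HasProduct K'] (e : ∀ n, K n ≅ K' n)
    (he : ∀ n, t n ≫ (e n).hom = (e (n + 1)).hom ≫ t' n) {L : T} (h : DCoh.IsRlim K t L) :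
    DCoh.IsRlim K' t' L := by
  obtain ⟨a, c, hT⟩ := h
  let Θ : ∏ᶜ K ≅ ∏ᶜ K' :=
    { hom := Pi.lift (fun n => Pi.π K n ≫ (e n).hom)
      inv := Pi.lift (fun n => Pi.π K' n ≫ (e n).inv)
      hom_inv_id := by
        apply Pi.hom_ext
        intro n
        rw [Category.assoc, Pi.lift_π, ← Category.assoc, Pi.lift_π, Category.assoc,
          Iso.hom_inv_id, Category.comp_id, Category.id_comp]
      inv_hom_id := by
        apply Pi.hom_ext
        intro n
        rw [Category.assoc, Pi.lift_π, ← Category.assoc, Pi.lift_π, Category.assoc,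
          Iso.inv_hom_id, Category.comp_id, Category.id_comp] }
  have hΘ : ∀ n, Θ.hom ≫ Pi.π K' n = Pi.π K n ≫ (e n).hom := fun n => Pi.lift_π _ n
  have hΘ' : ∀ n, Θ.inv ≫ Pi.π K n = Pi.π K' n ≫ (e n).inv := fun n => by
    rw [Iso.inv_comp_eq, ← Category.assoc, hΘ, Category.assoc, Iso.hom_inv_id, Category.comp_id]
  refine ⟨a ≫ Θ.hom, Θ.inv ≫ c, ?_⟩
  refine Pretriangulated.isomorphic_distinguished _ hT _ ?_
  refine Pretriangulated.Triangle.isoMk _ _ (Iso.refl _) Θ.symm Θ.symm ?_ ?_ ?_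
  · change (a ≫ Θ.hom) ≫ Θ.inv = 𝟙 _ ≫ a
    rw [Category.assoc, Iso.hom_inv_id, Category.comp_id, Category.id_comp]
  · change (Pi.lift fun n => Pi.π K' n - Pi.π K' (n + 1) ≫ t' n) ≫ Θ.inv =
      Θ.inv ≫ (Pi.lift fun n => Pi.π K n - Pi.π K (n + 1) ≫ t n)
    apply Pi.hom_ext
    intro n
    have he' : t' n ≫ (e n).inv = (e (n + 1)).inv ≫ t n := by
      rw [← cancel_mono (e n).hom, Category.assoc, Iso.inv_hom_id, Category.comp_id,
        Category.assoc, he n, Iso.inv_hom_id_assoc]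
    calc ((Pi.lift fun n => Pi.π K' n - Pi.π K' (n + 1) ≫ t' n) ≫ Θ.inv) ≫ Pi.π K n
        = (Pi.lift fun n => Pi.π K' n - Pi.π K' (n + 1) ≫ t' n) ≫ Pi.π K' n ≫ (e n).inv := by
          rw [Category.assoc, hΘ' n]
      _ = (Pi.π K' n - Pi.π K' (n + 1) ≫ t' n) ≫ (e n).inv := by
          rw [← Category.assoc, Pi.lift_π]
      _ = Pi.π K' n ≫ (e n).inv - Pi.π K' (n + 1) ≫ (e (n + 1)).inv ≫ t n := by
          rw [Preadditive.sub_comp, Category.assoc, he']
      _ = Θ.inv ≫ (Pi.π K n - Pi.π K (n + 1) ≫ t n) := by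
          rw [Preadditive.comp_sub, hΘ' n, ← Category.assoc Θ.inv, hΘ' (n + 1), Category.assoc]
      _ = (Θ.inv ≫ Pi.lift fun n => Pi.π K n - Pi.π K (n + 1) ≫ t n) ≫ Pi.π K n := by
          rw [Category.assoc, Pi.lift_π]
  · change (Θ.inv ≫ c) ≫ (𝟙 L)⟦(1 : ℤ)⟧' = Θ.inv ≫ c
    rw [CategoryTheory.Functor.map_id, Category.comp_id]

end general

section base

open Groth.Agent.Helper9.RlimA Groth.Agent.Helper9.RlimB Groth.Agent.Helper9.AdicEEq1

variable {A : Type u} [CommRing A] (I : Ideal A)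

/-- **`Q (T^)` is the derived limit of `Q (T / I^n T)`** -/
theorem isRlim_complCx (T : DRing.Cx A) [HasProduct (fun n => Q.obj (tower I T n))] :
    DCoh.IsRlim (fun n => Q.obj (tower I T n)) (fun n => Q.map (trCx I n T))
      (Q.obj ((complCx I).obj T)) := by
  let K : ℕ → Dual.D A := fun n => Q.obj (tower I T n)
  obtain ⟨hlim⟩ := Groth.Agent.Helper9.RlimA2.nonempty_isLimit (tower I T)
  let Θ : Q.obj (PiCx (tower I T)) ≅ ∏ᶜ K :=
    hlim.conePointUniqueUpToIso (limit.isLimit (Discrete.functor K))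
  have hΘ : ∀ n, Θ.hom ≫ Pi.π K n = Q.map (RlimA.π (tower I T) n) := fun n =>
    hlim.conePointUniqueUpToIso_hom_comp (limit.isLimit (Discrete.functor K)) ⟨n⟩
  have hS := RlimB.shortExact I T
  have hT := DerivedCategory.triangleOfSES_distinguished hS
  refine ⟨Q.map (inc I T) ≫ Θ.hom, Θ.inv ≫ DerivedCategory.triangleOfSESδ hS, ?_⟩
  refine Pretriangulated.isomorphic_distinguished _ hT _ ?_
  refine Pretriangulated.Triangle.isoMk _ _ (Iso.refl _) Θ.symm Θ.symm ?_ ?_ ?_
  · change (Q.map (inc I T) ≫ Θ.hom) ≫ Θ.inv = 𝟙 _ ≫ Q.map (inc I T)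
    rw [Category.assoc, Iso.hom_inv_id, Category.comp_id, Category.id_comp]
  · change (Pi.lift fun n => Pi.π K n - Pi.π K (n + 1) ≫ Q.map (trCx I n T)) ≫ Θ.inv =
      Θ.inv ≫ Q.map (diff I T)
    rw [← cancel_mono Θ.hom, Category.assoc, Category.assoc, Iso.inv_hom_id, Category.comp_id]
    apply Pi.hom_ext
    intro n
    rw [Pi.lift_π, Category.assoc, Category.assoc, hΘ n, ← Functor.map_comp, diff_π,
      Functor.map_sub, Functor.map_comp, Preadditive.comp_sub, ← hΘ n, ← hΘ (n + 1),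
      Iso.inv_hom_id_assoc, Category.assoc, Iso.inv_hom_id_assoc]
  · change (Θ.inv ≫ DerivedCategory.triangleOfSESδ hS) ≫ (𝟙 _)⟦(1 : ℤ)⟧' =
      Θ.inv ≫ DerivedCategory.triangleOfSESδ hS
    rw [CategoryTheory.Functor.map_id, Category.comp_id]

end base

end Groth.Agent.Helper9.RlimC
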