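import Mathlib
import Groth.Prelude.Def_DerCA
import Groth.Prelude.Def_DRing4
import Groth.Prelude.Def_DCoh2
import Groth.Agent.Helper4.RlimShf2
import Groth.Agent.Helper9.AdicEEq2
import Groth.Agent.Helper9.RlimC
import Groth.Agent.Helper9.RlimD
import Groth.Agent.Helper9.RlimE
import Groth.Agent.Helper9.RlimF

/-!
# The derived completion of `RΓ_J(M)` is `R lim RΓ_J(M / I^n M)`
-/

set_option autoImplicit false
set_option linter.style.haveILetI false
set_option linter.unusedSectionVars false
set_option linter.unusedVariables false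

universe u

open CategoryTheory CategoryTheory.Limits DerivedCategory

attribute [local instance] HasDerivedCategory.standard

namespace Groth.Agent.Helper9.RlimG

open Groth.Agent.Helper3.DRingLib Groth.Agent.Helper6.DComplAmp
open Groth.Agent.Helper9.HomT7 Groth.Agent.Helper9.AdicEEq1 Groth.Agent.Helper9.AdicEEq2
open Groth.Agent.Helper9.RlimB Groth.Agent.Helper9.RlimC Groth.Agent.Helper9.RlimD
open Groth.Agent.Helper9.RlimE Groth.Agent.Helper9.RlimF Groth.Agent.Helper6.LTenModCompute

variable {A : Type u} [CommRing A] [IsNoetherianRing A] (I : Ideal A)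
  [DRing.HasDerivedCompletion I] (gs : List A) [DRing.HasRgammaI (Ideal.span {y : A | y ∈ gs})]
  (M : Type u) [AddCommGroup M] [Module A M] [Module.Finite A M]

/-- the model `Q ((Č ⊗ M)^)` of the derived completion of `RΓ_J(M)` -/
theorem exists_model :
    Nonempty (((DRing.derivedCompletion I).obj
        ((DRing.RgammaI (JJ gs)).obj (Dual.inD A M))).obj ≅
      Q.obj ((complCx I).obj ((tensF (ModuleCat.of A M)).obj (Cech gs)))) := by
  obtain ⟨ψ, -⟩ := exists_iso_complCx_tensF I M (Cech gs) gs.length (vanishesAbove_Cech gs)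
    (termwiseFlat_Cech gs)
  let eM := eN gs (ModuleCat.of A M)
  exact ⟨(ObjectProperty.ι _).mapIso ((DRing.derivedCompletion I).mapIso eM.symm) ≪≫ ψ⟩

theorem main_list [∀ K : ℕ → Dual.D A, HasProduct K] :
    DCoh.IsRlim
        (fun n : ℕ => (DRing.RgammaI (JJ gs)).obj
          (Dual.inD A (M ⧸ (I ^ n • ⊤ : Submodule A M))))
        (fun n : ℕ => (DRing.RgammaI (JJ gs)).map
          ((DerivedCategory.singleFunctor (ModuleCat.{u} A) 0).map
            (ModuleCat.ofHom (Submodule.mapQ (I ^ (n + 1) • ⊤ : Submodule A M)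
              (I ^ n • ⊤ : Submodule A M) LinearMap.id
              (Submodule.smul_mono (Ideal.pow_le_pow_right (Nat.le_succ n)) le_rfl)))))
        ((DRing.derivedCompletion I).obj ((DRing.RgammaI (JJ gs)).obj (Dual.inD A M))).obj ∧
      ∀ i : ℤ, i < 0 → Subsingleton (Dual.HD A
        ((DRing.derivedCompletion I).obj ((DRing.RgammaI (JJ gs)).obj (Dual.inD A M))).obj i) := by
  obtain ⟨eL⟩ := exists_model I gs M
  let T : DRing.Cx A := (tensF (ModuleCat.of A M)).obj (Cech gs)
  refine ⟨?_, fun i hi => ?_⟩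
  · have h0 := isRlim_complCx I T
    let e' : ∀ n, Q.obj (tower I T n) ≅
        (DRing.RgammaI (JJ gs)).obj (Dual.inD A (M ⧸ (I ^ n • ⊤ : Submodule A M))) := fun n =>
      Q.mapIso (θ I M (Cech gs) n) ≪≫ eN gs (Mq I M n)
    have he' : ∀ n, Q.map (trCx I n T) ≫ (e' n).hom = (e' (n + 1)).hom ≫
        (DRing.RgammaI (JJ gs)).map
          ((DerivedCategory.singleFunctor (ModuleCat.{u} A) 0).map (MqTr I M n)) := by
      intro n
      simp only [e', Iso.trans_hom, Functor.mapIso_hom, Category.assoc]
      rw [← eN_naturality, ← Category.assoc, ← Functor.map_comp, θ_tr, Functor.map_comp,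
        Category.assoc]
    have h1 := isRlim_of_tower_iso _ _ _ _ e' he' h0
    exact Groth.Agent.Helper4.RlimShf2.isRlim_of_iso _ _ eL.symm h1
  · have hz : IsZero (((complCx I).obj T).X i) :=
      (complF I).map_isZero (tensorCx_isZero_X (Cech gs) _ i (isZero_Cech_X_of_neg gs i hi))
    exact (hz_iff_subsingleton _ i).mp
      (hz_of_iso eL.symm i ((hz_Q_iff _ i).mpr (exactAt_of_isZero_X _ i hz)))

theorem main (J : Ideal A) [DRing.HasRgammaI J] [∀ K : ℕ → Dual.D A, HasProduct K] :
    DCoh.IsRlim
        (fun n : ℕ => (DRing.RgammaI J).obj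
          (Dual.inD A (M ⧸ (I ^ n • ⊤ : Submodule A M))))
        (fun n : ℕ => (DRing.RgammaI J).map
          ((DerivedCategory.singleFunctor (ModuleCat.{u} A) 0).map
            (ModuleCat.ofHom (Submodule.mapQ (I ^ (n + 1) • ⊤ : Submodule A M)
              (I ^ n • ⊤ : Submodule A M) LinearMap.id
              (Submodule.smul_mono (Ideal.pow_le_pow_right (Nat.le_succ n)) le_rfl)))))
        ((DRing.derivedCompletion I).obj ((DRing.RgammaI J).obj (Dual.inD A M))).obj ∧
      ∀ i : ℤ, i < 0 → Subsingleton (Dual.HD A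
        ((DRing.derivedCompletion I).obj ((DRing.RgammaI J).obj (Dual.inD A M))).obj i) := by
  obtain ⟨gs, hgs⟩ := Groth.Agent.Helper6.DerNak.exists_list_of_fg J (IsNoetherian.noetherian J)
  subst hgs
  exact main_list I gs M

end Groth.Agent.Helper9.RlimG
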