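import Mathlib
import Groth.Prelude.Def_DCoh2
import Groth.Agent.Helper9.RlimAbs
import Groth.Agent.Helper9.LCAff1
import Groth.Agent.Helper4.QcohLimits
import Groth.Agent.Helper1.HHonHU

/-!
# `R lim` of a tower of quasi-coherent modules with surjective transition maps
-/

set_option autoImplicit false
set_option linter.style.haveILetI false
set_option linter.unusedSectionVars false
set_option linter.unusedVariables false

universe u

namespace Groth.Agent.Helper9.RlimQc1

open CategoryTheory Category Limits Opposite TopologicalSpace AlgebraicGeometry Pretriangulated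
  DerivedCategory
open Groth.Agent.Helper9.LC2 Groth.Agent.Helper9.LC3 Groth.Agent.Helper9.LCAff1

attribute [local instance] HasDerivedCategory.standard

variable {X : Scheme.{u}}

/-- lifting maps from `GU U`, `U` affine, along an epimorphism of quasi-coherent modules -/
theorem exists_lift_of_epi (U : X.Opens) (hU : IsAffineOpen U) {M N : X.Modules}
    (hM : Coh.IsQCoh M) (hN : Coh.IsQCoh N) (p : M ⟶ N) [Epi p] (f : GU U ⟶ N) :
    ∃ f' : GU U ⟶ M, f' ≫ p = f := by
  haveI : M.IsQuasicoherent := hM
  haveI : N.IsQuasicoherent := hN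
  haveI : (kernel p).IsQuasicoherent := Groth.Agent.Helper4.QcohLimits.isQuasicoherent_kernel p
  let S : ShortComplex X.Modules := ShortComplex.mk (kernel.ι p) p (kernel.condition p)
  have hS : S.ShortExact := ShortComplex.ShortExact.mk' (ShortComplex.exact_kernel p)
    (inferInstanceAs (Mono (kernel.ι p))) (inferInstanceAs (Epi p))
  have hT := hS.singleTriangle_distinguished
  have hac : Acyc (GU U) (kernel p) := acyc U hU (kernel p)
  have h0 : (singleFunctor X.Modules 0).map f ≫ hS.singleδ = 0 :=
    hom_eq_zero_of_iso_single hac 0 (-1) (by omega) (wShift (kernel p) 1 (-1) 0 (by omega)) _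
  obtain ⟨g, hg⟩ : ∃ g : W (GU U) 0 ⟶ W M 0,
      (singleFunctor X.Modules 0).map f = g ≫ (singleFunctor X.Modules 0).map p :=
    Triangle.coyoneda_exact₃ _ hT _ h0
  refine ⟨(singleFunctor X.Modules 0).preimage g, ?_⟩
  apply (singleFunctor X.Modules 0).map_injective
  rw [Functor.map_comp, Functor.map_preimage, hg]


section Tower

variable {C : Type*} [Category C] {F : ℕ → C} (t : ∀ n, F (n + 1) ⟶ F n)
  [HasLimit (Functor.ofOpSequence t)]

/-- the projections of the limit of a tower -/
noncomputable abbrev proj (n : ℕ) : limit (Functor.ofOpSequence t) ⟶ F n :=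
  limit.π (Functor.ofOpSequence t) (op n)

lemma proj_succ (n : ℕ) : proj t (n + 1) ≫ t n = proj t n := by
  have := limit.w (Functor.ofOpSequence t) (homOfLE (Nat.le_add_right n 1)).op
  rwa [Functor.ofOpSequence_map_homOfLE_succ] at this

lemma exists_lift (Z : C) (z : ∀ n, Z ⟶ F n) (hz : ∀ n, z (n + 1) ≫ t n = z n) :
    ∃ u : Z ⟶ limit (Functor.ofOpSequence t), (∀ n, u ≫ proj t n = z n) ∧
      ∀ u' : Z ⟶ limit (Functor.ofOpSequence t), (∀ n, u' ≫ proj t n = z n) → u' = u := by
  let c : Cone (Functor.ofOpSequence t) :=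
    { pt := Z
      π := NatTrans.ofOpSequence (F := (Functor.const ℕᵒᵖ).obj Z) (G := Functor.ofOpSequence t)
        (fun n => z n) (fun n => by
          rw [Functor.ofOpSequence_map_homOfLE_succ]
          exact (id_comp _).trans (hz n).symm) }
  refine ⟨limit.lift _ c, fun n => limit.lift_π c (op n), fun u' hu' => ?_⟩
  apply limit.hom_ext
  rintro ⟨n⟩
  rw [limit.lift_π]
  exact hu' n

end Tower

/-- **`R lim` of a tower of quasi-coherent modules with (eventually) surjective transition maps
is the ordinary limit, which has no higher cohomology on affine opens.** -/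
theorem main (F : ℕ → X.Modules) (hF : ∀ n, Coh.IsQCoh (F n)) (t : ∀ n, F (n + 1) ⟶ F n)
    (ht : ∀ n, 1 ≤ n → Epi (t n)) [HasProduct fun n => W (F n) 0] :
    (∃ c : (∏ᶜ fun n => W (F n) 0) ⟶ (W (limit (Functor.ofOpSequence t)) 0)⟦(1 : ℤ)⟧,
      Triangle.mk (Pi.lift fun n => (singleFunctor X.Modules 0).map (proj t n))
        (Pi.lift fun n => Pi.π (fun n => W (F n) 0) n -
          Pi.π (fun n => W (F n) 0) (n + 1) ≫ (singleFunctor X.Modules 0).map (t n)) c ∈
        distTriang (DerivedCategory X.Modules)) ∧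
      ∀ U : X.Opens, IsAffineOpen U → Acyc (GU U) (limit (Functor.ofOpSequence t)) := by
  have h := Groth.Agent.Helper9.RlimAbs.exists_triangle (𝒢 X) (isSeparating_𝒢 X) F t
    (fun G hG n => by
      obtain ⟨U, hU, rfl⟩ := hG
      haveI : (F n).IsQuasicoherent := hF n
      exact acyc U hU (F n))
    (fun G hG n hn f => by
      obtain ⟨U, hU, rfl⟩ := hG
      haveI := ht n hn
      exact exists_lift_of_epi U hU (hF (n + 1)) (hF n) (t n) f)
    (proj t) (proj_succ t) (exists_lift t)
  exact ⟨h.1, fun U hU => h.2 _ ⟨U, hU, rfl⟩⟩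


/-- acyclicity with respect to `GU U` gives the vanishing of the higher cohomology over `U` -/
theorem subsingleton_HHon_of_acyc (U : X.Opens) (L : X.Modules) (h : Acyc (GU U) L) (p : ℕ)
    (hp : 0 < p) : Subsingleton (Coh.HHon X L U p) := by
  haveI : EnoughInjectives (SheafOfModules.{u} X.ringCatSheaf) :=
    ModCechExt.enoughInjectives_mod X.ringCatSheaf
  haveI hE : HasExt.{u} (SheafOfModules.{u} X.ringCatSheaf) := hasExt_of_enoughInjectives _
  haveI : HasExt.{u} X.Modules := hE
  have hz : ∀ f : W (GU U) 0 ⟶ (W L 0)⟦(p : ℤ)⟧, f = 0 := fun f =>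
    hom_eq_zero_of_iso_single h 0 (-(p : ℤ)) (by omega) (wShift L p (-(p : ℤ)) 0 (by omega)) f
  haveI h0 : Subsingleton (ShiftedHom ((singleFunctor X.Modules 0).obj (GU U))
      ((singleFunctor X.Modules 0).obj L) (p : ℤ)) :=
    ⟨fun a b => (hz a).trans (hz b).symm⟩
  haveI h1 : Subsingleton (Abelian.Ext.{u} (GU U) L p) :=
    (Abelian.Ext.homEquiv (X := GU U) (Y := L) (n := p)).subsingleton
  obtain ⟨e1⟩ := ModCechExt.nonempty_addEquiv X.ringCatSheaf (yU U)
    (show SheafOfModules.{u} X.ringCatSheaf from L) p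
  haveI h1' : Subsingleton (Abelian.Ext.{u} ((ModCechRes.Φm X.ringCatSheaf).obj (yU U))
      (show SheafOfModules.{u} X.ringCatSheaf from L) p) := h1
  haveI h2 : Subsingleton (CohCx.HK (yU U) ((SheafOfModules.toSheaf X.ringCatSheaf).obj L) p) :=
    e1.symm.toEquiv.subsingleton
  haveI h3 : Subsingleton (CohTop.HU (Coh.toAb L) p U) := h2
  obtain ⟨e2⟩ := Groth.Agent.Helper1.HHonHU.nonempty_HHon_HU X L U p
  exact e2.toEquiv.subsingleton

end Groth.Agent.Helper9.RlimQc1
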