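import Mathlib
universe u v w x

namespace Groth.Agent.Helper9.RootQuad

variable {ι : Type u} {R : Type v} {M : Type w} {N : Type x} [CommRing R] [IsDomain R] [CharZero R]
    [AddCommGroup M] [Module R M] [AddCommGroup N] [Module R N] (P : RootPairing ι R M N)

lemma polar_coroot_aux (S : Submodule R N) (i : ι) (hS : P.coroot i ∈ S)
    (E : QuadraticMap R N R) (hE : ∀ y ∈ S, E (P.coreflection i y) = E y) (y : N) (hy : y ∈ S)
    (hc : P.root' i y ≠ 0) :
    QuadraticMap.polar E y (P.coroot i) = P.root' i y * E (P.coroot i) := by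
  have h := hE y hy
  rw [P.coreflection_apply, sub_eq_add_neg, ← neg_smul, QuadraticMap.map_add (⇑E),
    QuadraticMap.map_smul, QuadraticMap.polar_smul_right] at h
  simp only [smul_eq_mul] at h
  have h2 : P.root' i y * (P.root' i y * E (P.coroot i) - QuadraticMap.polar E y (P.coroot i)) = 0 := by
    linear_combination h
  rcases mul_eq_zero.1 h2 with h3 | h3
  · exact absurd h3 hc
  · exact (sub_eq_zero.1 h3).symm

lemma polar_coroot (S : Submodule R N) (i : ι) (hS : P.coroot i ∈ S)
    (E : QuadraticMap R N R) (hE : ∀ y ∈ S, E (P.coreflection i y) = E y) (y : N) (hy : y ∈ S) :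
    QuadraticMap.polar E y (P.coroot i) = P.root' i y * E (P.coroot i) := by
  by_cases hc : P.root' i y = 0
  · have h2 : P.root' i (y + P.coroot i) ≠ 0 := by
      rw [map_add, hc, zero_add, P.root'_coroot_eq_pairing, P.pairing_same]
      exact two_ne_zero
    have := polar_coroot_aux P S i hS E hE (y + P.coroot i) (S.add_mem hy hS) h2
    rw [QuadraticMap.polar_add_left, QuadraticMap.polar_self, map_add, hc, zero_add,
      P.root'_coroot_eq_pairing, P.pairing_same] at this
    rw [hc, zero_mul]
    rw [two_smul] at this
    linear_combination this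
  · exact polar_coroot_aux P S i hS E hE y hy hc

end Groth.Agent.Helper9.RootQuad
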