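import Mathlib
import Groth.Prelude.Def_CohSite
import Groth.Agent.Helper1.SitePush
import Groth.Agent.Helper1.DeltaHom
import Groth.Agent.Helper1.DeltaComp
import Groth.Agent.Helper9.ExtPshDelta

/-! Higher direct images on sites as sheafified cohomology presheaves, naturally. -/

set_option autoImplicit false
universe u

open CategoryTheory CategoryTheory.Limits Opposite Abelian

namespace Groth.Agent.Helper9.RpushNat

open Groth.Agent.Helper1.SiteCoh Groth.Agent.Helper1.DeltaFun Groth.Agent.Helper1

variable {C D : Type u} [SmallCategory C] [SmallCategory D]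
  (J : GrothendieckTopology C) (K : GrothendieckTopology D) (v : D ⥤ C) [v.IsContinuous K J]

/-- the free abelian sheaf functor on objects -/
noncomputable abbrev GY : C ⥤ Ab J :=
  yoneda ⋙ (Functor.whiskeringRight _ _ _).obj AddCommGrpCat.free.{u} ⋙
    presheafToSheaf J AddCommGrpCat.{u}

/-- cohomology presheaves as a δ-functor -/
noncomputable def cohPshDelta : DeltaFunctor (Ab J) (Cᵒᵖ ⥤ AddCommGrpCat.{u}) :=
  Groth.Agent.Helper9.ExtPshDelta.delta.{u} (GY J)

lemma cohPshDelta_T (n : ℕ) :
    (cohPshDelta J).T n = Sheaf.cohomologyPresheafFunctor.{u} J n := rfl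

lemma cohPshDelta_effaceable : (cohPshDelta J).Effaceable :=
  Groth.Agent.Helper9.ExtPshDelta.delta_effaceable.{u} (GY J)

/-- sheafified cohomology presheaves along `v` as a δ-functor -/
noncomputable def TSeqDelta : DeltaFunctor (Ab J) (Ab K) :=
  (cohPshDelta J).postcomp (Φ K v)

lemma TSeqDelta_effaceable : (TSeqDelta J K v).Effaceable :=
  fun I _ n => Functor.map_isZero (Φ K v) (cohPshDelta_effaceable J I n)

lemma rightDerivedDelta_effaceable :
    (rightDerivedDelta (CohSite.push J K v)).Effaceable :=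
  fun I _ n => Functor.isZero_rightDerived_obj_injective_succ _ n I

/-- higher direct images are the sheafified cohomology presheaves, naturally -/
noncomputable def RpushIso (n : ℕ) : CohSite.Rpush J K v n ≅ TSeq J K v n :=
  isoOfEffaceable (rightDerivedDelta_effaceable J K v) (TSeqDelta_effaceable J K v)
    (push0Iso J K v) n

section local_iso

variable {K}

/-- a morphism of presheaves which is bijective on the members of a covering family of every object
becomes an isomorphism after sheafification -/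
lemma W_of_bijective_on_cover {P Q : Dᵒᵖ ⥤ AddCommGrpCat.{u}} (d : P ⟶ Q)
    (h : ∀ V : D, ∃ (κ : Type u) (Y : κ → D) (g : ∀ k, Y k ⟶ V), Sieve.ofArrows Y g ∈ K V ∧
      ∀ k, Function.Bijective (d.app (op (Y k)))) : K.W d := by
  haveI : Presheaf.IsLocallyInjective K d := ⟨fun {X} x y hxy => by
    obtain ⟨κ, Y, g, hcov, hb⟩ := h X.unop
    refine K.superset_covering ?_ hcov
    intro W f hf
    obtain ⟨k, a, rfl⟩ := (Sieve.mem_ofArrows_iff _ _ _).1 hf
    show P.map (a ≫ g k).op x = P.map (a ≫ g k).op y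
    have h1 : P.map (g k).op x = P.map (g k).op y := by
      apply (hb k).1
      have n1 := NatTrans.naturality_apply d (g k).op x
      have n2 := NatTrans.naturality_apply d (g k).op y
      exact n1.trans ((congrArg (Q.map (g k).op) hxy).trans n2.symm)
    rw [op_comp, Functor.map_comp, ConcreteCategory.comp_apply, ConcreteCategory.comp_apply, h1]⟩
  haveI : Presheaf.IsLocallySurjective K d := ⟨fun {U} s => by
    obtain ⟨κ, Y, g, hcov, hb⟩ := h U
    refine K.superset_covering ?_ hcov
    intro W f hf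
    obtain ⟨k, a, rfl⟩ := (Sieve.mem_ofArrows_iff _ _ _).1 hf
    obtain ⟨t, ht⟩ := (hb k).2 (Q.map (g k).op s)
    refine ⟨P.map a.op t, ?_⟩
    have n1 := NatTrans.naturality_apply d a.op t
    refine n1.trans ?_
    rw [ht, op_comp, Functor.map_comp, ConcreteCategory.comp_apply]⟩
  exact K.W_of_isLocallyBijective d

/-- sheafified functors preserve a colimit as soon as they do so on the members of covering
families -/
lemma isColimit_sheafify_mapCocone {𝒜 : Type (u + 1)} [Category.{u} 𝒜] {ι : Type u}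
    [SmallCategory ι] (F : ι ⥤ 𝒜) (G₁ : 𝒜 ⥤ (Dᵒᵖ ⥤ AddCommGrpCat.{u})) (c : Cocone F)
    (h : ∀ V : D, ∃ (κ : Type u) (Y : κ → D) (g : ∀ k, Y k ⟶ V), Sieve.ofArrows Y g ∈ K V ∧
      ∀ k, Nonempty (IsColimit
        ((G₁ ⋙ (evaluation Dᵒᵖ AddCommGrpCat.{u}).obj (op (Y k))).mapCocone c))) :
    Nonempty (IsColimit ((G₁ ⋙ presheafToSheaf K AddCommGrpCat.{u}).mapCocone c)) := by
  let P := F ⋙ G₁
  let c₁ : Cocone P := G₁.mapCocone c
  let d : colimit P ⟶ c₁.pt := colimit.desc P c₁
  have hW : K.W d := W_of_bijective_on_cover d (by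
    intro V
    obtain ⟨κ, Y, g, hcov, hb⟩ := h V
    refine ⟨κ, Y, g, hcov, fun k => ?_⟩
    obtain ⟨hk⟩ := hb k
    have h0 : IsColimit (((evaluation Dᵒᵖ AddCommGrpCat.{u}).obj (op (Y k))).mapCocone
        (colimit.cocone P)) :=
      isColimitOfPreserves ((evaluation Dᵒᵖ AddCommGrpCat.{u}).obj (op (Y k)))
        (colimit.isColimit P)
    have hk' : IsColimit (((evaluation Dᵒᵖ AddCommGrpCat.{u}).obj (op (Y k))).mapCocone c₁) := hk
    have hd : d.app (op (Y k)) = (IsColimit.coconePointUniqueUpToIso h0 hk').hom := by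
      apply h0.hom_ext
      intro i
      rw [IsColimit.comp_coconePointUniqueUpToIso_hom]
      show (colimit.ι P i).app (op (Y k)) ≫ d.app (op (Y k)) = _
      rw [← NatTrans.comp_app, colimit.ι_desc]
      rfl
    have : IsIso (d.app (op (Y k))) := by
      rw [hd]
      infer_instance
    exact (ConcreteCategory.isIso_iff_bijective _).1 this)
  haveI : IsIso ((presheafToSheaf K AddCommGrpCat.{u}).map d) := (K.W_iff d).1 hW
  have hL : IsColimit ((presheafToSheaf K AddCommGrpCat.{u}).mapCocone (colimit.cocone P)) :=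
    isColimitOfPreserves (presheafToSheaf K AddCommGrpCat.{u}) (colimit.isColimit P)
  refine ⟨IsColimit.ofIsoColimit hL
    (Cocone.ext (asIso ((presheafToSheaf K AddCommGrpCat.{u}).map d)) (fun i => ?_))⟩
  show (presheafToSheaf K AddCommGrpCat.{u}).map (colimit.ι P i) ≫
    (presheafToSheaf K AddCommGrpCat.{u}).map d = _
  rw [← Functor.map_comp, colimit.ι_desc]
  rfl

end local_iso

theorem preservesColimit_Rpush {ι : Type u} [SmallCategory ι]
    (F : ι ⥤ Sheaf J AddCommGrpCat.{u}) (p : ℕ)
    (h : ∀ V : D, ∃ (κ : Type u) (Y : κ → D) (g : ∀ k, Y k ⟶ V), Sieve.ofArrows Y g ∈ K V ∧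
      ∀ k, PreservesColimit F
        ((Sheaf.cohomologyPresheafFunctor J p).flip.obj (op (v.obj (Y k))))) :
    PreservesColimit F (CohSite.Rpush J K v p) := by
  haveI : PreservesColimit F (TSeq J K v p) := ⟨fun {c} hc => by
    refine isColimit_sheafify_mapCocone F
      (Sheaf.cohomologyPresheafFunctor.{u} J p ⋙
        (Functor.whiskeringLeft Dᵒᵖ Cᵒᵖ AddCommGrpCat.{u}).obj v.op) c ?_
    intro V
    obtain ⟨κ, Y, g, hcov, hp⟩ := h V
    refine ⟨κ, Y, g, hcov, fun k => ?_⟩
    haveI := hp k
    exact ⟨isColimitOfPreserves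
      ((Sheaf.cohomologyPresheafFunctor J p).flip.obj (op (v.obj (Y k)))) hc⟩⟩
  exact preservesColimit_of_natIso F (RpushIso J K v p).symm

end Groth.Agent.Helper9.RpushNat
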