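import Mathlib
import Groth.Prelude.Def_DRing4
import Groth.Prelude.Def_DTen5
import Groth.Agent.Helper6.ExtTen
import Groth.Agent.Helper6.HomTenA
import Groth.Agent.Helper6.AdjHC
import Groth.Agent.Helper6.Coext1

/-!
# `Hom•_B(G ⊗_P B, Hom_P(B, I)) ≅ Hom_P(B, Hom•_P(G, I))`

The conjugate of the projection formula `res (L ⊗_B ext G) ≅ res L ⊗_P G` under the adjunctions
`(- ⊗ X) ⊣ Hom•(X, -)` and `res ⊣ coext`.
-/

set_option autoImplicit false
set_option linter.style.haveILetI false
set_option linter.unusedSectionVars false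
set_option linter.unusedVariables false

universe u

open CategoryTheory CategoryTheory.Limits MonoidalCategory CochainComplex CochainComplex.HomComplex

namespace Groth.Agent.Helper9.SD1

open Groth.Agent.Helper6

variable {P B : Type u} [CommRing P] [CommRing B] (ψ : P →+* B) (G : DRing.Cx P)

/-- the adjunction restriction ⊣ coextension on complexes -/
noncomputable def adjRC : DTen.resCx ψ ⊣ Coext.cCx ψ :=
  AdjHC.adjHC (ModuleCat.restrictCoextendScalarsAdj.{u} ψ) (ComplexShape.up ℤ)

/-- the projection formula, as an isomorphism of functors in the `B`-complex -/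
noncomputable def leftIso :
    DTen.resCx ψ ⋙ tensorRight G ≅ tensorRight ((DTen.extCx ψ).obj G) ⋙ DTen.resCx ψ :=
  NatIso.ofComponents (fun L => asIso (ExtTen.θ ψ L G))
    (fun {L L'} g => ExtTen.θ_naturality_left ψ g G)

/-- **`Hom•_B(ext G, coext -) ≅ coext Hom•_P(G, -)`** -/
noncomputable def conjIso :
    Coext.cCx ψ ⋙ DRing.homCxFunctor ((DTen.extCx ψ).obj G) ≅
      DRing.homCxFunctor G ⋙ Coext.cCx ψ :=
  conjugateIsoEquiv ((HomTen.adjC ((DTen.extCx ψ).obj G)).comp (adjRC ψ))
    ((adjRC ψ).comp (HomTen.adjC G)) (leftIso ψ G)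

section Shift

variable {A : Type u} [CommRing A]

/-- `Hom•(E, L)⟦a⟧ ≅ Hom•(E, L⟦a⟧)` -/
noncomputable def homCxShiftIso₂ (E L : DRing.Cx A) (a : ℤ) :
    (DRing.homCx E L)⟦a⟧ ≅ DRing.homCx E (L⟦a⟧) :=
  HomologicalComplex.Hom.isoOfComponents
    (fun n' => (Cochain.rightShiftLinearEquiv A E L (n' + a) a n' rfl).toModuleIso)
    (fun n' m' _ => by
      ext (γ : Cochain E L (n' + a))
      change δ n' m' (γ.rightShift a n' rfl) =
        ((a.negOnePow : ℤˣ) • δ (n' + a) (m' + a) γ).rightShift a m' rfl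
      rw [Cochain.rightShift_units_smul]
      exact Cochain.δ_rightShift γ a n' m' rfl (m' + a) rfl)

end Shift

end Groth.Agent.Helper9.SD1
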