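import Mathlib
import Groth.Prelude.Def_DRing4
import Groth.Agent.Helper9.FB4
import Groth.Agent.Helper6.BiD8
import Groth.Agent.Helper6.DFinExt
import Groth.Agent.Helper6.LocExt4
import Groth.Agent.Helper3.DRingCone

/-!
# Flat base change of `Hom(X, ω[i])` for unbounded `X` with finite cohomology

`P ⊗_A Hom_A(X, W[i]) → Hom_P(X_P, W_P[i])` is bijective when `W` is a bounded complex of injectives
whose base change is again represented by a bounded complex of injectives.
-/

set_option autoImplicit false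
set_option linter.style.haveILetI false
set_option linter.unusedSectionVars false
set_option linter.unusedVariables false

universe u
open CategoryTheory CategoryTheory.Limits Pretriangulated DerivedCategory
attribute [local instance] HasDerivedCategory.standard

namespace Groth.Agent.Helper9.SD2

open Groth.Agent.Helper6 Groth.Agent.Helper3.DRingLib Groth.Agent.Helper6.LocExt
open Groth.Agent.Helper9.FB1

variable {A P : Type u} [CommRing A] [CommRing P] [Algebra A P] [Module.Flat A P]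
  [IsNoetherianRing A]

theorem bij_coh (W : DRing.Cx A) (aW bW : ℤ) (hvW : DRing.VanishesOutside W aW bW)
    (hiW : DRing.TermwiseInjective W)
    (I : DRing.Cx P) (aI bI : ℤ) (hvI : DRing.VanishesOutside I aI bI)
    (hiI : DRing.TermwiseInjective I)
    (e : (FlatBC.ED A P).obj (Q.obj W) ≅ Q.obj I)
    (X : Dual.D A) (hX : ∀ k : ℤ, Module.Finite A (Dual.HD A X k)) (i : ℤ) :
    Function.Bijective (β (FB4.semilinear_ED (R := A) (R' := P)) X ((Q.obj W)⟦i⟧)) := by
  have hF : Semilinear (FlatBC.ED A P) := FB4.semilinear_ED (R := A) (R' := P)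
  obtain ⟨n, hn⟩ : ∃ n : ℤ, n = max bW bI - i := ⟨_, rfl⟩
  have hn1 : bW ≤ n + i := by have := le_max_left bW bI; omega
  have hn2 : bI ≤ n + i := by have := le_max_right bW bI; omega
  obtain ⟨X', G, hX', hG, f, g, δ, hT⟩ := TStructure.t.exists_triangle X n (n + 1) rfl
  haveI iX' : X'.IsLE n := ⟨hX'⟩
  haveI iG : G.IsGE (n + 1) := ⟨hG⟩
  haveI iG3 : (Triangle.mk f g δ).obj₃.IsGE (n + 1) := iG
  haveI iG' : (G⟦(-1 : ℤ)⟧).IsGE (n + 2) :=
    TStructure.t.isGE_shift G (n + 1) (-1) (n + 2) (by omega)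
  have hfinX' : ∀ k : ℤ, Module.Finite A (Dual.HD A X' k) := by
    intro k
    by_cases hk : k ≤ n
    · haveI hiso : IsIso ((homologyFunctor (ModuleCat.{u} A) k).map f) :=
        isIso_HD_mor₁ (Triangle.mk f g δ) hT n k hk
      haveI := hX k
      exact Module.Finite.equiv
        (asIso ((homologyFunctor (ModuleCat.{u} A) k).map f)).toLinearEquiv.symm
    · haveI := subsingleton_HD_of_isLE X' n k (by omega)
      infer_instance
  have hpc : DRing.IsPseudoCoherent' A X' :=
    (isPseudoCoherent'_iff_forall X').mpr (pc_of_finite X' n hfinX')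
  haveI hW0 : (Q.obj W).IsGE aW :=
    isGE_of_HD _ aW (fun k hk => DFinExt.subsingleton_HD_toD W k (hvW k (Or.inl hk)))
  have hKGE : ((Q.obj W)⟦i⟧).IsGE (aW - i) :=
    TStructure.t.isGE_shift (Q.obj W) aW i (aW - i) (by omega)
  -- vanishing over `A`
  have vA : ∀ (Y : Dual.D A) (m : ℤ) [Y.IsGE m] (hm : bW < m + i) (h : Y ⟶ (Q.obj W)⟦i⟧),
      h = 0 := fun Y m _ hm h => DFinExt.vanish_high W aW bW hvW hiW Y m i hm h
  -- vanishing over `P`
  let eK : (FlatBC.ED A P).obj ((Q.obj W)⟦i⟧) ≅ (Q.obj I)⟦i⟧ :=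
    ((FlatBC.ED A P).commShiftIso i).app (Q.obj W) ≪≫ (shiftFunctor (Dual.D P) i).mapIso e
  have vP : ∀ (Y : Dual.D A) (m : ℤ) [Y.IsGE m] (hm : bI < m + i)
      (h : (FlatBC.ED A P).obj Y ⟶ (FlatBC.ED A P).obj ((Q.obj W)⟦i⟧)), h = 0 := by
    intro Y m _ hm h
    haveI : ((FlatBC.ED A P).obj Y).IsGE m := FB4.isGE_ED Y m inferInstance
    have h0 := DFinExt.vanish_high I aI bI hvI hiI ((FlatBC.ED A P).obj Y) m i hm (h ≫ eK.hom)
    calc h = (h ≫ eK.hom) ≫ eK.inv := by rw [Category.assoc, Iso.hom_inv_id, Category.comp_id]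
      _ = 0 := by rw [h0, zero_comp]
  refine five_X hF (Triangle.mk f g δ) hT _ ?_ ?_ ?_ ?_
  · exact (FB4.bij_pc (FlatBC.adjD A P) (isPseudoCoherent'_shift 1 hpc) _ (aW - i) hKGE).2
  · exact FB2.bij_of_hom_zero hF _ _ (vA G (n + 1) (by omega)) (vP G (n + 1) (by omega))
  · exact FB4.bij_pc (FlatBC.adjD A P) hpc _ (aW - i) hKGE
  · exact (FB2.bij_of_hom_zero hF _ _ (vA (G⟦(-1 : ℤ)⟧) (n + 2) (by omega))
      (vP (G⟦(-1 : ℤ)⟧) (n + 2) (by omega))).1

end Groth.Agent.Helper9.SD2
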