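import Mathlib
import Groth.Prelude.Def_DRing4
import Groth.Agent.Helper3.DRingBC
import Groth.Agent.Helper1.FlatCxBC2
import Groth.Agent.Helper6.LocExt1
import Groth.Agent.Helper6.BiD2

/-!
# The base change map `Hom•_A(K, W) ⊗_A P → Hom•_P(K ⊗_A P, I)` (chain level)

For `j : W ⊗_A P ⟶ I`.
-/

set_option autoImplicit false
set_option linter.style.haveILetI false
set_option linter.unusedSectionVars false
set_option linter.unusedVariables false

universe u
open CategoryTheory CategoryTheory.Limits CochainComplex CochainComplex.HomComplex DerivedCategory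
  TensorProduct
attribute [local instance] HasDerivedCategory.standard

namespace Groth.Agent.Helper9.SD3

open Groth.Agent.Helper3.DRingLib Groth.Agent.Helper6 Groth.Agent.Helper1.FlatCx

variable {A P : Type u} [CommRing A] [CommRing P] [Algebra A P]
variable (K W : DRing.Cx A) (I : DRing.Cx P) (j : (bcCx A P).obj W ⟶ I)

/-- base change of a cochain followed by `j` -/
noncomputable def γ (n : ℤ) (z : Cochain K W n) : Cochain ((bcCx A P).obj K) I n :=
  (z.map (bcF A P)).comp (Cochain.ofHom j) (add_zero n)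

lemma γ_v (n : ℤ) (z : Cochain K W n) (p q : ℤ) (hpq : p + n = q) :
    (γ K W I j n z).v p q hpq = (bcF A P).map (z.v p q hpq) ≫ j.f q := by
  unfold γ
  rw [Cochain.comp_zero_cochain_v, Cochain.ofHom_v]
  rfl

lemma γ_add (n : ℤ) (z z' : Cochain K W n) :
    γ K W I j n (z + z') = γ K W I j n z + γ K W I j n z' := by
  unfold γ
  rw [Cochain.map_add, Cochain.add_comp]

lemma γ_zero (n : ℤ) : γ K W I j n 0 = 0 := by
  unfold γ
  rw [Cochain.map_zero, Cochain.zero_comp]

lemma γ_smul (n : ℤ) (a : A) (z : Cochain K W n) :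
    γ K W I j n (a • z) = algebraMap A P a • γ K W I j n z := by
  ext p q hpq
  rw [γ_v, Cochain.smul_v, Cochain.smul_v, γ_v, LocExt.bcF_map_smul, Linear.smul_comp]
  rfl

lemma δ_γ (n m : ℤ) (z : Cochain K W n) :
    δ n m (γ K W I j n z) = γ K W I j m (δ n m z) := by
  unfold γ
  rw [δ_comp_ofHom, δ_map]

/-- the additive map `γ` -/
noncomputable def γHom (n : ℤ) : Cochain K W n →+ Cochain ((bcCx A P).obj K) I n :=
  AddMonoidHom.mk' (γ K W I j n) (γ_add K W I j n)

/-- `p ⊗ z ↦ p • γ z` -/
noncomputable def Γ (n : ℤ) : P ⊗[A] Cochain K W n →+ Cochain ((bcCx A P).obj K) I n :=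
  TensorProduct.liftAddHom
    (AddMonoidHom.mk' (fun p : P => AddMonoidHom.mk' (fun z => p • γ K W I j n z)
        (fun z z' => by rw [γ_add, smul_add]))
      (fun p p' => AddMonoidHom.ext fun z => by
        change (p + p') • γ K W I j n z = p • γ K W I j n z + p' • γ K W I j n z
        rw [add_smul]))
    (fun a p z => by
      change (a • p) • γ K W I j n z = p • γ K W I j n (a • z)
      rw [γ_smul, Algebra.smul_def, mul_comm, mul_smul])

@[simp]
lemma Γ_tmul (n : ℤ) (p : P) (z : Cochain K W n) :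
    Γ K W I j n (p ⊗ₜ[A] z) = p • γ K W I j n z := by
  unfold Γ
  rw [TensorProduct.liftAddHom_tmul]
  rfl

lemma Γ_smul (n : ℤ) (p : P) (t : P ⊗[A] Cochain K W n) :
    Γ K W I j n (p • t) = p • Γ K W I j n t := by
  induction t using TensorProduct.induction_on with
  | zero => simp
  | tmul p' z => rw [TensorProduct.smul_tmul', Γ_tmul, Γ_tmul, smul_eq_mul, mul_smul]
  | add x y hx hy => rw [smul_add, map_add, map_add, hx, hy, smul_add]

lemma δ_Γ (n m : ℤ) (t : P ⊗[A] Cochain K W n) :
    δ n m (Γ K W I j n t) = Γ K W I j m ((δ_hom A K W n m).lTensor P t) := by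
  induction t using TensorProduct.induction_on with
  | zero => simp
  | tmul p z =>
    rw [LinearMap.lTensor_tmul, Γ_tmul, Γ_tmul, δ_smul, δ_γ]
    rfl
  | add x y hx hy => rw [map_add, δ_add, hx, hy, map_add, map_add]

/-- `Γ` as a `P`-linear map -/
noncomputable def ΓLin (n : ℤ) : P ⊗[A] Cochain K W n →ₗ[P] Cochain ((bcCx A P).obj K) I n where
  toFun := Γ K W I j n
  map_add' := map_add _
  map_smul' := fun p t => Γ_smul K W I j n p t

/-- the components of the base change map -/
noncomputable def c₀f (n : ℤ) :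
    (bcF A P).obj ((DRing.homCx K W).X n) ⟶ (DRing.homCx ((bcCx A P).obj K) I).X n :=
  (extendScalarsEquiv (S := P) ((DRing.homCx K W).X n)).toModuleIso.hom ≫
    ModuleCat.ofHom (ΓLin K W I j n)

lemma c₀f_apply (n : ℤ) (x : (bcF A P).obj ((DRing.homCx K W).X n)) :
    (c₀f K W I j n).hom x =
      Γ K W I j n (extendScalarsEquiv (S := P) ((DRing.homCx K W).X n) x) := rfl

/-- **the base change map** -/
noncomputable def c₀ : (bcCx A P).obj (DRing.homCx K W) ⟶ DRing.homCx ((bcCx A P).obj K) I where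
  f n := c₀f K W I j n
  comm' n m _ := by
    apply ModuleCat.hom_ext
    apply LinearMap.ext
    intro (x : (bcF A P).obj ((DRing.homCx K W).X n))
    change δ n m (Γ K W I j n (extendScalarsEquiv (S := P) ((DRing.homCx K W).X n) x)) =
      Γ K W I j m (extendScalarsEquiv (S := P) ((DRing.homCx K W).X m)
        (((bcF A P).map ((DRing.homCx K W).d n m)).hom x))
    rw [δ_Γ, extendScalarsEquiv_map]
    rfl

lemma c₀_f_apply (n : ℤ) (x : (bcF A P).obj ((DRing.homCx K W).X n)) :
    ((c₀ K W I j).f n).hom x =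
      Γ K W I j n (extendScalarsEquiv (S := P) ((DRing.homCx K W).X n) x) := rfl

/-- `γ` on cocycles -/
noncomputable def γc (n : ℤ) (z : Cocycle K W n) : Cocycle ((bcCx A P).obj K) I n :=
  Cocycle.mk (γ K W I j n z.1) (n + 1) rfl (by rw [δ_γ, z.δ_eq_zero, γ_zero])

lemma γc_coe (n : ℤ) (z : Cocycle K W n) : (γc K W I j n z).1 = γ K W I j n z.1 := rfl

lemma equivHomShift_symm_γc (n : ℤ) (z : Cocycle K W n) :
    Cocycle.equivHomShift.symm (γc K W I j n z) =
      (bcCx A P).map (Cocycle.equivHomShift.symm z) ≫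
        ((bcF A P).mapCochainComplexShiftIso n).hom.app W ≫ j⟦n⟧' := by
  ext p : 1
  simp only [Cocycle.equivHomShift_symm_apply, Cocycle.homOf_f, Cocycle.rightShift_coe,
    HomologicalComplex.comp_f, Functor.mapHomologicalComplex_map_f,
    Functor.mapCochainComplexShiftIso_hom_app_f, CochainComplex.shiftFunctor_map_f']
  rw [Cochain.rightShift_v _ n 0 (zero_add n) p p (add_zero p) (p + n) rfl,
    Cochain.rightShift_v _ n 0 (zero_add n) p p (add_zero p) (p + n) rfl, γc_coe, γ_v]
  simp only [shiftFunctorObjXIso, HomologicalComplex.XIsoOfEq_rfl, Iso.refl_inv]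
  erw [Category.comp_id]

lemma γc_add (n : ℤ) (z z' : Cocycle K W n) :
    γc K W I j n (z + z') = γc K W I j n z + γc K W I j n z' := by
  apply Cocycle.ext
  rw [Cocycle.coe_add, γc_coe, γc_coe, γc_coe, Cocycle.coe_add, γ_add]

section Derived

variable [Module.Flat A P]

/-- the comparison `(W[n])_P → I[n]` in the derived category -/
noncomputable def θ (n : ℤ) : (bcD A P).obj (Q.obj (W⟦n⟧)) ⟶ Q.obj (I⟦n⟧) :=
  (bcDToD P (W⟦n⟧)).hom ≫
    Q.map (((bcF A P).mapCochainComplexShiftIso n).hom.app W ≫ j⟦n⟧')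

lemma isIso_θ [QuasiIso j] (n : ℤ) : IsIso (θ W I j n) := by
  haveI : QuasiIso (j⟦n⟧') := inferInstance
  haveI : QuasiIso (((bcF A P).mapCochainComplexShiftIso n).hom.app W ≫ j⟦n⟧') := inferInstance
  unfold θ
  infer_instance

/-- **the class of `γ z` in the derived category** -/
lemma gOf_γc (n : ℤ) (z : Cocycle K W n) :
    BiD.gOf ((bcCx A P).obj K) I n (γc K W I j n z) =
      (bcDToD P K).inv ≫ (bcD A P).map (BiD.gOf K W n z) ≫ θ W I j n := by
  unfold BiD.gOf θ
  rw [equivHomShift_symm_γc, Functor.map_comp]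
  have hnat : (bcD A P).map (Q.map (Cocycle.equivHomShift.symm z)) ≫ (bcDToD P (W⟦n⟧)).hom =
      (bcDToD P K).hom ≫ Q.map ((bcCx A P).map (Cocycle.equivHomShift.symm z)) :=
    (bcF A P).mapDerivedCategoryFactors.hom.naturality (Cocycle.equivHomShift.symm z)
  rw [← Category.assoc ((bcD A P).map _), hnat, Category.assoc, Iso.inv_hom_id_assoc]

end Derived

end Groth.Agent.Helper9.SD3
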