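import Mathlib
import Groth.Prelude.Def_DRing4
import Groth.Agent.Helper9.SD3
import Groth.Agent.Helper9.FB1
import Groth.Agent.Helper6.BiD1
import Groth.Agent.Helper6.BiD7

/-!
# The base change map `Hom•_A(K, W) ⊗_A P → Hom•_P(K ⊗_A P, I)` is a quasi-isomorphism

as soon as the corresponding comparison of `Hom` groups in the derived categories is bijective.
-/

set_option autoImplicit false
set_option linter.style.haveILetI false
set_option linter.unusedSectionVars false
set_option linter.unusedVariables false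

universe u
open CategoryTheory CategoryTheory.Limits CochainComplex CochainComplex.HomComplex DerivedCategory
  TensorProduct
attribute [local instance] HasDerivedCategory.standard

namespace Groth.Agent.Helper9.SD4

open Groth.Agent.Helper3.DRingLib Groth.Agent.Helper6 Groth.Agent.Helper1.FlatCx
open Groth.Agent.Helper9.SD3 Groth.Agent.Helper9.FB1 Groth.Agent.Helper6.BiD

variable {A P : Type u} [CommRing A] [CommRing P] [Algebra A P]
variable (K W : DRing.Cx A) (I : DRing.Cx P) (j : (bcCx A P).obj W ⟶ I)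

section LinearMaps

variable (n : ℤ)

/-- the inclusion of cocycles into cochains -/
noncomputable def ι : Cocycle K W n →ₗ[A] Cochain K W n where
  toFun z := z.1
  map_add' := Cocycle.coe_add
  map_smul' a z := Cocycle.coe_smul z a

/-- the differential, as a map into the cocycles -/
noncomputable def dZ : Cochain K W (n - 1) →ₗ[A] Cocycle K W n where
  toFun w := Cocycle.mk (δ (n - 1) n w) (n + 1) rfl (δ_δ _ _ _ _)
  map_add' w w' := by
    apply Cocycle.ext
    rw [Cocycle.coe_add]
    exact δ_add _ _ _ _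
  map_smul' a w := by
    apply Cocycle.ext
    rw [RingHom.id_apply, Cocycle.coe_smul]
    exact δ_smul _ _ _ _

/-- the class of a cocycle, as a morphism in the derived category -/
noncomputable def kA : Cocycle K W n →ₗ[A] (DRing.toD K ⟶ DRing.toD (W⟦n⟧)) where
  toFun := gOf K W n
  map_add' := gOf_add K W n
  map_smul' a z := gOf_smul K W n a z

lemma ι_dZ : (ι K W n).comp (dZ K W n) = δ_hom A K W (n - 1) n := rfl

lemma exact_ι : Function.Exact (ι K W n) (δ_hom A K W n (n + 1)) := by
  intro x
  constructor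
  · intro hx
    exact ⟨Cocycle.mk x (n + 1) rfl hx, rfl⟩
  · rintro ⟨z, rfl⟩
    exact z.δ_eq_zero (n + 1)

lemma exact_kA [W.IsKInjective] : Function.Exact (dZ K W n) (kA K W n) := by
  intro z
  constructor
  · intro hz
    obtain ⟨w, hw⟩ := (gOf_eq_zero_iff K W n z).mp hz
    exact ⟨w, Cocycle.ext hw⟩
  · rintro ⟨w, rfl⟩
    exact (gOf_eq_zero_iff K W n _).mpr ⟨w, rfl⟩

lemma kA_surjective [W.IsKInjective] : Function.Surjective (kA K W n) := fun g =>
  gOf_surjective K W n g

end LinearMaps

section Xi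

variable (n : ℤ)

lemma γc_smul (a : A) (z : Cocycle K W n) :
    γc K W I j n (a • z) = algebraMap A P a • γc K W I j n z := by
  apply Cocycle.ext
  rw [Cocycle.coe_smul, γc_coe, γc_coe, Cocycle.coe_smul, γ_smul]

/-- `p ⊗ z ↦ p • γ z` on cocycles -/
noncomputable def Ξ : P ⊗[A] Cocycle K W n →+ Cocycle ((bcCx A P).obj K) I n :=
  TensorProduct.liftAddHom
    (AddMonoidHom.mk' (fun p : P => AddMonoidHom.mk' (fun z => p • γc K W I j n z)
        (fun z z' => by rw [γc_add, smul_add]))
      (fun p p' => AddMonoidHom.ext fun z => by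
        change (p + p') • γc K W I j n z = p • γc K W I j n z + p' • γc K W I j n z
        rw [add_smul]))
    (fun a p z => by
      change (a • p) • γc K W I j n z = p • γc K W I j n (a • z)
      rw [γc_smul, Algebra.smul_def, mul_comm, mul_smul])

@[simp]
lemma Ξ_tmul (p : P) (z : Cocycle K W n) : Ξ K W I j n (p ⊗ₜ[A] z) = p • γc K W I j n z := by
  unfold Ξ
  rw [TensorProduct.liftAddHom_tmul]
  rfl

lemma Ξ_coe (t : P ⊗[A] Cocycle K W n) :
    (Ξ K W I j n t).1 = Γ K W I j n ((ι K W n).lTensor P t) := by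
  induction t using TensorProduct.induction_on with
  | zero => simp
  | tmul p z =>
    rw [Ξ_tmul, LinearMap.lTensor_tmul, Γ_tmul, Cocycle.coe_smul, γc_coe]
    rfl
  | add x y hx hy => rw [map_add, map_add, map_add, Cocycle.coe_add, hx, hy]

variable [Module.Flat A P]

lemma gOf_Ξ (hF : Semilinear (bcD A P)) (t : P ⊗[A] Cocycle K W n) :
    gOf ((bcCx A P).obj K) I n (Ξ K W I j n t) =
      (bcDToD P K).inv ≫ β hF (Q.obj K) (Q.obj (W⟦n⟧)) ((kA K W n).lTensor P t) ≫
        θ W I j n := by
  induction t using TensorProduct.induction_on with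
  | zero => simp [gOf]
  | tmul p z =>
    rw [Ξ_tmul, gOf_smul, gOf_γc, LinearMap.lTensor_tmul, β_tmul, Linear.smul_comp,
      Linear.comp_smul]
    rfl
  | add x y hx hy =>
    rw [map_add, gOf_add, hx, hy, map_add, map_add, Preadditive.add_comp, Preadditive.comp_add]

end Xi

section Main

variable [Module.Flat A P]

/-- **flat base change for `Hom•` into a K-injective resolution of the base change** -/
theorem quasiIso_c₀ [W.IsKInjective] [I.IsKInjective] [QuasiIso j] (hF : Semilinear (bcD A P))
    (hβ : ∀ n : ℤ, Function.Bijective (β hF (Q.obj K) (Q.obj (W⟦n⟧)))) :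
    QuasiIso (c₀ K W I j) := by
  rw [quasiIso_iff]
  intro n
  haveI hθ : IsIso (θ W I j n) := isIso_θ W I j n
  have eX : ∀ m : ℤ, ((bcCx A P).obj (DRing.homCx K W)).X m = (bcF A P).obj ((DRing.homCx K W).X m) :=
    fun m => rfl
  have hd : ∀ (m m' : ℤ) (x : (bcF A P).obj ((DRing.homCx K W).X m)),
      extendScalarsEquiv (S := P) ((DRing.homCx K W).X m')
        ((((bcCx A P).obj (DRing.homCx K W)).d m m').hom x) =
      (δ_hom A K W m m').lTensor P (extendScalarsEquiv (S := P) ((DRing.homCx K W).X m) x) :=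
    fun m m' x => extendScalarsEquiv_map (S := P) ((DRing.homCx K W).d m m') x
  have hex1 := Module.Flat.lTensor_exact P (exact_ι K W n)
  have hex2 := Module.Flat.lTensor_exact P (exact_kA K W n)
  apply quasiIsoAt_of_elementwise
  · -- injectivity
    intro (x : (bcF A P).obj ((DRing.homCx K W).X n)) hx hy
    obtain ⟨y', hy'⟩ := hy
    have hx' : ((bcF A P).map ((DRing.homCx K W).d n (n + 1))).hom x = 0 := hx
    have h1 : (δ_hom A K W n (n + 1)).lTensor P
        (extendScalarsEquiv (S := P) ((DRing.homCx K W).X n) x) = 0 := by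
      have := extendScalarsEquiv_map (S := P) ((DRing.homCx K W).d n (n + 1)) x
      rw [hx', map_zero] at this
      exact this.symm
    obtain ⟨t, ht⟩ := (hex1 _).mp h1
    have h2 : ((c₀ K W I j).f n).hom x = (Ξ K W I j n t).1 := by
      rw [Ξ_coe, ht]
      rfl
    have h3 : gOf ((bcCx A P).obj K) I n (Ξ K W I j n t) = 0 :=
      (gOf_eq_zero_iff _ I n _).mpr ⟨y', hy'.trans h2⟩
    rw [gOf_Ξ K W I j n hF t] at h3
    have h4 : β hF (Q.obj K) (Q.obj (W⟦n⟧)) ((kA K W n).lTensor P t) = 0 := by
      have h5 := (cancel_epi (bcDToD P K).inv).mp (h3.trans comp_zero.symm)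
      exact (cancel_mono (θ W I j n)).mp (h5.trans zero_comp.symm)
    have h6 : (kA K W n).lTensor P t = 0 := (hβ n).1 (h4.trans (map_zero _).symm)
    obtain ⟨s, hs⟩ := (hex2 _).mp h6
    refine ⟨(extendScalarsEquiv (S := P) ((DRing.homCx K W).X (n - 1))).symm s, ?_⟩
    apply (extendScalarsEquiv (S := P) ((DRing.homCx K W).X n)).injective
    rw [hd (n - 1) n, LinearEquiv.apply_symm_apply, ← ι_dZ, LinearMap.lTensor_comp,
      LinearMap.comp_apply, hs, ht]
  · -- surjectivity
    intro (y : Cochain ((bcCx A P).obj K) I n) hy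
    obtain ⟨ζ, hζ⟩ : ∃ ζ : Cocycle ((bcCx A P).obj K) I n, ζ.1 = y :=
      ⟨Cocycle.mk y (n + 1) rfl hy, rfl⟩
    obtain ⟨τ, hτ⟩ := (hβ n).2 ((bcDToD P K).hom ≫ gOf ((bcCx A P).obj K) I n ζ ≫ inv (θ W I j n))
    obtain ⟨t, ht⟩ := LinearMap.lTensor_surjective P (kA_surjective K W n) τ
    refine ⟨(extendScalarsEquiv (S := P) ((DRing.homCx K W).X n)).symm ((ι K W n).lTensor P t),
      ?_, ?_⟩
    · show ((bcF A P).map ((DRing.homCx K W).d n (n + 1))).hom _ = 0
      apply (extendScalarsEquiv (S := P) ((DRing.homCx K W).X (n + 1))).injective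
      rw [extendScalarsEquiv_map, LinearEquiv.apply_symm_apply, map_zero]
      exact hex1.apply_apply_eq_zero t
    · have h2 : ((c₀ K W I j).f n).hom ((extendScalarsEquiv (S := P)
          ((DRing.homCx K W).X n)).symm ((ι K W n).lTensor P t)) = (Ξ K W I j n t).1 := by
        rw [Ξ_coe, c₀_f_apply, LinearEquiv.apply_symm_apply]
      have h3 : gOf ((bcCx A P).obj K) I n (ζ - Ξ K W I j n t) = 0 := by
        rw [gOf_sub, gOf_Ξ K W I j n hF t, ht, hτ]
        simp
      obtain ⟨w, hw⟩ := (gOf_eq_zero_iff _ I n _).mp h3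
      refine ⟨w, ?_⟩
      rw [h2, ← hζ]
      exact hw.trans (Cocycle.coe_sub _ _)

end Main

end Groth.Agent.Helper9.SD4
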