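import Mathlib
import Groth.Prelude.Def_DRing4
import Groth.Prelude.Def_DDual2
import Groth.Agent.Helper9.SD1
import Groth.Agent.Helper9.HomT1
import Groth.Agent.Helper6.BiD8
import Groth.Agent.Helper6.Coext1
import Groth.Agent.Helper6.HomCxPre

/-!
# `RHom_P(B, L) ≅ Hom•_B(G ⊗_P B, Hom_P(B, I))` for a K-flat model `G` of the dual of `L`
-/

set_option autoImplicit false
set_option linter.style.haveILetI false
set_option linter.unusedSectionVars false
set_option linter.unusedVariables false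

universe u
open CategoryTheory CategoryTheory.Limits CochainComplex CochainComplex.HomComplex DerivedCategory
attribute [local instance] HasDerivedCategory.standard

namespace Groth.Agent.Helper9.SD5

open Groth.Agent.Helper6 Groth.Agent.Helper6.BiD Groth.Agent.Helper6.HomCxPre

variable {P B : Type u} [CommRing P] [CommRing B] [IsNoetherianRing P]
  (ψ : P →+* B) {Rψ : Dual.D P ⥤ Dual.D B} (adj : DRing.restrictD ψ ⊣ Rψ)
  (I : DRing.Cx P) (a b : ℤ) (hv : DRing.VanishesOutside I a b) (hinj : DRing.TermwiseInjective I)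
  [I.IsKInjective]
  (hend : Function.Bijective (fun x : P => x • 𝟙 (DRing.toD I)))
  (hext : ∀ i : ℤ, i ≠ 0 → Subsingleton (DRing.toD I ⟶ (DRing.toD I)⟦i⟧))

include adj hv hinj hend hext in
theorem core (L : DRing.Cx P) (hL : ∀ i : ℤ, Module.Finite P (Dual.HD P (DRing.toD L) i))
    (G : DRing.Cx P) (hG : TenCx.KFlat G) (g : G ⟶ DRing.homCx L I) [QuasiIso g] :
    Nonempty (Rψ.obj (DRing.toD L) ≅
      DRing.toD (DRing.homCx ((DTen.extCx ψ).obj G) ((Coext.cCx ψ).obj I))) := by
  haveI hY : (DRing.homCx G I).IsKInjective := HomT1.isKInjective_homCx G I hG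
  -- biduality
  haveI hqi : QuasiIso (eta L I) := quasiIso_eta I a b hv hinj hend hext L hL
  haveI : IsIso (Q.map (eta L I)) :=
    (DerivedCategory.isIso_Q_map_iff_quasiIso (φ := eta L I)).mpr hqi
  haveI : QuasiIso (homCxPre g I) := quasiIso_homCxPre g I
  haveI : IsIso (Q.map (homCxPre g I)) :=
    (DerivedCategory.isIso_Q_map_iff_quasiIso (φ := homCxPre g I)).mpr inferInstance
  let e1 : DRing.toD L ≅ DRing.toD (DRing.homCx G I) :=
    asIso (Q.map (eta L I)) ≪≫ asIso (Q.map (homCxPre g I))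
  -- coextension
  obtain ⟨e2⟩ := Coext.IsCoext.nonempty_iso (Coext.isCoext_of_adj ψ Rψ adj (DRing.toD (DRing.homCx G I)))
    (Coext.isCoext_cCx ψ (DRing.homCx G I))
  -- the conjugate of the projection formula
  let e3 : DRing.homCx ((DTen.extCx ψ).obj G) ((Coext.cCx ψ).obj I) ≅
      (Coext.cCx ψ).obj (DRing.homCx G I) := (SD1.conjIso ψ G).app I
  exact ⟨Rψ.mapIso e1 ≪≫ e2 ≪≫ (Q.mapIso e3).symm⟩

end Groth.Agent.Helper9.SD5
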