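import Mathlib
import Groth.Prelude.Def_DualSh
import Groth.Prelude.Def_DRing4
import Groth.Agent.Helper9.SD1
import Groth.Agent.Helper9.SD2
import Groth.Agent.Helper9.SD4
import Groth.Agent.Helper9.SD5
import Groth.Agent.Helper9.SV1
import Groth.Agent.Helper6.BiD9
import Groth.Agent.Helper6.FBC8
import Groth.Agent.Helper6.FBC7
import Groth.Agent.Helper6.LocExt5
import Groth.Agent.Helper6.KProjRes
import Groth.Agent.Helper6.LBCCompute
import Groth.Agent.Helper6.HasLBC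
import Groth.Agent.Helper6.RHomInj

/-!
# `φ^!(K) ≅ RHom_B((D_A K) ⊗^L_A B, φ^! ω_A)`
-/

set_option autoImplicit false
set_option linter.style.haveILetI false
set_option linter.unusedSectionVars false
set_option linter.unusedVariables false

universe u
open CategoryTheory CategoryTheory.Limits CochainComplex CochainComplex.HomComplex DerivedCategory
attribute [local instance] HasDerivedCategory.standard

namespace Groth.Agent.Helper9.SD6

open Groth.Agent.Helper6 Groth.Agent.Helper6.BiD Groth.Agent.Helper3.DRingLib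
  Groth.Agent.Helper6.LocExt

theorem main (A B : Type u) [CommRing A] [CommRing B] [IsNoetherianRing A] [IsNoetherianRing B]
    [Algebra A B] (n : ℕ) (ψ : MvPolynomial (Fin n) A →ₐ[A] B) (hψ : Function.Surjective ψ)
    [DRing.HasLBaseChange (algebraMap A (MvPolynomial (Fin n) A))]
    (Rψ : Dual.D (MvPolynomial (Fin n) A) ⥤ Dual.D B) (adj : DRing.restrictD ψ.toRingHom ⊣ Rψ)
    [DRing.HasLBaseChange (algebraMap A B)] (ω : Dual.D A) (hω : Dual.IsDualizing A ω)
    (K : DRing.Cx A) [DRing.HasRHomCx K]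
    (hK : ∀ i : ℤ, Module.Finite A (Dual.HD A (DRing.toD K) i))
    (E : DRing.Cx B) [DRing.HasRHomCx E]
    (hE : Nonempty (DRing.toD E ≅ (DRing.LBaseChange (algebraMap A B)).obj
      ((DRing.RHomCx K).obj ω))) :
    Nonempty (Dual2.shriekVia n Rψ (DRing.toD K) ≅
      (DRing.RHomCx E).obj (Dual2.shriekVia n Rψ ω)) := by
  classical
  obtain ⟨eE⟩ := hE
  -- the dualizing complex of `A`
  obtain ⟨W, aW, bW, hvW, hiW, hKW, ⟨eW⟩, -, -⟩ := exists_dualizing_rep ω hω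
  haveI := hKW
  -- the dualizing complex of the polynomial ring
  have hωP : Dual.IsDualizing (MvPolynomial (Fin n) A)
      ((bcD A (MvPolynomial (Fin n) A)).obj ω) :=
    FBC.isDualizing_bcD_mvPolynomial A n ω hω
  obtain ⟨I, aI, bI, hvI, hiI, hKI, ⟨eI⟩, hend, hext⟩ := exists_dualizing_rep _ hωP
  haveI := hKI
  let eWI : (bcD A (MvPolynomial (Fin n) A)).obj (Q.obj W) ≅ Q.obj I :=
    (bcD A (MvPolynomial (Fin n) A)).mapIso eW ≪≫ eI.symm
  obtain ⟨j, hj⟩ := Groth.Agent.Helper9.PerfCone.exists_map_eq_of_isKInjective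
    ((bcCx A (MvPolynomial (Fin n) A)).obj W) I
    ((bcDToD (MvPolynomial (Fin n) A) W).inv ≫ eWI.hom)
  haveI hjiso : IsIso (Q.map j) := by rw [hj]; infer_instance
  haveI hjq : QuasiIso j := (DerivedCategory.isIso_Q_map_iff_quasiIso (φ := j)).mp hjiso
  -- flat base change of `Hom•`
  have hF : FB1.Semilinear (bcD A (MvPolynomial (Fin n) A)) :=
    FB4.semilinear_ED (R := A) (R' := MvPolynomial (Fin n) A)
  have hβ : ∀ m : ℤ, Function.Bijective (FB1.β hF (Q.obj K) (Q.obj (W⟦m⟧))) := fun m =>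
    FB2.bij_iso_K hF (Q.obj K) ((Q.commShiftIso m).app W).symm
      (SD2.bij_coh W aW bW hvW hiW I aI bI hvI hiI eWI (Q.obj K) hK m)
  haveI hc₀ : QuasiIso (SD3.c₀ K W I j) := SD4.quasiIso_c₀ K W I j hF hβ
  haveI hc₀iso : IsIso (Q.map (SD3.c₀ K W I j)) :=
    (DerivedCategory.isIso_Q_map_iff_quasiIso (φ := SD3.c₀ K W I j)).mpr hc₀
  -- a K-projective resolution of the dual over the polynomial ring
  obtain ⟨G, g, hGP, hGF, -, hg, -⟩ := KProjRes.exists_resolution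
    (DRing.homCx ((bcCx A (MvPolynomial (Fin n) A)).obj K) I)
  haveI := hGP
  haveI := hg
  haveI hgiso : IsIso (Q.map g) := (DerivedCategory.isIso_Q_map_iff_quasiIso (φ := g)).mpr hg
  -- finiteness of the cohomology of the base change of `K`
  have hKP : ∀ i : ℤ, Module.Finite (MvPolynomial (Fin n) A)
      (Dual.HD (MvPolynomial (Fin n) A)
        (DRing.toD ((bcCx A (MvPolynomial (Fin n) A)).obj K)) i) := fun i => by
    haveI := FBC.finite_HD_bcD (MvPolynomial (Fin n) A) (DRing.toD K) hK i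
    exact Module.Finite.equiv
      ((homologyFunctor (ModuleCat.{u} (MvPolynomial (Fin n) A)) i).mapIso
        (bcDToD (MvPolynomial (Fin n) A) K)).toLinearEquiv
  -- the key isomorphism over `B`
  obtain ⟨eKey⟩ := SD5.core ψ.toRingHom adj I aI bI hvI hiI hend hext
    ((bcCx A (MvPolynomial (Fin n) A)).obj K) hKP G hGF g
  -- the model of `E`
  haveI : DRing.HasLBaseChange ψ.toRingHom := HasLBC.hasLBaseChange ψ.toRingHom
  obtain ⟨eComp⟩ := Groth.Agent.Helper9.SV1.lbc_comp (algebraMap A (MvPolynomial (Fin n) A))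
    ψ.toRingHom (algebraMap A B) (RingHom.ext fun x => (ψ.commutes x).symm)
  let e_a : (DRing.RHomCx K).obj ω ≅ DRing.toD (DRing.homCx K W) :=
    (DRing.RHomCx K).mapIso eW.symm ≪≫ RHomInj.rhomIso K W
  let e_c : (DRing.LBaseChange (algebraMap A (MvPolynomial (Fin n) A))).obj
      (DRing.toD (DRing.homCx K W)) ≅
        DRing.toD ((bcCx A (MvPolynomial (Fin n) A)).obj (DRing.homCx K W)) :=
    lbcIsoBcD A (MvPolynomial (Fin n) A) (DRing.toD (DRing.homCx K W)) ≪≫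
      bcDToD (MvPolynomial (Fin n) A) (DRing.homCx K W)
  let e_d : DRing.toD ((bcCx A (MvPolynomial (Fin n) A)).obj (DRing.homCx K W)) ≅
      DRing.toD (DRing.homCx ((bcCx A (MvPolynomial (Fin n) A)).obj K) I) :=
    asIso (Q.map (SD3.c₀ K W I j))
  let e_e : DRing.toD G ≅ DRing.toD (DRing.homCx ((bcCx A (MvPolynomial (Fin n) A)).obj K) I) :=
    asIso (Q.map g)
  let eE' : DRing.toD E ≅ DRing.toD ((DTen.extCx ψ.toRingHom).obj G) :=
    eE ≪≫ (DRing.LBaseChange (algebraMap A B)).mapIso e_a ≪≫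
      eComp.app (DRing.toD (DRing.homCx K W)) ≪≫
      (DRing.LBaseChange ψ.toRingHom).mapIso (e_c ≪≫ e_d ≪≫ e_e.symm) ≪≫
      LBCCompute.lbcIso ψ.toRingHom G
  -- the right hand side
  haveI hcI : ((Coext.cCx ψ.toRingHom).obj I).IsKInjective := Coext.isKInjective_cCx ψ.toRingHom I
  haveI hcIn : (((Coext.cCx ψ.toRingHom).obj I)⟦(n : ℤ)⟧).IsKInjective :=
    (CochainComplex.isKInjective_shift_iff ((Coext.cCx ψ.toRingHom).obj I) (n : ℤ)).mpr hcI
  obtain ⟨r0⟩ := Coext.IsCoext.nonempty_iso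
    (Coext.isCoext_of_adj ψ.toRingHom Rψ adj (DRing.toD I)) (Coext.isCoext_cCx ψ.toRingHom I)
  let r1 : Rψ.obj ((DRing.LBaseChange (algebraMap A (MvPolynomial (Fin n) A))).obj ω) ≅
      DRing.toD ((Coext.cCx ψ.toRingHom).obj I) :=
    Rψ.mapIso (lbcIsoBcD A (MvPolynomial (Fin n) A) ω ≪≫ eI.symm) ≪≫ r0
  obtain ⟨r4⟩ := D_iso_of_iso (((Coext.cCx ψ.toRingHom).obj I)⟦(n : ℤ)⟧) eE'
  let rhs : (DRing.RHomCx E).obj (Dual2.shriekVia n Rψ ω) ≅
      (DRing.toD (DRing.homCx ((DTen.extCx ψ.toRingHom).obj G)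
        ((Coext.cCx ψ.toRingHom).obj I)))⟦(n : ℤ)⟧ :=
    (DRing.RHomCx E).mapIso ((CategoryTheory.shiftFunctor (Dual.D B) (n : ℤ)).mapIso r1 ≪≫
        ((Q.commShiftIso (n : ℤ)).app ((Coext.cCx ψ.toRingHom).obj I)).symm) ≪≫
      RHomInj.rhomIso E (((Coext.cCx ψ.toRingHom).obj I)⟦(n : ℤ)⟧) ≪≫ r4 ≪≫
      Q.mapIso (SD1.homCxShiftIso₂ ((DTen.extCx ψ.toRingHom).obj G)
        ((Coext.cCx ψ.toRingHom).obj I) (n : ℤ)).symm ≪≫
      (Q.commShiftIso (n : ℤ)).app _
  let lhs : Dual2.shriekVia n Rψ (DRing.toD K) ≅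
      (DRing.toD (DRing.homCx ((DTen.extCx ψ.toRingHom).obj G)
        ((Coext.cCx ψ.toRingHom).obj I)))⟦(n : ℤ)⟧ :=
    (CategoryTheory.shiftFunctor (Dual.D B) (n : ℤ)).mapIso
      (Rψ.mapIso (lbcIsoBcD A (MvPolynomial (Fin n) A) (DRing.toD K) ≪≫
        bcDToD (MvPolynomial (Fin n) A) K) ≪≫ eKey)
  exact ⟨lhs ≪≫ rhs.symm⟩

end Groth.Agent.Helper9.SD6
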