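import Mathlib
import Groth.Agent.Helper9.Shriek

/-!
# The fibre of the presheaf `V ↦ ⨁_{a : V ⟶ X} G(a)` at a point of the site
-/

set_option autoImplicit false
set_option linter.style.haveILetI false
set_option linter.unusedSectionVars false

universe u

namespace Groth.Agent.Helper9.SK1

open CategoryTheory CategoryTheory.Limits Opposite DirectSum Groth.Agent.Helper9.Shriek
  Groth.Agent.Helper9.TensorLoc Groth.Agent.Helper9.FreeTensor

set_option backward.isDefEq.respectTransparency false

open scoped Classical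

variable {C : Type u} [SmallCategory C] {J : GrothendieckTopology C}
  {R : Cᵒᵖ ⥤ CommRingCat.{u}} {X : C} (G : PMod (SX R X))

section Sec

/-- the inclusion of a summand, as a morphism of abelian groups -/
noncomputable def incHom {V : C} (a : V ⟶ X) :
    G.presheaf.obj (op (Over.mk a)) ⟶ (ab G).obj (op V) :=
  AddCommGrpCat.ofHom (inc G a).toAddMonoidHom

lemma hom_ext_sec {V : C} {T : AddCommGrpCat.{u}} {f g : (ab G).obj (op V) ⟶ T}
    (h : ∀ a : V ⟶ X, incHom G a ≫ f = incHom G a ≫ g) : f = g := by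
  apply AddCommGrpCat.hom_ext
  apply DirectSum.addHom_ext
  intro a x
  exact ConcreteCategory.congr_hom (h a) x

/-- the morphism out of the sections of `j_! G` determined by its components -/
noncomputable def descHom {V : C} {T : AddCommGrpCat.{u}}
    (f : ∀ a : V ⟶ X, G.presheaf.obj (op (Over.mk a)) ⟶ T) : (ab G).obj (op V) ⟶ T :=
  AddCommGrpCat.ofHom (DirectSum.toAddMonoid (fun a => (f a).hom))

lemma incHom_descHom {V : C} {T : AddCommGrpCat.{u}}
    (f : ∀ a : V ⟶ X, G.presheaf.obj (op (Over.mk a)) ⟶ T) (a : V ⟶ X) :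
    incHom G a ≫ descHom G f = f a := by
  apply AddCommGrpCat.hom_ext
  apply AddMonoidHom.ext
  intro x
  exact DirectSum.toAddMonoid_of (β := fun a : V ⟶ X => Cmp G a) (fun a => (f a).hom) a x

lemma incHom_map {V W : C} (g : W ⟶ V) (a : V ⟶ X) :
    incHom G a ≫ (ab G).map g.op =
      G.presheaf.map (Over.homMk g : Over.mk (g ≫ a) ⟶ Over.mk a).op ≫ incHom G (g ≫ a) := by
  apply AddCommGrpCat.hom_ext
  apply AddMonoidHom.ext
  intro x
  exact rmap_inc G g a x

end Sec

section Fibre

variable (p : GrothendieckTopology.Point.{u} J)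

/-- the stalk of `G` at the point of `C/X` over `x` -/
noncomputable abbrev St (x : p.fiber.obj X) : AddCommGrpCat.{u} :=
  (p.over x).presheafFiber.obj G.presheaf

/-- the germ of a section of the summand indexed by `a`, at `v`, in the summand of the coproduct
indexed by `x = a(v)` -/
noncomputable def germ {V : C} (a : V ⟶ X) (v : p.fiber.obj V) (x : p.fiber.obj X)
    (h : p.fiber.map a v = x) : G.presheaf.obj (op (Over.mk a)) ⟶ ∐ (St G p) :=
  (p.over x).toPresheafFiber (Over.mk a) ⟨v, h⟩ G.presheaf ≫ Sigma.ι (St G p) x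

lemma germ_w {V W : C} (g : W ⟶ V) (a : V ⟶ X) (w : p.fiber.obj W) (x : p.fiber.obj X)
    (h : p.fiber.map a (p.fiber.map g w) = x) (h' : p.fiber.map (g ≫ a) w = x) :
    G.presheaf.map (Over.homMk g : Over.mk (g ≫ a) ⟶ Over.mk a).op ≫ germ G p (g ≫ a) w x h' =
      germ G p a (p.fiber.map g w) x h := by
  unfold germ
  rw [← Category.assoc]
  congr 1
  exact (p.over x).toPresheafFiber_w (Over.homMk g : Over.mk (g ≫ a) ⟶ Over.mk a) ⟨w, h'⟩
    G.presheaf

/-- the forward map on sections over `V`, at `v` -/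
noncomputable def fwdApp (V : C) (v : p.fiber.obj V) : (ab G).obj (op V) ⟶ ∐ (St G p) :=
  descHom G (fun a => germ G p a v (p.fiber.map a v) rfl)

lemma fwdApp_w {V W : C} (g : W ⟶ V) (w : p.fiber.obj W) :
    (ab G).map g.op ≫ fwdApp G p W w = fwdApp G p V (p.fiber.map g w) := by
  apply hom_ext_sec
  intro a
  rw [← Category.assoc, incHom_map, Category.assoc]
  unfold fwdApp
  rw [incHom_descHom, incHom_descHom]
  have h1 : p.fiber.map (g ≫ a) w = p.fiber.map a (p.fiber.map g w) :=
    Functor.map_comp_apply p.fiber g a w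
  have key : ∀ (x : p.fiber.obj X) (hx : p.fiber.map (g ≫ a) w = x),
      G.presheaf.map (Over.homMk g : Over.mk (g ≫ a) ⟶ Over.mk a).op ≫
        germ G p (g ≫ a) w x hx = germ G p a (p.fiber.map g w) x (h1.symm.trans hx) :=
    fun x hx => germ_w G p g a w x (h1.symm.trans hx) hx
  have k1 := key _ rfl
  refine k1.trans ?_
  have key2 : ∀ (x x' : p.fiber.obj X) (hx : p.fiber.map a (p.fiber.map g w) = x)
      (hx' : p.fiber.map a (p.fiber.map g w) = x'),
      germ G p a (p.fiber.map g w) x hx = germ G p a (p.fiber.map g w) x' hx' := by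
    intro x x' hx hx'
    subst hx
    subst hx'
    rfl
  exact key2 _ _ _ _

/-- the forward map -/
noncomputable def fwd : p.presheafFiber.obj (ab G) ⟶ ∐ (St G p) :=
  p.presheafFiberDesc (fun V v => fwdApp G p V v) (fun _ _ g w => fwdApp_w G p g w)

lemma toPresheafFiber_fwd (V : C) (v : p.fiber.obj V) :
    p.toPresheafFiber V v (ab G) ≫ fwd G p = fwdApp G p V v :=
  p.toPresheafFiber_presheafFiberDesc _ _ V v

/-- the component of the backward map at an object of `C/X` -/
noncomputable def bwdApp (x : p.fiber.obj X) (Y : Over X) (y : (p.over x).fiber.obj Y) :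
    G.presheaf.obj (op Y) ⟶ p.presheafFiber.obj (ab G) :=
  incHom G Y.hom ≫ p.toPresheafFiber Y.left y.1 (ab G)

lemma map_incHom {Y Y' : Over X} (k : Y ⟶ Y') :
    G.presheaf.map k.op ≫ incHom G Y.hom =
      G.presheaf.map (Over.homMk k.left : Over.mk (k.left ≫ Y'.hom) ⟶ Over.mk Y'.hom).op ≫
        incHom G (k.left ≫ Y'.hom) := by
  apply AddCommGrpCat.hom_ext
  apply AddMonoidHom.ext
  intro z
  exact inc_res_eq G (b := Y.hom) (b' := k.left ≫ Y'.hom) (Y := Y') k
    (Over.homMk k.left : Over.mk (k.left ≫ Y'.hom) ⟶ Over.mk Y'.hom) rfl z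

lemma bwdApp_w (x : p.fiber.obj X) {Y Y' : Over X} (k : Y ⟶ Y') (y : (p.over x).fiber.obj Y) :
    G.presheaf.map k.op ≫ bwdApp G p x Y y = bwdApp G p x Y' ((p.over x).fiber.map k y) := by
  unfold bwdApp
  have h1 : p.toPresheafFiber Y'.left ((p.over x).fiber.map k y).1 (ab G) =
      (ab G).map k.left.op ≫ p.toPresheafFiber Y.left y.1 (ab G) :=
    (p.toPresheafFiber_w k.left y.1 (ab G)).symm
  rw [h1, ← Category.assoc (incHom G Y'.hom), incHom_map, Category.assoc]
  exact (Category.assoc _ _ _).symm.trans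
    ((congrArg (· ≫ p.toPresheafFiber Y.left y.1 (ab G)) (map_incHom G k)).trans
      (Category.assoc _ _ _))

/-- the backward map on the summand indexed by `x` -/
noncomputable def bwdAt (x : p.fiber.obj X) : St G p x ⟶ p.presheafFiber.obj (ab G) :=
  (p.over x).presheafFiberDesc (fun Y y => bwdApp G p x Y y) (fun _ _ k y => bwdApp_w G p x k y)

lemma toPresheafFiber_bwdAt (x : p.fiber.obj X) (Y : Over X) (y : (p.over x).fiber.obj Y) :
    (p.over x).toPresheafFiber Y y G.presheaf ≫ bwdAt G p x = bwdApp G p x Y y :=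
  (p.over x).toPresheafFiber_presheafFiberDesc _ _ Y y

/-- the backward map -/
noncomputable def bwd : ∐ (St G p) ⟶ p.presheafFiber.obj (ab G) :=
  Sigma.desc (fun x => bwdAt G p x)

lemma fwd_bwd : fwd G p ≫ bwd G p = 𝟙 _ := by
  apply p.presheafFiber_hom_ext
  intro V v
  rw [← Category.assoc, toPresheafFiber_fwd, Category.comp_id]
  apply hom_ext_sec
  intro a
  unfold fwdApp
  rw [← Category.assoc, incHom_descHom]
  unfold germ bwd
  rw [Category.assoc, Sigma.ι_desc]
  rw [toPresheafFiber_bwdAt]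
  rfl

lemma bwd_fwd : bwd G p ≫ fwd G p = 𝟙 _ := by
  apply Sigma.hom_ext
  intro x
  unfold bwd
  rw [← Category.assoc, Sigma.ι_desc, Category.comp_id]
  apply (p.over x).presheafFiber_hom_ext
  intro Y y
  rw [← Category.assoc, toPresheafFiber_bwdAt]
  unfold bwdApp
  rw [Category.assoc, toPresheafFiber_fwd]
  unfold fwdApp
  rw [incHom_descHom]
  obtain ⟨v, hv⟩ := y
  have hv' : p.fiber.map Y.hom v = x := hv
  subst hv'
  rfl

/-- **the fibre of `j_! G`** at a point is the coproduct of the fibres of `G` at the points of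
`C/X` above it -/
noncomputable def fibreIso : p.presheafFiber.obj (ab G) ≅ ∐ (St G p) where
  hom := fwd G p
  inv := bwd G p
  hom_inv_id := fwd_bwd G p
  inv_hom_id := bwd_fwd G p

end Fibre

end Groth.Agent.Helper9.SK1
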