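import Mathlib
import Groth.Prelude.Def_ModSite
import Groth.Prelude.Def_ModSite2
import Groth.Agent.Helper9.SK1
import Groth.Agent.Helper9.ShriekSh

/-!
# The stalk of `j_! G` at a point of the site
-/

set_option autoImplicit false
set_option linter.style.haveILetI false
set_option linter.unusedSectionVars false

universe u

namespace Groth.Agent.Helper9.SK2

open CategoryTheory CategoryTheory.Limits Opposite Groth.Agent.Helper9.Shriek
  Groth.Agent.Helper9.TensorLoc Groth.Agent.Helper9.FreeTensor Groth.Agent.Helper9.TensorSh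
  Groth.Agent.Helper9.ShriekSh Groth.Agent.Helper9.SK1

variable {C : Type u} [SmallCategory C] {J : GrothendieckTopology C} (O : Sheaf J CommRingCat.{u})
  (U : C) (p : GrothendieckTopology.Point.{u} J)

/-- the stalk of the sheafification of a presheaf of modules is the fibre of the presheaf -/
noncomputable def stalkSheafifyIso (Q : PM O) :
    ModSite.stalkAb p ((a O).obj Q) ≅ p.presheafFiber.obj Q.presheaf :=
  haveI : IsIso (p.presheafFiber.map (CategoryTheory.toSheafify J Q.presheaf)) :=
    p.W_isInvertedBy_presheafFiber' _ (J.W_toSheafify Q.presheaf)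
  (asIso (p.presheafFiber.map (CategoryTheory.toSheafify J Q.presheaf))).symm

/-- **S9113**: the stalk of `j_! G` at a point is the direct sum of the stalks of `G` at the
points of `C/U` above it -/
theorem nonempty_stalk_extZero_iso (G : ModSite.Mod (O.over U)) :
    Nonempty (ModSite.stalkAb p ((ModSite.extZero O U).obj G) ≅
      ∐ fun x : p.fiber.obj U => ModSite.stalkAb (p.over x) G) := by
  let e1 : ModSite.stalkAb p ((ModSite.extZero O U).obj G) ≅
      ModSite.stalkAb p ((ext O U).obj G) :=
    (p.sheafFiber (A := AddCommGrpCat.{u})).mapIso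
      ((SheafOfModules.toSheaf (ModSite.ringSh O)).mapIso ((extZeroIso O U).app G))
  let e2 : ModSite.stalkAb p ((ext O U).obj G) ≅
      p.presheafFiber.obj (sh ((ιX O U).obj G)).presheaf :=
    stalkSheafifyIso O p (sh ((ιX O U).obj G))
  let e3 : p.presheafFiber.obj (sh ((ιX O U).obj G)).presheaf ≅
      ∐ (St ((ιX O U).obj G) p) := fibreIso ((ιX O U).obj G) p
  exact ⟨e1 ≪≫ e2 ≪≫ e3⟩

end Groth.Agent.Helper9.SK2
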