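import Mathlib
import Groth.Agent.Helper4.ModLift

/-!
# Restriction of morphisms between restricted modules along an arrow of the site, and the
relative local lifting property of retracts of finite free modules
-/

set_option autoImplicit false
set_option linter.style.haveILetI false
set_option linter.unusedSectionVars false

universe u

namespace Groth.Agent.Helper9.SL1

open CategoryTheory CategoryTheory.Limits Opposite Groth.Agent.Helper1.LG
  Groth.Agent.Helper4.ModLift

variable {C : Type u} [SmallCategory C] {J : GrothendieckTopology C} {R : Sheaf J RingCat.{u}}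

instance additive_overMap {W W' : C} (g : W' ⟶ W) :
    (SheafOfModules.overMap.{u} R g).Additive where

/-- restriction of a morphism between restricted modules along `g : W' ⟶ W` -/
noncomputable def res {W W' : C} (g : W' ⟶ W) {M N : SheafOfModules.{u} R}
    (a : M.over W ⟶ N.over W) : M.over W' ⟶ N.over W' :=
  (SheafOfModules.overFunctorMap.{u} R g).inv.app M ≫ (SheafOfModules.overMap.{u} R g).map a ≫
    (SheafOfModules.overFunctorMap.{u} R g).hom.app N

section

variable {W W' : C} (g : W' ⟶ W) {M N P : SheafOfModules.{u} R}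

lemma res_comp (a : M.over W ⟶ N.over W) (b : N.over W ⟶ P.over W) :
    res g (a ≫ b) = res g a ≫ res g b := by
  unfold res
  rw [Functor.map_comp]
  simp only [Category.assoc, Iso.hom_inv_id_app_assoc]

lemma res_map (φ : M ⟶ N) : res g (φ.over W) = φ.over W' := by
  unfold res
  have h := (SheafOfModules.overFunctorMap.{u} R g).hom.naturality φ
  rw [Functor.comp_map] at h
  rw [h, Iso.inv_hom_id_app_assoc]

lemma res_add (a b : M.over W ⟶ N.over W) : res g (a + b) = res g a + res g b := by
  unfold res
  rw [Functor.map_add, Preadditive.add_comp, Preadditive.comp_add]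

lemma res_sub (a b : M.over W ⟶ N.over W) : res g (a - b) = res g a - res g b := by
  unfold res
  rw [Functor.map_sub, Preadditive.sub_comp, Preadditive.comp_sub]

lemma res_zero : res g (0 : M.over W ⟶ N.over W) = 0 := by
  unfold res
  rw [Functor.map_zero, zero_comp, comp_zero]

lemma res_app (a : M.over W ⟶ N.over W) (Y : Over W') (x : M.val.obj (op Y.left)) :
    appLin (res g a) Y x = appLin a ((Over.map g).obj Y) x := rfl

end

/-- a section of `F|_W`, evaluated at an object of `C/W`, is the restriction of its value at the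
terminal object -/
lemma section_eq_map {F : SheafOfModules.{u} R} {W : C} (t : (F.over W).sections) (Y : Over W) :
    t.val (op Y) = F.val.map Y.hom.op (t.val (op (Over.mk (𝟙 W)))) :=
  (t.property (Over.homMk (V := Over.mk (𝟙 W)) Y.hom : Y ⟶ Over.mk (𝟙 W)).op).symm

/-- **relative local lifting** of maps out of a retract of a finite free module along an
epimorphism -/
theorem exists_local_lift_rel (E F G : SheafOfModules.{u} R) (n : ℕ)
    (i : E ⟶ SheafOfModules.free (R := R) (ULift.{u} (Fin n)))
    (r : SheafOfModules.free (R := R) (ULift.{u} (Fin n)) ⟶ E) (hir : i ≫ r = 𝟙 E)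
    (p : G ⟶ F) [Epi p] {W : C} (a : E.over W ⟶ F.over W) :
    ∃ S ∈ J W, ∀ ⦃W' : C⦄ (g : W' ⟶ W), S g →
      ∃ l : E.over W' ⟶ G.over W', l ≫ p.over W' = res g a := by
  classical
  let e := freeOverIso (R := R) W (ULift.{u} (Fin n))
  let t : ULift.{u} (Fin n) → (F.over W).sections :=
    (F.over W).freeHomEquiv (e.hom ≫ r.over W ≫ a)
  let m : Fin n → F.val.obj (op W) := fun k => (t ⟨k⟩).val (op (Over.mk (𝟙 W)))
  have hls := (isLocallySurjective_iff_epi p).2 inferInstance
  obtain ⟨S, hS, hS'⟩ := Groth.Agent.Helper4.SiteExtMod.fin_inf_mem J n W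
    (fun k => Presheaf.imageSieve ((PresheafOfModules.toPresheaf R.obj).map p.val) (m k))
    (fun k => hls.imageSieve_mem _)
  refine ⟨S, hS, fun W' g hg => ?_⟩
  have h1 : ∀ k : Fin n, ∃ y : G.val.obj (op W'), appLin p W' y = F.val.map g.op (m k) :=
    fun k => hS' g hg k
  choose x hx' using h1
  let e' := freeOverIso (R := R) W' (ULift.{u} (Fin n))
  let lam : SheafOfModules.free (R := R.over W') (ULift.{u} (Fin n)) ⟶ G.over W' :=
    (G.over W').freeHomEquiv.symm (fun k => overSec (x k.down))
  have key : lam ≫ p.over W' = e'.hom ≫ res g (r.over W ≫ a) := by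
    apply (F.over W').freeHomEquiv.injective
    funext k
    rw [SheafOfModules.freeHomEquiv_comp_apply]
    have h2 : (G.over W').freeHomEquiv lam k = overSec (x k.down) := by
      change (G.over W').freeHomEquiv ((G.over W').freeHomEquiv.symm _) k = _
      rw [Equiv.apply_symm_apply]
    rw [h2, sectionsMap_overSec, hx']
    have h3 : (F.over W').freeHomEquiv (e'.hom ≫ res g (r.over W ≫ a)) k =
        (F.over W').unitHomEquiv (res g ((SheafOfModules.ιFree (R := R) k).over W ≫
          r.over W ≫ a)) := by
      change (F.over W').unitHomEquiv (SheafOfModules.ιFree k ≫ e'.hom ≫ res g (r.over W ≫ a)) = _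
      rw [← Category.assoc, ιFree_freeOverIso_hom, ← res_map g]
      exact congrArg (F.over W').unitHomEquiv (res_comp g _ _).symm
    have h4 : t k = (F.over W).unitHomEquiv ((SheafOfModules.ιFree (R := R) k).over W ≫
        r.over W ≫ a) := by
      change (F.over W).unitHomEquiv (SheafOfModules.ιFree k ≫ e.hom ≫ r.over W ≫ a) = _
      rw [← Category.assoc, ιFree_freeOverIso_hom]
    rw [h3]
    ext Y
    have h5 : ((F.over W').unitHomEquiv (res g ((SheafOfModules.ιFree (R := R) k).over W ≫
        r.over W ≫ a))).val Y = (t k).val (op ((Over.map g).obj Y.unop)) := by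
      rw [h4]
      rfl
    rw [h5, section_eq_map (t k)]
    change F.val.presheaf.map Y.unop.hom.op (F.val.presheaf.map g.op (m k.down)) =
      F.val.presheaf.map (Y.unop.hom ≫ g).op (m k.down)
    rw [op_comp, F.val.presheaf.map_comp]
    rfl
  refine ⟨i.over W' ≫ e'.inv ≫ lam, ?_⟩
  rw [Category.assoc, Category.assoc, key, Iso.inv_hom_id_assoc, ← res_map g i, ← res_comp,
    ← Category.assoc]
  have h6 : i.over W ≫ r.over W = 𝟙 _ := by
    change (SheafOfModules.overFunctor R W).map _ ≫ (SheafOfModules.overFunctor R W).map _ = _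
    rw [← Functor.map_comp, hir, CategoryTheory.Functor.map_id]
  rw [h6, Category.id_comp]

end Groth.Agent.Helper9.SL1
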