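import Mathlib
import Groth.Prelude.Def_ModSite
import Groth.Prelude.Def_AlgSpPerf
import Groth.Agent.Helper9.SL1

/-!
# Locally null-homotopic maps out of strictly perfect complexes on a ringed site
-/

set_option autoImplicit false
set_option linter.style.haveILetI false
set_option linter.unusedSectionVars false

universe u

namespace Groth.Agent.Helper9.SL2

open CategoryTheory CategoryTheory.Limits Opposite Groth.Agent.Helper1.LG
  Groth.Agent.Helper9.SL1

variable {C : Type u} [SmallCategory C] {J : GrothendieckTopology C} {R : Sheaf J RingCat.{u}}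
  [∀ W : C, PreservesFiniteLimits (SheafOfModules.overFunctor.{u} R W)]
  [∀ W : C, PreservesFiniteColimits (SheafOfModules.overFunctor.{u} R W)]

/-- relative local lifting along an exact sequence -/
theorem exists_local_lift_exact (E : SheafOfModules.{u} R)
    (hE : DCoh.IsFinFreeSummandMod R E)
    (S : ShortComplex (SheafOfModules.{u} R)) (hS : S.Exact) {W : C}
    (a : E.over W ⟶ S.X₂.over W) (ha : a ≫ S.g.over W = 0) :
    ∃ T ∈ J W, ∀ ⦃W' : C⦄ (g : W' ⟶ W), T g →
      ∃ l : E.over W' ⟶ S.X₁.over W', l ≫ S.f.over W' = res g a := by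
  obtain ⟨n, i, r, hir⟩ := hE
  haveI : Epi S.toCycles := S.exact_iff_epi_toCycles.1 hS
  -- the kernel sequence, restricted
  let S₀ : ShortComplex (SheafOfModules.{u} R) := ShortComplex.mk S.iCycles S.g S.iCycles_g
  have hS₀ : S₀.Exact := S₀.exact_of_f_is_kernel S.cyclesIsKernel
  have hS₁ : (S₀.map (SheafOfModules.overFunctor.{u} R W)).Exact :=
    hS₀.map (SheafOfModules.overFunctor.{u} R W)
  haveI : Mono (S₀.map (SheafOfModules.overFunctor.{u} R W)).f :=
    inferInstanceAs (Mono ((SheafOfModules.overFunctor.{u} R W).map S.iCycles))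
  let a' : E.over W ⟶ S.cycles.over W := hS₁.lift a ha
  have ha' : a' ≫ S.iCycles.over W = a := hS₁.lift_f a ha
  obtain ⟨T, hT, hT'⟩ := exists_local_lift_rel E S.cycles S.X₁ n i r hir S.toCycles a'
  refine ⟨T, hT, fun W' g hg => ?_⟩
  obtain ⟨l, hl⟩ := hT' g hg
  refine ⟨l, ?_⟩
  have h1 : S.f.over W' = S.toCycles.over W' ≫ S.iCycles.over W' := by
    change (SheafOfModules.overFunctor.{u} R W').map _ =
      (SheafOfModules.overFunctor.{u} R W').map _ ≫ (SheafOfModules.overFunctor.{u} R W').map _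
    rw [← Functor.map_comp, S.toCycles_i]
  rw [h1, ← Category.assoc, hl, ← ha', res_comp, res_map]

section Htpy

variable {E F : CochainComplex (SheafOfModules.{u} R) ℤ} (α : E ⟶ F)

/-- partial null-homotopy data for `α` restricted to `W`, valid in degrees `≥ i` -/
def HtpyFrom (W : C) (i : ℤ) (h : ∀ m : ℤ, (E.X (m + 1)).over W ⟶ (F.X m).over W) : Prop :=
  ∀ m : ℤ, i ≤ m → (α.f (m + 1)).over W =
    (E.d (m + 1) (m + 1 + 1)).over W ≫ h (m + 1) + h m ≫ (F.d m (m + 1)).over W

variable {α}

lemma HtpyFrom.res {W W' : C} (g : W' ⟶ W) {i : ℤ}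
    {h : ∀ m : ℤ, (E.X (m + 1)).over W ⟶ (F.X m).over W} (H : HtpyFrom α W i h) :
    HtpyFrom α W' i (fun m => SL1.res g (h m)) := by
  intro m hm
  have := congrArg (SL1.res g) (H m hm)
  rw [res_map, res_add, res_comp, res_comp, res_map, res_map] at this
  exact this

/-- one step of the downward induction -/
theorem HtpyFrom.step (hE : ∀ i : ℤ, DCoh.IsFinFreeSummandMod R (E.X i)) {W : C} (m : ℤ)
    (hFm : IsZero (F.homology (m + 1)))
    {h : ∀ t : ℤ, (E.X (t + 1)).over W ⟶ (F.X t).over W} (H : HtpyFrom α W (m + 1) h) :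
    ∃ T ∈ J W, ∀ ⦃W' : C⦄ (g : W' ⟶ W), T g →
      ∃ h' : ∀ t : ℤ, (E.X (t + 1)).over W' ⟶ (F.X t).over W', HtpyFrom α W' m h' := by
  -- the obstruction
  let ob : (E.X (m + 1)).over W ⟶ (F.X (m + 1)).over W :=
    (α.f (m + 1)).over W - (E.d (m + 1) (m + 1 + 1)).over W ≫ h (m + 1)
  have hob : ob ≫ (F.d (m + 1) (m + 1 + 1)).over W = 0 := by
    have h1 := H (m + 1) le_rfl
    have h2 : (α.f (m + 1)).over W ≫ (F.d (m + 1) (m + 1 + 1)).over W =
        (E.d (m + 1) (m + 1 + 1)).over W ≫ (α.f (m + 1 + 1)).over W := by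
      change (SheafOfModules.overFunctor.{u} R W).map _ ≫
        (SheafOfModules.overFunctor.{u} R W).map _ =
        (SheafOfModules.overFunctor.{u} R W).map _ ≫ (SheafOfModules.overFunctor.{u} R W).map _
      rw [← Functor.map_comp, ← Functor.map_comp, α.comm]
    have h3 : (E.d (m + 1) (m + 1 + 1)).over W ≫ (E.d (m + 1 + 1) (m + 1 + 1 + 1)).over W = 0 := by
      change (SheafOfModules.overFunctor.{u} R W).map _ ≫
        (SheafOfModules.overFunctor.{u} R W).map _ = 0
      rw [← Functor.map_comp, E.d_comp_d, Functor.map_zero]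
    simp only [ob, Preadditive.sub_comp, Category.assoc]
    rw [h2, h1, Preadditive.comp_add, reassoc_of% h3, zero_comp, zero_add, sub_self]
  -- exactness of `F` at `m + 1`
  have hex : (F.sc' m (m + 1) (m + 1 + 1)).Exact := by
    have h1 : F.ExactAt (m + 1) := (F.exactAt_iff_isZero_homology (m + 1)).mpr hFm
    exact (F.exactAt_iff' m (m + 1) (m + 1 + 1) (by simp) (by simp)).mp h1
  obtain ⟨T, hT, hT'⟩ := exists_local_lift_exact (E.X (m + 1)) (hE (m + 1))
    (F.sc' m (m + 1) (m + 1 + 1)) hex ob hob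
  refine ⟨T, hT, fun W' g hg => ?_⟩
  obtain ⟨w, hw⟩ : ∃ w : (E.X (m + 1)).over W' ⟶ (F.X m).over W',
      w ≫ (F.d m (m + 1)).over W' = SL1.res g ob := hT' g hg
  refine ⟨Function.update (fun t => SL1.res g (h t)) m w, ?_⟩
  have Hres := H.res g
  intro t ht
  rcases eq_or_lt_of_le ht with rfl | hlt
  · rw [Function.update_self, Function.update_of_ne (by omega)]
    rw [hw]
    simp only [ob]
    rw [res_sub, res_map, res_comp, res_map]
    abel
  · rw [Function.update_of_ne (by omega), Function.update_of_ne (by omega)]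
    exact Hres t (by omega)

/-- extension of the homotopy data below a degree where `E` vanishes -/
theorem HtpyFrom.of_isZero {W : C} (m : ℤ) (hz : IsZero (E.X (m + 1)))
    {h : ∀ t : ℤ, (E.X (t + 1)).over W ⟶ (F.X t).over W} (H : HtpyFrom α W (m + 1) h) :
    HtpyFrom α W m h := by
  intro t ht
  rcases eq_or_lt_of_le ht with rfl | hlt
  · exact (Functor.map_isZero (SheafOfModules.overFunctor.{u} R W) hz).eq_of_src _ _
  · exact H t (by omega)

/-- the homotopy built from complete homotopy data -/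
noncomputable def homotopyOfHtpy (W : C)
    (h : ∀ t : ℤ, (E.X (t + 1)).over W ⟶ (F.X t).over W)
    (H : ∀ i : ℤ, HtpyFrom α W i h) :
    Homotopy (((SheafOfModules.overFunctor.{u} R W).mapHomologicalComplex
      (ComplexShape.up ℤ)).map α) 0 where
  hom i i' := if hi : i' + 1 = i then eqToHom (by subst hi; rfl) ≫ h i' else 0
  zero i i' hrel := dif_neg hrel
  comm i := by
    obtain ⟨m, rfl⟩ : ∃ m, i = m + 1 := ⟨i - 1, by ring⟩
    rw [dNext_eq _ (show (ComplexShape.up ℤ).Rel (m + 1) (m + 1 + 1) from rfl),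
      prevD_eq _ (show (ComplexShape.up ℤ).Rel m (m + 1) from rfl)]
    simp only [dif_pos, HomologicalComplex.zero_f, add_zero]
    exact H m m le_rfl

variable (α)

/-- the sieve of arrows over which `α` admits partial null-homotopy data from degree `i` on -/
def goodSieve (i : ℤ) (V : C) : Sieve V where
  arrows W _ := ∃ h : ∀ t : ℤ, (E.X (t + 1)).over W ⟶ (F.X t).over W, HtpyFrom α W i h
  downward_closed := by
    rintro W W' f ⟨h, H⟩ g
    exact ⟨_, H.res g⟩

/-- a map from a bounded complex of retracts of finite free modules to a complex which is exact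
in the relevant range is locally null-homotopic -/
theorem exists_cover_homotopy_zero (hE : ∀ i : ℤ, DCoh.IsFinFreeSummandMod R (E.X i)) (a b : ℤ)
    (hEa : ∀ i : ℤ, i < a → IsZero (E.X i)) (hEb : ∀ i : ℤ, b < i → IsZero (E.X i))
    (hF : ∀ i : ℤ, a ≤ i → IsZero (F.homology i)) (V : C) :
    ∃ T ∈ J V, ∀ ⦃W : C⦄ (g : W ⟶ V), T g → Nonempty (Homotopy
      (((SheafOfModules.overFunctor.{u} R W).mapHomologicalComplex
        (ComplexShape.up ℤ)).map α) 0) := by
  have key : ∀ k : ℕ, goodSieve α (b - k) V ∈ J V := by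
    intro k
    induction k with
    | zero =>
      refine J.superset_covering ?_ (J.top_mem V)
      intro W g _
      refine ⟨fun _ => 0, ?_⟩
      intro m hm
      exact (Functor.map_isZero (SheafOfModules.overFunctor.{u} R W)
        (hEb (m + 1) (by push_cast at hm; omega))).eq_of_src _ _
    | succ k ih =>
      refine J.transitive ih _ ?_
      rintro W f ⟨h, H⟩
      have e : b - ((k + 1 : ℕ) : ℤ) + 1 = b - (k : ℤ) := by push_cast; ring
      have H' : HtpyFrom α W (b - ((k + 1 : ℕ) : ℤ) + 1) h := by rw [e]; exact H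
      by_cases hlt : a ≤ b - (k : ℤ)
      · obtain ⟨T, hT, hT'⟩ := HtpyFrom.step hE (b - ((k + 1 : ℕ) : ℤ))
          (hF _ (by rw [e]; exact hlt)) H'
        refine J.superset_covering ?_ hT
        intro W' g hg
        exact hT' g hg
      · refine J.superset_covering ?_ (J.top_mem W)
        intro W' g _
        exact ⟨_, (HtpyFrom.of_isZero _ (hEa _ (by rw [e]; omega)) H').res g⟩
  refine ⟨goodSieve α (b - ((b - a + 1).toNat : ℤ)) V, key _, ?_⟩
  rintro W g ⟨h, H⟩
  have Hall : ∀ i : ℤ, HtpyFrom α W i h := by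
    intro i m hm
    by_cases hma : a ≤ m + 1
    · exact H m (by have := Int.self_le_toNat (b - a + 1); omega)
    · exact (Functor.map_isZero (SheafOfModules.overFunctor.{u} R W)
        (hEa (m + 1) (by omega))).eq_of_src _ _
  exact ⟨homotopyOfHtpy W h Hall⟩

end Htpy

end Groth.Agent.Helper9.SL2
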