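import Mathlib
import Groth.Prelude.Def_ModSite
import Groth.Prelude.Def_AlgSpPerf
import Groth.Agent.Helper9.SL2
import Groth.Agent.Helper9.RestrExact
import Groth.Agent.Lead.LocLift5

/-!
# Local lifting through quasi-isomorphisms out of strictly perfect complexes on a ringed site
-/

set_option autoImplicit false
set_option linter.style.haveILetI false
set_option linter.unusedSectionVars false

universe u

namespace Groth.Agent.Helper9.SL3

open CategoryTheory CategoryTheory.Limits Opposite Groth.Agent.Helper1.LG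
  Groth.Agent.Helper9.SL1 Groth.Agent.Helper9.SL2

section General

variable {C : Type u} [SmallCategory C] {J : GrothendieckTopology C} {R : Sheaf J RingCat.{u}}
  [∀ W : C, PreservesFiniteLimits (SheafOfModules.overFunctor.{u} R W)]
  [∀ W : C, PreservesFiniteColimits (SheafOfModules.overFunctor.{u} R W)]

/-- local lifting up to homotopy through a map which is a quasi-isomorphism in the relevant range -/
theorem exists_cover_lift {E F G : CochainComplex (SheafOfModules.{u} R) ℤ} (α : E ⟶ F) (f : G ⟶ F)
    (hE : ∀ i : ℤ, DCoh.IsFinFreeSummandMod R (E.X i)) (a b : ℤ)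
    (hEa : ∀ j : ℤ, j < a → IsZero (E.X j)) (hEb : ∀ j : ℤ, b < j → IsZero (E.X j))
    (hf : ∀ j : ℤ, a < j → IsIso (HomologicalComplex.homologyMap f j))
    (hfa : Epi (HomologicalComplex.homologyMap f a)) (V : C) :
    ∃ T ∈ J V, ∀ ⦃W : C⦄ (g : W ⟶ V), T g →
      ∃ β : ((SheafOfModules.overFunctor.{u} R W).mapHomologicalComplex (ComplexShape.up ℤ)).obj E ⟶
          ((SheafOfModules.overFunctor.{u} R W).mapHomologicalComplex (ComplexShape.up ℤ)).obj G,
        Nonempty (Homotopy
          (β ≫ ((SheafOfModules.overFunctor.{u} R W).mapHomologicalComplex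
            (ComplexShape.up ℤ)).map f)
          (((SheafOfModules.overFunctor.{u} R W).mapHomologicalComplex
            (ComplexShape.up ℤ)).map α)) := by
  have hC : ∀ i : ℤ, a ≤ i → IsZero ((CochainComplex.mappingCone f).homology i) := by
    intro i hi
    apply Groth.Agent.Lead.LocLift.isZero_homology_mappingCone f i
    · rcases eq_or_lt_of_le hi with rfl | hlt
      · exact hfa
      · haveI := hf i hlt
        infer_instance
    · haveI := hf (i + 1) (by omega)
      infer_instance
  obtain ⟨T, hT, hT'⟩ := exists_cover_homotopy_zero (α ≫ CochainComplex.mappingCone.inr f)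
    hE a b hEa hEb hC V
  refine ⟨T, hT, fun W g hg => ?_⟩
  obtain ⟨hh⟩ := hT' g hg
  exact Groth.Agent.Lead.LocLift.exists_lift_of_homotopy_inr
    (SheafOfModules.overFunctor.{u} R W) f α hh

end General

section ModSite

variable {C : Type u} [SmallCategory C] {J : GrothendieckTopology C} (O : Sheaf J CommRingCat.{u})

instance preservesFiniteLimits_overFunctor (W : C) :
    PreservesFiniteLimits (SheafOfModules.overFunctor.{u} (ModSite.ringSh O) W) :=
  Groth.Agent.Helper9.RestrExact.preservesFiniteLimits_restr O W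

instance preservesFiniteColimits_overFunctor (W : C) :
    PreservesFiniteColimits (SheafOfModules.overFunctor.{u} (ModSite.ringSh O) W) :=
  Groth.Agent.Helper9.RestrExact.preservesFiniteColimits_restr O W

/-- **S9046** -/
theorem locally_lift (E F G : CochainComplex (ModSite.Mod O) ℤ) (α : E ⟶ F) (f : G ⟶ F)
    (hE : DCoh.IsStrictlyPerfectMod (ModSite.ringSh O) E) (a : ℤ)
    (hEa : ∀ j : ℤ, j < a → IsZero (E.X j))
    (hiso : ∀ j : ℤ, a < j → IsIso (HomologicalComplex.homologyMap f j))
    (hepi : Epi (HomologicalComplex.homologyMap f a)) (V : C) :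
    ∃ T ∈ J V, ∀ ⦃W : C⦄ (g : W ⟶ V), T g →
      ∃ β : ((ModSite.restr O W).mapHomologicalComplex (ComplexShape.up ℤ)).obj E ⟶
          ((ModSite.restr O W).mapHomologicalComplex (ComplexShape.up ℤ)).obj G,
        Nonempty (Homotopy (β ≫ ((ModSite.restr O W).mapHomologicalComplex (ComplexShape.up ℤ)).map f)
          (((ModSite.restr O W).mapHomologicalComplex (ComplexShape.up ℤ)).map α)) := by
  obtain ⟨⟨a', b', hab⟩, hfree⟩ := hE
  exact exists_cover_lift (R := ModSite.ringSh O) α f hfree a b' hEa
    (fun j hj => hab j (Or.inr hj)) hiso hepi V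

/-- **S9053** -/
theorem locally_chainMap [HasDerivedCategory.{u} (ModSite.Mod O)]
    [∀ W : C, HasDerivedCategory.{u} (ModSite.Mod (O.over W))]
    [∀ W : C, (ModSite.restr O W).Additive] [∀ W : C, PreservesFiniteColimits (ModSite.restr O W)]
    (E F : CochainComplex (ModSite.Mod O) ℤ) (hE : DCoh.IsStrictlyPerfectMod (ModSite.ringSh O) E)
    (α : DerivedCategory.Q.obj E ⟶ DerivedCategory.Q.obj F) (V : C) :
    ∃ T ∈ J V, ∀ ⦃W : C⦄ (g : W ⟶ V), T g →
      ∃ α' : ((ModSite.restr O W).mapHomologicalComplex (ComplexShape.up ℤ)).obj E ⟶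
          ((ModSite.restr O W).mapHomologicalComplex (ComplexShape.up ℤ)).obj F,
        (ModSite.restr O W).mapDerivedCategory.map α =
          (ModSite.restr O W).mapDerivedCategoryFactors.hom.app E ≫ DerivedCategory.Q.map α' ≫
            (ModSite.restr O W).mapDerivedCategoryFactors.inv.app F := by
  obtain ⟨F', g, s, hs, hα⟩ := DerivedCategory.left_fac α
  haveI hqis : QuasiIso s := (DerivedCategory.isIso_Q_map_iff_quasiIso (φ := s)).mp hs
  obtain ⟨⟨a', b', hab⟩, hfree⟩ := hE
  have hi : ∀ j : ℤ, IsIso (HomologicalComplex.homologyMap s j) := fun j => by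
    haveI : QuasiIsoAt s j := hqis.quasiIsoAt j
    exact (quasiIsoAt_iff_isIso_homologyMap s j).1 inferInstance
  haveI := hi a'
  obtain ⟨T, hT, hT'⟩ := locally_lift O E F' F g s ⟨⟨a', b', hab⟩, hfree⟩ a'
    (fun j hj => hab j (Or.inl hj)) (fun j _ => hi j) inferInstance V
  refine ⟨T, hT, fun W k hk => ?_⟩
  obtain ⟨β, ⟨ho⟩⟩ := hT' k hk
  exact ⟨β, Groth.Agent.Lead.LocLift.mapDerivedCategory_map_eq _ α g s hs hα β ho⟩

end ModSite

end Groth.Agent.Helper9.SL3
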