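import Mathlib
import Groth.Prelude.Def_Hyper

/-!
# Split epimorphisms of formal coproducts are coverings; terms of a simplicial object
-/

set_option autoImplicit false

open CategoryTheory Limits Opposite Simplicial

namespace Groth.Agent.Helper9.SRSplit

universe u

variable {C : Type u} [SmallCategory C] (J : GrothendieckTopology C)

lemma isSRCovering_of_section {K L : FormalCoproduct.{u} C} (f : K ⟶ L) (s : L ⟶ K)
    (h : s ≫ f = 𝟙 L) : Hyper.IsSRCovering J f := by
  intro j
  obtain ⟨h1, h2⟩ := (FormalCoproduct.hom_ext_iff' _ _).1 h j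
  apply J.covering_of_eq_top
  rw [← Sieve.id_mem_iff_eq_top]
  have h1' : f.f (s.f j) = j := h1
  have h3 : 𝟙 (L.obj j) = s.φ j ≫ (f.φ (s.f j) ≫ eqToHom (congrArg L.obj h1')) := by
    have : (s ≫ f).φ j = s.φ j ≫ f.φ (s.f j) := rfl
    rw [← Category.assoc, ← this]
    exact h2.symm
  rw [h3]
  exact Sieve.downward_closed _
    (Sieve.ofArrows_mk (fun i : {i : K.I // f.f i = j} => K.obj i.1)
      (fun i => f.φ i.1 ≫ eqToHom (congrArg L.obj i.2)) ⟨s.f j, h1'⟩) _

end Groth.Agent.Helper9.SRSplit
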