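import Mathlib
import Groth.Agent.Helper9.MultDet

namespace Groth.Agent.Helper9.SSClos

open Module

universe u

variable {k : Type u} [Field k] {n : ℕ}

/-- projection along `ker N` onto an `S`-stable complement, in matrix form -/
theorem exists_proj (S N : Matrix (Fin n) (Fin n) k)
    (hS : Module.End.IsSemisimple (Matrix.toLin' S)) (hSN : Commute S N) :
    ∃ P : Matrix (Fin n) (Fin n) k, P * P = P ∧ P * S = S * P ∧ N * P = N ∧
      ∀ M : Matrix (Fin n) (Fin n) k, N * M = 0 → P * M = 0 := by
  classical
  set p : Submodule k (Fin n → k) := LinearMap.ker (Matrix.toLin' N) with hp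
  have hpinv : p ∈ Module.End.invtSubmodule (Matrix.toLin' S) := by
    rw [Module.End.mem_invtSubmodule]
    intro x hx
    rw [Submodule.mem_comap, hp, LinearMap.mem_ker] at *
    have h1 : Matrix.toLin' N (Matrix.toLin' S x) = Matrix.toLin' (N * S) x := by
      rw [Matrix.toLin'_mul]; rfl
    rw [h1, ← hSN.eq, Matrix.toLin'_mul]
    show Matrix.toLin' S (Matrix.toLin' N x) = 0
    rw [hx, map_zero]
  obtain ⟨q, hqinv, hc⟩ := (Module.End.isSemisimple_iff.mp hS) p hpinv
  rw [Module.End.mem_invtSubmodule] at hpinv hqinv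
  set π : (Fin n → k) →ₗ[k] (Fin n → k) := q.projection p hc.symm with hπ
  set π' : (Fin n → k) →ₗ[k] (Fin n → k) := p.projection q hc with hπ'
  have hsum : ∀ x, π x + π' x = x := fun x => Submodule.projection_add_projection_eq_self hc.symm x
  have hπ'p : ∀ x, π' x ∈ p := fun x => Submodule.projection_apply_mem hc x
  have hπq : ∀ x, π x ∈ q := fun x => Submodule.projection_apply_mem hc.symm x
  -- End identities
  have e1 : π ∘ₗ π = π := by
    have := Submodule.isIdempotentElem_projection hc.symm
    exact this
  have e2 : π ∘ₗ Matrix.toLin' S = Matrix.toLin' S ∘ₗ π := by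
    refine LinearMap.ext fun x => ?_
    simp only [LinearMap.comp_apply]
    conv_lhs => rw [← hsum x, map_add, map_add]
    rw [Submodule.projection_apply_of_mem_left hc.symm (hqinv (hπq x)),
      Submodule.projection_apply_of_mem_right hc.symm (hpinv (hπ'p x)), add_zero]
  have e3 : Matrix.toLin' N ∘ₗ π = Matrix.toLin' N := by
    refine LinearMap.ext fun x => ?_
    simp only [LinearMap.comp_apply]
    conv_rhs => rw [← hsum x, map_add]
    have : Matrix.toLin' N (π' x) = 0 := LinearMap.mem_ker.mp (hπ'p x)
    rw [this, add_zero]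
  refine ⟨LinearMap.toMatrix' π, ?_, ?_, ?_, ?_⟩
  · rw [← LinearMap.toMatrix'_comp, e1]
  · have : S = LinearMap.toMatrix' (Matrix.toLin' S) := (LinearMap.toMatrix'_toLin' S).symm
    conv_lhs => rw [this]
    conv_rhs => rw [this]
    rw [← LinearMap.toMatrix'_comp, ← LinearMap.toMatrix'_comp, e2]
  · have : N = LinearMap.toMatrix' (Matrix.toLin' N) := (LinearMap.toMatrix'_toLin' N).symm
    conv_lhs => rw [this]
    conv_rhs => rw [this]
    rw [← LinearMap.toMatrix'_comp, e3]
  · intro M hM
    have hM' : M = LinearMap.toMatrix' (Matrix.toLin' M) := (LinearMap.toMatrix'_toLin' M).symm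
    rw [hM', ← LinearMap.toMatrix'_comp]
    have : π ∘ₗ Matrix.toLin' M = 0 := by
      refine LinearMap.ext fun x => ?_
      simp only [LinearMap.comp_apply, LinearMap.zero_apply]
      apply Submodule.projection_apply_of_mem_right hc.symm
      rw [hp, LinearMap.mem_ker]
      have h1 : Matrix.toLin' N (Matrix.toLin' M x) = Matrix.toLin' (N * M) x := by
        rw [Matrix.toLin'_mul]; rfl
      rw [h1, hM, map_zero, LinearMap.zero_apply]
    rw [this, map_zero]

theorem main [IsAlgClosed k] (F : MvPolynomial (Fin n × Fin n) k) :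
    ∀ (m : ℕ) (S N : Matrix (Fin n) (Fin n) k), Module.End.IsSemisimple (Matrix.toLin' S) →
      N ^ (m + 1) = 0 → Commute S N →
      (∀ A : Matrix (Fin n) (Fin n) k, IsUnit A.det →
        MvPolynomial.eval (fun p => (A * (S + N) * A⁻¹) p.1 p.2) F = 0) →
      MvPolynomial.eval (fun p => S p.1 p.2) F = 0 := by
  intro m
  induction m with
  | zero =>
    intro S N hS hN hSN hF
    rw [zero_add, pow_one] at hN
    have := hF 1 (by simp)
    simpa [hN] using this
  | succ m ih =>
    intro S N hS hN hSN hF
    obtain ⟨P, hPP, hPS, hNP, hPker⟩ := exists_proj S N hS hSN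
    have hPN0 : P * N ^ (m + 1) = 0 := hPker _ (by rw [← pow_succ', hN])
    have hNjP : ∀ j : ℕ, N ^ (j + 1) * P = N ^ (j + 1) := by
      intro j; rw [pow_succ, mul_assoc, hNP]
    have hpow : ∀ j : ℕ, (P * N) ^ (j + 1) = P * N ^ (j + 1) := by
      intro j
      induction j with
      | zero => simp
      | succ j ihj =>
        rw [pow_succ, ihj, mul_assoc, ← mul_assoc (N ^ (j+1)) P N, hNjP, ← pow_succ]
    apply ih S (P * N) hS (by rw [hpow, hPN0]) ?_ ?_
    · show S * (P * N) = P * N * S
      rw [← mul_assoc, ← hPS, mul_assoc, hSN.eq, mul_assoc]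
    · intro A hA
      obtain ⟨G, hG⟩ := MultDet.exists_poly_line F
        (fun p => (A * (S + P * N) * A⁻¹) p.1 p.2) (fun p => (A * ((1 - P) * N) * A⁻¹) p.1 p.2)
      have hroot : ∀ t : k, t ≠ 0 → G.eval t = 0 := by
        intro t ht
        rw [hG t]
        set Q : Matrix (Fin n) (Fin n) k := 1 - P with hQ
        have hQQ : Q * Q = Q := by
          rw [hQ]; simp only [sub_mul, mul_sub, one_mul, mul_one, hPP, sub_self, sub_zero]
        have hQP : Q * P = 0 := by rw [hQ, sub_mul, one_mul, hPP, sub_self]
        have hPQ : P * Q = 0 := by rw [hQ, mul_sub, mul_one, hPP, sub_self]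
        have hQaddP : Q + P = 1 := by rw [hQ]; abel
        obtain ⟨At, hAt⟩ : ∃ At : Matrix (Fin n) (Fin n) k, At = t • Q + P := ⟨_, rfl⟩
        obtain ⟨At', hAt'⟩ : ∃ At' : Matrix (Fin n) (Fin n) k, At' = t⁻¹ • Q + P := ⟨_, rfl⟩
        have hinv : At * At' = 1 := by
          rw [hAt, hAt']
          simp only [add_mul, mul_add, smul_mul_assoc, mul_smul_comm, smul_smul,
            inv_mul_cancel₀ ht, one_smul, hQQ, hQP, hPQ, hPP, smul_zero, add_zero, zero_add]
          exact hQaddP
        have hdet : IsUnit (A * At).det := by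
          rw [Matrix.det_mul]
          exact hA.mul (Matrix.isUnit_det_of_right_inverse hinv)
        have hinv2 : (A * At)⁻¹ = At' * A⁻¹ := by
          rw [Matrix.mul_inv_rev, Matrix.inv_eq_right_inv hinv]
        have h1 : At * S = S * At := by
          rw [hAt, hQ]
          simp only [add_mul, mul_add, smul_mul_assoc, mul_smul_comm, sub_mul, mul_sub, one_mul,
            mul_one, hPS]
        have h2 : N * At' = N := by
          rw [hAt', hQ]
          simp only [mul_add, mul_smul_comm, mul_sub, mul_one, hNP, sub_self, smul_zero, zero_add]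
        have h3 : At * (S + N) * At' = S + P * N + t • (Q * N) := by
          rw [mul_add, add_mul, h1, mul_assoc S, hinv, mul_one, mul_assoc At N, h2, hAt, add_mul,
            smul_mul_assoc]
          abel
        have hconj : A * At * (S + N) * (A * At)⁻¹ =
            A * (S + P * N) * A⁻¹ + t • (A * (Q * N) * A⁻¹) := by
          rw [hinv2]
          calc A * At * (S + N) * (At' * A⁻¹) = A * (At * (S + N) * At') * A⁻¹ := by
                simp only [mul_assoc]
            _ = _ := by rw [h3, mul_add, add_mul, mul_smul_comm, smul_mul_assoc]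
        have h4 := hF (A * At) hdet
        rw [hconj] at h4
        rw [← h4]
        have hfun : (fun s : Fin n × Fin n => (A * (S + P * N) * A⁻¹) s.1 s.2 +
            (A * (Q * N) * A⁻¹) s.1 s.2 * t) =
            (fun p : Fin n × Fin n => (A * (S + P * N) * A⁻¹ + t • (A * (Q * N) * A⁻¹)) p.1 p.2) := by
          funext p
          simp only [Matrix.add_apply, Matrix.smul_apply, smul_eq_mul, mul_comm]
        rw [hfun]
      have hG0 : G = 0 := Polynomial.eq_zero_of_infinite_isRoot G
        (Set.Infinite.mono (fun t ht => hroot t ht) (Set.finite_singleton 0).infinite_compl)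
      have h5 := hG 0
      rw [hG0, Polynomial.eval_zero] at h5
      simpa using h5.symm

end Groth.Agent.Helper9.SSClos
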