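import Mathlib

namespace Groth.Agent.Helper9.SSConj

open Module

universe u

section
variable {k : Type u} [Field k] {n : ℕ}

/-- the polynomial `M ↦ coeff j (charpoly M) - c` -/
theorem exists_charpoly_coeff_poly (j : ℕ) (c : k) :
    ∃ F : MvPolynomial (Fin n × Fin n) k, ∀ M : Matrix (Fin n) (Fin n) k,
      MvPolynomial.eval (fun p => M p.1 p.2) F = M.charpoly.coeff j - c := by
  refine ⟨(Matrix.charpoly.univ k (Fin n)).coeff j - MvPolynomial.C c, fun M => ?_⟩
  rw [map_sub, MvPolynomial.eval_C]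
  congr 1
  have := Matrix.charpoly.univ_coeff_eval₂Hom (Fin n) (RingHom.id k)
    (fun p : Fin n × Fin n => M p.1 p.2) j
  exact this

theorem charpoly_eq_of_closure (B C : Matrix (Fin n) (Fin n) k)
    (hC : ∀ F : MvPolynomial (Fin n × Fin n) k,
      (∀ A : Matrix (Fin n) (Fin n) k, IsUnit A.det →
        MvPolynomial.eval (fun p => (A * B * A⁻¹) p.1 p.2) F = 0) →
      MvPolynomial.eval (fun p => C p.1 p.2) F = 0) :
    C.charpoly = B.charpoly := by
  ext j
  obtain ⟨F, hF⟩ := exists_charpoly_coeff_poly (n := n) j (B.charpoly.coeff j)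
  have h := hC F (by
    intro A hA
    rw [hF]
    obtain ⟨U, hU⟩ := (Matrix.isUnit_iff_isUnit_det A).mpr hA
    rw [← hU, Matrix.charpoly_units_conj, sub_self])
  rw [hF] at h
  exact sub_eq_zero.mp h


end

section
variable {k : Type u} [Field k] [IsAlgClosed k] {n : ℕ}

theorem conj_of_finrank_eigenspace_eq (S₁ S₂ : Matrix (Fin n) (Fin n) k)
    (h₁ : Module.End.IsSemisimple (Matrix.toLin' S₁))
    (h₂ : Module.End.IsSemisimple (Matrix.toLin' S₂))
    (hfr : ∀ μ : k, finrank k (Module.End.eigenspace (Matrix.toLin' S₁) μ) =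
      finrank k (Module.End.eigenspace (Matrix.toLin' S₂) μ)) :
    ∃ A : Matrix (Fin n) (Fin n) k, IsUnit A.det ∧ A * S₁ * A⁻¹ = S₂ := by
  classical
  set f₁ := Matrix.toLin' S₁ with hf₁
  set f₂ := Matrix.toLin' S₂ with hf₂
  set E₁ : k → Submodule k (Fin n → k) := fun μ => Module.End.eigenspace f₁ μ with hE₁
  set E₂ : k → Submodule k (Fin n → k) := fun μ => Module.End.eigenspace f₂ μ with hE₂
  have i₁ : DirectSum.IsInternal E₁ :=
    DirectSum.isInternal_submodule_of_iSupIndep_of_iSup_eq_top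
      (Module.End.eigenspaces_iSupIndep f₁) h₁.iSup_eigenspace_eq_top
  have i₂ : DirectSum.IsInternal E₂ :=
    DirectSum.isInternal_submodule_of_iSupIndep_of_iSup_eq_top
      (Module.End.eigenspaces_iSupIndep f₂) h₂.iSup_eigenspace_eq_top
  let d₁ := LinearEquiv.ofBijective (DirectSum.coeLinearMap E₁) i₁
  let d₂ := LinearEquiv.ofBijective (DirectSum.coeLinearMap E₂) i₂
  let φ : ∀ μ : k, E₁ μ ≃ₗ[k] E₂ μ := fun μ => LinearEquiv.ofFinrankEq _ _ (hfr μ)
  let e : (Fin n → k) ≃ₗ[k] (Fin n → k) :=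
    d₁.symm ≪≫ₗ (DFinsupp.mapRange.linearEquiv φ) ≪≫ₗ d₂
  have he : ∀ (μ : k) (x : E₁ μ), e (x : Fin n → k) = ((φ μ x : E₂ μ) : Fin n → k) := by
    intro μ x
    have h1 : d₁.symm (x : Fin n → k) = DirectSum.of (fun μ => E₁ μ) μ x := by
      rw [LinearEquiv.symm_apply_eq]
      exact (DirectSum.coeLinearMap_of E₁ μ x).symm
    show d₂ (DFinsupp.mapRange.linearEquiv φ (d₁.symm x)) = _
    rw [h1]
    have h2 : DFinsupp.mapRange.linearEquiv φ (DirectSum.of (fun μ => E₁ μ) μ x)
        = DirectSum.of (fun μ => E₂ μ) μ (φ μ x) := by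
      simp [DirectSum.of, DFinsupp.singleAddHom]
    rw [h2]
    exact DirectSum.coeLinearMap_of E₂ μ _
  have hint : e.toLinearMap ∘ₗ f₁ = f₂ ∘ₗ e.toLinearMap := by
    have key : ∀ y : DirectSum k (fun μ => E₁ μ), e (f₁ (d₁ y)) = f₂ (e (d₁ y)) := by
      intro y
      induction y using DirectSum.induction_on with
      | zero => simp
      | of μ x =>
        have hx : d₁ (DirectSum.of _ μ x) = (x : Fin n → k) := DirectSum.coeLinearMap_of E₁ μ x
        rw [hx]
        have hfx : f₁ (x : Fin n → k) = μ • (x : Fin n → k) :=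
          Module.End.mem_eigenspace_iff.mp x.2
        rw [hfx, map_smul, he μ x]
        exact (Module.End.mem_eigenspace_iff.mp (φ μ x).2).symm
      | add y z hy hz => simp only [map_add, hy, hz]
    refine LinearMap.ext fun v => ?_
    obtain ⟨y, rfl⟩ := d₁.surjective v
    exact key y
  set A := LinearMap.toMatrix' e.toLinearMap with hA
  set A' := LinearMap.toMatrix' e.symm.toLinearMap with hA'
  have hAA' : A * A' = 1 := by
    rw [hA, hA', ← LinearMap.toMatrix'_comp]
    have : e.toLinearMap ∘ₗ e.symm.toLinearMap = LinearMap.id := by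
      refine LinearMap.ext fun v => ?_
      simp
    rw [this, LinearMap.toMatrix'_id]
  have hdet : IsUnit A.det := Matrix.isUnit_det_of_right_inverse hAA'
  have hAS : A * S₁ = S₂ * A := by
    have e1 : S₁ = LinearMap.toMatrix' f₁ := (LinearMap.toMatrix'_toLin' S₁).symm
    have e2 : S₂ = LinearMap.toMatrix' f₂ := (LinearMap.toMatrix'_toLin' S₂).symm
    rw [e1, e2, hA, ← LinearMap.toMatrix'_comp, ← LinearMap.toMatrix'_comp, hint]
  refine ⟨A, hdet, ?_⟩
  rw [hAS, Matrix.mul_nonsing_inv_cancel_right _ _ hdet]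


end

end Groth.Agent.Helper9.SSConj
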