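import Mathlib
import Groth.Agent.Helper7.FlatMilnor
import Groth.Agent.Helper9.VP3
import Groth.Agent.Helper9.VP6

/-!
# SVR1: flatness over a semi-valuation ring

`O` a ring, `𝔭` a prime of `O` such that every element of `𝔭` is divisible by every element outside
`𝔭`, `O ⧸ 𝔭` a valuation ring, `A = O_𝔭` with `O → A` injective.  An `O`-module `M` without
`(O ∖ 𝔭)`-torsion such that `A ⊗ M` is `A`-flat is flat.
-/

set_option autoImplicit false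
universe u
open TensorProduct

namespace Groth.Agent.Helper9.SVR1

open Groth.Agent.Helper9

section Div

variable {O : Type u} [CommRing O] (𝔭 : Ideal O) [h𝔭 : 𝔭.IsPrime]
  (hdiv : ∀ m ∈ 𝔭, ∀ s ∉ 𝔭, s ∣ m)

include hdiv

lemma exists_mul_of_mem {m : O} (hm : m ∈ 𝔭) {s : O} (hs : s ∉ 𝔭) : ∃ m' ∈ 𝔭, m = s * m' := by
  obtain ⟨m', rfl⟩ := hdiv m hm s hs
  exact ⟨m', (h𝔭.mem_or_mem hm).resolve_left hs, rfl⟩

variable {M : Type u} [AddCommGroup M] [Module O M]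

lemma exists_smul_of_mem_smul_top {x : M} (hx : x ∈ 𝔭 • (⊤ : Submodule O M)) {s : O}
    (hs : s ∉ 𝔭) : ∃ y ∈ 𝔭 • (⊤ : Submodule O M), x = s • y := by
  refine Submodule.smul_induction_on hx ?_ ?_
  · intro m hm z _
    obtain ⟨m', hm', rfl⟩ := exists_mul_of_mem 𝔭 hdiv hm hs
    exact ⟨m' • z, Submodule.smul_mem_smul hm' trivial, by rw [mul_smul]⟩
  · rintro _ _ ⟨y1, h1, rfl⟩ ⟨y2, h2, rfl⟩
    exact ⟨y1 + y2, add_mem h1 h2, by rw [smul_add]⟩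

lemma fibre_torsion_eq_bot (htf : ∀ s ∉ 𝔭, ∀ c : M, s • c = 0 → c = 0) :
    Submodule.torsion (O ⧸ 𝔭) ((O ⧸ 𝔭) ⊗[O] M) = ⊥ := by
  rw [eq_bot_iff]
  intro t ht
  rw [Submodule.mem_torsion_iff] at ht
  obtain ⟨⟨a, ha⟩, hat⟩ := ht
  obtain ⟨c, rfl⟩ := VP6.exists_one_tmul 𝔭 t
  obtain ⟨s, rfl⟩ := Ideal.Quotient.mk_surjective a
  have hs : s ∉ 𝔭 := by
    intro hs
    have h0 : Ideal.Quotient.mk 𝔭 s = 0 := Ideal.Quotient.eq_zero_iff_mem.2 hs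
    exact nonZeroDivisors.ne_zero ha h0
  change Ideal.Quotient.mk 𝔭 s • ((1 : O ⧸ 𝔭) ⊗ₜ[O] c) = 0 at hat
  rw [VP6.mk_smul_one_tmul, VP6.one_tmul_eq_zero_iff] at hat
  obtain ⟨y, hy, hsy⟩ := exists_smul_of_mem_smul_top 𝔭 hdiv hat hs
  have hcy : c - y = 0 := htf s hs _ (by rw [smul_sub, hsy, sub_self])
  rw [Submodule.mem_bot, VP6.one_tmul_eq_zero_iff]
  rw [sub_eq_zero] at hcy
  rw [hcy]
  exact hy

/-- flatness over a semi-valuation ring -/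
theorem flat (A : Type u) [CommRing A] [Algebra O A] [IsLocalization.AtPrime A 𝔭]
    (hinj : Function.Injective (algebraMap O A)) [ValuationRing (O ⧸ 𝔭)]
    (M : Type u) [AddCommGroup M] [Module O M]
    (htf : ∀ s ∉ 𝔭, ∀ c : M, s • c = 0 → c = 0)
    [Module.Flat A (A ⊗[O] M)] : Module.Flat O M := by
  have h1 : Module.Flat (O ⧸ 𝔭) ((O ⧸ 𝔭) ⊗[O] M) := by
    rw [Module.Flat.flat_iff_torsion_eq_bot_of_isBezout]
    exact fibre_torsion_eq_bot 𝔭 hdiv htf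
  refine Groth.Agent.Helper7.FlatMilnor.flat_core (S₂ := A) 𝔭
    (fun r _ h0 => hinj (by rw [h0, map_zero])) ?_ M
  intro a i hi
  obtain ⟨⟨o, s⟩, hos⟩ := IsLocalization.surj 𝔭.primeCompl a
  obtain ⟨i', hi', rfl⟩ := exists_mul_of_mem 𝔭 hdiv hi s.2
  refine ⟨o * i', 𝔭.mul_mem_left _ hi', ?_⟩
  rw [map_mul, map_mul, ← hos]
  ring

end Div

end Groth.Agent.Helper9.SVR1
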