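import Mathlib
import Groth.Agent.Helper9.SVR1

/-!
# SVR2: finite presentation over a semi-valuation ring
-/

set_option autoImplicit false
universe u
open TensorProduct MvPolynomial

namespace Groth.Agent.Helper9.SVR2

open Groth.Agent.Helper9

attribute [local instance] MvPolynomial.algebraMvPolynomial

section

variable {O : Type u} [CommRing O] (𝔭 : Ideal O) [h𝔭 : 𝔭.IsPrime]
  (hdiv : ∀ m ∈ 𝔭, ∀ s ∉ 𝔭, s ∣ m)

include hdiv in
lemma exists_mul_of_mem_map_C {σ : Type} {z : MvPolynomial σ O}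
    (hz : z ∈ Ideal.map (C : O →+* MvPolynomial σ O) 𝔭) {s : O} (hs : s ∉ 𝔭) :
    ∃ z' ∈ Ideal.map (C : O →+* MvPolynomial σ O) 𝔭, z = C s * z' := by
  have h1 : z ∈ 𝔭 • (⊤ : Submodule O (MvPolynomial σ O)) := by
    rw [Ideal.smul_top_eq_map]
    exact hz
  obtain ⟨y, hy, rfl⟩ := SVR1.exists_smul_of_mem_smul_top 𝔭 hdiv h1 hs
  rw [Ideal.smul_top_eq_map] at hy
  exact ⟨y, hy, MvPolynomial.smul_eq_C_mul _ _⟩

variable (A : Type u) [CommRing A] [Algebra O A] [IsLocalization.AtPrime A 𝔭]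
  {B : Type u} [CommRing B] [Algebra O B]
  (hadm : ∀ c : B, (1 : A) ⊗ₜ[O] c = 0 → c = 0)

include hadm in
lemma torsionFree_of_adm : ∀ s ∉ 𝔭, ∀ c : B, s • c = 0 → c = 0 := by
  intro s hs c hc
  apply hadm
  have hu : IsUnit (algebraMap O A s) :=
    IsLocalization.map_units A (⟨s, hs⟩ : 𝔭.primeCompl)
  have h0 : algebraMap O A s • ((1 : A) ⊗ₜ[O] c) = 0 := by
    rw [TensorProduct.smul_tmul', smul_eq_mul, mul_one, Algebra.algebraMap_eq_smul_one,
      TensorProduct.smul_tmul, hc, tmul_zero]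
  exact (hu.smul_eq_zero).1 h0


variable (hinj : Function.Injective (algebraMap O A)) {n : ℕ}
  (f : MvPolynomial (Fin n) O →ₐ[O] B)

/-- the base-changed presentation -/
noncomputable def phi : MvPolynomial (Fin n) A →ₐ[A] A ⊗[O] B :=
  (Algebra.TensorProduct.map (AlgHom.id A A) f).comp
    (MvPolynomial.algebraTensorAlgEquiv O A).symm.toAlgHom

lemma phi_map (p : MvPolynomial (Fin n) O) :
    phi A f (MvPolynomial.map (algebraMap O A) p) = (1 : A) ⊗ₜ[O] f p := by
  have h1 : (MvPolynomial.algebraTensorAlgEquiv O A).symm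
      (MvPolynomial.map (algebraMap O A) p) = (1 : A) ⊗ₜ[O] p := by
    rw [AlgEquiv.symm_apply_eq, MvPolynomial.algebraTensorAlgEquiv_tmul, one_smul]
  change (Algebra.TensorProduct.map (AlgHom.id A A) f)
    ((MvPolynomial.algebraTensorAlgEquiv O A).symm (MvPolynomial.map (algebraMap O A) p)) = _
  rw [h1, Algebra.TensorProduct.map_tmul]
  rfl

lemma phi_surjective (hf : Function.Surjective f) : Function.Surjective (phi A f) := by
  intro t
  induction t using TensorProduct.induction_on with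
  | zero => exact ⟨0, map_zero _⟩
  | tmul a b =>
    obtain ⟨p, rfl⟩ := hf b
    refine ⟨a • MvPolynomial.map (algebraMap O A) p, ?_⟩
    rw [map_smul, phi_map, TensorProduct.smul_tmul', smul_eq_mul, mul_one]
  | add t₁ t₂ h₁ h₂ =>
    obtain ⟨x₁, rfl⟩ := h₁
    obtain ⟨x₂, rfl⟩ := h₂
    exact ⟨x₁ + x₂, map_add _ _ _⟩

include hadm in
/-- elements of the kernel of the base-changed presentation come from the kernel of `f` up to
a denominator -/
lemma exists_of_mem_ker_phi {q : MvPolynomial (Fin n) A} (hq : phi A f q = 0) :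
    ∃ s ∉ 𝔭, ∃ p ∈ RingHom.ker f.toRingHom,
      C (algebraMap O A s) * q = MvPolynomial.map (algebraMap O A) p := by
  obtain ⟨⟨p, m⟩, hpm⟩ := IsLocalization.surj (𝔭.primeCompl.map
    (C : O →+* MvPolynomial (Fin n) O)) q
  obtain ⟨s, hs, hsm⟩ := m.2
  rw [MvPolynomial.algebraMap_def] at hpm
  simp only at hpm
  rw [← hsm, MvPolynomial.map_C] at hpm
  refine ⟨s, hs, p, ?_, by rw [← hpm, mul_comm]⟩
  rw [RingHom.mem_ker]
  apply hadm
  change (1 : A) ⊗ₜ[O] f p = 0
  rw [← phi_map, ← hpm, map_mul, hq, zero_mul]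


include hadm hinj in
lemma exists_fg_sub (hf : Function.Surjective f)
    [hfp : Algebra.FinitePresentation A (A ⊗[O] B)] :
    ∃ J₁ : Ideal (MvPolynomial (Fin n) O), J₁.FG ∧ J₁ ≤ RingHom.ker f.toRingHom ∧
      ∀ j ∈ RingHom.ker f.toRingHom, ∃ s ∉ 𝔭, C s * j ∈ J₁ := by
  classical
  have hK : (RingHom.ker (phi A f).toRingHom).FG :=
    Algebra.FinitePresentation.ker_fG_of_surjective (phi A f) (phi_surjective A f hf)
  obtain ⟨T, hT⟩ := hK
  have hTq : ∀ q ∈ T, ∃ s ∉ 𝔭, ∃ p ∈ RingHom.ker f.toRingHom,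
      C (algebraMap O A s) * q = MvPolynomial.map (algebraMap O A) p := by
    intro q hq
    refine exists_of_mem_ker_phi 𝔭 A hadm f ?_
    have h1 : q ∈ RingHom.ker (phi A f).toRingHom := by
      rw [← hT]
      exact Ideal.subset_span hq
    exact h1
  choose! sf hsf pf hpf hspf using hTq
  refine ⟨Ideal.span (pf '' ↑T), Submodule.fg_span (T.finite_toSet.image _), ?_, ?_⟩
  · rw [Ideal.span_le]
    rintro _ ⟨q, hq, rfl⟩
    exact hpf q hq
  · intro j hj
    have h1 : MvPolynomial.map (algebraMap O A) j ∈ RingHom.ker (phi A f).toRingHom := by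
      rw [RingHom.mem_ker]
      change phi A f _ = 0
      rw [RingHom.mem_ker] at hj
      change f j = 0 at hj
      rw [phi_map, hj, tmul_zero]
    have h2 : RingHom.ker (phi A f).toRingHom ≤
        Ideal.map (algebraMap (MvPolynomial (Fin n) O) (MvPolynomial (Fin n) A))
          (Ideal.span (pf '' ↑T)) := by
      rw [← hT, Ideal.span_le]
      intro q hq
      have hu : IsUnit (C (algebraMap O A (sf q)) : MvPolynomial (Fin n) A) :=
        (IsLocalization.map_units A (⟨sf q, hsf q hq⟩ : 𝔭.primeCompl)).map C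
      have h3 : C (algebraMap O A (sf q)) * q ∈
          Ideal.map (algebraMap (MvPolynomial (Fin n) O) (MvPolynomial (Fin n) A))
            (Ideal.span (pf '' ↑T)) := by
        rw [hspf q hq]
        exact Ideal.mem_map_of_mem _ (Ideal.subset_span ⟨q, hq, rfl⟩)
      exact (Ideal.unit_mul_mem_iff_mem _ hu).1 h3
    have h3 := h2 h1
    rw [IsLocalization.mem_map_algebraMap_iff
      (𝔭.primeCompl.map (C : O →+* MvPolynomial (Fin n) O))] at h3
    obtain ⟨⟨⟨i, hi⟩, m⟩, him⟩ := h3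
    obtain ⟨s, hs, hsm⟩ := m.2
    refine ⟨s, hs, ?_⟩
    rw [MvPolynomial.algebraMap_def] at him
    simp only at him
    rw [← hsm, ← map_mul] at him
    have h4 := MvPolynomial.map_injective _ hinj him
    rw [mul_comm, h4]
    exact hi

include hdiv in
lemma fibre_fg [ValuationRing (O ⧸ 𝔭)] (htf : ∀ s ∉ 𝔭, ∀ c : B, s • c = 0 → c = 0) :
    (Ideal.map (MvPolynomial.map (σ := Fin n) (Ideal.Quotient.mk 𝔭))
      (RingHom.ker f.toRingHom)).FG := by
  set g : MvPolynomial (Fin n) O →+* MvPolynomial (Fin n) (O ⧸ 𝔭) :=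
    MvPolynomial.map (Ideal.Quotient.mk 𝔭) with hg
  have hgsurj : Function.Surjective g :=
    MvPolynomial.map_surjective _ Ideal.Quotient.mk_surjective
  set Jb : Submodule (MvPolynomial (Fin n) (O ⧸ 𝔭)) (MvPolynomial (Fin n) (O ⧸ 𝔭)) :=
    Ideal.map g (RingHom.ker f.toRingHom) with hJb
  have hsat : ∀ c : O ⧸ 𝔭, c ≠ 0 → ∀ u : MvPolynomial (Fin n) (O ⧸ 𝔭), c • u ∈ Jb → u ∈ Jb := by
    intro c hc u hu
    obtain ⟨s, rfl⟩ := Ideal.Quotient.mk_surjective c
    obtain ⟨q, rfl⟩ := hgsurj u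
    have hs : s ∉ 𝔭 := fun hs => hc (Ideal.Quotient.eq_zero_iff_mem.2 hs)
    have h1 : C s * q ∈ Ideal.comap g (Ideal.map g (RingHom.ker f.toRingHom)) := by
      rw [Ideal.mem_comap, map_mul, hg, MvPolynomial.map_C, ← MvPolynomial.smul_eq_C_mul]
      exact hu
    rw [Ideal.comap_map_of_surjective g hgsurj, ← RingHom.ker_eq_comap_bot, hg,
      MvPolynomial.ker_map, Ideal.mk_ker] at h1
    obtain ⟨j, hj, z, hz, hjz⟩ := Submodule.mem_sup.1 h1
    obtain ⟨z', hz', rfl⟩ := exists_mul_of_mem_map_C 𝔭 hdiv hz hs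
    have h2 : q - z' ∈ RingHom.ker f.toRingHom := by
      rw [RingHom.mem_ker]
      apply htf s hs
      have h3 : j = C s * (q - z') := by
        rw [mul_sub, ← hjz]
        ring
      rw [RingHom.mem_ker, h3, ← MvPolynomial.smul_eq_C_mul] at hj
      change f (s • (q - z')) = 0 at hj
      rw [map_smul] at hj
      exact hj
    have h3 : g z' = 0 := by
      have : z' ∈ RingHom.ker g := by
        rw [hg, MvPolynomial.ker_map, Ideal.mk_ker]
        exact hz'
      exact this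
    have h4 : g q = g (q - z') := by rw [map_sub, h3, sub_zero]
    rw [h4]
    exact Ideal.mem_map_of_mem g h2
  have htf' : ∀ c : O ⧸ 𝔭, c ≠ 0 →
      ∀ m : MvPolynomial (Fin n) (O ⧸ 𝔭) ⧸ Jb, c • m = 0 → m = 0 := by
    intro c hc m hm
    obtain ⟨u, rfl⟩ := Submodule.Quotient.mk_surjective _ m
    rw [← Submodule.Quotient.mk_smul, Submodule.Quotient.mk_eq_zero] at hm
    rw [Submodule.Quotient.mk_eq_zero]
    exact hsat c hc u hm
  have hfpq : Module.FinitePresentation (MvPolynomial (Fin n) (O ⧸ 𝔭))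
      (MvPolynomial (Fin n) (O ⧸ 𝔭) ⧸ Jb) :=
    VP3.finitePresentation_of_torsionFree htf'
  have h5 := Module.FinitePresentation.fg_ker (Submodule.mkQ Jb) (Submodule.mkQ_surjective _)
  rwa [Submodule.ker_mkQ] at h5


include hdiv in
/-- elements of `𝔭P ∩ J` lie in `J₁` as soon as `J₁` contains `J` up to denominators -/
lemma mem_of_mem_inf [Module.Flat O B] (hf : Function.Surjective f)
    (J₁ : Ideal (MvPolynomial (Fin n) O))
    (hJ₁ : ∀ j ∈ RingHom.ker f.toRingHom, ∃ s ∉ 𝔭, C s * j ∈ J₁)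
    (z : MvPolynomial (Fin n) O) (hz1 : z ∈ RingHom.ker f.toRingHom)
    (hz2 : z ∈ Ideal.map (C : O →+* MvPolynomial (Fin n) O) 𝔭) : z ∈ J₁ := by
  set K : Submodule O (MvPolynomial (Fin n) O) := LinearMap.ker f.toLinearMap with hK
  have hzK : z ∈ K := hz1
  have hinjT := LinearMap.lTensor_injective_of_exact_of_flat f.toLinearMap hf K.subtype
    K.subtype_injective (LinearMap.exact_subtype_ker_map _) (O ⧸ 𝔭)
  have h0 : (1 : O ⧸ 𝔭) ⊗ₜ[O] (⟨z, hzK⟩ : K) = 0 := by
    apply hinjT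
    rw [LinearMap.lTensor_tmul, map_zero, Submodule.subtype_apply, VP6.one_tmul_eq_zero_iff,
      Ideal.smul_top_eq_map]
    exact hz2
  rw [VP6.one_tmul_eq_zero_iff] at h0
  have key : ∀ x ∈ 𝔭 • (⊤ : Submodule O K), (x : MvPolynomial (Fin n) O) ∈ J₁ := by
    intro x hx
    refine Submodule.smul_induction_on hx ?_ ?_
    · intro m hm k _
      obtain ⟨s, hs, hsk⟩ := hJ₁ k.1 k.2
      obtain ⟨m', hm', rfl⟩ := SVR1.exists_mul_of_mem 𝔭 hdiv hm hs
      have h1 : ((s * m') • k : K) = (C m' * (C s * (k : MvPolynomial (Fin n) O)) :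
          MvPolynomial (Fin n) O) := by
        rw [Submodule.coe_smul, MvPolynomial.smul_eq_C_mul, map_mul]
        ring
      rw [h1]
      exact J₁.mul_mem_left _ hsk
    · intro x y hx hy
      rw [Submodule.coe_add]
      exact J₁.add_mem hx hy
  exact key _ h0

include hdiv hadm hinj in
/-- **finite presentation over a semi-valuation ring**: the kernel of a presentation is f.g. -/
theorem ker_fg [ValuationRing (O ⧸ 𝔭)] [Module.Flat O B]
    [Algebra.FinitePresentation A (A ⊗[O] B)]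
    (hf : Function.Surjective f) : (RingHom.ker f.toRingHom).FG := by
  classical
  have htf := torsionFree_of_adm 𝔭 A hadm
  obtain ⟨J₁, hJ₁fg, hJ₁le, hJ₁⟩ := exists_fg_sub 𝔭 A hadm hinj f hf
  have hJb := fibre_fg 𝔭 hdiv f htf
  set J := RingHom.ker f.toRingHom with hJ
  set g : MvPolynomial (Fin n) O →+* MvPolynomial (Fin n) (O ⧸ 𝔭) :=
    MvPolynomial.map (Ideal.Quotient.mk 𝔭) with hg
  have hgsurj : Function.Surjective g :=
    MvPolynomial.map_surjective _ Ideal.Quotient.mk_surjective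
  have hJb' : (Submodule.span (MvPolynomial (Fin n) (O ⧸ 𝔭)) (g '' ↑J)).FG := hJb
  rw [Submodule.fg_span_iff_fg_span_finset_subset] at hJb'
  obtain ⟨T', hT'sub, hT'⟩ := hJb'
  obtain ⟨T₂, hT₂sub, rfl⟩ := Finset.subset_set_image_iff.1 hT'sub
  set J₂ : Ideal (MvPolynomial (Fin n) O) := Ideal.span (↑T₂ : Set (MvPolynomial (Fin n) O))
    with hJ₂
  have hJ₂le : J₂ ≤ J := Ideal.span_le.2 hT₂sub
  have hJ₂map : Ideal.map g J = Ideal.map g J₂ := by
    rw [hJ₂, Ideal.map_span, Ideal.map, ← Ideal.submodule_span_eq, hT', Finset.coe_image]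
  have hle : J ≤ J₁ ⊔ J₂ := by
    intro j hj
    have h1 : g j ∈ Ideal.map g J₂ := hJ₂map ▸ Ideal.mem_map_of_mem g hj
    obtain ⟨j₂, hj₂, hgj⟩ := (Ideal.mem_map_iff_of_surjective g hgsurj).1 h1
    have hz1 : j - j₂ ∈ J := sub_mem hj (hJ₂le hj₂)
    have hz2 : j - j₂ ∈ Ideal.map (C : O →+* MvPolynomial (Fin n) O) 𝔭 := by
      have h2 : j - j₂ ∈ RingHom.ker g := by
        rw [RingHom.mem_ker, map_sub, hgj, sub_self]
      rwa [hg, MvPolynomial.ker_map, Ideal.mk_ker] at h2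
    have hz3 : j - j₂ ∈ J₁ := mem_of_mem_inf 𝔭 hdiv f hf J₁ hJ₁ _ hz1 hz2
    have h3 : j = (j - j₂) + j₂ := by ring
    rw [h3]
    exact Submodule.add_mem_sup hz3 hj₂
  have heq : J = J₁ ⊔ J₂ := le_antisymm hle (sup_le hJ₁le hJ₂le)
  rw [heq]
  exact Submodule.FG.sup hJ₁fg (Submodule.fg_span T₂.finite_toSet)


include hdiv hadm hinj in
/-- **Main theorem over an abstract semi-valuation ring**. -/
theorem main [ValuationRing (O ⧸ 𝔭)] [Algebra.FiniteType O B]
    [Module.Flat A (A ⊗[O] B)] [Algebra.FinitePresentation A (A ⊗[O] B)] :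
    Module.Flat O B ∧ Algebra.FinitePresentation O B := by
  have htf := torsionFree_of_adm 𝔭 A hadm
  have hflat : Module.Flat O B := SVR1.flat 𝔭 hdiv A hinj B htf
  refine ⟨hflat, ?_⟩
  obtain ⟨n, f, hf⟩ := Algebra.FiniteType.iff_quotient_mvPolynomial''.1
    (inferInstance : Algebra.FiniteType O B)
  exact Algebra.FinitePresentation.of_surjective hf (ker_fg 𝔭 hdiv A hadm hinj f hf)

end

end Groth.Agent.Helper9.SVR2
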