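import Mathlib
import Groth.Agent.Helper9.SVR2

/-!
# SVR3: the preimage of a valuation ring of the residue field of a local ring is a semi-valuation
ring.
-/

set_option autoImplicit false
universe u
open TensorProduct

namespace Groth.Agent.Helper9.SVR3

open Groth.Agent.Helper9

variable (A : Type u) [CommRing A] [IsLocalRing A]
  (R : ValuationSubring (IsLocalRing.ResidueField A))

/-- the semi-valuation ring -/
abbrev Osub : Subring A := R.toSubring.comap (IsLocalRing.residue A)

example : Algebra (Osub A R) A := inferInstance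
example (x : Osub A R) : algebraMap (Osub A R) A x = (x : A) := rfl

lemma mem_Osub (a : A) : a ∈ Osub A R ↔ IsLocalRing.residue A a ∈ R := Iff.rfl

/-- the prime ideal -/
abbrev pp : Ideal (Osub A R) := (IsLocalRing.maximalIdeal A).comap (algebraMap (Osub A R) A)

instance : (pp A R).IsPrime := Ideal.comap_isPrime _ _

lemma mem_pp (x : Osub A R) : x ∈ pp A R ↔ (x : A) ∈ IsLocalRing.maximalIdeal A := Iff.rfl


variable {A R}

lemma mem_Osub_of_mem_maximalIdeal {a : A} (ha : a ∈ IsLocalRing.maximalIdeal A) :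
    a ∈ Osub A R := by
  rw [mem_Osub]
  have h0 : IsLocalRing.residue A a = 0 := (IsLocalRing.residue_eq_zero_iff a).2 ha
  rw [h0]
  exact R.zero_mem

/-- elements outside `O` are inverses of elements of `O ∖ 𝔪` -/
lemma exists_inv_of_notMem {a : A} (ha : a ∉ Osub A R) :
    ∃ b : Osub A R, b ∉ pp A R ∧ a * (b : A) = 1 := by
  have h1 : a ∉ IsLocalRing.maximalIdeal A := fun h => ha (mem_Osub_of_mem_maximalIdeal h)
  have hu : IsUnit a := IsLocalRing.notMem_maximalIdeal.1 h1
  obtain ⟨u, rfl⟩ := hu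
  have h2 : IsLocalRing.residue A (u : A) * IsLocalRing.residue A ((u⁻¹ : Aˣ) : A) = 1 := by
    rw [← map_mul, Units.mul_inv, map_one]
  have h3 : IsLocalRing.residue A ((u⁻¹ : Aˣ) : A) = (IsLocalRing.residue A (u : A))⁻¹ :=
    eq_inv_of_mul_eq_one_right h2
  have h4 : ((u⁻¹ : Aˣ) : A) ∈ Osub A R := by
    rw [mem_Osub, h3]
    exact (R.mem_or_inv_mem _).resolve_left ha
  refine ⟨⟨_, h4⟩, ?_, Units.mul_inv u⟩
  rw [mem_pp]
  exact IsLocalRing.notMem_maximalIdeal.2 (Units.isUnit u⁻¹)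

lemma isUnit_of_notMem_pp {s : Osub A R} (hs : s ∉ pp A R) : IsUnit (s : A) :=
  IsLocalRing.notMem_maximalIdeal.1 hs

variable (A R) in
instance isLocalization : IsLocalization.AtPrime A (pp A R) where
  map_units s := isUnit_of_notMem_pp s.2
  surj a := by
    by_cases ha : a ∈ Osub A R
    · refine ⟨(⟨a, ha⟩, 1), ?_⟩
      change a * ((1 : Osub A R) : A) = a
      rw [OneMemClass.coe_one, mul_one]
    · obtain ⟨b, hb, hab⟩ := exists_inv_of_notMem ha
      refine ⟨(1, ⟨b, hb⟩), ?_⟩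
      change a * (b : A) = ((1 : Osub A R) : A)
      rw [hab, OneMemClass.coe_one]
  exists_of_eq {x y} h := ⟨1, by rw [Subtype.ext h]⟩

lemma algebraMap_injective : Function.Injective (algebraMap (Osub A R) A) :=
  Subtype.val_injective

lemma hdiv : ∀ m ∈ pp A R, ∀ s ∉ pp A R, s ∣ m := by
  intro m hm s hs
  obtain ⟨u, hu⟩ := isUnit_of_notMem_pp hs
  have h1 : ((u⁻¹ : Aˣ) : A) * (m : A) ∈ IsLocalRing.maximalIdeal A :=
    Ideal.mul_mem_left _ _ hm
  refine ⟨⟨_, mem_Osub_of_mem_maximalIdeal h1⟩, ?_⟩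
  apply Subtype.ext
  change (m : A) = (s : A) * (((u⁻¹ : Aˣ) : A) * (m : A))
  rw [← hu, ← mul_assoc, Units.mul_inv, one_mul]

lemma dvd_of_residue {f g : Osub A R} (hf : f ∉ pp A R)
    (h : IsLocalRing.residue A (g : A) / IsLocalRing.residue A (f : A) ∈ R) : f ∣ g := by
  obtain ⟨u, hu⟩ := isUnit_of_notMem_pp hf
  have h2 : IsLocalRing.residue A (u : A) * IsLocalRing.residue A ((u⁻¹ : Aˣ) : A) = 1 := by
    rw [← map_mul, Units.mul_inv, map_one]
  have h3 : IsLocalRing.residue A ((u⁻¹ : Aˣ) : A) = (IsLocalRing.residue A (u : A))⁻¹ :=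
    eq_inv_of_mul_eq_one_right h2
  have h4 : ((u⁻¹ : Aˣ) : A) * (g : A) ∈ Osub A R := by
    rw [mem_Osub, map_mul, h3, hu, mul_comm, ← div_eq_mul_inv]
    exact h
  refine ⟨⟨_, h4⟩, ?_⟩
  apply Subtype.ext
  change (g : A) = (f : A) * (((u⁻¹ : Aˣ) : A) * (g : A))
  rw [← hu, ← mul_assoc, Units.mul_inv, one_mul]

variable (A R) in
instance valuationRing : ValuationRing (Osub A R ⧸ pp A R) := by
  rw [ValuationRing.iff_dvd_total]
  refine ⟨fun x y => ?_⟩
  obtain ⟨f, rfl⟩ := Ideal.Quotient.mk_surjective x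
  obtain ⟨g, rfl⟩ := Ideal.Quotient.mk_surjective y
  by_cases hf : f ∈ pp A R
  · right
    rw [Ideal.Quotient.eq_zero_iff_mem.2 hf]
    exact dvd_zero _
  by_cases hg : g ∈ pp A R
  · left
    rw [Ideal.Quotient.eq_zero_iff_mem.2 hg]
    exact dvd_zero _
  rcases R.mem_or_inv_mem (IsLocalRing.residue A (g : A) / IsLocalRing.residue A (f : A)) with h | h
  · left
    exact map_dvd _ (dvd_of_residue hf h)
  · right
    rw [inv_div] at h
    exact map_dvd _ (dvd_of_residue hg h)

/-- **S17899** for the canonical semi-valuation subring. -/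
theorem main (C : Type u) [CommRing C] [Algebra (Osub A R) C] [Algebra.FiniteType (Osub A R) C]
    (hadm : Function.Injective
      (Algebra.TensorProduct.includeRight : C →ₐ[Osub A R] A ⊗[Osub A R] C))
    (hflat : Module.Flat A (A ⊗[Osub A R] C))
    (hfp : Algebra.FinitePresentation A (A ⊗[Osub A R] C)) :
    Module.Flat (Osub A R) C ∧ Algebra.FinitePresentation (Osub A R) C := by
  refine SVR2.main (pp A R) hdiv A ?_ algebraMap_injective
  intro c hc
  apply hadm
  rw [map_zero]
  exact hc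

end Groth.Agent.Helper9.SVR3
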