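import Mathlib
import Groth.Prelude.Def_CxOX
import Groth.Agent.Helper9.ShriekSh

/-!
# Extension by zero along an open subscheme is exact; restriction preserves injectives
-/

namespace Groth.Agent.Helper9.SchExtZero

open CategoryTheory Limits AlgebraicGeometry

universe u

variable {X : Scheme.{u}} (V : X.Opens)

instance preservesFiniteLimits_extZero : PreservesFiniteLimits (CxOX.extZero V.ι) := by
  have h1 := Groth.Agent.Helper9.ShriekSh.preservesFiniteLimits_extZero X.sheaf V
  have h2 : PreservesFiniteLimits ((Scheme.Modules.overEquiv V).inverse ⋙
      ModSite.extZero X.sheaf V) :=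
    @comp_preservesFiniteLimits _ _ _ _ _ _ (Scheme.Modules.overEquiv V).inverse
      (ModSite.extZero X.sheaf V) inferInstance h1
  exact @preservesFiniteLimits_of_natIso _ _ _ _ _ _ (CxOX.extZeroIsoSite V).symm h2

theorem injective_restrict (I : X.Modules) [Injective I] :
    Injective ((Scheme.Modules.restrictFunctor V.ι).obj I) := by
  haveI : (CxOX.extZero V.ι).PreservesMonomorphisms := inferInstance
  exact Injective.injective_of_adjoint (CxOX.extZeroAdj V.ι) I

end Groth.Agent.Helper9.SchExtZero
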