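import Mathlib
import Groth.Agent.Helper9.SpecB

/-!
# Codirected families of quasi-compact opens in a spectral space
-/

set_option autoImplicit false

namespace Groth.Agent.Helper9.SpecS1

open TopologicalSpace Topology

variable {X : Type*} [TopologicalSpace X]

/-- a codirected nonempty family of quasi-compact opens -/
structure QCFam (𝒰 : Set (Opens X)) : Prop where
  nonempty : 𝒰.Nonempty
  qc : ∀ U ∈ 𝒰, IsCompact (U : Set X)
  directed : ∀ U ∈ 𝒰, ∀ V ∈ 𝒰, ∃ W ∈ 𝒰, W ≤ U ⊓ V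

/-- the intersection of the family -/
def core (𝒰 : Set (Opens X)) : Set X := {x | ∀ U ∈ 𝒰, x ∈ U}

variable {𝒰 : Set (Opens X)}

lemma core_subset {U : Opens X} (hU : U ∈ 𝒰) : core 𝒰 ⊆ (U : Set X) := fun _ hx => hx U hU

lemma mem_of_core {U : Opens X} (hU : U ∈ 𝒰) {x : X} (hx : x ∈ core 𝒰) : x ∈ U := hx U hU

variable [SpectralSpace X]

/-- an open neighbourhood of `core 𝒰 ∩ V` contains some `U ∩ V` -/
theorem shrink (h𝒰 : QCFam 𝒰) {V : Set X} (hVo : IsOpen V) (hV : IsCompact V) {O : Set X}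
    (hO : IsOpen O) (h : core 𝒰 ∩ V ⊆ O) : ∃ U ∈ 𝒰, (U : Set X) ∩ V ⊆ O := by
  haveI := SpecB.compactSpace_constructible (X := X)
  haveI : Nonempty 𝒰 := h𝒰.nonempty.to_subtype
  have hs : IsClosed[constructibleTopology X] (V ∩ Oᶜ) :=
    @IsClosed.inter X V Oᶜ (constructibleTopology X)
      (SpecB.isClosed_constructible_of_qc ⟨hVo, hV⟩)
      (SpecB.isClosed_constructible_of_isClosed (isClosed_compl_iff.2 hO))
  have hsc : @IsCompact X (constructibleTopology X) (V ∩ Oᶜ) :=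
    @IsClosed.isCompact X (constructibleTopology X) _ _ hs
  obtain ⟨U, hU⟩ := @IsCompact.elim_directed_family_closed X (constructibleTopology X)
    (V ∩ Oᶜ) 𝒰 _ hsc (fun U => (U.1 : Set X))
    (fun U => SpecB.isClosed_constructible_of_qc ⟨U.1.isOpen, h𝒰.qc U.1 U.2⟩)
    (by
      rw [Set.eq_empty_iff_forall_notMem]
      rintro x ⟨⟨hxV, hxO⟩, hx⟩
      apply hxO
      apply h
      refine ⟨?_, hxV⟩
      intro U hU
      exact Set.mem_iInter.1 hx ⟨U, hU⟩)
    (by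
      intro U U'
      obtain ⟨W, hW, hle⟩ := h𝒰.directed U.1 U.2 U'.1 U'.2
      exact ⟨⟨W, hW⟩, fun x hx => (hle hx).1, fun x hx => (hle hx).2⟩)
  refine ⟨U.1, U.2, ?_⟩
  intro x hx
  by_contra hxO
  have : x ∈ (V ∩ Oᶜ) ∩ (U.1 : Set X) := ⟨⟨hx.2, hxO⟩, hx.1⟩
  rw [hU] at this
  exact this

/-- `core 𝒰 ∩ V` is quasi-compact for `V` quasi-compact open -/
theorem isCompact_core_inter (h𝒰 : QCFam 𝒰) {V : Set X} (hVo : IsOpen V) (hV : IsCompact V) :
    IsCompact (core 𝒰 ∩ V) := by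
  rw [isCompact_iff_finite_subcover]
  intro ι O hO hcov
  obtain ⟨U, hU, hUV⟩ := shrink h𝒰 hVo hV (isOpen_iUnion hO) hcov
  have hc : IsCompact ((U : Set X) ∩ V) :=
    QuasiSeparatedSpace.inter_isCompact _ _ U.isOpen (h𝒰.qc U hU) hVo hV
  obtain ⟨t, ht⟩ := hc.elim_finite_subcover O hO hUV
  exact ⟨t, fun x hx => ht ⟨core_subset hU hx.1, hx.2⟩⟩

theorem isCompact_core (h𝒰 : QCFam 𝒰) : IsCompact (core 𝒰) := by
  have := isCompact_core_inter h𝒰 isOpen_univ isCompact_univ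
  rwa [Set.inter_univ] at this

/-- the inclusion of the core is a spectral map -/
theorem isSpectralMap_val (h𝒰 : QCFam 𝒰) :
    IsSpectralMap (Subtype.val : core 𝒰 → X) := by
  refine ⟨continuous_subtype_val, ?_⟩
  intro V hVo hV
  rw [Topology.IsInducing.subtypeVal.isCompact_iff]
  have : Subtype.val '' (Subtype.val ⁻¹' V : Set (core 𝒰)) = core 𝒰 ∩ V := by
    rw [Subtype.image_preimage_coe]
  rw [this]
  exact isCompact_core_inter h𝒰 hVo hV

theorem prespectralSpace_core (h𝒰 : QCFam 𝒰) : PrespectralSpace (core 𝒰) :=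
  PrespectralSpace.of_isInducing Subtype.val Topology.IsInducing.subtypeVal (isSpectralMap_val h𝒰)

theorem compactSpace_core (h𝒰 : QCFam 𝒰) : CompactSpace (core 𝒰) :=
  isCompact_iff_compactSpace.1 (isCompact_core h𝒰)

theorem quasiSeparatedSpace_core (h𝒰 : QCFam 𝒰) : QuasiSeparatedSpace (core 𝒰) := by
  let b : {V : Set X // IsOpen V ∧ IsCompact V} → Set (core 𝒰) := fun V => Subtype.val ⁻¹' V.1
  have hb : IsTopologicalBasis (Set.range b) := by
    have h1 := (PrespectralSpace.isTopologicalBasis (X := X)).isInducing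
      (Topology.IsInducing.subtypeVal (t := core 𝒰))
    convert h1 using 1
    ext s
    constructor
    · rintro ⟨V, rfl⟩
      exact ⟨V.1, V.2, rfl⟩
    · rintro ⟨V, hV, rfl⟩
      exact ⟨⟨V, hV⟩, rfl⟩
  refine QuasiSeparatedSpace.of_isTopologicalBasis hb ?_
  intro V V'
  have : b V ∩ b V' = Subtype.val ⁻¹' (V.1 ∩ V'.1) := rfl
  rw [this]
  exact (isSpectralMap_val h𝒰).isCompact_preimage_of_isOpen (V.2.1.inter V'.2.1)
    (QuasiSeparatedSpace.inter_isCompact _ _ V.2.1 V.2.2 V'.2.1 V'.2.2)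

/-- every quasi-compact open of the core is the trace of a quasi-compact open of `X` -/
theorem exists_qc_open_of_core (T : Set (core 𝒰)) (hTo : IsOpen T) (hT : IsCompact T) :
    ∃ V : Opens X, IsCompact (V : Set X) ∧ T = Subtype.val ⁻¹' (V : Set X) := by
  obtain ⟨O, hO, rfl⟩ := Topology.IsInducing.subtypeVal.isOpen_iff.1 hTo
  have hb := PrespectralSpace.isTopologicalBasis (X := X)
  -- cover by qc opens inside O
  let ι := {N : Set X // (IsOpen N ∧ IsCompact N) ∧ N ⊆ O}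
  have hcov : (Subtype.val ⁻¹' O : Set (core 𝒰)) ⊆ ⋃ N : ι, Subtype.val ⁻¹' N.1 := by
    intro x hx
    obtain ⟨N, hN, hxN, hNO⟩ := hb.exists_subset_of_mem_open hx hO
    exact Set.mem_iUnion.2 ⟨⟨N, hN, hNO⟩, hxN⟩
  obtain ⟨t, ht⟩ := hT.elim_finite_subcover (fun N : ι => (Subtype.val ⁻¹' N.1 : Set (core 𝒰)))
    (fun N => N.2.1.1.preimage continuous_subtype_val) hcov
  refine ⟨⟨⋃ N ∈ t, N.1, isOpen_biUnion fun N _ => N.2.1.1⟩, ?_, ?_⟩
  · exact t.finite_toSet.isCompact_biUnion fun N _ => N.2.1.2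
  · apply Set.Subset.antisymm
    · intro x hx
      obtain ⟨N, hN, hxN⟩ := Set.mem_iUnion₂.1 (ht hx)
      exact Set.mem_iUnion₂.2 ⟨N, hN, hxN⟩
    · intro x hx
      obtain ⟨N, hN, hxN⟩ := Set.mem_iUnion₂.1 hx
      exact N.2.2 hxN

/-- finite lower bounds in a codirected family -/
theorem exists_le_finset (h𝒰 : QCFam 𝒰) {ι : Type*} (t : Finset ι) (f : ι → Opens X)
    (hf : ∀ i ∈ t, f i ∈ 𝒰) : ∃ U ∈ 𝒰, ∀ i ∈ t, U ≤ f i := by
  classical
  induction t using Finset.induction_on with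
  | empty =>
    obtain ⟨U, hU⟩ := h𝒰.nonempty
    exact ⟨U, hU, by simp⟩
  | insert a s ha ih =>
    obtain ⟨U, hU, hle⟩ := ih (fun i hi => hf i (Finset.mem_insert_of_mem hi))
    obtain ⟨W, hW, hWle⟩ := h𝒰.directed U hU (f a) (hf a (Finset.mem_insert_self a s))
    refine ⟨W, hW, ?_⟩
    intro i hi
    rcases Finset.mem_insert.1 hi with rfl | hi
    · exact hWle.trans inf_le_right
    · exact (hWle.trans inf_le_left).trans (hle i hi)

end Groth.Agent.Helper9.SpecS1
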