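import Mathlib
import Groth.Agent.Helper9.SpecS1
import Groth.Agent.Helper9.SpecB

/-!
# Scheiderer's theorem, topological part

For quasi-compact opens `U ≤ U'` of a spectral space `X`, the set of points of `U` specializing to
a point of `U' \ U` is (the core of a codirected family of quasi-compact opens, hence) a spectral
space, of Krull dimension strictly smaller than that of `X`.
-/

set_option autoImplicit false

namespace Groth.Agent.Helper9.ScheidA

open TopologicalSpace Topology Groth.Agent.Helper9.SpecS1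

variable {X : Type*} [TopologicalSpace X]

section sober
variable [QuasiSober X] {𝒰 : Set (Opens X)}

/-- the core of a family of opens of a quasi-sober space is quasi-sober -/
theorem quasiSober_core : QuasiSober (core 𝒰) where
  sober := by
    intro T hT hTc
    -- closure of the image in X
    have hirr : IsIrreducible (closure (Subtype.val '' T : Set X)) :=
      (hT.image Subtype.val continuous_subtype_val.continuousOn).closure
    obtain ⟨η, hη⟩ := QuasiSober.sober hirr isClosed_closure
    have hηcore : η ∈ core 𝒰 := by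
      intro V hV
      obtain ⟨t, ht⟩ := hT.nonempty
      exact (hη.mem_open_set_iff V.isOpen).2 ⟨t.1, subset_closure ⟨t, ht, rfl⟩, t.2 V hV⟩
    refine ⟨⟨η, hηcore⟩, ?_⟩
    rw [isGenericPoint_def]
    -- closure in the subspace
    have h1 : closure ({⟨η, hηcore⟩} : Set (core 𝒰)) =
        Subtype.val ⁻¹' closure ({η} : Set X) := by
      rw [Topology.IsInducing.subtypeVal.closure_eq_preimage_closure_image, Set.image_singleton]
    rw [h1, hη.def]
    -- T is closed in the subspace
    have h2 : closure T = Subtype.val ⁻¹' closure (Subtype.val '' T : Set X) :=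
      Topology.IsInducing.subtypeVal.closure_eq_preimage_closure_image T
    rw [← h2, hTc.closure_eq]

end sober

section spectral
variable [SpectralSpace X] {𝒰 : Set (Opens X)}

theorem spectralSpace_core (h𝒰 : QCFam 𝒰) : SpectralSpace (core 𝒰) :=
  { compactSpace_core h𝒰, quasiSober_core (𝒰 := 𝒰), quasiSeparatedSpace_core h𝒰,
    prespectralSpace_core h𝒰 with }

/-- the family `V ⊓ U`, `V` a quasi-compact open with `U' \ U ⊆ V ⊆ U'` -/
def nbZ (U U' : Opens X) : Set (Opens X) :=
  {W | ∃ V : Opens X, IsCompact (V : Set X) ∧ (U' : Set X) \ U ⊆ V ∧ V ≤ U' ∧ W = V ⊓ U}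

variable {U U' : Opens X}

lemma qcFam_nbZ (hU : IsCompact (U : Set X)) (hU' : IsCompact (U' : Set X)) :
    QCFam (nbZ U U') where
  nonempty := ⟨U' ⊓ U, U', hU', Set.sdiff_subset, le_rfl, rfl⟩
  qc := by
    rintro W ⟨V, hV, -, -, rfl⟩
    exact QuasiSeparatedSpace.inter_isCompact _ _ V.isOpen hV U.isOpen hU
  directed := by
    rintro W ⟨V, hV, hZV, hVU', rfl⟩ W' ⟨V', hV', hZV', hVU'', rfl⟩
    refine ⟨(V ⊓ V') ⊓ U, ⟨V ⊓ V', ?_, fun x hx => ⟨hZV hx, hZV' hx⟩, inf_le_left.trans hVU', rfl⟩,
      ?_⟩
    · exact QuasiSeparatedSpace.inter_isCompact _ _ V.isOpen hV V'.isOpen hV'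
    · exact le_inf (inf_le_inf_right _ inf_le_left) (inf_le_inf_right _ inf_le_right)

lemma self_mem_nbZ (hU' : IsCompact (U' : Set X)) (hle : U ≤ U') : U ∈ nbZ U U' :=
  ⟨U', hU', Set.sdiff_subset, le_rfl, (inf_eq_right.2 hle).symm⟩

lemma mem_of_mem_core {x : X} (hU' : IsCompact (U' : Set X)) (hle : U ≤ U')
    (hx : x ∈ core (nbZ U U')) : x ∈ U :=
  hx U (self_mem_nbZ hU' hle)

/-- a point of the core specializes to a point of `U' \ U` -/
lemma exists_specializes_of_mem_core {x : X} (hU' : IsCompact (U' : Set X))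
    (hx : x ∈ core (nbZ U U')) : ∃ z ∈ (U' : Set X) \ U, x ⤳ z := by
  have hE : IsCompact ((U' : Set X) \ U) := hU'.diff U.isOpen
  refine SpecB.exists_specializes_of_forall_qc hE ?_
  intro W hWo hWc hEW
  have hV : IsCompact ((⟨W, hWo⟩ ⊓ U' : Opens X) : Set X) :=
    QuasiSeparatedSpace.inter_isCompact _ _ hWo hWc U'.isOpen hU'
  have := hx ((⟨W, hWo⟩ ⊓ U') ⊓ U)
    ⟨⟨W, hWo⟩ ⊓ U', hV, fun y hy => ⟨hEW hy, hy.1⟩, inf_le_right, rfl⟩
  exact this.1.1

/-- chains of irreducible closed subsets of the core extend by one step in `X` -/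
theorem exists_ltSeries (hU' : IsCompact (U' : Set X)) (hle : U ≤ U')
    (p : LTSeries (IrreducibleCloseds (core (nbZ U U')))) :
    ∃ q : LTSeries (IrreducibleCloseds X), q.length = p.length + 1 := by
  let f := IrreducibleCloseds.map (Subtype.val : core (nbZ U U') → X) continuous_subtype_val
  have hf : StrictMono f := IrreducibleCloseds.map_strictMono_of_isInducing IsInducing.subtypeVal
  let q₀ := p.map f hf
  obtain ⟨x, hx⟩ := p.head.2.nonempty
  obtain ⟨z, hz, hxz⟩ := exists_specializes_of_mem_core hU' x.2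
  let a : IrreducibleCloseds X := ⟨closure {z}, isIrreducible_singleton.closure, isClosed_closure⟩
  have hxh : (x : X) ∈ (f p.head : Set X) := subset_closure ⟨x, hx, rfl⟩
  have ha : a < q₀.head := by
    rw [LTSeries.head_map]
    refine lt_of_le_of_ne ?_ ?_
    · show closure {z} ⊆ (f p.head : Set X)
      refine closure_minimal ?_ (f p.head).isClosed'
      rw [Set.singleton_subset_iff]
      exact hxz.mem_closed (f p.head).isClosed' hxh
    · intro h
      have hxa : (x : X) ∈ (a : Set X) := by rw [h]; exact hxh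
      have hxU : (x : X) ∈ U := mem_of_mem_core hU' hle x.2
      -- x ∈ closure {z} and U open nbhd of x, so z ∈ U
      have hzU : z ∈ U := by
        obtain ⟨y, hyU, hy⟩ := mem_closure_iff.1 hxa U U.isOpen hxU
        rwa [Set.mem_singleton_iff.1 hy] at hyU
      exact hz.2 hzU
  exact ⟨q₀.cons a ha, by simp [q₀]⟩

lemma length_succ_le (hU' : IsCompact (U' : Set X)) (hle : U ≤ U') (d : ℕ)
    (hd : topologicalKrullDim X ≤ d)
    (p : LTSeries (IrreducibleCloseds (core (nbZ U U')))) : p.length + 1 ≤ d := by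
  obtain ⟨q, hq⟩ := exists_ltSeries hU' hle p
  have h1 : (q.length : WithBot ℕ∞) ≤ (d : WithBot ℕ∞) :=
    (Order.LTSeries.length_le_krullDim q).trans hd
  have h2 : q.length ≤ d := by exact_mod_cast h1
  omega

/-- in dimension `0` the core is empty -/
theorem isEmpty_core_of_dim_zero (hU' : IsCompact (U' : Set X)) (hle : U ≤ U')
    (hd : topologicalKrullDim X ≤ (0 : ℕ)) : IsEmpty (core (nbZ U U')) := by
  refine ⟨fun x => ?_⟩
  let a : IrreducibleCloseds (core (nbZ U U')) :=
    ⟨closure {x}, isIrreducible_singleton.closure, isClosed_closure⟩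
  have := length_succ_le hU' hle 0 hd (RelSeries.singleton _ a)
  omega

/-- the core has smaller dimension -/
theorem dim_core_le (hU' : IsCompact (U' : Set X)) (hle : U ≤ U') (n : ℕ)
    (hd : topologicalKrullDim X ≤ (n + 1 : ℕ)) : topologicalKrullDim (core (nbZ U U')) ≤ n := by
  unfold topologicalKrullDim Order.krullDim
  refine iSup_le fun p => ?_
  have := length_succ_le hU' hle (n + 1) hd p
  have h : p.length ≤ n := by omega
  exact_mod_cast h

end spectral

end Groth.Agent.Helper9.ScheidA
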