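import Mathlib
import Groth.Prelude.Def_CohTop
import Groth.Agent.Helper1.QCFlasque
import Groth.Agent.Helper9.SoftI
import Groth.Agent.Helper9.SpecS1

/-!
# Sections of `F|K` for `K` the intersection of a codirected family of quasi-compact opens
of a spectral space
-/

set_option autoImplicit false

namespace Groth.Agent.Helper9.SpecS2

open CategoryTheory TopologicalSpace Opposite TopCat Topology Limits
open Groth.Agent.Helper9.SoftA Groth.Agent.Helper9.SoftC Groth.Agent.Helper9.SoftI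
open Groth.Agent.Helper9.SpecS1

universe u

variable {X : TopCat.{u}} {𝒰 : Set (Opens X)}
  (F : TopCat.Sheaf AddCommGrpCat.{u} X)

/-- local data for a section `γ` of `F|K` over `K ∩ V` -/
structure Datum (V : Opens X)
    (γ : (pb (iK (core 𝒰)) F).obj.obj (op ((Opens.map (iK (core 𝒰))).obj V))) where
  Q : Opens X
  qc : IsCompact (Q : Set X)
  le : Q ≤ V
  s : F.obj.obj (op Q)
  h : ∀ (a : core 𝒰) (ha : (a : X) ∈ Q),
    (pb (iK (core 𝒰)) F).presheaf.germ ((Opens.map (iK (core 𝒰))).obj V) a (le ha) γ =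
      (pb (iK (core 𝒰)) F).presheaf.germ ((Opens.map (iK (core 𝒰))).obj Q) a ha
        (η (iK (core 𝒰)) F Q s)

variable [SpectralSpace X]

lemma exists_datum (V : Opens X)
    (γ : (pb (iK (core 𝒰)) F).obj.obj (op ((Opens.map (iK (core 𝒰))).obj V)))
    (a : core 𝒰) (ha : (a : X) ∈ V) : ∃ d : Datum F V γ, (a : X) ∈ d.Q := by
  let G := pb (iK (core 𝒰)) F
  obtain ⟨U, hU, t, ht⟩ := germ_surj (iK (core 𝒰)) F a _ ha γ
  obtain ⟨N, haN, i₁, i₂, ih⟩ := G.presheaf.germ_eq (U := (Opens.map (iK (core 𝒰))).obj V)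
    (V := (Opens.map (iK (core 𝒰))).obj U) a ha hU _ _ ht
  obtain ⟨O, hO, hON⟩ := (Topology.IsInducing.subtypeVal (t := core 𝒰)).isOpen_iff.1 N.isOpen
  have haO : (a : X) ∈ O := by
    have : a ∈ (Subtype.val ⁻¹' O : Set (core 𝒰)) := by
      rw [hON]
      exact haN
    exact this
  obtain ⟨Q, ⟨hQo, hQc⟩, haQ, hQsub⟩ :=
    (PrespectralSpace.isTopologicalBasis (X := X)).exists_subset_of_mem_open
      (show (a : X) ∈ O ∩ (U : Set X) ∩ (V : Set X) from ⟨⟨haO, hU⟩, ha⟩)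
      ((hO.inter U.isOpen).inter V.isOpen)
  let Q' : Opens X := ⟨Q, hQo⟩
  have hQU : Q' ≤ U := fun x hx => (hQsub hx).1.2
  have hQV : Q' ≤ V := fun x hx => (hQsub hx).2
  refine ⟨⟨Q', hQc, hQV, F.obj.map (homOfLE hQU).op t, ?_⟩, haQ⟩
  intro a' ha'
  have ha'N : a' ∈ N := by
    have : a' ∈ (Subtype.val ⁻¹' O : Set (core 𝒰)) := (hQsub ha').1.1
    rw [hON] at this
    exact this
  have e1 : G.presheaf.germ _ a' (hQV ha') γ =
      G.presheaf.germ _ a' (hQU ha') (η (iK (core 𝒰)) F U t) :=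
    TopCat.Presheaf.germ_ext G.presheaf N ha'N i₁ i₂ ih
  rw [e1]
  apply SoftF.germ_η_eq
  exact (TopCat.Presheaf.germ_res_apply F.presheaf (homOfLE hQU) _ ha' t).symm

variable (h𝒰 : QCFam 𝒰)

include h𝒰 in
/-- a section of `F|K` over `K ∩ V`, `V` quasi-compact open, comes from a section of `F` over
some `U ∩ V` -/
theorem rel_surj (V : Opens X) (hV : IsCompact (V : Set X))
    (γ : (pb (iK (core 𝒰)) F).obj.obj (op ((Opens.map (iK (core 𝒰))).obj V))) :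
    ∃ (U : Opens X) (hU : U ∈ 𝒰) (τ : F.obj.obj (op (U ⊓ V))),
      ∀ (a : core 𝒰) (ha : (a : X) ∈ V),
        (pb (iK (core 𝒰)) F).presheaf.germ ((Opens.map (iK (core 𝒰))).obj V) a ha γ =
          (pb (iK (core 𝒰)) F).presheaf.germ ((Opens.map (iK (core 𝒰))).obj (U ⊓ V)) a
            ⟨mem_of_core hU a.2, ha⟩ (η (iK (core 𝒰)) F (U ⊓ V) τ) := by
  classical
  let ι := {a : core 𝒰 // (a : X) ∈ V}
  choose D hD using fun a : ι => exists_datum F V γ a.1 a.2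
  have hKV : IsCompact (core 𝒰 ∩ (V : Set X)) := isCompact_core_inter h𝒰 V.isOpen hV
  obtain ⟨t, ht⟩ := hKV.elim_finite_subcover (fun a : ι => ((D a).Q : Set X))
    (fun a => (D a).Q.isOpen) (by
      intro x hx
      exact Set.mem_iUnion.2 ⟨⟨⟨x, hx.1⟩, hx.2⟩, hD _⟩)
  -- pairwise agreement
  have hpair : ∀ a b : ι, ∃ U ∈ 𝒰, ∀ (R : Opens X) (h₁ : R ≤ (D a).Q) (h₂ : R ≤ (D b).Q),
      R ≤ U → F.obj.map (homOfLE h₁).op (D a).s = F.obj.map (homOfLE h₂).op (D b).s := by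
    intro a b
    have hg : ∀ x ∈ core 𝒰 ∩ (((D a).Q : Set X) ∩ ((D b).Q : Set X)),
        ∃ (h₁ : x ∈ (D a).Q) (h₂ : x ∈ (D b).Q),
          F.presheaf.germ (D a).Q x h₁ (D a).s = F.presheaf.germ (D b).Q x h₂ (D b).s := by
      rintro x ⟨hxK, hxa, hxb⟩
      refine ⟨hxa, hxb, ?_⟩
      apply germ_inj (iK (core 𝒰)) F ⟨x, hxK⟩ hxa hxb
      rw [← (D a).h ⟨x, hxK⟩ hxa, ← (D b).h ⟨x, hxK⟩ hxb]
    obtain ⟨O, hO₁, hO₂, hAO, e⟩ := SoftF.exists_open_agree F (D a).s (D b).s _ hg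
    obtain ⟨U, hU, hUsub⟩ := shrink h𝒰 ((D a).Q.isOpen.inter (D b).Q.isOpen)
      (QuasiSeparatedSpace.inter_isCompact _ _ (D a).Q.isOpen (D a).qc (D b).Q.isOpen (D b).qc)
      O.isOpen hAO
    refine ⟨U, hU, ?_⟩
    intro R h₁ h₂ hRU
    have hRO : R ≤ O := fun x hx => hUsub ⟨hRU hx, h₁ hx, h₂ hx⟩
    have := congrArg (F.obj.map (homOfLE hRO).op) e
    rw [SoftD.map_map, SoftD.map_map] at this
    exact this
  choose Upair hUpair hUpair' using hpair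
  obtain ⟨U₀, hU₀, hU₀sub⟩ := shrink h𝒰 V.isOpen hV
    (isOpen_iUnion fun a : ι => isOpen_iUnion fun _ : a ∈ t => (D a).Q.isOpen) ht
  obtain ⟨U₁, hU₁, hU₁le⟩ := exists_le_finset h𝒰 (t ×ˢ t) (fun p => Upair p.1 p.2)
    (fun p _ => hUpair p.1 p.2)
  obtain ⟨U, hU, hUle⟩ := h𝒰.directed U₀ hU₀ U₁ hU₁
  -- glue
  let R : t → Opens X := fun a => U ⊓ (D a.1).Q
  let sf : ∀ a : t, F.obj.obj (op (R a)) :=
    fun a => F.obj.map (homOfLE (inf_le_right : R a ≤ (D a.1).Q)).op (D a.1).s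
  have hcomp : TopCat.Presheaf.IsCompatible F.presheaf R sf := by
    intro a b
    have hle : R a ⊓ R b ≤ Upair a.1 b.1 := by
      intro x hx
      have h1 : x ∈ U₁ := (hUle hx.1.1).2
      exact hU₁le (a.1, b.1) (Finset.mem_product.2 ⟨a.2, b.2⟩) h1
    have := hUpair' a.1 b.1 (R a ⊓ R b) (fun x hx => hx.1.2) (fun x hx => hx.2.2) hle
    show F.obj.map (Opens.infLELeft (R a) (R b)).op (sf a) =
      F.obj.map (Opens.infLERight (R a) (R b)).op (sf b)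
    have e1 : F.obj.map (Opens.infLELeft (R a) (R b)).op (sf a) =
        F.obj.map (homOfLE (fun x hx => hx.1.2 : R a ⊓ R b ≤ (D a.1).Q)).op (D a.1).s :=
      SoftD.map_map F _ _ _
    have e2 : F.obj.map (Opens.infLERight (R a) (R b)).op (sf b) =
        F.obj.map (homOfLE (fun x hx => hx.2.2 : R a ⊓ R b ≤ (D b.1).Q)).op (D b.1).s :=
      SoftD.map_map F _ _ _
    rw [e1, e2]
    exact this
  have hcover : U ⊓ V ≤ iSup R := by
    intro x hx
    obtain ⟨a, ha, hxa⟩ := Set.mem_iUnion₂.1 (hU₀sub ⟨(hUle hx.1).1, hx.2⟩)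
    exact Opens.mem_iSup.2 ⟨⟨a, ha⟩, hx.1, hxa⟩
  obtain ⟨τ, hτ, -⟩ := F.existsUnique_gluing' R (U ⊓ V)
    (fun a => homOfLE (inf_le_inf_left U (D a.1).le)) hcover sf hcomp
  refine ⟨U, hU, τ, ?_⟩
  intro a ha
  obtain ⟨b, hb, hab⟩ := Set.mem_iUnion₂.1 (ht ⟨a.2, ha⟩)
  rw [(D b).h a hab]
  apply SoftF.germ_η_eq
  have haR : (a : X) ∈ R ⟨b, hb⟩ := ⟨mem_of_core hU a.2, hab⟩
  have e1 := TopCat.Presheaf.germ_res_apply F.presheaf
    (homOfLE (inf_le_right : R ⟨b, hb⟩ ≤ (D b).Q)) a.1 haR (D b).s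
  have e2 := TopCat.Presheaf.germ_res_apply F.presheaf
    (homOfLE (inf_le_inf_left U (D b).le : R ⟨b, hb⟩ ≤ U ⊓ V)) a.1 haR τ
  refine e1.symm.trans (Eq.trans ?_ e2)
  exact congrArg _ (hτ ⟨b, hb⟩).symm

include h𝒰 in
/-- a section near `K` vanishing on `K` vanishes on a member of the family -/
theorem toK_eq_zero' {U : Opens X} (hU : U ∈ 𝒰) (s : F.obj.obj (op U))
    (h : toK (core 𝒰) F U (core_subset hU) s = 0) :
    ∃ (U' : Opens X) (_ : U' ∈ 𝒰) (hle : U' ≤ U), F.obj.map (homOfLE hle).op s = 0 := by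
  obtain ⟨U₁, hU₁, hKU₁, h0⟩ := toK_eq_zero (core 𝒰) F (core_subset hU) s h
  obtain ⟨U₂, hU₂, hsub⟩ := shrink h𝒰 isOpen_univ isCompact_univ U₁.isOpen
    (by rw [Set.inter_univ]; exact hKU₁)
  obtain ⟨U₃, hU₃, hle⟩ := h𝒰.directed U₂ hU₂ U hU
  have h31 : U₃ ≤ U₁ := fun x hx => hsub ⟨(hle hx).1, Set.mem_univ _⟩
  refine ⟨U₃, hU₃, fun x hx => (hle hx).2, ?_⟩
  have := congrArg (F.obj.map (homOfLE h31).op) h0
  rw [SoftD.map_map, map_zero] at this
  exact this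

include h𝒰 in
/-- every section of `F|K` comes from a section of `F` over a member of the family -/
theorem toK_surj' (γ : (pb (iK (core 𝒰)) F).obj.obj (op ⊤)) :
    ∃ (U : Opens X) (hU : U ∈ 𝒰) (τ : F.obj.obj (op U)),
      toK (core 𝒰) F U (core_subset hU) τ = γ := by
  let G := pb (iK (core 𝒰)) F
  have hle : (Opens.map (iK (core 𝒰))).obj ⊤ ≤ ⊤ := le_top
  obtain ⟨U, hU, τ, hτ⟩ := rel_surj F h𝒰 ⊤ isCompact_univ (G.obj.map (homOfLE hle).op γ)
  have hUle : U ≤ U ⊓ ⊤ := le_inf le_rfl le_top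
  refine ⟨U, hU, F.obj.map (homOfLE hUle).op τ, ?_⟩
  rw [toK_apply]
  apply TopCat.Presheaf.section_ext G ⊤
  intro a _
  have e1 := TopCat.Presheaf.germ_res_apply G.presheaf
    (homOfLE (top_le (core 𝒰) U (core_subset hU))) a True.intro
    (η (iK (core 𝒰)) F U (F.obj.map (homOfLE hUle).op τ))
  have e2 := TopCat.Presheaf.germ_res_apply G.presheaf (homOfLE hle) a True.intro γ
  have e3 := hτ a True.intro
  refine e1.trans (Eq.trans ?_ (e3.symm.trans e2))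
  apply SoftF.germ_η_eq
  exact TopCat.Presheaf.germ_res_apply F.presheaf (homOfLE hUle) _ _ τ

open Groth.Agent.Helper1.QCFlasque in
include h𝒰 in
/-- the restriction of a flasque sheaf to `K` has surjective restriction maps between
quasi-compact opens -/
theorem qcFlasque_pb [TopCat.Sheaf.IsFlasque F] : QCFlasque (pb (iK (core 𝒰)) F) := by
  intro T T' hTT' hT hT' γ
  obtain ⟨V, hVc, hTV⟩ := exists_qc_open_of_core (T : Set (core 𝒰)) T.isOpen hT
  have hT_eq : T = (Opens.map (iK (core 𝒰))).obj V := Opens.ext hTV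
  subst hT_eq
  obtain ⟨U, hU, τ, hτ⟩ := rel_surj F h𝒰 V hVc γ
  have hepi : Function.Surjective (F.obj.map (homOfLE (le_top : U ⊓ V ≤ ⊤)).op) := by
    have : Epi (F.obj.map (homOfLE (le_top : U ⊓ V ≤ ⊤)).op) :=
      TopCat.Presheaf.IsFlasque.epi _
    exact (AddCommGrpCat.epi_iff_surjective _).1 this
  obtain ⟨τ', hτ'⟩ := hepi τ
  let G := pb (iK (core 𝒰)) F
  have hle : T' ≤ (Opens.map (iK (core 𝒰))).obj ⊤ := fun _ _ => True.intro
  refine ⟨G.obj.map (homOfLE hle).op (η (iK (core 𝒰)) F ⊤ τ'), ?_⟩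
  rw [SoftD.map_map]
  apply TopCat.Presheaf.section_ext G _
  intro a ha
  rw [hτ a ha]
  have e1 := TopCat.Presheaf.germ_res_apply G.presheaf (homOfLE (hTT'.trans hle)) a ha
    (η (iK (core 𝒰)) F ⊤ τ')
  refine e1.trans ?_
  apply SoftF.germ_η_eq
  rw [← hτ']
  exact (TopCat.Presheaf.germ_res_apply F.presheaf (homOfLE le_top) _ _ τ').symm

end Groth.Agent.Helper9.SpecS2
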