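import Mathlib
import Groth.Prelude.Def_CohTop
import Groth.Agent.Helper9.SoftK

/-!
# `colim_{U ∈ P} H^p(U, F) ≅ H^p(K, F|K)`: the formal part

`P` is a codirected family of opens containing `K` such that sections of `F|K` are germs of
sections of `F` along `P`, and restrictions of injectives to `K` are acyclic.
-/

set_option autoImplicit false

namespace Groth.Agent.Helper9.SpecS3

open CategoryTheory TopologicalSpace Opposite TopCat Topology Limits Abelian
open Groth.Agent.Helper9.SoftA Groth.Agent.Helper9.SoftC Groth.Agent.Helper9.SoftI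
open Groth.Agent.Helper9.SoftK
open Groth.Agent.Helper1.DeltaCmp Groth.Agent.Helper1.DeltaFun Groth.Agent.Helper1.CechTop
open Groth.Agent.Helper1.CohTopFun Groth.Agent.Helper1.CohTopExt Groth.Agent.Lead.CohTopB

universe u

variable {X : TopCat.{u}} (P : ObjectProperty (Opens X)ᵒᵖ)

/-- the family is nonempty and codirected -/
class IsCodirected : Prop where
  nonempty : ∃ U, P U
  inf : ∀ U V, P U → P V → ∃ W, P W ∧ W.unop ≤ U.unop ⊓ V.unop

/-- the category of members of the family (opposite order) -/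
abbrev EP : Type u := P.FullSubcategory

instance [IsCodirected P] : Nonempty (EP P) :=
  ⟨⟨(IsCodirected.nonempty (P := P)).choose, (IsCodirected.nonempty (P := P)).choose_spec⟩⟩

instance (U V : EP P) : Subsingleton (U ⟶ V) :=
  ⟨fun f g => by
    apply ObjectProperty.hom_ext
    exact Subsingleton.elim _ _⟩

instance [IsCodirected P] : IsFiltered (EP P) where
  cocone_objs U V := by
    obtain ⟨W, hW, hle⟩ := IsCodirected.inf U.obj V.obj U.property V.property
    exact ⟨⟨W, hW⟩, ObjectProperty.homMk (homOfLE (hle.trans inf_le_left)).op,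
      ObjectProperty.homMk (homOfLE (hle.trans inf_le_right)).op, True.intro⟩
  cocone_maps U V f g := ⟨V, 𝟙 V, by rw [Subsingleton.elim f g]⟩

/-- `U ↦ ℤ_U` on the family -/
noncomputable abbrev Pfree : EP P ⥤ (CohTop.Ab X)ᵒᵖ :=
  ObjectProperty.ι P ⋙ Functor.op (yoneda ⋙ (Functor.whiskeringRight _ _ _).obj
      AddCommGrpCat.free ⋙ presheafToSheaf _ _)

/-- the diagram of δ-functors `U ↦ H^•(U, -)` -/
noncomputable abbrev DP : DeltaDiagram (EP P) (CohTop.Ab X) AddCommGrpCat.{u} :=
  SoftJ.extDiagram (Pfree P)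

variable (K : Set X) (hsub : ∀ U, P U → K ⊆ (U.unop : Set X)) (F : CohTop.Ab X)

/-- the legs of the cocone -/
noncomputable def κ (U : EP P) :
    Ext (freeU U.obj.unop) F 0 →+ Ext (constZ (TopCat.of K)) ((CohTop.pull (iK K)).obj F) 0 :=
  ((secZ K F).symm.toAddMonoidHom.comp (toK K F U.obj.unop (hsub U.obj U.property))).comp
    (sec F U.obj.unop).toAddMonoidHom

lemma κ_apply (U : EP P) (α : Ext (freeU U.obj.unop) F 0) :
    κ P K hsub F U α =
      (secZ K F).symm (toK K F U.obj.unop (hsub U.obj U.property) (sec F U.obj.unop α)) := rfl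

lemma κ_res {U U' : EP P} (j : U ⟶ U') (α : Ext (freeU U.obj.unop) F 0) :
    κ P K hsub F U' ((Ext.mk₀ (freeMap j.hom.unop)).comp α (zero_add 0)) = κ P K hsub F U α := by
  rw [κ_apply, κ_apply, sec_res]
  congr 1
  exact toK_res K F (leOfHom j.hom.unop) (hsub U'.obj U'.property) _

lemma κ_nat {F F' : CohTop.Ab X} (β : F ⟶ F') (U : EP P) (α : Ext (freeU U.obj.unop) F 0) :
    κ P K hsub F' U (α.comp (Ext.mk₀ β) (add_zero 0)) =
      (κ P K hsub F U α).comp (Ext.mk₀ ((CohTop.pull (iK K)).map β)) (add_zero 0) := by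
  rw [κ_apply, κ_apply, sec_nat, toK_nat]
  exact (Sheaf.H.equiv₀_symm_naturality isTerminalTop ((CohTop.pull (iK K)).map β) _).symm

/-- the cocone with point `H⁰(K, F|K)` -/
noncomputable def cF :
    Cocone ((DP P).T 0 ⋙ (evaluation (CohTop.Ab X) AddCommGrpCat.{u}).obj F) where
  pt := (HZSeq K 0).obj F
  ι :=
    { app := fun U => AddCommGrpCat.ofHom (κ P K hsub F U)
      naturality := fun U U' j => by
        ext α
        exact κ_res P K hsub F j α }

/-- the comparison map in degree zero -/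
noncomputable def ψ : (colimit ((DP P).T 0)).obj F ⟶ (HZSeq K 0).obj F :=
  ((DP P).evIsColimit 0 F).desc (cF P K hsub F)

lemma ι_ψ (U : EP P) :
    (colimit.ι ((DP P).T 0) U).app F ≫ ψ P K hsub F = AddCommGrpCat.ofHom (κ P K hsub F U) :=
  ((DP P).evIsColimit 0 F).fac (cF P K hsub F) U

lemma ψ_ι_apply (U : EP P) (α : Ext (freeU U.obj.unop) F 0) :
    ψ P K hsub F ((colimit.ι ((DP P).T 0) U).app F α) = κ P K hsub F U α :=
  ConcreteCategory.congr_hom (ι_ψ P K hsub F U) α

lemma exists_rep [IsCodirected P] (x : (colimit ((DP P).T 0)).obj F) :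
    ∃ (U : EP P) (α : Ext (freeU U.obj.unop) F 0),
      (colimit.ι ((DP P).T 0) U).app F α = x :=
  Concrete.isColimit_exists_rep _ ((DP P).evIsColimit 0 F) x

lemma ψ_injective [IsCodirected P]
    (hinj : ∀ (U : (Opens X)ᵒᵖ) (hU : P U) (s : F.obj.obj (op U.unop)),
      toK K F U.unop (hsub U hU) s = 0 →
        ∃ (U' : (Opens X)ᵒᵖ) (_ : P U') (hle : U'.unop ≤ U.unop),
          F.obj.map (homOfLE hle).op s = 0) :
    Function.Injective (ψ P K hsub F) := by
  rw [injective_iff_map_eq_zero]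
  intro x hx
  obtain ⟨U, α, rfl⟩ := exists_rep P F x
  rw [ψ_ι_apply, κ_apply] at hx
  have h1 : toK K F U.obj.unop (hsub U.obj U.property) (sec F U.obj.unop α) = 0 :=
    (AddEquiv.map_eq_zero_iff (secZ K F).symm).1 hx
  obtain ⟨U', hPU', hU', h0⟩ := hinj U.obj U.property _ h1
  let V : EP P := ⟨U', hPU'⟩
  let j : U ⟶ V := ObjectProperty.homMk (homOfLE hU').op
  have h2 : (((DP P).T 0).map j).app F α = 0 := by
    apply (AddEquiv.map_eq_zero_iff (sec F U'.unop)).1
    exact (sec_res F (homOfLE hU') α).trans h0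
  have h3 := ConcreteCategory.congr_hom (congrArg
    (fun t : ((DP P).T 0).obj U ⟶ colimit ((DP P).T 0) => t.app F)
    (colimit.w ((DP P).T 0) j)) α
  rw [← h3]
  show (colimit.ι ((DP P).T 0) V).app F ((((DP P).T 0).map j).app F α) = 0
  rw [h2, map_zero]

lemma ψ_surjective
    (hsurj : ∀ γ : (pb (iK K) F).obj.obj (op ⊤), ∃ (U : (Opens X)ᵒᵖ) (hU : P U)
      (τ : F.obj.obj (op U.unop)), toK K F U.unop (hsub U hU) τ = γ) :
    Function.Surjective (ψ P K hsub F) := by
  intro x'
  obtain ⟨U, hPU, τ, hτ⟩ := hsurj (secZ K F x')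
  let V : EP P := ⟨U, hPU⟩
  refine ⟨(colimit.ι ((DP P).T 0) V).app F ((sec F U.unop).symm τ), ?_⟩
  rw [ψ_ι_apply, κ_apply]
  apply (secZ K F).injective
  rw [AddEquiv.apply_symm_apply]
  show toK K F U.unop (hsub U hPU) (sec F U.unop ((sec F U.unop).symm τ)) = _
  rw [AddEquiv.apply_symm_apply, hτ]

lemma ψ_nat {F F' : CohTop.Ab X} (β : F ⟶ F') :
    (colimit ((DP P).T 0)).map β ≫ ψ P K hsub F' = ψ P K hsub F ≫ (HZSeq K 0).map β := by
  apply (DP P).hom_ext
  intro U
  have h1 := (colimit.ι ((DP P).T 0) U).naturality β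
  rw [← Category.assoc, ← h1, Category.assoc, ι_ψ, ← Category.assoc, ι_ψ]
  ext α
  exact κ_nat P K hsub β U α

section Main

variable [IsCodirected P]
  (hinj : ∀ (F : CohTop.Ab X) (U : (Opens X)ᵒᵖ) (hU : P U) (s : F.obj.obj (op U.unop)),
      toK K F U.unop (hsub U hU) s = 0 →
        ∃ (U' : (Opens X)ᵒᵖ) (_ : P U') (hle : U'.unop ≤ U.unop),
          F.obj.map (homOfLE hle).op s = 0)
  (hsurj : ∀ (F : CohTop.Ab X) (γ : (pb (iK K) F).obj.obj (op ⊤)),
      ∃ (U : (Opens X)ᵒᵖ) (hU : P U)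
      (τ : F.obj.obj (op U.unop)), toK K F U.unop (hsub U hU) τ = γ)
  (heff : ∀ (I : CohTop.Ab X) [Injective I] (n : ℕ), IsZero ((HZSeq K (n + 1)).obj I))

/-- the degree zero comparison -/
noncomputable def e0 : (DP P).colim.T 0 ≅ HZSeq K 0 :=
  NatIso.ofComponents (fun F => (AddEquiv.ofBijective (ψ P K hsub F).hom
      ⟨ψ_injective P K hsub F (hinj F), ψ_surjective P K hsub F (hsurj F)⟩).toAddCommGrpIso)
    (by
      intro F F' β
      exact ψ_nat P K hsub β)

include hinj hsurj heff in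
theorem nonempty_iso_aux (n : ℕ) (F : CohTop.Ab X) :
    Nonempty (((DP P).colim.T n).obj F ≅ (HZSeq K n).obj F) := by
  have key : ∀ F : CohTop.Ab X, True →
      Nonempty (Effacement (fun n => (DP P).colim.T n) (fun n => HZSeq K n) (fun _ => True) F) := by
    intro F _
    obtain ⟨S, hS, hI, rfl⟩ : ∃ (S : ShortComplex (CohTop.Ab X)) (_ : S.ShortExact)
        (_ : Injective S.X₂), S.X₁ = F := ⟨injSC F, injSC_shortExact F, inferInstance, rfl⟩
    have l1 : HasLES (fun n => (DP P).colim.T n) S := (DP P).colim.hasLES S hS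
    haveI : (CohTop.pull (iK K)).Additive := pull_additive (iK K)
    haveI : PreservesFiniteLimits (CohTop.pull (iK K)) := pull_pfl (iK K)
    haveI : PreservesFiniteColimits (CohTop.pull (iK K)) := pull_pfc (iK K)
    have l2 : HasLES (fun n => HZSeq K n) S :=
      hasLES_extSeq (CohTop.pull (iK K)) (constZ (TopCat.of K)) S hS
    have heff' : (DP P).colim.Effaceable :=
      (DP P).colim_effaceable (fun e I _ n => SoftJ.extDiagram_isZero (Pfree P) e I n)
    exact ⟨{
      S := S
      iso := rfl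
      mem := trivial
      zero := fun n => heff' S.X₂ n
      zero' := fun n => heff S.X₂ n
      les := l1
      les' := l2 }⟩
  exact nonempty_iso (fun _ => True) (e0 P K hsub hinj hsurj) key n F trivial

include hinj hsurj heff in
/-- **`colim_{U ∈ P} H^p(U, F) ≅ H^p(K, F|K)`** -/
theorem nonempty_addEquiv (F : CohTop.Ab X) (p : ℕ) :
    Nonempty ((colimit (ObjectProperty.ι P ⋙
        (Sheaf.cohomologyPresheafFunctor (Opens.grothendieckTopology X) p).obj F) :
          AddCommGrpCat.{u}) ≃+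
      CohTop.H ((CohTop.pull (iK K)).obj F) p) := by
  obtain ⟨i⟩ := nonempty_iso_aux P K hsub hinj hsurj heff p F
  let j : colimit (ObjectProperty.ι P ⋙
        (Sheaf.cohomologyPresheafFunctor (Opens.grothendieckTopology X) p).obj F) ≅
      ((DP P).colim.T p).obj F :=
    IsColimit.coconePointUniqueUpToIso (colimit.isColimit _) ((DP P).evIsColimit p F)
  exact ⟨(j ≪≫ i).addCommGroupIsoToAddEquiv⟩

end Main

end Groth.Agent.Helper9.SpecS3
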