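import Mathlib
import Groth.Prelude.Def_CohTop
import Groth.Agent.Helper1.MVTop6
import Groth.Agent.Helper9.SpecS2
import Groth.Agent.Helper9.SpecS3

/-!
# Cohomology of the generalizations of a quasi-compact subset of a spectral space
-/

set_option autoImplicit false

namespace Groth.Agent.Helper9.SpecS5

open CategoryTheory TopologicalSpace Opposite TopCat Topology Limits Abelian
open Groth.Agent.Helper9.SoftA Groth.Agent.Helper9.SoftC Groth.Agent.Helper9.SoftI
open Groth.Agent.Helper9.SoftK Groth.Agent.Helper9.SpecS1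
open Groth.Agent.Helper1.QCFlasque Groth.Agent.Lead.CohTopB

universe u

/-- qc-flasque sheaves on a quasi-compact quasi-separated prespectral space are acyclic -/
theorem subsingleton_H_of_qcFlasque {T : TopCat.{u}} [CompactSpace T] [PrespectralSpace T]
    [QuasiSeparatedSpace T] (G : CohTop.Ab T) (hG : QCFlasque G) (n : ℕ) :
    Subsingleton (CohTop.H G (n + 1)) := by
  refine ⟨fun x y => ?_⟩
  apply (Groth.Agent.Helper1.MVTop.globEquiv G (n + 1)).injective
  have h1 := ext_eq_zero_of_qcFlasque (⊤ : Opens T) isCompact_univ n G hG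
    (Groth.Agent.Helper1.MVTop.globEquiv G (n + 1) x)
  have h2 := ext_eq_zero_of_qcFlasque (⊤ : Opens T) isCompact_univ n G hG
    (Groth.Agent.Helper1.MVTop.globEquiv G (n + 1) y)
  exact h1.trans h2.symm

variable {X : TopCat.{u}} [SpectralSpace X] {𝒰 : Set (Opens X)} (h𝒰 : QCFam 𝒰)

include h𝒰 in
/-- restrictions of injectives to the core of the family are acyclic -/
theorem isZero_HZSeq (I : CohTop.Ab X) [Injective I] (n : ℕ) :
    IsZero ((HZSeq (core 𝒰) (n + 1)).obj I) := by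
  haveI : CompactSpace (core 𝒰) := compactSpace_core h𝒰
  haveI : PrespectralSpace (core 𝒰) := prespectralSpace_core h𝒰
  haveI : QuasiSeparatedSpace (core 𝒰) := quasiSeparatedSpace_core h𝒰
  haveI : CompactSpace (TopCat.of (core 𝒰)) := ‹CompactSpace (core 𝒰)›
  haveI : PrespectralSpace (TopCat.of (core 𝒰)) := ‹PrespectralSpace (core 𝒰)›
  haveI : QuasiSeparatedSpace (TopCat.of (core 𝒰)) := ‹QuasiSeparatedSpace (core 𝒰)›
  have : TopCat.Sheaf.IsFlasque I := isFlasque_of_injective I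
  have hq : QCFlasque (pb (iK (core 𝒰)) I) := SpecS2.qcFlasque_pb I h𝒰
  have : Subsingleton ((HZSeq (core 𝒰) (n + 1)).obj I) :=
    subsingleton_H_of_qcFlasque (T := TopCat.of (core 𝒰)) _ hq n
  exact AddCommGrpCat.isZero_of_subsingleton _

/-- the family of membership in `𝒰` as an object property -/
abbrev PU (𝒰 : Set (Opens X)) : ObjectProperty (Opens X)ᵒᵖ := fun U => U.unop ∈ 𝒰

include h𝒰 in
lemma isCodirected : SpecS3.IsCodirected (PU 𝒰) where
  nonempty := by
    obtain ⟨U, hU⟩ := h𝒰.nonempty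
    exact ⟨op U, hU⟩
  inf := by
    intro U V hU hV
    obtain ⟨W, hW, hle⟩ := h𝒰.directed U.unop hU V.unop hV
    exact ⟨op W, hW, hle⟩

include h𝒰 in
/-- **`colim_{U ∈ 𝒰} H^p(U, F) ≅ H^p(K, F|K)`**, `K = ⋂ 𝒰` -/
theorem nonempty_addEquiv (F : CohTop.Ab X) (p : ℕ) :
    Nonempty ((colimit (ObjectProperty.ι (PU 𝒰) ⋙
        (Sheaf.cohomologyPresheafFunctor (Opens.grothendieckTopology X) p).obj F) :
          AddCommGrpCat.{u}) ≃+
      CohTop.H ((CohTop.pull (iK (core 𝒰))).obj F) p) := by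
  haveI := isCodirected h𝒰
  refine SpecS3.nonempty_addEquiv (PU 𝒰) (core 𝒰) (fun U hU => core_subset hU) ?_ ?_
    (fun I _ n => isZero_HZSeq h𝒰 I n) F p
  · intro F U hU s h
    obtain ⟨U', hU', hle, h0⟩ := SpecS2.toK_eq_zero' F h𝒰 hU s h
    exact ⟨op U', hU', hle, h0⟩
  · intro F γ
    obtain ⟨U, hU, τ, hτ⟩ := SpecS2.toK_surj' F h𝒰 γ
    exact ⟨op U, hU, τ, hτ⟩

section Gen

variable (E : Set X)

/-- the quasi-compact open neighbourhoods of `E` -/
def nbE : Set (Opens X) := {U | E ⊆ (U : Set X) ∧ IsCompact (U : Set X)}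

lemma qcFam_nbE : QCFam (nbE E) where
  nonempty := ⟨⊤, fun _ _ => True.intro, isCompact_univ⟩
  qc := fun U hU => hU.2
  directed := by
    intro U hU V hV
    exact ⟨U ⊓ V, ⟨fun x hx => ⟨hU.1 hx, hV.1 hx⟩,
      QuasiSeparatedSpace.inter_isCompact _ _ U.isOpen hU.2 V.isOpen hV.2⟩, le_rfl⟩

lemma core_nbE (hE : IsCompact E) : core (nbE E) = {x : X | ∃ e ∈ E, e ∈ closure {x}} := by
  ext x
  constructor
  · intro hx
    obtain ⟨k, hk, hxk⟩ := SpecB.exists_specializes_of_forall_qc hE (x' := x)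
      (fun W hWo hWc hEW => hx ⟨W, hWo⟩ ⟨hEW, hWc⟩)
    exact ⟨k, hk, specializes_iff_mem_closure.1 hxk⟩
  · rintro ⟨e, he, hex⟩ U hU
    obtain ⟨z, hzU, hz⟩ := mem_closure_iff.1 hex U U.isOpen (hU.1 he)
    rw [Set.mem_singleton_iff.1 hz] at hzU
    exact hzU

/-- **S0947** -/
theorem main (hE : IsCompact E) (F : CohTop.Ab X) (p : ℕ) :
    Nonempty ((colimit (ObjectProperty.ι (fun U : (Opens X)ᵒᵖ =>
        E ⊆ (U.unop : Set X) ∧ IsCompact (U.unop : Set X)) ⋙
        (Sheaf.cohomologyPresheafFunctor (Opens.grothendieckTopology X) p).obj F) :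
          AddCommGrpCat.{u}) ≃+
      CohTop.H ((CohTop.pull (iK {x : X | ∃ e ∈ E, e ∈ closure {x}})).obj F) p) := by
  suffices h : ∀ K : Set X, K = core (nbE E) →
      Nonempty ((colimit (ObjectProperty.ι (fun U : (Opens X)ᵒᵖ =>
        E ⊆ (U.unop : Set X) ∧ IsCompact (U.unop : Set X)) ⋙
        (Sheaf.cohomologyPresheafFunctor (Opens.grothendieckTopology X) p).obj F) :
          AddCommGrpCat.{u}) ≃+
      CohTop.H ((CohTop.pull (iK K)).obj F) p) from h _ (core_nbE E hE).symm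
  intro K hK
  subst hK
  exact nonempty_addEquiv (qcFam_nbE E) F p

end Gen

end Groth.Agent.Helper9.SpecS5
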