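import Mathlib
import Groth.Prelude.Def_CohTop
import Groth.Agent.Helper9.ScheidA
import Groth.Agent.Helper9.SpecS5
import Groth.Agent.Helper1.MVTop1

/-!
# Scheiderer's theorem, cohomological part: the extension step
-/

set_option autoImplicit false

namespace Groth.Agent.Helper9.ScheidB

open CategoryTheory TopologicalSpace Opposite TopCat Topology Limits Abelian
open Groth.Agent.Helper9.SpecS1 Groth.Agent.Helper9.ScheidA
open Groth.Agent.Helper1.QCFlasque Groth.Agent.Lead.CohTopB

universe u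

/-- an element of a filtered diagram of abelian groups whose colimit is trivial dies somewhere -/
theorem exists_map_eq_zero {J : Type u} [SmallCategory J] [IsFiltered J]
    (D : J ⥤ AddCommGrpCat.{u}) (hsub : Subsingleton (colimit D : AddCommGrpCat.{u}))
    (j : J) (x : D.obj j) : ∃ (k : J) (f : j ⟶ k), D.map f x = 0 := by
  have h0 : (ConcreteCategory.hom (colimit.ι D j)) x = (ConcreteCategory.hom (colimit.ι D j)) 0 :=
    Subsingleton.elim _ _
  obtain ⟨k, f, g, hfg⟩ := Concrete.colimit_exists_of_rep_eq.{u} D x 0 h0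
  refine ⟨k, f, ?_⟩
  rw [hfg]
  exact map_zero _

/-- `H⁰` of the empty space vanishes -/
theorem subsingleton_H_zero_of_isEmpty {T : TopCat.{u}} [IsEmpty T] (G : CohTop.Ab T) :
    Subsingleton (CohTop.H G 0) := by
  have hT : IsTerminal (⊤ : Opens T) := isTerminalTop
  have e := Sheaf.H.equiv₀ G hT
  have h : (⊤ : Opens T) = ⊥ := by
    ext x
    exact (IsEmpty.false x).elim
  have ht : IsTerminal (G.obj.obj (op (⊤ : Opens T))) := TopCat.Sheaf.isTerminalOfEqEmpty G h
  have hz : IsZero (G.obj.obj (op (⊤ : Opens T))) := (isZero_zero _).of_iso (ht.uniqueUpToIso (isZero_zero _).isTerminal)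
  have : Subsingleton (G.obj.obj (op (⊤ : Opens T))) := AddCommGrpCat.subsingleton_of_isZero hz
  exact e.toEquiv.subsingleton

section MV

variable {X : TopCat.{u}} (F : CohTop.Ab X)

/-- Mayer–Vietoris: a class on `Q` dying on `P ⊓ Q` extends to `P ⊔ Q` -/
lemma exists_ext (n : ℕ) (P Q : Opens X) (b : CohTop.HU F n Q)
    (h : CohTop.res F n (inf_le_right : P ⊓ Q ≤ Q) b = 0) :
    ∃ y : CohTop.HU F n (P ⊔ Q), CohTop.res F n le_sup_right y = b := by
  have hex := ((Opens.mayerVietorisSquare P Q).sequence_exact F n (n+1) rfl).exact 0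
  rw [ShortComplex.ab_exact_iff] at hex
  obtain ⟨y, hy⟩ := hex ((AddCommGrpCat.biprodIsoProd _ _).inv ⟨0, b⟩) (by
    refine ((Opens.mayerVietorisSquare P Q).fromBiprod_biprodIsoProd_inv_apply F
      (0 : CohTop.HU F n P) b).trans ?_
    have h' : (F.cohomologyPresheaf n).map (Opens.mayerVietorisSquare P Q).f₁₃.op b = 0 := h
    rw [h', sub_zero]
    exact map_zero ((F.cohomologyPresheaf n).map (Opens.mayerVietorisSquare P Q).f₁₂.op).hom)
  refine ⟨y, ?_⟩
  have h1 := ((Opens.mayerVietorisSquare P Q).toBiprod_apply F y).symm.trans hy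
  have h2 := (AddCommGrpCat.biprodIsoProd _ _).addCommGroupIsoToAddEquiv.symm.injective h1
  exact congrArg Prod.snd h2

end MV

variable {X : TopCat.{u}} [SpectralSpace X]

/-- **Extension step**: if the cohomology of the core vanishes in degree `d`, classes extend from
`U` to `U'`. -/
theorem res_surjective_of_core (F : CohTop.Ab X) (d : ℕ) {U U' : Opens X}
    (hU : IsCompact (U : Set X)) (hU' : IsCompact (U' : Set X)) (hle : U ≤ U')
    (hcore : Subsingleton (CohTop.H ((CohTop.pull (Groth.Agent.Helper9.SoftC.iK (core (nbZ U U')))).obj F) d)) :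
    Function.Surjective (CohTop.res F d hle) := by
  intro ξ
  have h𝒰 := qcFam_nbZ hU hU'
  obtain ⟨e⟩ := SpecS5.nonempty_addEquiv h𝒰 F d
  haveI := SpecS5.isCodirected h𝒰
  let D := ObjectProperty.ι (SpecS5.PU (nbZ U U')) ⋙
    (Sheaf.cohomologyPresheafFunctor (Opens.grothendieckTopology X) d).obj F
  let j₀ : (SpecS5.PU (nbZ U U')).FullSubcategory := ⟨op U, self_mem_nbZ hU' hle⟩
  have hsub : Subsingleton (colimit D : AddCommGrpCat.{u}) := e.toEquiv.subsingleton
  obtain ⟨⟨⟨W⟩, V, hV, hZV, hVU', hW⟩, f, hf⟩ := exists_map_eq_zero D hsub j₀ ξ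
  change W = V ⊓ U at hW
  subst hW
  have hf' : CohTop.res F d (inf_le_right : V ⊓ U ≤ U) ξ = 0 := by
    have : f.hom = (homOfLE (inf_le_right : V ⊓ U ≤ U)).op := Subsingleton.elim _ _
    rw [← hf]
    show _ = ((Sheaf.cohomologyPresheaf.{u} F d).map f.hom).hom ξ
    rw [this]
  obtain ⟨y, hy⟩ := exists_ext F d V U ξ hf'
  have hsup : V ⊔ U ≤ U' := sup_le hVU' hle
  have hsup' : U' ≤ V ⊔ U := by
    intro x hx
    by_cases hxU : x ∈ U
    · exact Or.inr hxU
    · exact Or.inl (hZV ⟨hx, hxU⟩)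
  obtain ⟨η, hη⟩ := (Groth.Agent.Helper1.MVTop.res_bijective F d hsup hsup').2 y
  refine ⟨η, ?_⟩
  rw [← hy, ← hη, Groth.Agent.Helper1.MVTop.res_res]

end Groth.Agent.Helper9.ScheidB
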