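import Mathlib
import Groth.Prelude.Def_CohTop
import Groth.Agent.Lead.CohTopB
import Groth.Agent.Helper1.QCFlasque

/-!
# Scheiderer's theorem, cohomological part: dimension shifting

If the restriction maps `H^k(U', G) → H^k(U, G)` between quasi-compact opens are surjective, then
`H^p(U, G) = 0` for all quasi-compact opens `U` and `p > k`.
-/

set_option autoImplicit false

namespace Groth.Agent.Helper9.ScheidC

open CategoryTheory TopologicalSpace Opposite TopCat Topology Limits Abelian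
open Groth.Agent.Helper1.QCFlasque Groth.Agent.Lead.CohTopB

universe u

variable {X : TopCat.{u}}

/-- restriction of `Ext` classes -/
noncomputable abbrev r (G : CohTop.Ab X) (n : ℕ) {U U' : Opens X} (hle : U ≤ U')
    (x : Ext (freeU U') G n) : Ext (freeU U) G n :=
  (Ext.mk₀ (freeMap (homOfLE hle))).comp x (zero_add n)

/-- restriction in degree `k` between quasi-compact opens is surjective -/
def A (k : ℕ) (G : CohTop.Ab X) : Prop :=
  ∀ (U U' : Opens X) (hle : U ≤ U'), IsCompact (U : Set X) → IsCompact (U' : Set X) →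
    ∀ ξ : Ext (freeU U) G k, ∃ η : Ext (freeU U') G k, r G k hle η = ξ

lemma A_of_surjective (k : ℕ) (G : CohTop.Ab X)
    (h : ∀ (U U' : Opens X) (hle : U ≤ U'), IsCompact (U : Set X) → IsCompact (U' : Set X) →
      Function.Surjective (CohTop.res G k hle)) : A k G :=
  fun U U' hle hU hU' ξ => h U U' hle hU hU' ξ

lemma A_of_injective (k : ℕ) (I : CohTop.Ab X) [Injective I] : A k I := by
  intro U U' hle _ _ ξ
  cases k with
  | zero =>
    obtain ⟨φ, rfl⟩ := (Ext.mk₀_bijective (freeU U) I).2 ξ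
    refine ⟨Ext.mk₀ (Injective.factorThru φ (freeMap (homOfLE hle))), ?_⟩
    rw [r, Ext.mk₀_comp_mk₀, Injective.comp_factorThru]
  | succ k =>
    exact ⟨0, (Ext.eq_zero_of_injective _).trans (Ext.eq_zero_of_injective _).symm⟩

lemma qcFlasque_of_A (G : CohTop.Ab X) (h : A 0 G) : QCFlasque G := by
  intro V W hle hV hW s
  obtain ⟨y, hy⟩ := h V W hle hV hW (Ext.mk₀ ((homEquiv V G).symm s))
  obtain ⟨ψ, rfl⟩ := (Ext.mk₀_bijective (freeU W) G).2 y
  rw [r, Ext.mk₀_comp_mk₀] at hy
  have h1 := (Ext.mk₀_bijective (freeU V) G).1 hy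
  refine ⟨homEquiv W G ψ, ?_⟩
  rw [← homEquiv_map, h1, Equiv.apply_symm_apply]

variable [PrespectralSpace X] [QuasiSeparatedSpace X]

/-- **dimension shifting** -/
theorem vanishing (k : ℕ) : ∀ (G : CohTop.Ab X), A k G → ∀ (p : ℕ), k < p →
    ∀ (U : Opens X), IsCompact (U : Set X) → ∀ x : Ext (freeU U) G p, x = 0 := by
  induction k with
  | zero =>
    intro G hA p hp U hU x
    obtain ⟨n, rfl⟩ : ∃ n, p = n + 1 := ⟨p - 1, by omega⟩
    exact ext_eq_zero_of_qcFlasque U hU n G (qcFlasque_of_A G hA) x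
  | succ k ih =>
    intro G hA
    have hS := injSC_shortExact G
    have hQ : A k (injSC G).X₃ := by
      intro U U' hle hU hU' ξ
      obtain ⟨η, hη⟩ := hA U U' hle hU hU' (ξ.comp hS.extClass rfl)
      have h0 : η.comp (Ext.mk₀ (injSC G).f) (add_zero _) = 0 := Ext.eq_zero_of_injective _
      obtain ⟨ζ, hζ⟩ := Ext.covariant_sequence_exact₁ (freeU U') hS η h0 rfl
      have h1 : (ξ - r _ k hle ζ).comp hS.extClass rfl = 0 := by
        rw [sub_eq_add_neg, Ext.add_comp, Ext.neg_comp, ← sub_eq_add_neg, sub_eq_zero, ← hη, ← hζ]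
        exact (Ext.comp_assoc _ _ _ (zero_add k) rfl (by omega)).symm
      obtain ⟨ι, hι⟩ := Ext.covariant_sequence_exact₃ (freeU U) hS _ rfl h1
      obtain ⟨ι', hι'⟩ := A_of_injective k (injSC G).X₂ U U' hle hU hU' ι
      refine ⟨ζ + ι'.comp (Ext.mk₀ (injSC G).g) (add_zero k), ?_⟩
      have h2 : r (injSC G).X₃ k hle (ι'.comp (Ext.mk₀ (injSC G).g) (add_zero k)) =
          ξ - r _ k hle ζ := by
        rw [← hι, ← hι']
        exact (Ext.comp_assoc _ _ _ (zero_add k) (add_zero k) (by omega)).symm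
      rw [r, Ext.comp_add]
      rw [r] at h2
      rw [h2]
      abel
    intro p hp U hU x
    obtain ⟨n, rfl⟩ : ∃ n, p = n + 1 := ⟨p - 1, by omega⟩
    have h0 : x.comp (Ext.mk₀ (injSC G).f) (add_zero _) = 0 := Ext.eq_zero_of_injective _
    obtain ⟨x₃, hx₃⟩ := Ext.covariant_sequence_exact₁ (freeU U) hS x h0 rfl
    rw [← hx₃, ih _ hQ n (by omega) U hU x₃, Ext.zero_comp]
    rfl

end Groth.Agent.Helper9.ScheidC
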