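import Mathlib
import Groth.Prelude.Def_CohTop
import Groth.Agent.Helper9.ScheidB
import Groth.Agent.Helper9.ScheidC
import Groth.Agent.Helper1.MVTop6

/-!
# Scheiderer's theorem: cohomological dimension of spectral spaces
-/

set_option autoImplicit false

namespace Groth.Agent.Helper9.ScheidD

open CategoryTheory TopologicalSpace Opposite TopCat Topology Limits Abelian
open Groth.Agent.Helper9.SpecS1 Groth.Agent.Helper9.ScheidA Groth.Agent.Helper9.ScheidB
open Groth.Agent.Helper9.ScheidC
open Groth.Agent.Helper1.QCFlasque Groth.Agent.Lead.CohTopB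

universe u

/-- vanishing of `H^p` of the whole space from `A k` -/
theorem subsingleton_H_of_A {T : TopCat.{u}} [SpectralSpace T] (k : ℕ) (G : CohTop.Ab T)
    (hA : A k G) (p : ℕ) (hp : k < p) : Subsingleton (CohTop.H G p) := by
  refine ⟨fun x y => ?_⟩
  apply (Groth.Agent.Helper1.MVTop.globEquiv G p).injective
  have h1 := vanishing k G hA p hp (⊤ : Opens T) isCompact_univ
    (Groth.Agent.Helper1.MVTop.globEquiv G p x)
  have h2 := vanishing k G hA p hp (⊤ : Opens T) isCompact_univ
    (Groth.Agent.Helper1.MVTop.globEquiv G p y)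
  exact h1.trans h2.symm

/-- **Scheiderer**: on a spectral space of dimension `≤ d`, top-degree classes extend along
inclusions of quasi-compact opens. -/
theorem main (d : ℕ) : ∀ (X : TopCat.{u}) [SpectralSpace X], topologicalKrullDim X ≤ d →
    ∀ F : CohTop.Ab X, A d F := by
  induction d with
  | zero =>
    intro X _ hd F
    refine A_of_surjective 0 F fun U U' hle hU hU' => ?_
    haveI : IsEmpty (TopCat.of (core (nbZ U U'))) := isEmpty_core_of_dim_zero hU' hle hd
    exact res_surjective_of_core F 0 hU hU' hle (subsingleton_H_zero_of_isEmpty _)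
  | succ d ih =>
    intro X _ hd F
    refine A_of_surjective (d + 1) F fun U U' hle hU hU' => ?_
    haveI : SpectralSpace (TopCat.of (core (nbZ U U'))) := spectralSpace_core (qcFam_nbZ hU hU')
    have hdim : topologicalKrullDim (TopCat.of (core (nbZ U U'))) ≤ d :=
      dim_core_le hU' hle d hd
    have hA := ih (TopCat.of (core (nbZ U U'))) hdim
      ((CohTop.pull (Groth.Agent.Helper9.SoftC.iK (core (nbZ U U')))).obj F)
    exact res_surjective_of_core F (d + 1) hU hU' hle
      (subsingleton_H_of_A d _ hA (d + 1) (Nat.lt_succ_self d))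

end Groth.Agent.Helper9.ScheidD
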