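import Mathlib

/-!
# `D(A) ⥤ D(A/P)` is essentially surjective: lifting complexes along a Serre localization
-/

set_option autoImplicit false
set_option linter.style.haveILetI false
set_option linter.unusedSectionVars false

namespace Groth.Agent.Helper9.SerreEss1

open CategoryTheory Category Limits

universe v v' u u'

variable {A : Type u} [Category.{v} A] [Abelian A]
  (P : ObjectProperty A) [P.IsSerreClass]
  {Q : Type u'} [Category.{v'} Q] [Abelian Q]
  (L : A ⥤ Q) [L.IsLocalization P.isoModSerre] [L.Additive]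
  (X : CochainComplex Q ℤ)

/-- state of the upwards construction at degree `n` -/
structure UpS (n : ℤ) where
  Kp : A
  K : A
  p : Kp ⟶ K
  θ : X.X n ≅ L.obj K
  hp : ∃ (m : ℤ) (ψ : L.obj Kp ⟶ X.X m), L.map p = ψ ≫ X.d m n ≫ θ.hom

/-- state of the downwards construction at degree `n` -/
structure DnS (n : ℤ) where
  K : A
  Kn : A
  p : K ⟶ Kn
  θ : X.X n ≅ L.obj K
  hp : ∃ (m : ℤ) (ψ : X.X m ⟶ L.obj Kn), L.map p = θ.inv ≫ X.d n m ≫ ψ

variable {L X}

include P in
lemma exists_up {n : ℤ} (s : UpS L X n) (n' : ℤ) :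
    ∃ (K' : A) (f : s.K ⟶ K') (θ' : X.X n' ≅ L.obj K'), s.p ≫ f = 0 ∧
      L.map f = s.θ.inv ≫ X.d n n' ≫ θ'.hom := by
  haveI : L.EssSurj := Localization.essSurj L P.isoModSerre
  let K₁ := L.objPreimage (X.X n')
  let e₁ : L.obj K₁ ≅ X.X n' := L.objObjPreimageIso (X.X n')
  obtain ⟨φ, hφ⟩ := Localization.exists_leftFraction L P.isoModSerre
    (s.θ.inv ≫ X.d n n' ≫ e₁.inv)
  have hs := Localization.inverts L P.isoModSerre φ.s φ.hs
  have h1 : L.map φ.f = s.θ.inv ≫ X.d n n' ≫ e₁.inv ≫ L.map φ.s := by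
    rw [← φ.map_comp_map_s L (Localization.inverts L P.isoModSerre), ← hφ]
    simp
  obtain ⟨m, ψ, hψ⟩ := s.hp
  have h2 : L.map (s.p ≫ φ.f) = L.map (0 : s.Kp ⟶ φ.Y') := by
    rw [L.map_comp, h1, hψ, L.map_zero]
    simp
  obtain ⟨Z, t, ht, fac⟩ := (MorphismProperty.map_eq_iff_postcomp L P.isoModSerre _ _).1 h2
  have ht' := Localization.inverts L P.isoModSerre t ht
  refine ⟨Z, φ.f ≫ t, e₁.symm ≪≫ asIso (L.map φ.s) ≪≫ asIso (L.map t), ?_, ?_⟩
  · rw [← assoc, fac, zero_comp]
  · rw [L.map_comp, h1]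
    simp

include P in
lemma exists_dn {n : ℤ} (s : DnS L X n) (n' : ℤ) :
    ∃ (K' : A) (f : K' ⟶ s.K) (θ' : X.X n' ≅ L.obj K'), f ≫ s.p = 0 ∧
      L.map f = θ'.inv ≫ X.d n' n ≫ s.θ.hom := by
  haveI : L.EssSurj := Localization.essSurj L P.isoModSerre
  let K₁ := L.objPreimage (X.X n')
  let e₁ : L.obj K₁ ≅ X.X n' := L.objObjPreimageIso (X.X n')
  obtain ⟨φ, hφ⟩ := Localization.exists_rightFraction L P.isoModSerre
    (e₁.hom ≫ X.d n' n ≫ s.θ.hom)
  have hs := Localization.inverts L P.isoModSerre φ.s φ.hs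
  have h1 : L.map φ.f = L.map φ.s ≫ e₁.hom ≫ X.d n' n ≫ s.θ.hom := by
    rw [← φ.map_s_comp_map L (Localization.inverts L P.isoModSerre), ← hφ]
  obtain ⟨m, ψ, hψ⟩ := s.hp
  have h2 : L.map (φ.f ≫ s.p) = L.map (0 : φ.X' ⟶ s.Kn) := by
    rw [L.map_comp, h1, hψ, L.map_zero]
    simp
  obtain ⟨Z, t, ht, fac⟩ := (MorphismProperty.map_eq_iff_precomp L P.isoModSerre _ _).1 h2
  have ht' := Localization.inverts L P.isoModSerre t ht
  refine ⟨Z, t ≫ φ.f, e₁.symm ≪≫ (asIso (L.map φ.s)).symm ≪≫ (asIso (L.map t)).symm, ?_, ?_⟩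
  · rw [assoc, fac, comp_zero]
  · rw [L.map_comp, h1]
    simp


/-- next state upwards -/
noncomputable def upNext {n : ℤ} (s : UpS L X n) (n' : ℤ) : UpS L X n' where
  Kp := s.K
  K := (exists_up P s n').choose
  p := (exists_up P s n').choose_spec.choose
  θ := (exists_up P s n').choose_spec.choose_spec.choose
  hp := ⟨n, s.θ.inv, (exists_up P s n').choose_spec.choose_spec.choose_spec.2⟩

lemma upNext_comp {n : ℤ} (s : UpS L X n) (n' : ℤ) : s.p ≫ (upNext P s n').p = 0 :=
  (exists_up P s n').choose_spec.choose_spec.choose_spec.1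

lemma upNext_map {n : ℤ} (s : UpS L X n) (n' : ℤ) :
    L.map (upNext P s n').p = s.θ.inv ≫ X.d n n' ≫ (upNext P s n').θ.hom :=
  (exists_up P s n').choose_spec.choose_spec.choose_spec.2

/-- next state downwards -/
noncomputable def dnNext {n : ℤ} (s : DnS L X n) (n' : ℤ) : DnS L X n' where
  K := (exists_dn P s n').choose
  Kn := s.K
  p := (exists_dn P s n').choose_spec.choose
  θ := (exists_dn P s n').choose_spec.choose_spec.choose
  hp := ⟨n, s.θ.hom, (exists_dn P s n').choose_spec.choose_spec.choose_spec.2⟩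

lemma dnNext_comp {n : ℤ} (s : DnS L X n) (n' : ℤ) : (dnNext P s n').p ≫ s.p = 0 :=
  (exists_dn P s n').choose_spec.choose_spec.choose_spec.1

lemma dnNext_map {n : ℤ} (s : DnS L X n) (n' : ℤ) :
    L.map (dnNext P s n').p = (dnNext P s n').θ.inv ≫ X.d n' n ≫ s.θ.hom :=
  (exists_dn P s n').choose_spec.choose_spec.choose_spec.2

variable (L X)

/-- the initial state -/
noncomputable def up0 : UpS L X 0 :=
  haveI : L.EssSurj := Localization.essSurj L P.isoModSerre
  { Kp := L.objPreimage (X.X 0)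
    K := L.objPreimage (X.X 0)
    p := 0
    θ := (L.objObjPreimageIso (X.X 0)).symm
    hp := ⟨0, 0, by simp⟩ }

/-- the upwards states -/
noncomputable def up : ∀ k : ℕ, UpS L X (Int.ofNat k)
  | 0 => up0 P L X
  | k + 1 => upNext P (up k) (Int.ofNat (k + 1))

/-- the initial state downwards -/
noncomputable def dnStart : DnS L X 0 where
  K := (up P L X 0).K
  Kn := (up P L X 1).K
  p := (up P L X 1).p
  θ := (up P L X 0).θ
  hp := ⟨1, (up P L X 1).θ.hom, upNext_map P (up P L X 0) (Int.ofNat 1)⟩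

/-- the downwards states -/
noncomputable def dn : ∀ k : ℕ, DnS L X (Int.negSucc k)
  | 0 => dnNext P (dnStart P L X) (Int.negSucc 0)
  | k + 1 => dnNext P (dn k) (Int.negSucc (k + 1))

/-- the objects of the lifted complex -/
noncomputable def obj : ℤ → A
  | Int.ofNat k => (up P L X k).K
  | Int.negSucc k => (dn P L X k).K

/-- the comparison isomorphisms -/
noncomputable def θ : ∀ i : ℤ, X.X i ≅ L.obj (obj P L X i)
  | Int.ofNat k => (up P L X k).θ
  | Int.negSucc k => (dn P L X k).θ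

/-- the differentials of the lifted complex -/
noncomputable def dd : ∀ i : ℤ, obj P L X i ⟶ obj P L X (i + 1)
  | Int.ofNat k => (up P L X (k + 1)).p
  | Int.negSucc 0 => (dn P L X 0).p
  | Int.negSucc (k + 1) => (dn P L X (k + 1)).p

lemma dd_comp : ∀ i : ℤ, dd P L X i ≫ dd P L X (i + 1) = 0
  | Int.ofNat k => upNext_comp P (up P L X (k + 1)) (Int.ofNat (k + 1 + 1))
  | Int.negSucc 0 => dnNext_comp P (dnStart P L X) (Int.negSucc 0)
  | Int.negSucc 1 => dnNext_comp P (dn P L X 0) (Int.negSucc 1)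
  | Int.negSucc (k + 2) => dnNext_comp P (dn P L X (k + 1)) (Int.negSucc (k + 2))

lemma map_dd : ∀ i : ℤ, L.map (dd P L X i) =
    (θ P L X i).inv ≫ X.d i (i + 1) ≫ (θ P L X (i + 1)).hom
  | Int.ofNat k => upNext_map P (up P L X k) (Int.ofNat (k + 1))
  | Int.negSucc 0 => dnNext_map P (dnStart P L X) (Int.negSucc 0)
  | Int.negSucc (k + 1) => dnNext_map P (dn P L X k) (Int.negSucc (k + 1))

/-- the lifted complex -/
noncomputable def lift : CochainComplex A ℤ :=
  CochainComplex.of (obj P L X) (dd P L X) (dd_comp P L X)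

/-- the lifted complex maps to the given one -/
noncomputable def liftIso : X ≅ (L.mapHomologicalComplex (ComplexShape.up ℤ)).obj (lift P L X) :=
  HomologicalComplex.Hom.isoOfComponents (θ P L X) (by
    rintro i j (rfl : i + 1 = j)
    change (θ P L X i).hom ≫ L.map (CochainComplex.of.d (obj P L X) (dd P L X) i (i + 1)) = _
    rw [CochainComplex.of_d, map_dd, Iso.hom_inv_id_assoc]
    rfl)


universe w w'

include P in
theorem essSurj_mapDerivedCategory [HasDerivedCategory.{w} A] [HasDerivedCategory.{w'} Q]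
    [PreservesFiniteLimits L] [PreservesFiniteColimits L] :
    L.mapDerivedCategory.EssSurj where
  mem_essImage Y := by
    obtain ⟨X, ⟨e⟩⟩ : ∃ X : CochainComplex Q ℤ, Nonempty (DerivedCategory.Q.obj X ≅ Y) :=
      ⟨_, ⟨DerivedCategory.Q.objObjPreimageIso Y⟩⟩
    exact ⟨DerivedCategory.Q.obj (lift P L X),
      ⟨(L.mapDerivedCategoryFactors.app (lift P L X)) ≪≫
        DerivedCategory.Q.mapIso (liftIso P L X).symm ≪≫ e⟩⟩

end Groth.Agent.Helper9.SerreEss1
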