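import Mathlib
import Groth.Agent.Helper6.AdjHC
import Groth.Agent.Helper9.KFlat3

/-!
# `D(A) ⥤ D(A/P)` is a Verdier localization when the quotient functor has a fully faithful
left adjoint
-/

set_option autoImplicit false
set_option linter.style.haveILetI false
set_option linter.unusedSectionVars false

namespace Groth.Agent.Helper9.SerreLoc1

open CategoryTheory Category Limits HomologicalComplex CochainComplex
  Groth.Agent.Helper9.KFlat3

universe w w' v v' u u'

variable {A : Type u} [Category.{v} A] [Abelian A] [HasDerivedCategory.{w} A]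
  (P : ObjectProperty A) [P.IsSerreClass]
  {Q : Type u'} [Category.{v'} Q] [Abelian Q] [HasDerivedCategory.{w'} Q]
  (v : A ⥤ Q) [v.IsLocalization P.isoModSerre] [v.Additive] [PreservesFiniteLimits v]
  [PreservesFiniteColimits v]

/-- the objects of `D(A)` with cohomology in `P` -/
def S : ObjectProperty (DerivedCategory A) :=
  fun X => ∀ n : ℤ, P ((DerivedCategory.homologyFunctor A n).obj X)

instance : (S P).IsClosedUnderIsomorphisms where
  of_iso e h n := P.prop_of_iso ((DerivedCategory.homologyFunctor A n).mapIso e) (h n)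

/-- the morphisms of complexes which become quasi-isomorphisms after applying `v` -/
def W₃ : MorphismProperty (CochainComplex A ℤ) :=
  (HomologicalComplex.quasiIso Q (ComplexShape.up ℤ)).inverseImage
    (v.mapHomologicalComplex (ComplexShape.up ℤ))

include v in
lemma acyclic_map_iff (K : CochainComplex A ℤ) :
    ((v.mapHomologicalComplex (ComplexShape.up ℤ)).obj K).Acyclic ↔
      ∀ n : ℤ, P (K.homology n) := by
  rw [acyclic_iff_isZero_homology]
  refine forall_congr' fun n => ?_
  rw [← ObjectProperty.SerreClassLocalization.isZero_obj_iff v P]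
  exact Iso.isZero_iff ((K.sc n).mapHomologyIso v)

lemma S_Q_obj_iff (K : CochainComplex A ℤ) :
    S P (DerivedCategory.Q.obj K) ↔ ∀ n : ℤ, P (K.homology n) := by
  refine forall_congr' fun n => ?_
  exact P.prop_iff_of_iso ((DerivedCategory.homologyFunctorFactors A n).app K)

include v in
lemma W₃_iff {K L : CochainComplex A ℤ} (g : K ⟶ L) :
    W₃ v g ↔ ∀ n : ℤ, P ((mappingCone g).homology n) := by
  rw [← acyclic_map_iff P v]
  change QuasiIso ((v.mapHomologicalComplex (ComplexShape.up ℤ)).map g) ↔ _
  rw [quasiIso_iff_acyclic_mappingCone, acyclic_iff_isZero_homology, acyclic_iff_isZero_homology]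
  refine forall_congr' fun n => ?_
  exact Iso.isZero_iff ((HomologicalComplex.homologyFunctor _ _ n).mapIso
    (mappingCone.mapHomologicalComplexIso g v).symm)

include v in
lemma trW_Q_map_iff {K L : CochainComplex A ℤ} (g : K ⟶ L) :
    (S P).trW (DerivedCategory.Q.map g) ↔ W₃ v g := by
  rw [W₃_iff P v, ← S_Q_obj_iff]
  exact (S P).trW_iff_of_distinguished _ (DerivedCategory.mappingCone_triangle_distinguished g)


lemma trW_eq_map : (S P).trW = (W₃ v).map DerivedCategory.Q := by
  ext X Y f
  constructor
  · intro hf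
    obtain ⟨φ, ⟨e⟩⟩ : ∃ φ : Arrow (HomotopyCategory A (ComplexShape.up ℤ)),
        Nonempty (DerivedCategory.Qh.mapArrow.obj φ ≅ Arrow.mk f) :=
      ⟨_, ⟨DerivedCategory.Qh.mapArrow.objObjPreimageIso (Arrow.mk f)⟩⟩
    obtain ⟨φl, φr, φh⟩ := φ
    obtain ⟨K, hK⟩ := HomotopyCategory.quotient_obj_surjective φl
    obtain ⟨L, hL⟩ := HomotopyCategory.quotient_obj_surjective φr
    subst hK hL
    obtain ⟨g, rfl⟩ := (HomotopyCategory.quotient _ _).map_surjective φh
    refine ⟨K, L, g, ?_, ⟨e⟩⟩
    rw [← trW_Q_map_iff P v]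
    exact ((S P).trW.arrow_mk_iso_iff e).2 hf
  · rintro ⟨K, L, g, hg, ⟨e⟩⟩
    exact ((S P).trW.arrow_mk_iso_iff e).1 ((trW_Q_map_iff P v g).2 hg)

section

variable (u : Q ⥤ A) (adj : u ⊣ v) [IsIso adj.unit]

include adj in
theorem isLocalization_comp_Q :
    (v.mapHomologicalComplex (ComplexShape.up ℤ) ⋙ DerivedCategory.Q).IsLocalization (W₃ v) := by
  haveI : u.Additive := adj.left_adjoint_additive
  let adjC := Groth.Agent.Helper6.AdjHC.adjHC adj (ComplexShape.up ℤ)
  haveI : ∀ K, IsIso (adjC.unit.app K) := fun K => by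
    haveI : ∀ i, IsIso ((adjC.unit.app K).f i) := fun i => by
      change IsIso (adj.unit.app (K.X i))
      infer_instance
    exact HomologicalComplex.Hom.isIso_of_components _
  haveI : IsIso adjC.unit := NatIso.isIso_of_isIso_app _
  haveI : (u.mapHomologicalComplex (ComplexShape.up ℤ)).Full := adjC.fullyFaithfulLOfIsIsoUnit.full
  haveI : (u.mapHomologicalComplex (ComplexShape.up ℤ)).Faithful :=
    adjC.fullyFaithfulLOfIsIsoUnit.faithful
  haveI := adjC.isLocalization'
  refine Functor.IsLocalization.comp (v.mapHomologicalComplex (ComplexShape.up ℤ))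
    DerivedCategory.Q ((MorphismProperty.isomorphisms _).inverseImage
      (v.mapHomologicalComplex (ComplexShape.up ℤ)))
    (HomologicalComplex.quasiIso Q (ComplexShape.up ℤ)) (W₃ v) ?_ ?_ ?_
  · intro K L g hg
    exact Localization.inverts DerivedCategory.Q (HomologicalComplex.quasiIso Q (ComplexShape.up ℤ))
      _ hg
  · intro K L g hg
    haveI : IsIso ((v.mapHomologicalComplex (ComplexShape.up ℤ)).map g) := hg
    change QuasiIso ((v.mapHomologicalComplex (ComplexShape.up ℤ)).map g)
    infer_instance
  · intro K L h hh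
    have e : Arrow.mk ((v.mapHomologicalComplex (ComplexShape.up ℤ)).map
        ((u.mapHomologicalComplex (ComplexShape.up ℤ)).map h)) ≅ Arrow.mk h :=
      (Arrow.isoMk (asIso (adjC.unit.app K)) (asIso (adjC.unit.app L))
        (adjC.unit.naturality h).symm).symm
    refine ⟨_, _, (u.mapHomologicalComplex (ComplexShape.up ℤ)).map h, ?_, ⟨e⟩⟩
    exact ((HomologicalComplex.quasiIso Q (ComplexShape.up ℤ)).arrow_mk_iso_iff e).2 hh

include adj in
theorem isLocalization_mapDerivedCategory :
    v.mapDerivedCategory.IsLocalization (S P).trW := by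
  haveI := isLocalization_comp_Q v u adj
  haveI : (DerivedCategory.Q ⋙ v.mapDerivedCategory).IsLocalization (W₃ v) :=
    Functor.IsLocalization.of_iso (W₃ v) v.mapDerivedCategoryFactors.symm
  refine Functor.IsLocalization.of_comp DerivedCategory.Q v.mapDerivedCategory
    (HomologicalComplex.quasiIso A (ComplexShape.up ℤ)) (S P).trW (W₃ v) ?_ (trW_eq_map P v)
  intro K L g hg
  rw [W₃_iff P v]
  have hg' : QuasiIso g := hg
  rw [quasiIso_iff_acyclic_mappingCone, acyclic_iff_isZero_homology] at hg'
  intro n
  exact ObjectProperty.prop_of_isZero P (hg' n)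

end

end Groth.Agent.Helper9.SerreLoc1
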