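import Mathlib

/-! Sub-sheaves of abelian sheaves given by local conditions; sections of a coproduct of abelian
sheaves are locally finite sums. -/

set_option autoImplicit false
universe w v v' u'

open CategoryTheory CategoryTheory.Limits Opposite

namespace Groth.Agent.Helper9.SheafSum

variable {C : Type u'} [Category.{v'} C] {J : GrothendieckTopology C}

section sub

variable (H : Sheaf J AddCommGrpCat.{max u' v'}) (A : ∀ U : C, AddSubgroup (H.obj.obj (op U)))
  (hres : ∀ {U V : C} (φ : V ⟶ U) (s : H.obj.obj (op U)), s ∈ A U → H.obj.map φ.op s ∈ A V)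

/-- the sub-presheaf given by a family of subgroups stable under restriction -/
noncomputable def subPre : Cᵒᵖ ⥤ AddCommGrpCat.{max u' v'} where
  obj U := AddCommGrpCat.of (A U.unop)
  map {U V} φ := AddCommGrpCat.ofHom
    (((H.obj.map φ).hom.comp (A U.unop).subtype).codRestrict (A V.unop)
      (fun s => hres φ.unop s.1 s.2))
  map_id U := by
    ext ⟨s, hs⟩
    simp
  map_comp φ ψ := by
    ext ⟨s, hs⟩
    simp <;> rfl

variable (hloc : ∀ (U : C) (s : H.obj.obj (op U)) (R : Sieve U), R ∈ J U →
    (∀ {V : C} (φ : V ⟶ U), R φ → H.obj.map φ.op s ∈ A V) → s ∈ A U)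

include hloc in
theorem isSheaf_subPre : Presheaf.IsSheaf J (subPre H A hres) := by
  rw [Presheaf.isSheaf_iff_isSheaf_forget _ _ (forget AddCommGrpCat), isSheaf_iff_isSheaf_of_type]
  have hG : Presieve.IsSheaf J (H.obj ⋙ forget AddCommGrpCat) :=
    (isSheaf_iff_isSheaf_of_type _ _).mp
      ((Presheaf.isSheaf_iff_isSheaf_forget _ _ (forget AddCommGrpCat)).mp H.property)
  intro V R hR x hx
  let y : Presieve.FamilyOfElements (H.obj ⋙ forget AddCommGrpCat) R.arrows :=
    fun V' φ hφ => (x φ hφ).1
  have hy : y.Compatible := by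
    intro V₁ V₂ W g₁ g₂ φ₁ φ₂ h₁ h₂ hcomm
    exact congrArg Subtype.val (hx g₁ g₂ h₁ h₂ hcomm)
  obtain ⟨t, ht, htu⟩ := hG R hR y hy
  let t' : H.obj.obj (op V) := t
  have hmem : t' ∈ A V := by
    apply hloc V t' R hR
    intro V' φ hφ
    have h1 : H.obj.map φ.op t' = (x φ hφ).1 := ht φ hφ
    rw [h1]
    exact (x φ hφ).2
  refine ⟨⟨t', hmem⟩, ?_, ?_⟩
  · intro V' φ hφ
    apply Subtype.ext
    exact ht φ hφ
  · intro z hz
    apply Subtype.ext
    apply htu
    intro V' φ hφ
    exact congrArg Subtype.val (hz φ hφ)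

/-- the sub-sheaf -/
noncomputable def sub : Sheaf J AddCommGrpCat.{max u' v'} := ⟨subPre H A hres, isSheaf_subPre H A hres hloc⟩

/-- the inclusion of the sub-sheaf -/
noncomputable def subι : sub H A hres hloc ⟶ H :=
  ObjectProperty.homMk { app := fun U => AddCommGrpCat.ofHom (A U.unop).subtype }

theorem subι_mem (U : C) (s : (sub H A hres hloc).obj.obj (op U)) :
    (subι H A hres hloc).hom.app (op U) s ∈ A U :=
  (show A U from s).2

/-- a morphism into `H` with values in the subgroups factors through the sub-sheaf -/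
noncomputable def subLift {G : Sheaf J AddCommGrpCat.{max u' v'}} (a : G ⟶ H)
    (ha : ∀ (U : C) (s : G.obj.obj (op U)), a.hom.app (op U) s ∈ A U) :
    G ⟶ sub H A hres hloc :=
  ObjectProperty.homMk
    { app := fun U => AddCommGrpCat.ofHom ((a.hom.app U).hom.codRestrict (A U.unop)
        (fun s => ha U.unop s))
      naturality := by
        intro U V φ
        ext s
        apply Subtype.ext
        exact NatTrans.naturality_apply a.hom φ s }

theorem subLift_ι {G : Sheaf J AddCommGrpCat.{max u' v'}} (a : G ⟶ H)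
    (ha : ∀ (U : C) (s : G.obj.obj (op U)), a.hom.app (op U) s ∈ A U) :
    subLift H A hres hloc a ha ≫ subι H A hres hloc = a := by
  apply Sheaf.hom_ext
  ext U s
  rfl

end sub

section proj

variable {D : Type*} [Category D] [Preadditive D] {ι : Type w} [DecidableEq ι] (G : ι → D)
  [HasCoproduct G]

/-- the idempotent of a coproduct cutting out a finite sub-sum -/
noncomputable def eI (I : Finset ι) : ∐ G ⟶ ∐ G := ∑ i ∈ I, Sigma.π G i ≫ Sigma.ι G i

/-- the complementary idempotent -/
noncomputable def rI (I : Finset ι) : ∐ G ⟶ ∐ G := 𝟙 _ - eI G I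

theorem ι_eI_of_mem {I : Finset ι} {j : ι} (hj : j ∈ I) :
    Sigma.ι G j ≫ eI G I = Sigma.ι G j := by
  rw [eI, Preadditive.comp_sum, Finset.sum_eq_single j]
  · rw [Sigma.ι_π_eq_id_assoc]
  · intro i _ hij
    rw [Sigma.ι_π_of_ne_assoc G (Ne.symm hij), zero_comp]
  · intro h
    exact absurd hj h

theorem ι_rI_of_mem {I : Finset ι} {j : ι} (hj : j ∈ I) : Sigma.ι G j ≫ rI G I = 0 := by
  rw [rI, Preadditive.comp_sub, Category.comp_id, ι_eI_of_mem G hj, sub_self]

theorem eI_add_rI (I : Finset ι) : eI G I + rI G I = 𝟙 _ := by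
  rw [rI]; abel

end proj

section loc

variable {ι : Type w} [DecidableEq ι] (G : ι → Sheaf J AddCommGrpCat.{max u' v'}) [HasCoproduct G]

/-- a section of the coproduct lies in a finite sub-sum -/
def FinSupp (V : C) (x : (∐ G).obj.obj (op V)) : Prop :=
  ∃ I : Finset ι, ∀ I' : Finset ι, I ⊆ I' → (rI G I').hom.app (op V) x = 0

theorem finSupp_map {U V : C} (φ : V ⟶ U) (x : (∐ G).obj.obj (op U)) (h : FinSupp G U x) :
    FinSupp G V ((∐ G).obj.map φ.op x) := by
  obtain ⟨I, hI⟩ := h
  refine ⟨I, fun I' hI' => ?_⟩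
  have := NatTrans.naturality_apply (rI G I').hom φ.op x
  rw [this, hI I' hI', map_zero]

theorem finSupp_zero (V : C) : FinSupp G V 0 := ⟨∅, fun _ _ => map_zero _⟩

theorem finSupp_add (V : C) (x y : (∐ G).obj.obj (op V)) (hx : FinSupp G V x)
    (hy : FinSupp G V y) : FinSupp G V (x + y) := by
  obtain ⟨I, hI⟩ := hx
  obtain ⟨I₂, hI₂⟩ := hy
  refine ⟨I ∪ I₂, fun I' hI' => ?_⟩
  rw [map_add, hI I' (Finset.union_subset_left hI'), hI₂ I' (Finset.union_subset_right hI'),
    add_zero]

theorem finSupp_neg (V : C) (x : (∐ G).obj.obj (op V)) (hx : FinSupp G V x) :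
    FinSupp G V (-x) := by
  obtain ⟨I, hI⟩ := hx
  refine ⟨I, fun I' hI' => ?_⟩
  rw [map_neg, hI I' hI', neg_zero]

theorem finSupp_ι (V : C) (i : ι) (t : (G i).obj.obj (op V)) :
    FinSupp G V ((Sigma.ι G i).hom.app (op V) t) := by
  refine ⟨{i}, fun I' hI' => ?_⟩
  have h1 : Sigma.ι G i ≫ rI G I' = 0 := ι_rI_of_mem G (hI' (Finset.mem_singleton_self i))
  have h2 := congrArg (fun m => m.hom.app (op V) t) h1
  exact h2

/-- the sieve on which a section lies in a finite sub-sum -/
def finSieve {U : C} (s : (∐ G).obj.obj (op U)) : Sieve U where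
  arrows V φ := FinSupp G V ((∐ G).obj.map φ.op s)
  downward_closed := by
    intro V W φ hφ ψ
    have := finSupp_map G ψ _ hφ
    rw [← ConcreteCategory.comp_apply, ← (∐ G).obj.map_comp, ← op_comp] at this
    exact this

theorem finSieve_map {U V : C} (φ : V ⟶ U) (s : (∐ G).obj.obj (op U)) :
    finSieve G ((∐ G).obj.map φ.op s) = (finSieve G s).pullback φ := by
  ext W ψ
  show FinSupp G W _ ↔ FinSupp G W _
  rw [← ConcreteCategory.comp_apply, ← (∐ G).obj.map_comp, ← op_comp]

/-- the subgroups of sections which are locally in finite sub-sums -/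
def locFin (U : C) : AddSubgroup ((∐ G).obj.obj (op U)) where
  carrier := {s | finSieve G s ∈ J U}
  zero_mem' := by
    show finSieve G 0 ∈ J U
    convert J.top_mem U
    ext V φ
    simp only [Sieve.top_apply, iff_true]
    show FinSupp G V _
    rw [map_zero]
    exact finSupp_zero G V
  add_mem' := by
    intro x y hx hy
    refine J.superset_covering ?_ (J.intersection_covering hx hy)
    rintro V φ ⟨h1, h2⟩
    show FinSupp G V _
    rw [map_add]
    exact finSupp_add G V _ _ h1 h2
  neg_mem' := by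
    intro x hx
    refine J.superset_covering ?_ hx
    intro V φ h1
    show FinSupp G V _
    rw [map_neg]
    exact finSupp_neg G V _ h1

theorem locFin_res {U V : C} (φ : V ⟶ U) (s : (∐ G).obj.obj (op U)) (hs : s ∈ locFin (J := J) G U) :
    (∐ G).obj.map φ.op s ∈ locFin (J := J) G V := by
  show finSieve G _ ∈ J V
  rw [finSieve_map]
  exact J.pullback_stable φ hs

theorem locFin_loc (U : C) (s : (∐ G).obj.obj (op U)) (R : Sieve U) (hR : R ∈ J U)
    (h : ∀ {V : C} (φ : V ⟶ U), R φ → (∐ G).obj.map φ.op s ∈ locFin (J := J) G V) :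
    s ∈ locFin (J := J) G U := by
  show finSieve G s ∈ J U
  refine J.transitive hR _ ?_
  intro V φ hφ
  rw [← finSieve_map]
  exact h φ hφ

/-- every section of a coproduct of abelian sheaves is locally in a finite sub-sum -/
theorem finSieve_mem {U : C} (s : (∐ G).obj.obj (op U)) : finSieve G s ∈ J U := by
  let A := sub (∐ G) (locFin (J := J) G) (locFin_res G) (locFin_loc G)
  let a := subι (∐ G) (locFin (J := J) G) (locFin_res G) (locFin_loc G)
  let ρ : ∀ i, G i ⟶ A := fun i => subLift (∐ G) (locFin (J := J) G) (locFin_res G) (locFin_loc G)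
    (Sigma.ι G i) (by
      intro V t
      show finSieve G _ ∈ J V
      convert J.top_mem V
      ext W ψ
      simp only [Sieve.top_apply, iff_true]
      show FinSupp G W _
      have := NatTrans.naturality_apply (Sigma.ι G i).hom ψ.op t
      rw [← this]
      exact finSupp_ι G W i _)
  have h1 : Sigma.desc ρ ≫ a = 𝟙 _ := by
    apply Sigma.hom_ext
    intro i
    rw [Sigma.ι_desc_assoc, Category.comp_id]
    exact subLift_ι _ _ _ _ _ _
  have h2 := congrArg (fun m => m.hom.app (op U) s) h1
  have h3 : a.hom.app (op U) ((Sigma.desc ρ).hom.app (op U) s) = s := h2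
  rw [← h3]
  exact subι_mem (∐ G) (locFin (J := J) G) (locFin_res G) (locFin_loc G) U _

end loc

end Groth.Agent.Helper9.SheafSum
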