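import Mathlib
import Groth.Prelude.Def_NonAbH1

set_option autoImplicit false

namespace Groth.Agent.Helper9.SheafTors

open CategoryTheory Opposite NonAbH1

universe w v u

variable {C : Type u} [Category.{v} C] {J : GrothendieckTopology C}

section Glue

variable (A : Sheaf J (Type w))

theorem isSheaf_type : Presieve.IsSheaf J A.obj :=
  (isSheaf_iff_isSheaf_of_type J A.obj).mp A.property

/-- sections agreeing on a covering sieve are equal -/
theorem eq_of_locally {U : C} (s₁ s₂ : A.obj.obj (op U)) (S : Sieve U) (hS : S ∈ J U)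
    (h : ∀ ⦃V : C⦄ (f : V ⟶ U), S f → A.obj.map f.op s₁ = A.obj.map f.op s₂) : s₁ = s₂ :=
  ((isSheaf_type A) S hS).isSeparatedFor.ext (fun _ _ hf => h _ hf)

/-- a locally defined, choice-independent section glues to a global section -/
theorem exists_section_of_locally_constant (T : Cᵒᵖ ⥤ Type w)
    (hT : ∀ U : C, ∃ S ∈ J U, ∀ ⦃V : C⦄ (f : V ⟶ U), S f → Nonempty (T.obj (op V)))
    (k : ∀ U : Cᵒᵖ, T.obj U → A.obj.obj U)
    (hk_nat : ∀ {U V : Cᵒᵖ} (f : U ⟶ V) (t : T.obj U), k V (T.map f t) = A.obj.map f (k U t))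
    (hk_const : ∀ (U : Cᵒᵖ) (t t' : T.obj U), k U t = k U t') :
    ∃ a : A.obj.sections, ∀ (U : Cᵒᵖ) (t : T.obj U), a.1 U = k U t := by
  choose S hS ht using hT
  have hA := isSheaf_type A
  -- the local family
  let x : ∀ U : C, Presieve.FamilyOfElements A.obj (S U).arrows :=
    fun U V f hf => k (op V) (Classical.choice (ht U f hf))
  have hx : ∀ U : C, (x U).Compatible := by
    intro U Y₁ Y₂ Z g₁ g₂ f₁ f₂ h₁ h₂ _
    change A.obj.map g₁.op (k (op Y₁) _) = A.obj.map g₂.op (k (op Y₂) _)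
    rw [← hk_nat, ← hk_nat]
    exact hk_const _ _ _
  let a : ∀ U : C, A.obj.obj (op U) := fun U => (hA (S U) (hS U)).amalgamate (x U) (hx U)
  have ha : ∀ (U : C) ⦃V : C⦄ (f : V ⟶ U) (hf : S U f),
      A.obj.map f.op (a U) = k (op V) (Classical.choice (ht U f hf)) :=
    fun U V f hf => (hA (S U) (hS U)).valid_glue (hx U) f hf
  -- key property
  have key : ∀ (U V : C) (f : V ⟶ U) (t : T.obj (op V)), A.obj.map f.op (a U) = k (op V) t := by
    intro U V f t
    apply eq_of_locally A _ _ ((S U).pullback f) (J.pullback_stable f (hS U))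
    intro W g hg
    have h1 : A.obj.map g.op (A.obj.map f.op (a U)) = A.obj.map (g ≫ f).op (a U) := by
      rw [op_comp, Functor.map_comp_apply]
    rw [h1, ha U (g ≫ f) hg, ← hk_nat]
    exact hk_const _ _ _
  refine ⟨⟨fun U => a U.unop, ?_⟩, ?_⟩
  · intro U V f
    change A.obj.map f (a U.unop) = a V.unop
    apply eq_of_locally A _ _ (S V.unop) (hS V.unop)
    intro W g hg
    have h1 : A.obj.map g.op (A.obj.map f (a U.unop)) = A.obj.map (g ≫ f.unop).op (a U.unop) := by
      rw [op_comp, Functor.map_comp_apply]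
      rfl
    rw [h1, key U.unop W (g ≫ f.unop) (Classical.choice (ht V.unop g hg)), ha V.unop g hg]
  · intro U t
    have h1 := key U.unop U.unop (𝟙 _) t
    rw [op_id, Functor.map_id_apply] at h1
    exact h1

/-- a section locally in the image of a sectionwise injective map of sheaves is in the image -/
theorem mem_image_of_locally (T : Sheaf J (Type w)) (i : T ⟶ A)
    (hi : ∀ U : Cᵒᵖ, Function.Injective (i.hom.app U)) {U : C} (g : A.obj.obj (op U))
    (S : Sieve U) (hS : S ∈ J U)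
    (h : ∀ ⦃V : C⦄ (f : V ⟶ U), S f → ∃ t : T.obj.obj (op V), i.hom.app (op V) t = A.obj.map f.op g) :
    ∃ t : T.obj.obj (op U), i.hom.app (op U) t = g := by
  choose t ht using h
  have hT := isSheaf_type T
  let x : Presieve.FamilyOfElements T.obj S.arrows := fun V f hf => t f hf
  have hx : x.Compatible := by
    intro Y₁ Y₂ Z g₁ g₂ f₁ f₂ h₁ h₂ h12
    apply hi
    change i.hom.app (op Z) (T.obj.map g₁.op (t f₁ h₁)) = i.hom.app (op Z) (T.obj.map g₂.op (t f₂ h₂))
    rw [NatTrans.naturality_apply, NatTrans.naturality_apply, ht, ht,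
      ← Functor.map_comp_apply, ← Functor.map_comp_apply, ← op_comp, ← op_comp, h12]
  refine ⟨(hT S hS).amalgamate x hx, ?_⟩
  apply eq_of_locally A _ _ S hS
  intro V f hf
  rw [← NatTrans.naturality_apply, (hT S hS).valid_glue hx f hf]
  exact ht f hf

end Glue

section Tors

variable {F : Sheaf J GrpCat.{w}}

/-- a sectionwise bijective equivariant morphism is an isomorphism -/
theorem nonempty_iso_of_bijective {P Q : GSheaf F} (φ : P ⟶ Q)
    (hφ : ∀ U : Cᵒᵖ, Function.Bijective (φ.hom.hom.app U)) : Nonempty (P ≅ Q) := by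
  let e : ∀ U : Cᵒᵖ, P.P.obj.obj U ≃ Q.P.obj.obj U := fun U => Equiv.ofBijective _ (hφ U)
  have he : ∀ (U : Cᵒᵖ) (x : P.P.obj.obj U), e U x = φ.hom.hom.app U x := fun U x => rfl
  let ψ₀ : Q.P.obj ⟶ P.P.obj :=
    { app := fun U => TypeCat.ofHom (e U).symm
      naturality := by
        intro U V f
        ext x
        apply (e V).injective
        change e V ((e V).symm (Q.P.obj.map f x)) = e V (P.P.obj.map f ((e U).symm x))
        rw [Equiv.apply_symm_apply, he, NatTrans.naturality_apply, ← he, Equiv.apply_symm_apply] }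
  let ψ : Q ⟶ P :=
    { hom := ObjectProperty.homMk ψ₀
      map_smul := by
        intro U g q
        apply (e U).injective
        change e U ((e U).symm (Q.smul g q)) = e U (P.smul g ((e U).symm q))
        rw [Equiv.apply_symm_apply, he, φ.map_smul, ← he, Equiv.apply_symm_apply] }
  refine ⟨⟨φ, ψ, ?_, ?_⟩⟩
  · apply GSheaf.hom_ext
    apply Sheaf.hom_ext
    ext U x
    change (e U).symm (e U x) = x
    exact Equiv.symm_apply_apply _ _
  · apply GSheaf.hom_ext
    apply Sheaf.hom_ext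
    ext U x
    change e U ((e U).symm x) = x
    exact Equiv.apply_symm_apply _ _

end Tors

section Boundary

variable [J.HasSheafCompose (forget GrpCat.{w})] {F G : Sheaf J GrpCat.{w}}

theorem cl_eq_one_iff (T : Torsor F) :
    T.cl = 1 ↔ Nonempty (T.toGSheaf ≅ GSheaf.trivial F) := by
  have heq : Equivalence (fun P Q : Torsor F => Nonempty (P.toGSheaf ≅ Q.toGSheaf)) :=
    ⟨fun P => ⟨Iso.refl _⟩, fun ⟨e⟩ => ⟨e.symm⟩, fun ⟨e₁⟩ ⟨e₂⟩ => ⟨e₁ ≪≫ e₂⟩⟩
  change Quot.mk _ T = Quot.mk _ (trivialTorsor F) ↔ _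
  rw [Quot.eq, heq.eqvGen_iff]
  rfl

variable (u : F ⟶ G) (hu : ∀ U : Cᵒᵖ, Function.Injective (u.hom.app U))
  {Q : GSheaf G} (π : GSheaf.trivial G ⟶ Q) (hQ : GSheaf.IsQuotientBy u π)

theorem pi_mul {U : Cᵒᵖ} (g h : G.obj.obj U) :
    π.hom.hom.app U (GSheaf.ofGrp (g * h)) = Q.smul g (π.hom.hom.app U (GSheaf.ofGrp h)) :=
  π.map_smul g (GSheaf.ofGrp h)

/-- data of a fibre -/
structure FibData (c : Q.P.obj.sections) (T : GSheaf F) where
  i : T.P ⟶ GSheaf.uSh G
  inj : ∀ U : Cᵒᵖ, Function.Injective (i.hom.app U)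
  fib : ∀ (U : Cᵒᵖ) (g : G.obj.obj U),
    (∃ t, GSheaf.toGrp (i.hom.app U t) = g) ↔ π.hom.hom.app U (GSheaf.ofGrp g) = c.1 U
  eqv : ∀ (U : Cᵒᵖ) (f : F.obj.obj U) (t : T.P.obj.obj U),
    GSheaf.toGrp (i.hom.app U (T.smul f t)) = GSheaf.toGrp (i.hom.app U t) * (u.hom.app U f)⁻¹

variable {u π}

theorem exists_fibData {c : Q.P.obj.sections} {T : GSheaf F} (h : GSheaf.IsFibreOver u π c T) :
    Nonempty (FibData u π c T) := by
  obtain ⟨i, h1, h2, h3⟩ := h
  exact ⟨⟨i, h1, h2, h3⟩⟩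

namespace FibData

variable {c : Q.P.obj.sections} {T : GSheaf F} (d : FibData u π c T)

theorem i_nat {U V : Cᵒᵖ} (f : U ⟶ V) (t : T.P.obj.obj U) :
    GSheaf.toGrp (d.i.hom.app V (T.P.obj.map f t)) = G.obj.map f (GSheaf.toGrp (d.i.hom.app U t)) :=
  NatTrans.naturality_apply d.i.hom f t

theorem pi_i {U : Cᵒᵖ} (t : T.P.obj.obj U) :
    π.hom.hom.app U (d.i.hom.app U t) = c.1 U :=
  (d.fib U (GSheaf.toGrp (d.i.hom.app U t))).mp ⟨t, rfl⟩

include hQ d in
theorem trans {U : Cᵒᵖ} (t t' : T.P.obj.obj U) : ∃ a : F.obj.obj U, T.smul a t = t' := by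
  have h1 : π.hom.hom.app U (GSheaf.ofGrp (GSheaf.toGrp (d.i.hom.app U t))) =
      π.hom.hom.app U (GSheaf.ofGrp (GSheaf.toGrp (d.i.hom.app U t'))) := by
    rw [d.pi_i, d.pi_i]
  obtain ⟨a, ha⟩ := (hQ.1 U _ _).mp h1
  refine ⟨a⁻¹, ?_⟩
  apply d.inj
  change GSheaf.toGrp (d.i.hom.app U (T.smul a⁻¹ t)) = GSheaf.toGrp (d.i.hom.app U t')
  rw [d.eqv, ha, map_inv, inv_inv]

include hu d in
theorem free {U : Cᵒᵖ} (a a' : F.obj.obj U) (t : T.P.obj.obj U)
    (h : T.smul a t = T.smul a' t) : a = a' := by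
  have h1 := congrArg (fun x => GSheaf.toGrp (d.i.hom.app U x)) h
  beta_reduce at h1
  rw [d.eqv, d.eqv, mul_right_inj, inv_inj] at h1
  exact hu U h1

include hQ d in
theorem locNonempty : T.LocallyNonempty := by
  intro U
  obtain ⟨S, hS, h⟩ := hQ.2 U (c.1 (op U))
  refine ⟨S, hS, ?_⟩
  intro V a ha
  obtain ⟨g, hg⟩ := h a ha
  have h1 : Q.P.obj.map a.op (c.1 (op U)) = c.1 (op V) := c.2 a.op
  rw [h1] at hg
  obtain ⟨t, -⟩ := (d.fib (op V) g).mpr hg
  exact ⟨t⟩

include hu hQ d in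
theorem isTorsor : T.IsTorsor := by
  refine ⟨?_, d.locNonempty hQ⟩
  intro U p q
  obtain ⟨a, ha⟩ := d.trans hQ p q
  exact ⟨a, ha, fun a' ha' => d.free hu a' a p (ha'.trans ha.symm)⟩

end FibData

include hu hQ in
/-- the boundary of `c` is trivial iff `c` lifts to a global section of `G` -/
theorem boundary_eq_one_iff (c : Q.P.obj.sections) (T : Torsor F)
    (hT : GSheaf.IsFibreOver u π c T.toGSheaf) :
    T.cl = 1 ↔
      ∃ g : (GSheaf.uSh G).obj.sections, ∀ U : Cᵒᵖ, π.hom.hom.app U (g.1 U) = c.1 U := by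
  obtain ⟨d⟩ := exists_fibData hT
  rw [cl_eq_one_iff]
  constructor
  · rintro ⟨e⟩
    let t : ∀ U : Cᵒᵖ, T.P.obj.obj U := fun U => e.inv.hom.hom.app U (GSheaf.ofGrp 1)
    have ht : ∀ {U V : Cᵒᵖ} (f : U ⟶ V), T.P.obj.map f (t U) = t V := by
      intro U V f
      have h1 : e.inv.hom.hom.app V ((GSheaf.trivial F).P.obj.map f (GSheaf.ofGrp 1)) =
          T.P.obj.map f (e.inv.hom.hom.app U (GSheaf.ofGrp 1)) :=
        NatTrans.naturality_apply e.inv.hom.hom f _
      have h2 : (GSheaf.trivial F).P.obj.map f (GSheaf.ofGrp (1 : F.obj.obj U)) =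
          GSheaf.ofGrp (1 : F.obj.obj V) := by
        change F.obj.map f 1 = 1
        rw [map_one]
      rw [h2] at h1
      exact h1.symm
    refine ⟨⟨fun U => d.i.hom.app U (t U), ?_⟩, ?_⟩
    · intro U V f
      change (GSheaf.uSh G).obj.map f (d.i.hom.app U (t U)) = d.i.hom.app V (t V)
      rw [← NatTrans.naturality_apply, ht]
    · intro U
      exact d.pi_i (t U)
  · rintro ⟨g, hg⟩
    have hex : ∀ U : Cᵒᵖ, ∃ t : T.P.obj.obj U, GSheaf.toGrp (d.i.hom.app U t) = g.1 U :=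
      fun U => (d.fib U (g.1 U)).mpr (hg U)
    choose t ht using hex
    have htn : ∀ {U V : Cᵒᵖ} (f : U ⟶ V), T.P.obj.map f (t U) = t V := by
      intro U V f
      apply d.inj
      change GSheaf.toGrp (d.i.hom.app V (T.P.obj.map f (t U))) = GSheaf.toGrp (d.i.hom.app V (t V))
      rw [d.i_nat, ht, ht]
      exact g.2 f
    let φ₀ : (GSheaf.trivial F).P.obj ⟶ T.P.obj :=
      { app := fun U => TypeCat.ofHom (fun a => T.smul (GSheaf.toGrp a) (t U))
        naturality := by
          intro U V f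
          ext a
          change T.smul (F.obj.map f (GSheaf.toGrp a)) (t V) = T.P.obj.map f (T.smul (GSheaf.toGrp a) (t U))
          rw [T.map_smul, htn] }
    let φ : GSheaf.trivial F ⟶ T.toGSheaf :=
      { hom := ObjectProperty.homMk φ₀
        map_smul := by
          intro U a b
          change T.smul (a * GSheaf.toGrp b) (t U) = T.smul a (T.smul (GSheaf.toGrp b) (t U))
          rw [T.mul_smul] }
    have hbij : ∀ U : Cᵒᵖ, Function.Bijective (φ.hom.hom.app U) := by
      intro U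
      constructor
      · intro a a' haa
        exact d.free hu _ _ (t U) haa
      · intro q
        obtain ⟨a, ha⟩ := d.trans hQ (t U) q
        exact ⟨GSheaf.ofGrp a, ha⟩
    obtain ⟨e⟩ := nonempty_iso_of_bijective φ hbij
    exact ⟨e.symm⟩

include hQ in
/-- two boundaries agree iff the sections are translates under a global section of `G` -/
theorem iso_iff_translate (c c' : Q.P.obj.sections) (T T' : GSheaf F)
    (hT : GSheaf.IsFibreOver u π c T) (hT' : GSheaf.IsFibreOver u π c' T') :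
    Nonempty (T ≅ T') ↔
      ∃ g : (GSheaf.uSh G).obj.sections,
        ∀ U : Cᵒᵖ, Q.smul (GSheaf.toGrp (g.1 U)) (c.1 U) = c'.1 U := by
  obtain ⟨d⟩ := exists_fibData hT
  obtain ⟨d'⟩ := exists_fibData hT'
  constructor
  · rintro ⟨e⟩
    let k : ∀ U : Cᵒᵖ, T.P.obj.obj U → (GSheaf.uSh G).obj.obj U := fun U t =>
      GSheaf.ofGrp (GSheaf.toGrp (d'.i.hom.app U (e.hom.hom.hom.app U t)) *
        (GSheaf.toGrp (d.i.hom.app U t))⁻¹)
    have hk_nat : ∀ {U V : Cᵒᵖ} (f : U ⟶ V) (t : T.P.obj.obj U),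
        k V (T.P.obj.map f t) = (GSheaf.uSh G).obj.map f (k U t) := by
      intro U V f t
      change GSheaf.toGrp (d'.i.hom.app V (e.hom.hom.hom.app V (T.P.obj.map f t))) *
        (GSheaf.toGrp (d.i.hom.app V (T.P.obj.map f t)))⁻¹ =
        G.obj.map f (GSheaf.toGrp (d'.i.hom.app U (e.hom.hom.hom.app U t)) *
          (GSheaf.toGrp (d.i.hom.app U t))⁻¹)
      rw [NatTrans.naturality_apply e.hom.hom.hom f t, d'.i_nat, d.i_nat, map_mul, map_inv]
    have hk_const : ∀ (U : Cᵒᵖ) (t t' : T.P.obj.obj U), k U t = k U t' := by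
      intro U t t'
      obtain ⟨a, rfl⟩ := d.trans hQ t t'
      change GSheaf.toGrp (d'.i.hom.app U (e.hom.hom.hom.app U t)) *
        (GSheaf.toGrp (d.i.hom.app U t))⁻¹ =
        GSheaf.toGrp (d'.i.hom.app U (e.hom.hom.hom.app U (T.smul a t))) *
          (GSheaf.toGrp (d.i.hom.app U (T.smul a t)))⁻¹
      rw [e.hom.map_smul, d'.eqv, d.eqv]
      group
    obtain ⟨g, hg⟩ := exists_section_of_locally_constant (GSheaf.uSh G) T.P.obj
      (d.locNonempty hQ) k hk_nat hk_const
    refine ⟨g, ?_⟩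
    intro U
    obtain ⟨S, hS, hne⟩ := d.locNonempty hQ U.unop
    apply eq_of_locally Q.P (U := U.unop) _ _ S hS
    intro V f hf
    obtain ⟨t⟩ := hne f hf
    have h1 : Q.P.obj.map f.op (Q.smul (GSheaf.toGrp (g.1 U)) (c.1 U)) =
        Q.smul (GSheaf.toGrp (g.1 (op V))) (c.1 (op V)) := by
      rw [Q.map_smul]
      congr 1
      · exact g.2 f.op
      · exact c.2 f.op
    have h2 : Q.P.obj.map f.op (c'.1 U) = c'.1 (op V) := c'.2 f.op
    rw [h1, h2, hg (op V) t, ← d.pi_i t, ← d'.pi_i (e.hom.hom.hom.app (op V) t)]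
    change Q.smul _ (π.hom.hom.app (op V) (GSheaf.ofGrp (GSheaf.toGrp (d.i.hom.app (op V) t)))) = _
    rw [← pi_mul]
    congr 1
    change GSheaf.toGrp (d'.i.hom.app (op V) (e.hom.hom.hom.app (op V) t)) *
      (GSheaf.toGrp (d.i.hom.app (op V) t))⁻¹ * GSheaf.toGrp (d.i.hom.app (op V) t) = _
    rw [inv_mul_cancel_right]
  · rintro ⟨g, hg⟩
    have hex : ∀ (U : Cᵒᵖ) (t : T.P.obj.obj U), ∃ t' : T'.P.obj.obj U,
        GSheaf.toGrp (d'.i.hom.app U t') = GSheaf.toGrp (g.1 U) * GSheaf.toGrp (d.i.hom.app U t) := by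
      intro U t
      apply (d'.fib U _).mpr
      rw [pi_mul]
      change Q.smul _ (π.hom.hom.app U (d.i.hom.app U t)) = _
      rw [d.pi_i, hg]
    choose φ hφ using hex
    let φ₀ : T.P.obj ⟶ T'.P.obj :=
      { app := fun U => TypeCat.ofHom (φ U)
        naturality := by
          intro U V f
          ext t
          apply d'.inj
          change GSheaf.toGrp (d'.i.hom.app V (φ V (T.P.obj.map f t))) =
            GSheaf.toGrp (d'.i.hom.app V (T'.P.obj.map f (φ U t)))
          rw [hφ, d'.i_nat, hφ, d.i_nat, map_mul]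
          congr 1
          exact (g.2 f).symm }
    let Φ : T ⟶ T' :=
      { hom := ObjectProperty.homMk φ₀
        map_smul := by
          intro U a t
          apply d'.inj
          change GSheaf.toGrp (d'.i.hom.app U (φ U (T.smul a t))) =
            GSheaf.toGrp (d'.i.hom.app U (T'.smul a (φ U t)))
          rw [hφ, d'.eqv, hφ, d.eqv, mul_assoc] }
    apply nonempty_iso_of_bijective Φ
    intro U
    constructor
    · intro t₁ t₂ h12
      have h1 : φ U t₁ = φ U t₂ := h12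
      have h2 := congrArg (fun x => GSheaf.toGrp (d'.i.hom.app U x)) h1
      beta_reduce at h2
      rw [hφ, hφ, mul_right_inj] at h2
      exact d.inj U h2
    · intro t'
      have h1 : ∃ t, GSheaf.toGrp (d.i.hom.app U t) =
          (GSheaf.toGrp (g.1 U))⁻¹ * GSheaf.toGrp (d'.i.hom.app U t') := by
        apply (d.fib U _).mpr
        rw [pi_mul]
        change Q.smul _ (π.hom.hom.app U (d'.i.hom.app U t')) = _
        rw [d'.pi_i, ← hg U, ← Q.mul_smul, inv_mul_cancel, Q.one_smul]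
      obtain ⟨t, ht⟩ := h1
      refine ⟨t, ?_⟩
      apply d'.inj
      change GSheaf.toGrp (d'.i.hom.app U (φ U t)) = GSheaf.toGrp (d'.i.hom.app U t')
      rw [hφ, ht, mul_inv_cancel_left]

include hu hQ in
/-- exactness at `H¹(F)`: the pushforward to `G` is trivial iff the torsor is a boundary -/
theorem pushforward_trivial_iff (T : Torsor F) :
    GSheaf.IsPushforwardAlong u T.toGSheaf (GSheaf.trivial G) ↔
      ∃ c : Q.P.obj.sections, GSheaf.IsFibreOver u π c T.toGSheaf := by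
  constructor
  · rintro ⟨f, hf⟩
    let i₀ : T.P.obj ⟶ (GSheaf.uSh G).obj :=
      { app := fun U => TypeCat.ofHom (fun t => GSheaf.ofGrp (GSheaf.toGrp (f.hom.app U t))⁻¹)
        naturality := by
          intro U V φ
          ext t
          change (GSheaf.toGrp (f.hom.app V (T.P.obj.map φ t)))⁻¹ =
            G.obj.map φ (GSheaf.toGrp (f.hom.app U t))⁻¹
          rw [map_inv]
          congr 1
          exact NatTrans.naturality_apply f.hom φ t }
    let i : T.P ⟶ GSheaf.uSh G := ObjectProperty.homMk i₀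
    have hi : ∀ (U : Cᵒᵖ) (t : T.P.obj.obj U),
        GSheaf.toGrp (i.hom.app U t) = (GSheaf.toGrp (f.hom.app U t))⁻¹ := fun U t => rfl
    have heqv : ∀ (U : Cᵒᵖ) (a : F.obj.obj U) (t : T.P.obj.obj U),
        GSheaf.toGrp (i.hom.app U (T.smul a t)) =
          GSheaf.toGrp (i.hom.app U t) * (u.hom.app U a)⁻¹ := by
      intro U a t
      rw [hi, hi, hf]
      change (u.hom.app U a * GSheaf.toGrp (f.hom.app U t))⁻¹ = _
      rw [mul_inv_rev]
    have hinj : ∀ U : Cᵒᵖ, Function.Injective (i.hom.app U) := by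
      intro U t t' htt
      obtain ⟨a, ha, -⟩ := T.isTorsor.1 U t t'
      have h1 : GSheaf.toGrp (i.hom.app U t') = GSheaf.toGrp (i.hom.app U t) := by rw [htt]
      rw [← ha, heqv, mul_eq_left, inv_eq_one] at h1
      have h2 : a = 1 := hu U (by rw [h1, map_one])
      rw [← ha, h2, T.one_smul]
    let k : ∀ U : Cᵒᵖ, T.P.obj.obj U → Q.P.obj.obj U := fun U t =>
      π.hom.hom.app U (i.hom.app U t)
    have hk_nat : ∀ {U V : Cᵒᵖ} (φ : U ⟶ V) (t : T.P.obj.obj U),
        k V (T.P.obj.map φ t) = Q.P.obj.map φ (k U t) := by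
      intro U V φ t
      change π.hom.hom.app V (i.hom.app V (T.P.obj.map φ t)) =
        Q.P.obj.map φ (π.hom.hom.app U (i.hom.app U t))
      rw [NatTrans.naturality_apply i.hom φ t]
      exact NatTrans.naturality_apply π.hom.hom φ _
    have hk_const : ∀ (U : Cᵒᵖ) (t t' : T.P.obj.obj U), k U t = k U t' := by
      intro U t t'
      obtain ⟨a, ha, -⟩ := T.isTorsor.1 U t t'
      change π.hom.hom.app U (GSheaf.ofGrp (GSheaf.toGrp (i.hom.app U t))) =
        π.hom.hom.app U (GSheaf.ofGrp (GSheaf.toGrp (i.hom.app U t')))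
      rw [hQ.1 U]
      refine ⟨a⁻¹, ?_⟩
      rw [← ha, heqv, map_inv]
    obtain ⟨c, hc⟩ := exists_section_of_locally_constant Q.P T.P.obj T.isTorsor.2 k hk_nat hk_const
    refine ⟨c, i, hinj, ?_, heqv⟩
    intro U g
    constructor
    · rintro ⟨t, rfl⟩
      exact (hc U t).symm
    · intro hg
      obtain ⟨S, hS, hne⟩ := T.isTorsor.2 U.unop
      have h1 : ∃ t : T.P.obj.obj (op U.unop), i.hom.app (op U.unop) t = GSheaf.ofGrp g := by
        apply mem_image_of_locally (GSheaf.uSh G) T.P i hinj (GSheaf.ofGrp g) S hS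
        intro V φ hφ
        obtain ⟨t⟩ := hne φ hφ
        have h2 : π.hom.hom.app (op V) (GSheaf.ofGrp (GSheaf.toGrp (i.hom.app (op V) t))) =
            π.hom.hom.app (op V) (GSheaf.ofGrp (G.obj.map φ.op g)) := by
          have h3 : π.hom.hom.app (op V) (GSheaf.ofGrp (G.obj.map φ.op g)) =
              Q.P.obj.map φ.op (π.hom.hom.app U (GSheaf.ofGrp g)) :=
            NatTrans.naturality_apply π.hom.hom φ.op (GSheaf.ofGrp g)
          rw [h3, hg, c.2 φ.op]
          exact (hc (op V) t).symm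
        obtain ⟨a, ha⟩ := (hQ.1 (op V) _ _).mp h2
        refine ⟨T.smul a⁻¹ t, ?_⟩
        change GSheaf.toGrp (i.hom.app (op V) (T.smul a⁻¹ t)) = G.obj.map φ.op g
        rw [heqv, ha, map_inv, inv_inv]
      exact h1
  · rintro ⟨c, hT⟩
    obtain ⟨d⟩ := exists_fibData hT
    let f₀ : T.P.obj ⟶ (GSheaf.trivial G).P.obj :=
      { app := fun U => TypeCat.ofHom (fun t => GSheaf.ofGrp (GSheaf.toGrp (d.i.hom.app U t))⁻¹)
        naturality := by
          intro U V φ
          ext t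
          change (GSheaf.toGrp (d.i.hom.app V (T.P.obj.map φ t)))⁻¹ =
            G.obj.map φ (GSheaf.toGrp (d.i.hom.app U t))⁻¹
          rw [map_inv, d.i_nat] }
    refine ⟨ObjectProperty.homMk f₀, ?_⟩
    intro U a t
    change (GSheaf.toGrp (d.i.hom.app U (T.smul a t)))⁻¹ =
      u.hom.app U a * (GSheaf.toGrp (d.i.hom.app U t))⁻¹
    rw [d.eqv, mul_inv_rev, inv_inv]

section Fibre

variable (u π) (c : Q.P.obj.sections)

theorem pi_map {U V : Cᵒᵖ} (f : U ⟶ V) (g : G.obj.obj U) :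
    π.hom.hom.app V (GSheaf.ofGrp (G.obj.map f g)) =
      Q.P.obj.map f (π.hom.hom.app U (GSheaf.ofGrp g)) :=
  NatTrans.naturality_apply π.hom.hom f (GSheaf.ofGrp g)

/-- the presheaf of liftings of `c` -/
def fibPre : Cᵒᵖ ⥤ Type w where
  obj U := {g : G.obj.obj U // π.hom.hom.app U (GSheaf.ofGrp g) = c.1 U}
  map {U V} f := TypeCat.ofHom (fun g => ⟨G.obj.map f g.1, by
    rw [pi_map, g.2]
    exact c.2 f⟩)
  map_id U := by
    ext g
    change G.obj.map (𝟙 U) g.1 = g.1
    rw [Functor.map_id_apply]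
  map_comp {U V W} f h := by
    ext g
    change G.obj.map (f ≫ h) g.1 = G.obj.map h (G.obj.map f g.1)
    rw [Functor.map_comp_apply]

theorem fibPre_isSheaf : Presieve.IsSheaf J (fibPre π c) := by
  intro U S hS x hx
  have hA := isSheaf_type (GSheaf.uSh G)
  let y : Presieve.FamilyOfElements (GSheaf.uSh G).obj S.arrows := fun V f hf => (x f hf).1
  have hy : y.Compatible := by
    intro Y₁ Y₂ Z g₁ g₂ f₁ f₂ h₁ h₂ h12
    exact congrArg Subtype.val (hx g₁ g₂ h₁ h₂ h12)
  let g : G.obj.obj (op U) := (hA S hS).amalgamate y hy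
  have hg : ∀ ⦃V : C⦄ (f : V ⟶ U) (hf : S f), G.obj.map f.op g = (x f hf).1 :=
    fun V f hf => (hA S hS).valid_glue hy f hf
  have hgc : π.hom.hom.app (op U) (GSheaf.ofGrp g) = c.1 (op U) := by
    apply eq_of_locally Q.P _ _ S hS
    intro V f hf
    rw [← pi_map, hg f hf, (x f hf).2]
    exact (c.2 f.op).symm
  refine ⟨⟨g, hgc⟩, ?_, ?_⟩
  · intro V f hf
    apply Subtype.ext
    exact hg f hf
  · intro t ht
    apply Subtype.ext
    apply eq_of_locally (GSheaf.uSh G) (U := U) _ _ S hS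
    intro V f hf
    change G.obj.map f.op t.1 = G.obj.map f.op g
    rw [hg f hf]
    exact congrArg Subtype.val (ht f hf)

include hQ in
theorem fib_smul_mem {U : Cᵒᵖ} (a : F.obj.obj U) (g : G.obj.obj U)
    (hg : π.hom.hom.app U (GSheaf.ofGrp g) = c.1 U) :
    π.hom.hom.app U (GSheaf.ofGrp (g * (u.hom.app U a)⁻¹)) = c.1 U := by
  rw [← hg]
  symm
  rw [hQ.1 U]
  exact ⟨a⁻¹, by rw [map_inv]⟩

/-- the `F`-sheaf of liftings of `c` -/
def fibSheaf (hQ : GSheaf.IsQuotientBy u π) : GSheaf F where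
  P := ⟨fibPre π c, (isSheaf_iff_isSheaf_of_type J _).mpr (fibPre_isSheaf π c)⟩
  smul {U} a g := ⟨g.1 * (u.hom.app U a)⁻¹, fib_smul_mem u π hQ c a g.1 g.2⟩
  one_smul {U} g := by
    apply Subtype.ext
    change g.1 * (u.hom.app U 1)⁻¹ = g.1
    rw [map_one, inv_one, mul_one]
  mul_smul {U} a b g := by
    apply Subtype.ext
    change g.1 * (u.hom.app U (a * b))⁻¹ = g.1 * (u.hom.app U b)⁻¹ * (u.hom.app U a)⁻¹
    rw [map_mul, mul_inv_rev, mul_assoc]
  map_smul {U V} f a g := by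
    apply Subtype.ext
    change G.obj.map f (g.1 * (u.hom.app U a)⁻¹) = G.obj.map f g.1 * (u.hom.app V (F.obj.map f a))⁻¹
    rw [map_mul, map_inv, NatTrans.naturality_apply u.hom f a]

theorem fibSheaf_isFibreOver : GSheaf.IsFibreOver u π c (fibSheaf u π c hQ) := by
  let i₀ : (fibSheaf u π c hQ).P.obj ⟶ (GSheaf.uSh G).obj :=
    { app := fun U => TypeCat.ofHom (fun g => GSheaf.ofGrp g.1)
      naturality := by
        intro U V f
        rfl }
  refine ⟨ObjectProperty.homMk i₀, ?_, ?_, ?_⟩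
  · intro U g g' h
    exact Subtype.ext h
  · intro U g
    constructor
    · rintro ⟨t, rfl⟩
      exact t.2
    · intro hg
      exact ⟨⟨g, hg⟩, rfl⟩
  · intro U a t
    rfl

end Fibre

include hu hQ in
/-- the boundary is well defined -/
theorem boundary_wellDefined (c : Q.P.obj.sections) :
    (∃ T : Torsor F, GSheaf.IsFibreOver u π c T.toGSheaf) ∧
      (∀ T : GSheaf F, GSheaf.IsFibreOver u π c T → T.IsTorsor) ∧
      ∀ T T' : GSheaf F, GSheaf.IsFibreOver u π c T → GSheaf.IsFibreOver u π c T' →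
        Nonempty (T ≅ T') := by
  have h2 : ∀ T : GSheaf F, GSheaf.IsFibreOver u π c T → T.IsTorsor := by
    intro T hT
    obtain ⟨d⟩ := exists_fibData hT
    exact d.isTorsor hu hQ
  refine ⟨⟨⟨fibSheaf u π c hQ, h2 _ (fibSheaf_isFibreOver u π hQ c)⟩,
    fibSheaf_isFibreOver u π hQ c⟩, h2, ?_⟩
  intro T T' hT hT'
  rw [iso_iff_translate hQ c c T T' hT hT']
  refine ⟨⟨fun U => GSheaf.ofGrp (1 : G.obj.obj U), ?_⟩, ?_⟩
  · intro U V f
    change G.obj.map f 1 = 1
    rw [map_one]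
  · intro U
    exact Q.one_smul _

end Boundary

end Groth.Agent.Helper9.SheafTors
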