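import Mathlib

set_option autoImplicit false
universe v u
open CategoryTheory CartesianMonoidalCategory MonoidalCategory MonObj

namespace Groth.Agent.Helper9.Shear

variable {C : Type u} [Category.{v} C] [CartesianMonoidalCategory C] (H : C) [GrpObj H]

theorem mul_eq : (fst H H) * (snd H H) = μ[H] := by
  rw [Hom.mul_def, lift_fst_snd, Category.id_comp]

/-- the shear map `(a, h) ↦ (a h, h)` -/
def shear : H ⊗ H ⟶ H ⊗ H := lift μ[H] (snd H H)

def shearInv : H ⊗ H ⟶ H ⊗ H := lift (fst H H * (snd H H)⁻¹) (snd H H)

theorem shear_shearInv : shear H ≫ shearInv H = 𝟙 _ := by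
  apply CartesianMonoidalCategory.hom_ext
  · simp only [shear, shearInv, Category.assoc, lift_fst, Category.id_comp]
    rw [MonObj.comp_mul, GrpObj.comp_inv, lift_fst, lift_snd, ← mul_eq]
    simp
  · simp [shear, shearInv]

theorem shearInv_shear : shearInv H ≫ shear H = 𝟙 _ := by
  apply CartesianMonoidalCategory.hom_ext
  · simp only [shear, shearInv, Category.assoc, lift_fst, Category.id_comp]
    rw [← mul_eq, MonObj.comp_mul, lift_fst, lift_snd]
    simp
  · simp [shear, shearInv]

instance : IsIso (shear H) := ⟨shearInv H, shear_shearInv H, shearInv_shear H⟩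

end Groth.Agent.Helper9.Shear
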