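import Mathlib
import Groth.Agent.S5217
import Groth.Agent.S5218
import Groth.Agent.Helper9.TopQuot

set_option autoImplicit false

namespace Groth.Agent.Helper9.ShfInst

open CategoryTheory CategoryTheory.Limits

universe w v₁ u₁

variable {C : Type u₁} [Category.{v₁} C] (J : GrothendieckTopology C) [HasSheafify J (Type w)]

theorem epiUE : TopQuot.EpiUE (Sheaf J (Type w)) := by
  intro X Y f hf
  haveI := hf
  exact Groth.Agent.S5218.result J f

theorem eqEff : TopQuot.EqEff (Sheaf J (Type w)) := by
  intro R X p₁ p₂ h
  haveI := h
  exact Groth.Agent.S5217.result J p₁ p₂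

end Groth.Agent.Helper9.ShfInst
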