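import Mathlib
import Groth.Prelude.Def_EtBase

set_option autoImplicit false

namespace Groth.Agent.Helper9.VanLocus

open CategoryTheory CategoryTheory.Limits AlgebraicGeometry Opposite

universe u

variable {S : Scheme.{u}}

set_option backward.isDefEq.respectTransparency false in
theorem main (F : EtCoh.Ab S) (U : S.Etale) (σ : EtCoh.sect F U) :
    ∃ W : U.left.Opens, ∀ (V : S.Etale) (φ : V ⟶ U),
      F.obj.map φ.op σ = 0 ↔ Set.range φ.left.base ⊆ (W : Set U.left) := by
  let Wset : Set U.left := {u | ∃ (V' : S.Etale) (φ' : V' ⟶ U), F.obj.map φ'.op σ = 0 ∧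
    u ∈ Set.range φ'.left.base}
  have hopen : IsOpen Wset := by
    rw [isOpen_iff_mem_nhds]
    rintro u ⟨V', φ', h0, hu⟩
    refine Filter.mem_of_superset (φ'.left.isOpenMap.isOpen_range.mem_nhds hu) ?_
    intro u' hu'
    exact ⟨V', φ', h0, hu'⟩
  refine ⟨⟨Wset, hopen⟩, fun V φ => ⟨fun h0 => ?_, fun hsub => ?_⟩⟩
  · rintro _ ⟨v, rfl⟩
    exact ⟨V, φ, h0, v, rfl⟩
  · have hs : Presieve.IsSheaf S.smallEtaleTopology (F.obj ⋙ forget AddCommGrpCat) :=
      (isSheaf_iff_isSheaf_of_type _ _).mp
        ((Presheaf.isSheaf_iff_isSheaf_forget _ _ (forget AddCommGrpCat)).mp F.property)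
    have hex : ∀ v : V.left, ∃ (V' : S.Etale) (φ' : V' ⟶ U), F.obj.map φ'.op σ = 0 ∧
        ∃ v' : V'.left, φ'.left.base v' = φ.left.base v := fun v => by
      obtain ⟨V', φ', h0, v', hv'⟩ := hsub ⟨v, rfl⟩
      exact ⟨V', φ', h0, v', hv'⟩
    choose V' φ' h0 v' hv' using hex
    let Z : V.left → S.Etale := fun v =>
      Scheme.Etale.mk (pullback.fst φ.left (φ' v).left ≫ V.hom)
    let a : ∀ v, Z v ⟶ V := fun v =>
      MorphismProperty.Over.homMk (pullback.fst φ.left (φ' v).left) rfl trivial
    let b : ∀ v, Z v ⟶ V' v := fun v =>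
      MorphismProperty.Over.homMk (pullback.snd φ.left (φ' v).left)
        (by
          change pullback.snd φ.left (φ' v).left ≫ (V' v).hom =
            pullback.fst φ.left (φ' v).left ≫ V.hom
          have e1 : (φ' v).left ≫ U.hom = (V' v).hom :=
            CategoryTheory.Over.w (φ' v).toCommaMorphism
          have e2 : φ.left ≫ U.hom = V.hom := CategoryTheory.Over.w φ.toCommaMorphism
          calc pullback.snd φ.left (φ' v).left ≫ (V' v).hom
              = pullback.snd φ.left (φ' v).left ≫ (φ' v).left ≫ U.hom := by rw [e1]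
            _ = pullback.fst φ.left (φ' v).left ≫ φ.left ≫ U.hom :=
                (pullback.condition_assoc _).symm
            _ = pullback.fst φ.left (φ' v).left ≫ V.hom := by rw [e2]) trivial
    have hab : ∀ v, a v ≫ φ = b v ≫ φ' v := by
      intro v
      apply MorphismProperty.Over.Hom.ext
      exact pullback.condition
    have hcov : Sieve.ofArrows Z a ∈ S.smallEtaleTopology V := by
      rw [Scheme.ofArrows_mem_smallEtaleTopology_iff]
      apply Set.eq_univ_of_forall
      intro v
      obtain ⟨z, hz, -⟩ := Scheme.Pullback.exists_preimage_pullback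
        (f := φ.left) (g := (φ' v).left) v (v' v) (hv' v).symm
      exact Set.mem_iUnion.mpr ⟨v, z, hz⟩
    have hsep : Presieve.IsSheafFor (F.obj ⋙ forget AddCommGrpCat) (Presieve.ofArrows Z a) := by
      rw [Presieve.isSheafFor_iff_generate]
      exact hs _ hcov
    have key : (F.obj.map φ.op σ : (F.obj ⋙ forget AddCommGrpCat).obj (op V)) =
        (0 : F.obj.obj (op V)) := by
      apply hsep.isSeparatedFor.ext
      rintro _ _ ⟨v⟩
      change F.obj.map (a v).op (F.obj.map φ.op σ) = F.obj.map (a v).op 0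
      rw [map_zero, ← ConcreteCategory.comp_apply, ← F.obj.map_comp, ← op_comp, hab, op_comp,
        F.obj.map_comp, ConcreteCategory.comp_apply, h0, map_zero]
    exact key

end Groth.Agent.Helper9.VanLocus
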