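import Mathlib
import Groth.Prelude.Def_EtShriek2
import Groth.Agent.Helper9.VanLocus
import Groth.Agent.Helper9.EtPropA
import Groth.Agent.Helper9.ProperOverB

/-! Supports of sections of abelian étale sheaves: vanishing locus, behaviour under sums and
restriction; sections with proper support form a subgroup. -/

set_option autoImplicit false
universe u

open CategoryTheory CategoryTheory.Limits Opposite AlgebraicGeometry

namespace Groth.Agent.Helper9.ShriekSupp

variable {X : Scheme.{u}} (F : EtCoh.Ab X)

/-- the open subscheme of an étale `X`-scheme as an object of the small étale site -/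
noncomputable def restr (U : X.Etale) (O : U.left.Opens) : X.Etale :=
  Scheme.Etale.mk (O.ι ≫ U.hom)

/-- its inclusion -/
noncomputable def restrι (U : X.Etale) (O : U.left.Opens) : restr U O ⟶ U :=
  MorphismProperty.Over.homMk O.ι rfl trivial

theorem range_restrι (U : X.Etale) (O : U.left.Opens) :
    Set.range (restrι U O).left.base = (O : Set U.left) :=
  Scheme.Opens.range_ι O

/-- the vanishing locus of a section -/
noncomputable def van (U : X.Etale) (s : EtCoh.sect F U) : U.left.Opens :=
  Classical.choose (VanLocus.main F U s)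

theorem van_spec (U : X.Etale) (s : EtCoh.sect F U) {V : X.Etale} (φ : V ⟶ U) :
    F.obj.map φ.op s = 0 ↔ Set.range φ.left.base ⊆ (van F U s : Set U.left) :=
  Classical.choose_spec (VanLocus.main F U s) V φ

theorem sectSupp_eq (U : X.Etale) (s : EtCoh.sect F U) :
    EtShriek.sectSupp F U s = (van F U s : Set U.left)ᶜ := by
  ext x
  simp only [EtShriek.sectSupp, Set.mem_ofPred_eq, Set.mem_compl_iff]
  constructor
  · intro h hx
    refine h (restr U (van F U s)) (restrι U (van F U s)) ?_ ?_
    · have : x ∈ Set.range (restrι U (van F U s)).left.base := by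
        rw [range_restrι]; exact hx
      exact this
    · rw [van_spec, range_restrι]
  · intro hx W g ⟨w, hw⟩ h0
    rw [van_spec] at h0
    exact hx (h0 ⟨w, hw⟩)

theorem map_restr_van (U : X.Etale) (s : EtCoh.sect F U) {O : U.left.Opens}
    (hO : O ≤ van F U s) : F.obj.map (restrι U O).op s = 0 := by
  rw [van_spec, range_restrι]
  exact hO

theorem sectSupp_zero (U : X.Etale) : EtShriek.sectSupp F U 0 = ∅ := by
  ext x
  simp only [EtShriek.sectSupp, Set.mem_ofPred_eq, Set.mem_empty_iff_false, iff_false]
  intro h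
  exact h U (𝟙 U) ⟨x, rfl⟩ (map_zero _)

theorem sectSupp_neg (U : X.Etale) (s : EtCoh.sect F U) :
    EtShriek.sectSupp F U (-s) = EtShriek.sectSupp F U s := by
  ext x
  simp only [EtShriek.sectSupp, Set.mem_ofPred_eq, map_neg, ne_eq, neg_eq_zero]

theorem sectSupp_add_subset (U : X.Etale) (s t : EtCoh.sect F U) :
    EtShriek.sectSupp F U (s + t) ⊆ EtShriek.sectSupp F U s ∪ EtShriek.sectSupp F U t := by
  intro x hx
  by_contra hcon
  rw [Set.mem_union, not_or, sectSupp_eq, sectSupp_eq, Set.mem_compl_iff, Set.mem_compl_iff,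
    not_not, not_not] at hcon
  let O := van F U s ⊓ van F U t
  have h1 : F.obj.map (restrι U O).op s = 0 := map_restr_van F U s inf_le_left
  have h2 : F.obj.map (restrι U O).op t = 0 := map_restr_van F U t inf_le_right
  refine hx (restr U O) (restrι U O) ?_ ?_
  · have : x ∈ Set.range (restrι U O).left.base := by
      rw [range_restrι]; exact ⟨hcon.1, hcon.2⟩
    exact this
  · rw [map_add, h1, h2, add_zero]

theorem sectSupp_map {U U' : X.Etale} (g : U' ⟶ U) (s : EtCoh.sect F U) :
    EtShriek.sectSupp F U' (F.obj.map g.op s) = g.left.base ⁻¹' EtShriek.sectSupp F U s := by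
  ext x'
  constructor
  · intro hx' W k ⟨w, hw⟩ h0
    obtain ⟨x₀, hx₀, hxw⟩ : ∃ O : U'.left.Opens, x' ∈ O ∧
        F.obj.map (restrι U' O).op (F.obj.map g.op s) = 0 := by
      have hmem : g.left.base x' ∈ (van F U s : Set U.left) := by
        rw [van_spec] at h0
        exact h0 ⟨w, hw⟩
      refine ⟨g.left ⁻¹ᵁ van F U s, hmem, ?_⟩
      rw [← ConcreteCategory.comp_apply, ← F.obj.map_comp, ← op_comp, van_spec]
      rintro _ ⟨z, rfl⟩
      have hz : (restrι U' (g.left ⁻¹ᵁ van F U s)).left.base z ∈
          Set.range (restrι U' (g.left ⁻¹ᵁ van F U s)).left.base := ⟨z, rfl⟩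
      rw [range_restrι] at hz
      exact hz
    refine hx' (restr U' x₀) (restrι U' x₀) ?_ hxw
    have : x' ∈ Set.range (restrι U' x₀).left.base := by
      rw [range_restrι]; exact hx₀
    exact this
  · intro hx W k ⟨w, hw⟩ h0
    refine hx W (k ≫ g) ⟨w, ?_⟩ ?_
    · show g.left.base (k.left.base w) = _
      rw [hw]
    · rw [op_comp, F.obj.map_comp, ConcreteCategory.comp_apply]
      exact h0

theorem eq_zero_of_sectSupp_eq_empty (U : X.Etale) (s : EtCoh.sect F U)
    (h : EtShriek.sectSupp F U s = ∅) : s = 0 := by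
  rw [sectSupp_eq, Set.compl_empty_iff] at h
  have := (van_spec F U s (𝟙 U)).2 (by rw [h]; exact Set.subset_univ _)
  simpa using this

end Groth.Agent.Helper9.ShriekSupp
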