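import Mathlib
import Groth.Prelude.Def_EtBase
import Groth.Prelude.Def_EtShriek2
import Groth.Agent.Helper9.EtShriekOpen
import Groth.Agent.Helper9.EtRecollement
import Groth.Agent.Helper9.EtShriekStalkZero
import Groth.Agent.Helper9.EtStalkExact
import Groth.Agent.Helper9.ShriekSupp
import Groth.Agent.Helper9.EtSievePt

/-! The canonical monomorphism `j_! → j_*` for an open immersion `j`, and the description of its
image by supports. -/

set_option autoImplicit false
universe u

open CategoryTheory CategoryTheory.Limits Opposite AlgebraicGeometry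

namespace Groth.Agent.Helper9.ShriekComp

open Groth.Agent.Helper9.EtShriekOpen Groth.Agent.Helper9.EtStalkExact
  Groth.Agent.Helper9.ShriekSupp

variable {U X : Scheme.{u}} (j : U ⟶ X) [IsOpenImmersion j] [EtShriek.JCont j]

instance full_extZero : (EtShriek.extZero j).Full :=
  ((EtShriek.extZeroAdj j).fullyFaithfulLOfIsIsoUnit).full

instance faithful_extZero : (EtShriek.extZero j).Faithful :=
  ((EtShriek.extZeroAdj j).fullyFaithfulLOfIsIsoUnit).faithful

instance full_push : (EtCoh.push j).Full :=
  ((sheafAdj j).fullyFaithfulROfIsIsoCounit).full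

instance faithful_push : (EtCoh.push j).Faithful :=
  ((sheafAdj j).fullyFaithfulROfIsIsoCounit).faithful

/-- the canonical map `j_! → j_*` -/
noncomputable def tau : EtShriek.extZero j ⟶ EtCoh.push j := (triple j).leftToRight

theorem isIso_restr_map_tau (F : EtCoh.Ab U) :
    IsIso ((EtShriek.restrAlong j).map ((tau j).app F)) := by
  have h := (triple j).map_adj₂_counit_app_leftToRight_app F
  have h' := congrArg (EtShriek.restrAlong j).map h
  rw [Functor.map_comp] at h'
  have h1 : IsIso ((EtShriek.restrAlong j).map ((triple j).adj₁.counit.app ((EtCoh.push j).obj F))) :=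
    EtRecollement.isIso_restr_map_counit j _
  have h2 : IsIso ((EtShriek.restrAlong j).map
      ((EtShriek.extZero j).map ((triple j).adj₂.counit.app F))) := by
    have : IsIso ((triple j).adj₂.counit.app F) := isIso_sheafAdj_counit_app j F
    infer_instance
  have h3 : IsIso ((EtShriek.restrAlong j).map
      ((EtShriek.extZero j).map ((triple j).adj₂.counit.app F)) ≫
      (EtShriek.restrAlong j).map ((tau j).app F)) := by
    rw [show (tau j).app F = (triple j).leftToRight.app F from rfl, h']
    exact h1
  exact IsIso.of_isIso_comp_left ((EtShriek.restrAlong j).map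
      ((EtShriek.extZero j).map ((triple j).adj₂.counit.app F)))
    ((EtShriek.restrAlong j).map ((tau j).app F))

attribute [local instance] preservesFilteredColimits_forget_ab

theorem mono_counit (G : EtCoh.Ab X) : Mono ((EtShriek.extZeroAdj j).counit.app G) := by
  rw [mono_iff_stalks]
  intro Ω _ _ ξ
  by_cases hξ : Set.range ξ.base ⊆ Set.range j.base
  · have hfac := IsOpenImmersion.lift_fac j ξ hξ
    have := EtRecollement.isIso_stalk_map_counit j G (IsOpenImmersion.lift j ξ hξ)
    rw [hfac] at this
    exact ((ConcreteCategory.isIso_iff_bijective _).1 this).1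
  · have hd : Disjoint (Set.range ξ.base) (Set.range j.base) := by
      rw [Set.disjoint_left]
      rintro _ ⟨p, rfl⟩ hcon
      apply hξ
      rintro _ ⟨p', rfl⟩
      rw [Subsingleton.elim p' p]
      exact hcon
    have hz := EtShriekStalkZero.isZero_stalk_extZero j ξ ((EtShriek.restrAlong j).obj G) hd
    have : Subsingleton ↑((EtCoh.stalk ξ).obj ((EtShriek.extZero j).obj
        ((EtShriek.restrAlong j).obj G))) := AddCommGrpCat.subsingleton_of_isZero hz
    exact fun a b _ => @Subsingleton.elim _ this a b

instance mono_tau_app (F : EtCoh.Ab U) : Mono ((tau j).app F) := by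
  rw [show (tau j).app F = (triple j).leftToRight.app F from rfl,
    (triple j).mono_leftToRight_app_iff_mono_adj₁_counit_app]
  exact mono_counit j _

theorem injective_of_mono {F G : EtCoh.Ab X} (a : F ⟶ G) [Mono a]
    (W : X.Etale) : Function.Injective (a.hom.app (op W)) := by
  have h1 : Mono ((sheafToPresheaf _ _).map a) := inferInstance
  have h2 := (NatTrans.mono_iff_mono_app _).1 h1 (op W)
  exact (AddCommGrpCat.mono_iff_injective _).1 h2

theorem injective_tau (F : EtCoh.Ab U) (W : X.Etale) :
    Function.Injective (((tau j).app F).hom.app (op W)) :=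
  injective_of_mono ((tau j).app F) W

theorem bijective_tau_comp (F : EtCoh.Ab U) (V : U.Etale) :
    Function.Bijective (((tau j).app F).hom.app (op ((EtShriek.compEtale j).obj V))) := by
  have h := isIso_restr_map_tau j F
  have h1 : IsIso ((sheafToPresheaf _ _).map ((EtShriek.restrAlong j).map ((tau j).app F))) :=
    inferInstance
  have h2 : IsIso (((sheafToPresheaf _ _).map
      ((EtShriek.restrAlong j).map ((tau j).app F))).app (op V)) := inferInstance
  exact (ConcreteCategory.isIso_iff_bijective _).1 h2

set_option backward.isDefEq.respectTransparency.types false in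
/-- sections in the image of `j_! → j_*` have support over the open -/
theorem sectSupp_tau_subset (F : EtCoh.Ab U) (W : X.Etale)
    (s : ((EtShriek.extZero j).obj F).obj.obj (op W)) :
    EtShriek.sectSupp ((EtCoh.push j).obj F) W (((tau j).app F).hom.app (op W) s) ⊆
      W.hom.base ⁻¹' (Set.range j.base) := by
  intro w hw
  by_contra hcon
  have hcon' : W.hom w ∉ Set.range j.base := hcon
  -- the geometric point over `W.hom w`
  let ξ := geomPt (W.hom w)
  have hd : Disjoint (Set.range ξ.base) (Set.range j.base) := by
    rw [Set.disjoint_left]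
    rintro _ ⟨p, rfl⟩ hp
    apply hcon'
    have : ξ p = W.hom w := by
      rw [Subsingleton.elim p default]; exact geomPt_default _
    rw [← this]; exact hp
  have hz := EtShriekStalkZero.isZero_stalk_extZero j ξ F hd
  obtain ⟨l, hl⟩ := Scheme.pointSmallEtaleFiberObjToPreimage_surjective ξ
    (geomPt_default (W.hom w)) W ⟨w, rfl⟩
  rw [Subtype.ext_iff] at hl
  simp only [Functor.id_obj, Scheme.pointSmallEtaleFiberObjToPreimage_coe,
    Scheme.Etale.forget_obj_left] at hl
  have h0 : (Scheme.pointSmallEtale ξ).toPresheafFiber W l ((EtShriek.extZero j).obj F).obj s =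
      (Scheme.pointSmallEtale ξ).toPresheafFiber W l ((EtShriek.extZero j).obj F).obj 0 := by
    have : Subsingleton ↑((EtCoh.stalk ξ).obj ((EtShriek.extZero j).obj F)) :=
      AddCommGrpCat.subsingleton_of_isZero hz
    exact @Subsingleton.elim _ this _ _
  obtain ⟨W', g, l', hl', hg⟩ :=
    ((Scheme.pointSmallEtale ξ).toPresheafFiber_eq_iff' W l s 0).1 h0
  let lW' : Spec (CommRingCat.of (SeparableClosure (X.residueField (W.hom w)))) ⟶ W'.left :=
    l'.left
  let lW : Spec (CommRingCat.of (SeparableClosure (X.residueField (W.hom w)))) ⟶ W.left :=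
    l.left
  have h1 : lW' ≫ g.left = lW := by
    have := congrArg (fun m => m.left) hl'
    exact this
  refine hw W' g ⟨lW' default, ?_⟩ ?_
  · rw [← Scheme.Hom.comp_apply, h1]
    exact hl
  · have hn := NatTrans.naturality_apply ((tau j).app F).hom g.op s
    rw [← hn, hg, map_zero, map_zero]

omit [IsOpenImmersion j] [EtShriek.JCont j] in
/-- a section vanishing étale locally around every point vanishes -/
theorem eq_zero_of_forall_point (Q : EtCoh.Ab X) {W : X.Etale} (q : Q.obj.obj (op W))
    (h : ∀ w : W.left, ∃ (W' : X.Etale) (g : W' ⟶ W), Q.obj.map g.op q = 0 ∧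
      w ∈ Set.range g.left) : q = 0 := by
  have hs : Presieve.IsSheaf X.smallEtaleTopology (Q.obj ⋙ forget AddCommGrpCat) :=
    (isSheaf_iff_isSheaf_of_type _ _).mp
      ((Presheaf.isSheaf_iff_isSheaf_forget _ _ (forget AddCommGrpCat)).mp Q.property)
  let S : Sieve W :=
    { arrows := fun W' g => Q.obj.map g.op q = 0
      downward_closed := by
        intro W₁ W₂ g hg k
        show Q.obj.map (k ≫ g).op q = 0
        rw [op_comp, Q.obj.map_comp, ConcreteCategory.comp_apply, hg, map_zero] }
  have hS : S ∈ X.smallEtaleTopology W := EtSievePt.mem_of_forall_point W S h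
  refine (hs S hS).isSeparatedFor.ext (fun Z g hg => ?_)
  show Q.obj.map g.op q = Q.obj.map g.op 0
  rw [map_zero]
  exact hg

set_option backward.isDefEq.respectTransparency.types false in
/-- an open of an étale `X`-scheme lying over the image of `j` comes from `U` -/
theorem exists_iso_compEtale (W : X.Etale) (O : W.left.Opens)
    (hO : (O : Set W.left) ⊆ W.hom.base ⁻¹' (Set.range j.base)) :
    ∃ V : U.Etale, Nonempty ((EtShriek.compEtale j).obj V ≅ restr W O) := by
  have hr : Set.range (O.ι ≫ W.hom).base ⊆ Set.range j.base := by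
    rintro _ ⟨x, rfl⟩
    have := hO x.2
    exact this
  let l : O.toScheme ⟶ U := IsOpenImmersion.lift j (O.ι ≫ W.hom) hr
  have hl : l ≫ j = O.ι ≫ W.hom := IsOpenImmersion.lift_fac j (O.ι ≫ W.hom) hr
  let g : restr W O ⟶ (EtShriek.compEtale j).obj (EtCoh.top U) :=
    MorphismProperty.Over.homMk l (by
      show l ≫ (𝟙 _ ≫ j) = O.ι ≫ W.hom
      rw [Category.id_comp, hl]) trivial
  exact ⟨(EtShriek.compEtaleLift j g).1, ⟨(EtShriek.compEtaleLift j g).2⟩⟩

set_option backward.isDefEq.respectTransparency.types false in
/-- sections of `j_*` with support over the open come from `j_!` -/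
theorem mem_range_tau_of_sectSupp_subset (F : EtCoh.Ab U) (W : X.Etale)
    (t : ((EtCoh.push j).obj F).obj.obj (op W))
    (ht : EtShriek.sectSupp ((EtCoh.push j).obj F) W t ⊆ W.hom.base ⁻¹' (Set.range j.base)) :
    t ∈ Set.range (((tau j).app F).hom.app (op W)) := by
  let G := (EtCoh.push j).obj F
  let a := (tau j).app F
  let π := cokernel.π a
  -- exactness on sections
  let S : ShortComplex (EtCoh.Ab X) := ShortComplex.mk a π (cokernel.condition a)
  have hS : S.Exact := ShortComplex.exact_of_g_is_cokernel _ (cokernelIsCokernel a)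
  let Γ : EtCoh.Ab X ⥤ AddCommGrpCat.{u + 1} :=
    sheafToPresheaf X.smallEtaleTopology AddCommGrpCat.{u + 1} ⋙
      (evaluation X.Etaleᵒᵖ AddCommGrpCat.{u + 1}).obj (op W)
  have hSG : (S.map Γ).Exact :=
    hS.map_of_mono_of_preservesKernel Γ (inferInstanceAs (Mono a)) inferInstance
  rw [ShortComplex.ab_exact_iff] at hSG
  have hzero : ∀ (W' : X.Etale) (s : ((EtShriek.extZero j).obj F).obj.obj (op W')),
      π.hom.app (op W') (a.hom.app (op W') s) = 0 := by
    intro W' s
    have := congrArg (fun φ => φ.hom.app (op W') s) (cokernel.condition a)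
    exact this
  have key : π.hom.app (op W) t = 0 := by
    apply eq_zero_of_forall_point
    intro w
    by_cases hw : w ∈ EtShriek.sectSupp G W t
    · -- over the open
      let O : W.left.Opens := W.hom ⁻¹ᵁ j.opensRange
      have hwO : w ∈ O := ht hw
      obtain ⟨V, ⟨e⟩⟩ := exists_iso_compEtale j W O (fun x hx => hx)
      refine ⟨restr W O, restrι W O, ?_, ?_⟩
      · have hn := NatTrans.naturality_apply π.hom (restrι W O).op t
        rw [← hn]
        obtain ⟨s₁, hs₁⟩ := (bijective_tau_comp j F V).2
          (G.obj.map e.hom.op (G.obj.map (restrι W O).op t))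
        have h2 : a.hom.app (op (restr W O)) (((EtShriek.extZero j).obj F).obj.map e.inv.op s₁) =
            G.obj.map (restrι W O).op t := by
          have hn2 := NatTrans.naturality_apply a.hom e.inv.op s₁
          rw [hn2, hs₁, ← ConcreteCategory.comp_apply, ← G.obj.map_comp, ← op_comp, e.inv_hom_id,
            op_id, G.obj.map_id]
          rfl
        rw [← h2]
        exact hzero _ _
      · rw [range_restrι]
        exact hwO
    · rw [sectSupp_eq, Set.mem_compl_iff, not_not] at hw
      refine ⟨restr W (van G W t), restrι W (van G W t), ?_, ?_⟩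
      · have hn := NatTrans.naturality_apply π.hom (restrι W (van G W t)).op t
        rw [← hn, map_restr_van G W t le_rfl, map_zero]
      · rw [range_restrι]
        exact hw
  obtain ⟨s, hs⟩ := hSG t key
  exact ⟨s, hs⟩

end Groth.Agent.Helper9.ShriekComp
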