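import Mathlib
import Groth.Prelude.Def_EtShriek2
import Groth.Agent.Helper9.ShriekSupp
import Groth.Agent.Helper9.EtSectSupp
import Groth.Agent.Helper9.EtSievePt

/-! Sections with proper support form a subgroup, and this is a local condition on the base:
the presheaf of sections with proper support is a sheaf. -/

set_option autoImplicit false
universe u

open CategoryTheory CategoryTheory.Limits Opposite AlgebraicGeometry

namespace Groth.Agent.Helper9.ShriekSheaf

open Groth.Agent.Helper9.ShriekSupp Groth.Agent.Helper9.ProperOverB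

section general

variable {X : Scheme.{u}} (F : EtCoh.Ab X)

theorem hasProperSupport_iff (U : X.Etale) (s : EtCoh.sect F U) {S : Scheme.{u}} (g : U.left ⟶ S) :
    EtShriek.HasProperSupport F U s g ↔ ClSub.IsProperOver g (EtShriek.sectSupp F U s) := by
  constructor
  · rintro ⟨Z, hZ, hp⟩
    exact isProperOver_of_closed_subset g (EtSectSupp.isClosed_sectSupp F U s) hZ hp
  · intro h
    exact ⟨_, subset_rfl, h⟩

theorem hasProperSupport_zero (U : X.Etale) {S : Scheme.{u}} (g : U.left ⟶ S) :
    EtShriek.HasProperSupport F U 0 g :=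
  ⟨∅, by rw [sectSupp_zero], isProperOver_empty g⟩

theorem hasProperSupport_neg (U : X.Etale) (s : EtCoh.sect F U) {S : Scheme.{u}} (g : U.left ⟶ S)
    (h : EtShriek.HasProperSupport F U s g) : EtShriek.HasProperSupport F U (-s) g := by
  obtain ⟨Z, hZ, hp⟩ := h
  exact ⟨Z, by rw [sectSupp_neg]; exact hZ, hp⟩

theorem hasProperSupport_add (U : X.Etale) (s t : EtCoh.sect F U) {S : Scheme.{u}}
    (g : U.left ⟶ S) [LocallyOfFiniteType g]
    (hs : EtShriek.HasProperSupport F U s g) (ht : EtShriek.HasProperSupport F U t g) :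
    EtShriek.HasProperSupport F U (s + t) g := by
  obtain ⟨Z₁, hZ₁, hp₁⟩ := hs
  obtain ⟨Z₂, hZ₂, hp₂⟩ := ht
  exact ⟨Z₁ ∪ Z₂, (sectSupp_add_subset F U s t).trans (Set.union_subset_union hZ₁ hZ₂),
    isProperOver_union g hp₁ hp₂⟩

end general

variable {X Y : Scheme.{u}} (f : X ⟶ Y) [LocallyOfFiniteType f] (F : EtCoh.Ab X)

set_option backward.isDefEq.respectTransparency.types false in
instance lft_prV (V : Y.Etale) : LocallyOfFiniteType (EtShriek.prV f V) :=
  MorphismProperty.pullback_fst (P := @LocallyOfFiniteType) V.hom f inferInstance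

theorem shriekPred_zero (V : Y.Etale) : EtShriek.ShriekPred f F V 0 := by
  intro V' φ
  rw [map_zero]
  exact hasProperSupport_zero F _ _

theorem shriekPred_neg (V : Y.Etale) (s : EtCoh.sect F ((EtCoh.bc f).obj V))
    (h : EtShriek.ShriekPred f F V s) : EtShriek.ShriekPred f F V (-s) := by
  intro V' φ
  rw [map_neg]
  exact hasProperSupport_neg F _ _ _ (h V' φ)

theorem shriekPred_add (V : Y.Etale) (s t : EtCoh.sect F ((EtCoh.bc f).obj V))
    (hs : EtShriek.ShriekPred f F V s) (ht : EtShriek.ShriekPred f F V t) :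
    EtShriek.ShriekPred f F V (s + t) := by
  intro V' φ
  rw [map_add]
  exact hasProperSupport_add F _ _ _ _ (hs V' φ) (ht V' φ)

theorem mem_shriekSubgroup_iff (V : Y.Etale) (s : EtCoh.sect F ((EtCoh.bc f).obj V)) :
    s ∈ EtShriek.shriekSubgroup f F V ↔ EtShriek.ShriekPred f F V s := by
  constructor
  · intro h
    refine AddSubgroup.closure_induction (p := fun x _ => EtShriek.ShriekPred f F V x)
      (fun x hx => hx) (shriekPred_zero f F V) (fun x y _ _ hx hy => shriekPred_add f F V x y hx hy)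
      (fun x _ hx => shriekPred_neg f F V x hx) h
  · intro h
    exact AddSubgroup.subset_closure h

set_option backward.isDefEq.respectTransparency.types false in
/-- having proper support is local on the base -/
theorem shriekPred_of_local (V : Y.Etale) (R : Sieve V) (hR : R ∈ Y.smallEtaleTopology V)
    (s : EtCoh.sect F ((EtCoh.bc f).obj V))
    (h : ∀ ⦃V' : Y.Etale⦄ (φ : V' ⟶ V), R φ →
      EtShriek.ShriekPred f F V' (F.obj.map ((EtCoh.bc f).map φ).op s)) :
    EtShriek.ShriekPred f F V s := by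
  intro V' ψ
  rw [hasProperSupport_iff]
  refine isProperOver_of_flat_open_local (EtShriek.prV f V') _
    (EtSectSupp.isClosed_sectSupp F _ _) ?_
  intro b
  have hR' : R.pullback ψ ∈ Y.smallEtaleTopology V' := Y.smallEtaleTopology.pullback_stable ψ hR
  obtain ⟨V'', φ', hφ', y, hy⟩ := EtSievePt.exists_of_mem V' (R.pullback ψ) hR' b
  have hφ'' : R (φ' ≫ ψ) := hφ'
  have het : Etale φ'.left := EtPropA.etale_left φ'
  refine ⟨V''.left, φ'.left, y, inferInstance, φ'.left.isOpenMap, hy,
    ((EtCoh.bc f).obj V'').left, ((EtCoh.bc f).map φ').left, EtShriek.prV f V'',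
    EtCoh.isPullback_bc_map f φ', ?_⟩
  have h1 := h (φ' ≫ ψ) hφ'' V'' (𝟙 V'')
  rw [hasProperSupport_iff] at h1
  have h2 : F.obj.map ((EtCoh.bc f).map (𝟙 V'')).op
      (F.obj.map ((EtCoh.bc f).map (φ' ≫ ψ)).op s) =
      F.obj.map ((EtCoh.bc f).map φ').op (F.obj.map ((EtCoh.bc f).map ψ).op s) := by
    rw [(EtCoh.bc f).map_id, op_id, F.obj.map_id, (EtCoh.bc f).map_comp, op_comp, F.obj.map_comp]
    rfl
  rw [h2, sectSupp_map] at h1
  exact h1

set_option backward.isDefEq.respectTransparency.types false in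
theorem isSheaf_lowerShriekPre :
    Presheaf.IsSheaf Y.smallEtaleTopology (EtShriek.lowerShriekPre f F) := by
  rw [Presheaf.isSheaf_iff_isSheaf_forget _ _ (forget AddCommGrpCat), isSheaf_iff_isSheaf_of_type]
  let G := (EtCoh.push f).obj F
  have hG : Presieve.IsSheaf Y.smallEtaleTopology (G.obj ⋙ forget AddCommGrpCat) :=
    (isSheaf_iff_isSheaf_of_type _ _).mp
      ((Presheaf.isSheaf_iff_isSheaf_forget _ _ (forget AddCommGrpCat)).mp G.property)
  intro V R hR x hx
  let y : Presieve.FamilyOfElements (G.obj ⋙ forget AddCommGrpCat) R.arrows :=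
    fun V' φ hφ => (x φ hφ).1
  have hy : y.Compatible := by
    intro V₁ V₂ W g₁ g₂ φ₁ φ₂ h₁ h₂ hcomm
    exact congrArg Subtype.val (hx g₁ g₂ h₁ h₂ hcomm)
  obtain ⟨t, ht, htu⟩ := hG R hR y hy
  let t' : EtCoh.sect F ((EtCoh.bc f).obj V) := t
  have hmem : t' ∈ EtShriek.shriekSubgroup f F V := by
    refine (mem_shriekSubgroup_iff f F V t').2 ?_
    apply shriekPred_of_local f F V R hR
    intro V' φ hφ
    refine (mem_shriekSubgroup_iff f F V' _).1 ?_
    have h1 : F.obj.map ((EtCoh.bc f).map φ).op t' = (x φ hφ).1 := ht φ hφ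
    rw [h1]
    exact (x φ hφ).2
  refine ⟨⟨t', hmem⟩, ?_, ?_⟩
  · intro V' φ hφ
    apply Subtype.ext
    exact ht φ hφ
  · intro z hz
    apply Subtype.ext
    apply htu
    intro V' φ hφ
    exact congrArg Subtype.val (hz φ hφ)

end Groth.Agent.Helper9.ShriekSheaf
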