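import Mathlib
import Groth.Prelude.Def_EtBase
import Groth.Prelude.Def_EtShriek2
import Groth.Agent.Helper9.EtShriekOpen
import Groth.Agent.Helper9.ShriekSupp
import Groth.Agent.Helper9.ShriekSheaf
import Groth.Agent.Lead.SuppProper

/-! Supports of sections of `j_* F` versus supports of sections of `F` (`j` an open immersion),
and the comparison of "proper support" with "support over the open". -/

set_option autoImplicit false
universe u

open CategoryTheory CategoryTheory.Limits Opposite AlgebraicGeometry

namespace Groth.Agent.Helper9.ShriekComp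

open Groth.Agent.Helper9.EtShriekOpen Groth.Agent.Helper9.ShriekSupp
  Groth.Agent.Helper9.ProperOverB Groth.Agent.Helper9.ShriekSheaf

variable {U X : Scheme.{u}} (j : U ⟶ X) [IsOpenImmersion j]

/-- the projection `W ×_X U ⟶ W` -/
noncomputable abbrev qW (W : X.Etale) : ((EtCoh.bc j).obj W).left ⟶ W.left :=
  (pullback.fst W.hom j : ((EtCoh.bc j).obj W).left ⟶ W.left)

set_option backward.isDefEq.respectTransparency.types false in
instance (W : X.Etale) : IsOpenImmersion (qW j W) :=
  MorphismProperty.pullback_fst (P := @IsOpenImmersion) W.hom j inferInstance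

set_option backward.isDefEq.respectTransparency.types false in
theorem range_qW (W : X.Etale) : Set.range (qW j W).base = W.hom.base ⁻¹' (Set.range j.base) :=
  Scheme.Pullback.range_fst W.hom j

set_option backward.isDefEq.respectTransparency.types false in
/-- supports of sections of `F` and of `j_* F` correspond -/
theorem sectSupp_push (F : EtCoh.Ab U) (W : X.Etale)
    (t : ((EtCoh.push j).obj F).obj.obj (op W)) :
    EtShriek.sectSupp F ((EtCoh.bc j).obj W) t =
      (qW j W).base ⁻¹' (EtShriek.sectSupp ((EtCoh.push j).obj F) W t) := by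
  ext u
  constructor
  · intro hu W' k ⟨w', hw'⟩ h0
    have sq := EtCoh.isPullback_bc_map j k
    obtain ⟨z, hz1, -⟩ := Scheme.Pullback.exists_preimage_pullback
      (f := qW j W) (g := k.left) u w' hw'.symm
    refine hu ((EtCoh.bc j).obj W') ((EtCoh.bc j).map k) ⟨sq.isoPullback.inv z, ?_⟩ h0
    rw [← hz1, ← Scheme.Hom.comp_apply, IsPullback.isoPullback_inv_fst]
  · intro hu V' k ⟨v', hv'⟩ h0
    let kf : (EtShriek.compEtale j).obj V' ⟶ W := ((siteAdj j).homEquiv V' W).symm k
    have hk : k = (siteAdj j).unit.app V' ≫ (EtCoh.bc j).map kf := by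
      have := (siteAdj j).homEquiv_unit (X := V') (Y := W) (f := kf)
      rw [← this, Equiv.apply_symm_apply]
    have hkf : kf = (EtShriek.compEtale j).map k ≫ (siteAdj j).counit.app W :=
      (siteAdj j).homEquiv_counit (X := V') (Y := W) (g := k)
    refine hu ((EtShriek.compEtale j).obj V') kf ⟨v', ?_⟩ ?_
    · rw [hkf]
      show (qW j W).base (k.left.base v') = _
      rw [hv']
    · have hinj : Function.Injective (F.obj.map ((siteAdj j).unit.app V').op) := by
        intro x y hxy
        have := congrArg (F.obj.map (inv ((siteAdj j).unit.app V')).op) hxy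
        simpa [← ConcreteCategory.comp_apply, ← F.obj.map_comp, ← op_comp] using this
      apply hinj
      show F.obj.map ((siteAdj j).unit.app V').op (F.obj.map ((EtCoh.bc j).map kf).op t) =
        F.obj.map ((siteAdj j).unit.app V').op 0
      rw [map_zero, ← ConcreteCategory.comp_apply, ← F.obj.map_comp, ← op_comp, ← hk]
      exact h0

section schemes

variable {A B S : Scheme.{u}}

/-- a closed subset of `B` inside the open `A` is proper over `S` as a subset of `A` -/
theorem isProperOver_preimage_of_subset_range (q : A ⟶ B) [IsOpenImmersion q] (g : B ⟶ S)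
    [IsProper g] (Z : Set B) (hZ : IsClosed Z) (hZq : Z ⊆ Set.range q.base) :
    ClSub.IsProperOver (q ≫ g) (q.base ⁻¹' Z) := by
  have hcl : IsClosed (q.base ⁻¹' Z) := hZ.preimage q.continuous
  refine ⟨hcl, ?_⟩
  have hr : Set.range (redι (q.base ⁻¹' Z) hcl ≫ q).base = Z := by
    rw [Scheme.Hom.comp_base, TopCat.coe_comp, Set.range_comp, range_redι,
      Set.image_preimage_eq_inter_range, Set.inter_eq_left.2 hZq]
  haveI : IsClosedImmersion (redι (q.base ⁻¹' Z) hcl ≫ q) :=
    IsClosedImmersion.of_isPreimmersion _ (by rw [hr]; exact hZ)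
  show IsProper (redι (q.base ⁻¹' Z) hcl ≫ q ≫ g)
  rw [← Category.assoc]
  infer_instance

/-- a closed subset of the open `A` which is proper over `S` is closed in `B` -/
theorem isClosed_image_of_isProperOver (q : A ⟶ B) (g : B ⟶ S) [IsSeparated g]
    (Z' : Set A) (h : ClSub.IsProperOver (q ≫ g) Z') : IsClosed (q.base '' Z') := by
  obtain ⟨hcl, hp⟩ := h
  have hp' : IsProper ((redι Z' hcl ≫ q) ≫ g) := by
    rw [Category.assoc]; exact hp
  have : IsProper (redι Z' hcl ≫ q) :=
    MorphismProperty.of_postcomp (W := @IsProper) (W' := @IsSeparated) (redι Z' hcl ≫ q) g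
      inferInstance hp'
  have hr : Set.range (redι Z' hcl ≫ q).base = q.base '' Z' := by
    rw [Scheme.Hom.comp_base, TopCat.coe_comp, Set.range_comp, range_redι]
  rw [← hr]
  exact (redι Z' hcl ≫ q).isClosedMap.isClosed_range

/-- transport of properness over the base along an isomorphism -/
theorem isProperOver_comp_iso (e : A ⟶ B) [IsIso e] (g : B ⟶ S) (Z : Set B)
    (h : ClSub.IsProperOver g Z) : ClSub.IsProperOver (e ≫ g) (e.base ⁻¹' Z) := by
  have sq : IsPullback e (e ≫ g) g (𝟙 S) := IsPullback.of_horiz_isIso ⟨by simp⟩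
  exact Groth.Agent.Lead.SuppProper.isProperOver_preimage g (𝟙 S) e (e ≫ g) sq Z h

theorem isProperOver_comp_iso_iff (e : A ⟶ B) [IsIso e] (g : B ⟶ S) (Z : Set B) :
    ClSub.IsProperOver (e ≫ g) (e.base ⁻¹' Z) ↔ ClSub.IsProperOver g Z := by
  refine ⟨fun h => ?_, isProperOver_comp_iso e g Z⟩
  have h1 := isProperOver_comp_iso (inv e) (e ≫ g) _ h
  have h2 : inv e ≫ e ≫ g = g := by simp
  have h3 : (inv e).base ⁻¹' (e.base ⁻¹' Z) = Z := by
    rw [← Set.preimage_comp, ← TopCat.coe_comp, ← Scheme.Hom.comp_base, IsIso.inv_hom_id]
    rfl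
  rw [h2, h3] at h1
  exact h1

end schemes

section propP

set_option backward.isDefEq.respectTransparency.types false in
/-- for `W` étale over `X` and proper over `S`: a section of `F` over `W ×_X U` has proper support
over `S` iff, as a section of `j_* F` over `W`, its support lies over the open `U` -/
theorem hasProperSupport_iff_push (F : EtCoh.Ab U) (W : X.Etale) {S : Scheme.{u}}
    (g : W.left ⟶ S) [IsProper g] (t : ((EtCoh.push j).obj F).obj.obj (op W)) :
    EtShriek.HasProperSupport F ((EtCoh.bc j).obj W) t (qW j W ≫ g) ↔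
      EtShriek.sectSupp ((EtCoh.push j).obj F) W t ⊆ Set.range (qW j W).base := by
  rw [hasProperSupport_iff, sectSupp_push]
  constructor
  · intro h w hw
    by_contra hcon
    have hC := isClosed_image_of_isProperOver (qW j W) g _ h
    let O : W.left.Opens := ⟨_, hC.isOpen_compl⟩
    have hwO : w ∈ O := by
      rintro ⟨u, -, rfl⟩
      exact hcon ⟨u, rfl⟩
    refine hw (restr W O) (restrι W O) ?_ ?_
    · have : w ∈ Set.range (restrι W O).left.base := by
        rw [range_restrι]; exact hwO
      exact this
    · show F.obj.map ((EtCoh.bc j).map (restrι W O)).op t = 0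
      apply eq_zero_of_sectSupp_eq_empty
      rw [sectSupp_map, sectSupp_push]
      ext u'
      simp only [Set.mem_preimage, Set.mem_empty_iff_false, iff_false]
      intro hu'
      have sq := EtCoh.isPullback_bc_map j (restrι W O)
      have hmem : (qW j W).base (((EtCoh.bc j).map (restrι W O)).left.base u') ∈
          (O : Set W.left) := by
        have e := congrArg (fun m => m.base u') sq.w
        simp only [Scheme.Hom.comp_base, TopCat.comp_app] at e
        have h2 : (restrι W O).left.base ((qW j (restr W O)).base u') ∈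
            Set.range (restrι W O).left.base := ⟨_, rfl⟩
        rw [range_restrι] at h2
        have e' : (qW j W).base (((EtCoh.bc j).map (restrι W O)).left.base u') =
            (restrι W O).left.base ((qW j (restr W O)).base u') := e
        rw [e']
        exact h2
      exact hmem ⟨_, hu', rfl⟩
  · intro h
    exact isProperOver_preimage_of_subset_range (qW j W) g _
      (EtSectSupp.isClosed_sectSupp _ W t) h

end propP

section transport

variable {Y : Scheme.{u}} (F : EtCoh.Ab Y)

/-- transport of "proper support" along an isomorphism of the small étale site -/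
theorem hasProperSupport_iso_iff {U₁ U₂ : Y.Etale} (ε : U₁ ≅ U₂) {S : Scheme.{u}}
    (g : U₂.left ⟶ S) (t : EtCoh.sect F U₂) :
    EtShriek.HasProperSupport F U₁ (F.obj.map ε.hom.op t) (ε.hom.left ≫ g) ↔
      EtShriek.HasProperSupport F U₂ t g := by
  haveI : IsIso ε.hom.left :=
    (inferInstance : IsIso ((Scheme.Etale.forget Y ⋙ Over.forget Y).map ε.hom))
  rw [hasProperSupport_iff, hasProperSupport_iff, sectSupp_map]
  exact isProperOver_comp_iso_iff ε.hom.left g _

end transport

end Groth.Agent.Helper9.ShriekComp
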