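import Mathlib
import Groth.Prelude.Def_EtBase
import Groth.Prelude.Def_EtShriek2
import Groth.Agent.Helper9.ShriekCompA
import Groth.Agent.Helper9.ShriekCompB

/-! `f_! ≅ f̄_* ∘ j_!` for `f = j ≫ f̄` with `j` an open immersion and `f̄` proper. -/

set_option autoImplicit false
universe u

open CategoryTheory CategoryTheory.Limits Opposite AlgebraicGeometry

namespace Groth.Agent.Helper9.ShriekComp

open Groth.Agent.Helper9.ShriekSupp Groth.Agent.Helper9.ShriekSheaf

variable {X Xb Y : Scheme.{u}} (j : X ⟶ Xb) [IsOpenImmersion j] [EtShriek.JCont j]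
  (fb : Xb ⟶ Y) [IsProper fb]

/-- the comparison `f̄_* j_! → f_*` -/
noncomputable def Bmap : EtShriek.extZero j ⋙ EtCoh.push fb ⟶ EtCoh.push (j ≫ fb) :=
  Functor.whiskerRight (tau j) (EtCoh.push fb) ≫ (EtCoh.pushComp fb j).hom

/-- `X ×_Y V ≅ X ×_{X̄} (X̄ ×_Y V)` in the small étale site of `X` -/
noncomputable def eps (V : Y.Etale) :
    (EtCoh.bc (j ≫ fb)).obj V ≅ (EtCoh.bc j).obj ((EtCoh.bc fb).obj V) :=
  (MorphismProperty.Over.pullbackComp (P := EtCoh.etaleMP) (Q := ⊤) j fb).app V

set_option backward.isDefEq.respectTransparency.types false in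
theorem Bmap_apply (F : EtCoh.Ab X) (V : Y.Etale)
    (s : ((EtShriek.extZero j).obj F).obj.obj (op ((EtCoh.bc fb).obj V))) :
    ((Bmap j fb).app F).hom.app (op V) s =
      F.obj.map (eps j fb V).hom.op (((tau j).app F).hom.app (op ((EtCoh.bc fb).obj V)) s) := by
  rfl

set_option backward.isDefEq.respectTransparency.types false in
theorem prV_comp (V : Y.Etale) :
    (eps j fb V).hom.left ≫ qW j ((EtCoh.bc fb).obj V) ≫ EtShriek.prV fb V =
      EtShriek.prV (j ≫ fb) V :=
  MorphismProperty.Over.pullbackComp_left_fst_fst (P := EtCoh.etaleMP) (Q := ⊤) j fb V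

set_option backward.isDefEq.respectTransparency.types false in
instance isProper_prV (V : Y.Etale) : IsProper (EtShriek.prV fb V) :=
  MorphismProperty.pullback_fst (P := @IsProper) V.hom fb inferInstance

set_option backward.isDefEq.respectTransparency.types false in
theorem hasProperSupport_iff_mem_range (F : EtCoh.Ab X) (V : Y.Etale)
    (t : F.obj.obj (op ((EtCoh.bc j).obj ((EtCoh.bc fb).obj V)))) :
    EtShriek.HasProperSupport F ((EtCoh.bc (j ≫ fb)).obj V) (F.obj.map (eps j fb V).hom.op t)
      (EtShriek.prV (j ≫ fb) V) ↔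
    t ∈ Set.range (((tau j).app F).hom.app (op ((EtCoh.bc fb).obj V))) := by
  rw [← prV_comp, hasProperSupport_iso_iff,
    hasProperSupport_iff_push j F ((EtCoh.bc fb).obj V) (EtShriek.prV fb V) t, range_qW]
  constructor
  · exact mem_range_tau_of_sectSupp_subset j F _ t
  · rintro ⟨s, rfl⟩
    exact sectSupp_tau_subset j F _ s

set_option backward.isDefEq.respectTransparency.types false in
theorem shriekPred_Bmap (F : EtCoh.Ab X) (V : Y.Etale)
    (s : ((EtShriek.extZero j).obj F).obj.obj (op ((EtCoh.bc fb).obj V))) :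
    EtShriek.ShriekPred (j ≫ fb) F V (((Bmap j fb).app F).hom.app (op V) s) := by
  intro V' φ
  have hn := NatTrans.naturality_apply ((Bmap j fb).app F).hom φ.op s
  have hn' : F.obj.map ((EtCoh.bc (j ≫ fb)).map φ).op (((Bmap j fb).app F).hom.app (op V) s) =
      ((Bmap j fb).app F).hom.app (op V')
        (((EtShriek.extZero j).obj F).obj.map ((EtCoh.bc fb).map φ).op s) := hn.symm
  rw [hn', Bmap_apply, hasProperSupport_iff_mem_range]
  exact ⟨_, rfl⟩

set_option backward.isDefEq.respectTransparency.types false in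
theorem exists_of_shriekPred (F : EtCoh.Ab X) (V : Y.Etale)
    (y : F.obj.obj (op ((EtCoh.bc (j ≫ fb)).obj V)))
    (hy : EtShriek.ShriekPred (j ≫ fb) F V y) :
    ∃ s, ((Bmap j fb).app F).hom.app (op V) s = y := by
  have h1 := hy V (𝟙 V)
  have h2 : F.obj.map ((EtCoh.bc (j ≫ fb)).map (𝟙 V)).op y =
      F.obj.map (eps j fb V).hom.op (F.obj.map (eps j fb V).inv.op y) := by
    rw [(EtCoh.bc (j ≫ fb)).map_id, op_id, F.obj.map_id, ← ConcreteCategory.comp_apply,
      ← F.obj.map_comp, ← op_comp, (eps j fb V).hom_inv_id, op_id, F.obj.map_id]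
  rw [h2, hasProperSupport_iff_mem_range] at h1
  obtain ⟨s, hs⟩ := h1
  refine ⟨s, ?_⟩
  rw [Bmap_apply, hs, ← ConcreteCategory.comp_apply, ← F.obj.map_comp, ← op_comp,
    (eps j fb V).hom_inv_id, op_id, F.obj.map_id]
  rfl

set_option backward.isDefEq.respectTransparency.types false in
theorem injective_Bmap (F : EtCoh.Ab X) (V : Y.Etale) :
    Function.Injective (((Bmap j fb).app F).hom.app (op V)) := by
  intro s s' h
  rw [Bmap_apply, Bmap_apply] at h
  have hinj : Function.Injective (F.obj.map (eps j fb V).hom.op) := by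
    intro x y hxy
    have := congrArg (F.obj.map (eps j fb V).inv.op) hxy
    simpa [← ConcreteCategory.comp_apply, ← F.obj.map_comp, ← op_comp] using this
  exact injective_tau j F _ (hinj h)

/-- the comparison of presheaves `(f̄_* j_! F) → (sections of f_* F with proper support)` -/
noncomputable def Amap (F : EtCoh.Ab X) :
    ((EtShriek.extZero j ⋙ EtCoh.push fb).obj F).obj ⟶ EtShriek.lowerShriekPre (j ≫ fb) F where
  app V := AddCommGrpCat.ofHom
    ((((Bmap j fb).app F).hom.app V).hom.codRestrict
      (EtShriek.shriekSubgroup (j ≫ fb) F V.unop)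
      (fun s => (mem_shriekSubgroup_iff (j ≫ fb) F V.unop _).2 (shriekPred_Bmap j fb F V.unop s)))
  naturality := by
    intro V V' φ
    ext s
    apply Subtype.ext
    exact NatTrans.naturality_apply ((Bmap j fb).app F).hom φ s

instance isIso_Amap (F : EtCoh.Ab X) : IsIso (Amap j fb F) := by
  haveI : ∀ V, IsIso ((Amap j fb F).app V) := by
    rintro ⟨V⟩
    rw [ConcreteCategory.isIso_iff_bijective]
    constructor
    · intro s s' h
      apply injective_Bmap j fb F V
      have := congrArg Subtype.val h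
      exact this
    · rintro ⟨y, hy⟩
      obtain ⟨s, hs⟩ := exists_of_shriekPred j fb F V y
        ((mem_shriekSubgroup_iff (j ≫ fb) F V y).1 hy)
      exact ⟨s, Subtype.ext hs⟩
  exact NatIso.isIso_of_isIso_app _

/-- the comparison as a natural transformation of functors to presheaves -/
noncomputable def AmapNat :
    (EtShriek.extZero j ⋙ EtCoh.push fb) ⋙ sheafToPresheaf Y.smallEtaleTopology AddCommGrpCat.{u + 1} ⟶
      EtShriek.lowerShriekPreFunctor (j ≫ fb) where
  app F := Amap j fb F
  naturality := by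
    intro F F' α
    ext V s
    apply Subtype.ext
    have := congrArg (fun φ => φ.hom.app V s) ((Bmap j fb).naturality α)
    exact this

instance isIso_AmapNat : IsIso (AmapNat j fb) := by
  haveI : ∀ F, IsIso ((AmapNat j fb).app F) := fun F => isIso_Amap j fb F
  exact NatIso.isIso_of_isIso_app _

/-- `f_! ≅ f̄_* j_!` -/
noncomputable def lowerShriekIso :
    EtShriek.lowerShriek (j ≫ fb) ≅ EtShriek.extZero j ⋙ EtCoh.push fb :=
  Functor.isoWhiskerRight (asIso (AmapNat j fb)).symm
      (presheafToSheaf Y.smallEtaleTopology AddCommGrpCat.{u + 1}) ≪≫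
    Functor.associator _ _ _ ≪≫
    Functor.isoWhiskerLeft (EtShriek.extZero j ⋙ EtCoh.push fb)
      (sheafificationNatIso Y.smallEtaleTopology AddCommGrpCat.{u + 1}).symm ≪≫
    Functor.rightUnitor _

end Groth.Agent.Helper9.ShriekComp
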