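import Mathlib
import Groth.Prelude.Def_EtBase
import Groth.Prelude.Def_EtCore
import Groth.Prelude.Def_EtShriek2
import Groth.Agent.Helper9.ShriekCompA
import Groth.Agent.Helper9.ShriekCompB

/-! `H^0_c(X, F) ≅ Γ(X̄, j_! F)` for an open immersion `j : X → X̄` into a proper `k`-scheme. -/

set_option autoImplicit false
universe u

open CategoryTheory CategoryTheory.Limits Opposite AlgebraicGeometry

namespace Groth.Agent.Helper9.ShriekComp

open Groth.Agent.Helper9.ShriekSupp Groth.Agent.Helper9.ShriekSheaf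

variable {X Xb S : Scheme.{u}} (j : X ⟶ Xb) [IsOpenImmersion j] [EtShriek.JCont j]
  (pb : Xb ⟶ S)

/-- `X ≅ X ×_{X̄} X̄` in the small étale site of `X` -/
noncomputable def iotaTop : EtCoh.top X ≅ (EtCoh.bc j).obj (EtCoh.top Xb) :=
  (EtCore.bcTopIso j).symm

set_option backward.isDefEq.respectTransparency.types false in
theorem iotaTop_left_qW : (iotaTop j).hom.left ≫ qW j (EtCoh.top Xb) = j := by
  have h1 : (iotaTop j).hom.left ≫ pullback.snd (𝟙 Xb) j = 𝟙 X :=
    MorphismProperty.Over.w (iotaTop j).hom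
  have h2 : pullback.fst (𝟙 Xb) j ≫ 𝟙 Xb = pullback.snd (𝟙 Xb) j ≫ j := pullback.condition
  rw [Category.comp_id] at h2
  show (iotaTop j).hom.left ≫ pullback.fst (𝟙 Xb) j = j
  rw [h2]
  exact (Category.assoc _ _ _).symm.trans ((congrArg (· ≫ j) h1).trans (Category.id_comp j))

/-- the comparison map `Γ(X̄, j_! F) → Γ(X, F)` -/
noncomputable def cmap (F : EtCoh.Ab X) :
    ((EtShriek.extZero j).obj F).obj.obj (op (EtCoh.top Xb)) →+ F.obj.obj (op (EtCoh.top X)) :=
  (F.obj.map (iotaTop j).hom.op).hom.comp (((tau j).app F).hom.app (op (EtCoh.top Xb))).hom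

theorem injective_cmap (F : EtCoh.Ab X) : Function.Injective (cmap j F) := by
  intro s s' h
  have hinj : Function.Injective (F.obj.map (iotaTop j).hom.op) := by
    intro x y hxy
    have := congrArg (F.obj.map (iotaTop j).inv.op) hxy
    simpa [← ConcreteCategory.comp_apply, ← F.obj.map_comp, ← op_comp] using this
  exact injective_tau j F _ (hinj h)

set_option backward.isDefEq.respectTransparency.types false in
theorem hasProperSupport_iff_mem_range_cmap (hprop0 : IsProper pb) (F : EtCoh.Ab X)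
    (s : F.obj.obj (op (EtCoh.top X))) :
    EtShriek.HasProperSupport F (EtCoh.top X) s (j ≫ pb) ↔ s ∈ Set.range (cmap j F) := by
  let t : F.obj.obj (op ((EtCoh.bc j).obj (EtCoh.top Xb))) := F.obj.map (iotaTop j).inv.op s
  have hs : s = F.obj.map (iotaTop j).hom.op t := by
    show s = F.obj.map (iotaTop j).hom.op (F.obj.map (iotaTop j).inv.op s)
    rw [← ConcreteCategory.comp_apply, ← F.obj.map_comp, ← op_comp, (iotaTop j).hom_inv_id, op_id,
      F.obj.map_id]
    rfl
  have hpb : (j ≫ pb : (EtCoh.top X).left ⟶ S) =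
      (iotaTop j).hom.left ≫ (qW j (EtCoh.top Xb) ≫ (pb : (EtCoh.top Xb).left ⟶ S)) := by
    exact (congrArg (· ≫ pb) (iotaTop_left_qW j)).symm.trans (Category.assoc _ _ _)
  have hprop : IsProper (pb : (EtCoh.top Xb).left ⟶ S) := hprop0
  have key : EtShriek.HasProperSupport F (EtCoh.top X) s (j ≫ pb) ↔
      t ∈ Set.range (((tau j).app F).hom.app (op (EtCoh.top Xb))) := by
    rw [hs, hpb, hasProperSupport_iso_iff,
      @hasProperSupport_iff_push X Xb j _ F (EtCoh.top Xb) S pb hprop0 t, range_qW]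
    constructor
    · exact mem_range_tau_of_sectSupp_subset j F _ t
    · rintro ⟨s', hs'⟩
      rw [← hs']
      exact sectSupp_tau_subset j F _ s'
  rw [key]
  constructor
  · rintro ⟨s', hs'⟩
    refine ⟨s', ?_⟩
    show F.obj.map (iotaTop j).hom.op (((tau j).app F).hom.app (op (EtCoh.top Xb)) s') = s
    rw [hs', ← hs]
  · rintro ⟨s', hs'⟩
    refine ⟨s', ?_⟩
    have h1 : F.obj.map (iotaTop j).hom.op (((tau j).app F).hom.app (op (EtCoh.top Xb)) s') = s :=
      hs'
    show ((tau j).app F).hom.app (op (EtCoh.top Xb)) s' = F.obj.map (iotaTop j).inv.op s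
    rw [← h1, ← ConcreteCategory.comp_apply, ← F.obj.map_comp, ← op_comp, (iotaTop j).inv_hom_id,
      op_id, F.obj.map_id]
    rfl

set_option backward.isDefEq.respectTransparency.types false in
theorem H0c_eq_range {k : Type u} [Field k] (pk : Xb ⟶ Spec (CommRingCat.of k))
    (hprop0 : IsProper pk) (F : EtCoh.Ab X) :
    EtShriek.H0c (j ≫ pk) F = (cmap j F).range := by
  unfold EtShriek.H0c
  have h : {s | EtShriek.HasProperSupport F (EtCoh.top X) s (j ≫ pk)} =
      ((cmap j F).range : Set _) := by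
    ext s
    exact hasProperSupport_iff_mem_range_cmap j pk hprop0 F s
  exact (congrArg AddSubgroup.closure h).trans (AddSubgroup.closure_eq _)

/-- `H^0_c(X, F) ≃ Γ(X̄, j_! F)` -/
noncomputable def h0cEquiv {k : Type u} [Field k] (pk : Xb ⟶ Spec (CommRingCat.of k))
    (hprop0 : IsProper pk) (F : EtCoh.Ab X) :
    EtShriek.H0c (j ≫ pk) F ≃+ EtCoh.sect ((EtShriek.extZero j).obj F) (EtCoh.top Xb) :=
  (AddEquiv.addSubgroupCongr (H0c_eq_range j pk hprop0 F)).trans
    (AddMonoidHom.ofInjective (injective_cmap j F)).symm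

end Groth.Agent.Helper9.ShriekComp
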