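import Mathlib
import Groth.Prelude.Def_EtBase
import Groth.Prelude.Def_EtShriek2
import Groth.Agent.Lead.SuppProper
import Groth.Agent.Helper9.ProperOverC
import Groth.Agent.Helper9.ShriekSupp
import Groth.Agent.Helper9.ShriekSheaf

/-! The sheaf `f_! F` of sections with proper support, without sheafification; supports of its
sections. -/

set_option autoImplicit false
universe u

open CategoryTheory CategoryTheory.Limits Opposite AlgebraicGeometry

namespace Groth.Agent.Helper9.ShriekComp

open Groth.Agent.Helper9.ShriekSupp Groth.Agent.Helper9.ShriekSheaf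
  Groth.Agent.Helper9.ProperOverB Groth.Agent.Helper9.ProperOverC

variable {X Y : Scheme.{u}} (f : X ⟶ Y) [LocallyOfFiniteType f]

set_option backward.isDefEq.respectTransparency.types false in
/-- proper support over `V` is inherited by all restrictions -/
theorem shriekPred_of_hasProperSupport (F : EtCoh.Ab X) (V : Y.Etale)
    (s : EtCoh.sect F ((EtCoh.bc f).obj V))
    (h : EtShriek.HasProperSupport F ((EtCoh.bc f).obj V) s (EtShriek.prV f V)) :
    EtShriek.ShriekPred f F V s := by
  intro V' φ
  rw [hasProperSupport_iff] at h ⊢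
  rw [sectSupp_map]
  exact Groth.Agent.Lead.SuppProper.isProperOver_preimage (EtShriek.prV f V) φ.left
    ((EtCoh.bc f).map φ).left (EtShriek.prV f V') (EtCoh.isPullback_bc_map f φ) _ h

theorem shriekPred_iff_hasProperSupport (F : EtCoh.Ab X) (V : Y.Etale)
    (s : EtCoh.sect F ((EtCoh.bc f).obj V)) :
    EtShriek.ShriekPred f F V s ↔
      EtShriek.HasProperSupport F ((EtCoh.bc f).obj V) s (EtShriek.prV f V) := by
  constructor
  · intro h
    have h1 := h V (𝟙 V)
    rwa [(EtCoh.bc f).map_id, op_id, F.obj.map_id] at h1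
  · exact shriekPred_of_hasProperSupport f F V s

/-- `f_!` without sheafification -/
noncomputable def Sh : EtCoh.Ab X ⥤ EtCoh.Ab Y :=
  ObjectProperty.lift _ (EtShriek.lowerShriekPreFunctor f) (fun F => isSheaf_lowerShriekPre f F)

/-- `f_! ⟶ f_*` -/
noncomputable def Shι : Sh f ⟶ EtCoh.push f where
  app F := ObjectProperty.homMk (EtShriek.lowerShriekPreι f F)
  naturality := by
    intro F G α
    apply Sheaf.hom_ext
    ext V s
    rfl

/-- `f_!` is the un-sheafified version -/
noncomputable def ShIso : EtShriek.lowerShriek f ≅ Sh f :=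
  Functor.isoWhiskerRight (show EtShriek.lowerShriekPreFunctor f ≅
      Sh f ⋙ sheafToPresheaf Y.smallEtaleTopology AddCommGrpCat.{u + 1} from Iso.refl _)
      (presheafToSheaf Y.smallEtaleTopology AddCommGrpCat.{u + 1}) ≪≫
    Functor.associator _ _ _ ≪≫
    Functor.isoWhiskerLeft (Sh f)
      (sheafificationNatIso Y.smallEtaleTopology AddCommGrpCat.{u + 1}).symm ≪≫
    Functor.rightUnitor _

theorem exists_point_of_isPullback {P A B C : Scheme.{u}} {a : P ⟶ A} {b : P ⟶ B} {c : A ⟶ C}
    {d : B ⟶ C} (sq : IsPullback a b c d) (x : A) (y : B) (h : c.base x = d.base y) :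
    ∃ z : P, a.base z = x ∧ b.base z = y := by
  obtain ⟨z, hz1, hz2⟩ := Scheme.Pullback.exists_preimage_pullback (f := c) (g := d) x y h
  refine ⟨sq.isoPullback.inv.base z, ?_, ?_⟩
  · rw [← Scheme.Hom.comp_apply, sq.isoPullback_inv_fst]; exact hz1
  · rw [← Scheme.Hom.comp_apply, sq.isoPullback_inv_snd]; exact hz2

variable (F : EtCoh.Ab X)

/-- the section of `F` over `X ×_Y V` underlying a section of `f_! F` over `V` -/
noncomputable def under (V : Y.Etale) (t : EtCoh.sect ((Sh f).obj F) V) :
    EtCoh.sect F ((EtCoh.bc f).obj V) :=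
  (show EtShriek.shriekSubgroup f F V from t).1

theorem under_mem (V : Y.Etale) (t : EtCoh.sect ((Sh f).obj F) V) :
    under f F V t ∈ EtShriek.shriekSubgroup f F V :=
  (show EtShriek.shriekSubgroup f F V from t).2

theorem under_injective (V : Y.Etale) : Function.Injective (under f F V) := by
  intro t t' h
  exact Subtype.ext h

theorem under_map {V V' : Y.Etale} (φ : V' ⟶ V) (t : EtCoh.sect ((Sh f).obj F) V) :
    under f F V' (((Sh f).obj F).obj.map φ.op t) =
      F.obj.map ((EtCoh.bc f).map φ).op (under f F V t) := rfl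

theorem under_zero (V : Y.Etale) : under f F V 0 = 0 := rfl

set_option backward.isDefEq.respectTransparency.types false in
/-- the support of a section of `f_! F` contains the image of the support of the underlying
section of `F` -/
theorem image_sectSupp_subset (V : Y.Etale) (t : EtCoh.sect ((Sh f).obj F) V) :
    (EtShriek.prV f V).base '' EtShriek.sectSupp F ((EtCoh.bc f).obj V) (under f F V t) ⊆
      EtShriek.sectSupp ((Sh f).obj F) V t := by
  rintro _ ⟨x, hx, rfl⟩ W g ⟨w, hw⟩ h0
  obtain ⟨z, hz, -⟩ := exists_point_of_isPullback (EtCoh.isPullback_bc_map f g) x w hw.symm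
  refine hx ((EtCoh.bc f).obj W) ((EtCoh.bc f).map g) ⟨z, hz⟩ ?_
  rw [← under_map, h0, under_zero]

set_option backward.isDefEq.respectTransparency.types false in
/-- the support of a section of `f_! F` is contained in any closed set containing the image of the
support of the underlying section of `F` -/
theorem sectSupp_subset_of_isClosed (V : Y.Etale) (t : EtCoh.sect ((Sh f).obj F) V)
    (Z : Set V.left) (hZ : IsClosed Z)
    (h : (EtShriek.prV f V).base '' EtShriek.sectSupp F ((EtCoh.bc f).obj V) (under f F V t) ⊆ Z) :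
    EtShriek.sectSupp ((Sh f).obj F) V t ⊆ Z := by
  intro y hy
  by_contra hyZ
  let O : V.left.Opens := ⟨Zᶜ, hZ.isOpen_compl⟩
  refine hy (restr V O) (restrι V O) ?_ ?_
  · have : y ∈ Set.range (restrι V O).left.base := by
      rw [range_restrι]; exact hyZ
    exact this
  · apply under_injective f F
    rw [under_map, under_zero]
    apply eq_zero_of_sectSupp_eq_empty
    rw [sectSupp_map]
    ext z
    simp only [Set.mem_preimage, Set.mem_empty_iff_false, iff_false]
    intro hz
    have h1 : (EtShriek.prV f V).base (((EtCoh.bc f).map (restrι V O)).left.base z) ∈ Z :=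
      h ⟨_, hz, rfl⟩
    have h2 : ((EtCoh.bc f).map (restrι V O)).left ≫ EtShriek.prV f V =
        EtShriek.prV f (restr V O) ≫ (restrι V O).left :=
      (EtCoh.isPullback_bc_map f (restrι V O)).w
    rw [← Scheme.Hom.comp_apply, h2, Scheme.Hom.comp_apply] at h1
    have h3 : (restrι V O).left.base ((EtShriek.prV f (restr V O)).base z) ∈
        Set.range (restrι V O).left.base := ⟨_, rfl⟩
    rw [range_restrι] at h3
    exact h3 h1

set_option backward.isDefEq.respectTransparency.types false in
theorem hasProperSupport_comp_iff (V : Y.Etale) (t : EtCoh.sect ((Sh f).obj F) V)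
    {S : Scheme.{u}} (q : V.left ⟶ S) [IsSeparated q] [LocallyOfFiniteType q] :
    EtShriek.HasProperSupport F ((EtCoh.bc f).obj V) (under f F V t) (EtShriek.prV f V ≫ q) ↔
      EtShriek.HasProperSupport F ((EtCoh.bc f).obj V) (under f F V t) (EtShriek.prV f V) ∧
      EtShriek.HasProperSupport ((Sh f).obj F) V t q := by
  rw [hasProperSupport_iff, hasProperSupport_iff, hasProperSupport_iff]
  constructor
  · intro h
    have h1 := isProperOver_of_comp (EtShriek.prV f V) q _ h
    have h2 := isProperOver_image_of_comp (EtShriek.prV f V) q _ h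
    refine ⟨h1, ?_⟩
    refine isProperOver_of_closed_subset q (EtSectSupp.isClosed_sectSupp _ V t) ?_ h2
    exact sectSupp_subset_of_isClosed f F V t _ h2.1 subset_rfl
  · rintro ⟨h1, h2⟩
    refine isProperOver_comp (EtShriek.prV f V) q _ h1 ?_
    exact isProperOver_of_closed_subset q (isClosed_image (EtShriek.prV f V) _ h1)
      (image_sectSupp_subset f F V t) h2

end Groth.Agent.Helper9.ShriekComp
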