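import Mathlib
import Groth.Prelude.Def_EtBase
import Groth.Prelude.Def_EtShriek2
import Groth.Agent.Helper9.ShriekCompB
import Groth.Agent.Helper9.ShriekCompE

/-! `(f ≫ g)_! ≅ f_! ⋙ g_!`. -/

set_option autoImplicit false
universe u

open CategoryTheory CategoryTheory.Limits Opposite AlgebraicGeometry

namespace Groth.Agent.Helper9.ShriekComp

open Groth.Agent.Helper9.ShriekSupp Groth.Agent.Helper9.ShriekSheaf
  Groth.Agent.Helper9.ProperOverB Groth.Agent.Helper9.ProperOverC

variable {X Y Z : Scheme.{u}} (f : X ⟶ Y) (g : Y ⟶ Z) [LocallyOfFiniteType f]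
  [LocallyOfFiniteType g] [IsSeparated g]

/-- `X ×_Z W ≅ X ×_Y (Y ×_Z W)` in the small étale site of `X` -/
noncomputable def epsC (W : Z.Etale) :
    (EtCoh.bc (f ≫ g)).obj W ≅ (EtCoh.bc f).obj ((EtCoh.bc g).obj W) :=
  (MorphismProperty.Over.pullbackComp (P := EtCoh.etaleMP) (Q := ⊤) f g).app W

set_option backward.isDefEq.respectTransparency.types false in
theorem prV_compC (W : Z.Etale) :
    (epsC f g W).hom.left ≫ EtShriek.prV f ((EtCoh.bc g).obj W) ≫ EtShriek.prV g W =
      EtShriek.prV (f ≫ g) W :=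
  MorphismProperty.Over.pullbackComp_left_fst_fst (P := EtCoh.etaleMP) (Q := ⊤) f g W

/-- the comparison `g_! f_! → (f ≫ g)_*` -/
noncomputable def BmapC : Sh f ⋙ Sh g ⟶ EtCoh.push (f ≫ g) :=
  Functor.whiskerLeft (Sh f) (Shι g) ≫ Functor.whiskerRight (Shι f) (EtCoh.push g) ≫
    (EtCoh.pushComp g f).hom

set_option backward.isDefEq.respectTransparency.types false in
theorem BmapC_apply (F : EtCoh.Ab X) (W : Z.Etale)
    (t : EtCoh.sect ((Sh g).obj ((Sh f).obj F)) W) :
    ((BmapC f g).app F).hom.app (op W) t =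
      F.obj.map (epsC f g W).hom.op
        (under f F ((EtCoh.bc g).obj W) (under g ((Sh f).obj F) W t)) := by
  rfl

set_option backward.isDefEq.respectTransparency.types false in
instance isSeparated_prV (W : Z.Etale) : IsSeparated (EtShriek.prV g W) :=
  MorphismProperty.pullback_fst (P := @IsSeparated) W.hom g inferInstance

set_option backward.isDefEq.respectTransparency.types false in
theorem shriekPred_BmapC (F : EtCoh.Ab X) (W : Z.Etale)
    (t : EtCoh.sect ((Sh g).obj ((Sh f).obj F)) W) :
    EtShriek.ShriekPred (f ≫ g) F W (((BmapC f g).app F).hom.app (op W) t) := by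
  apply shriekPred_of_hasProperSupport
  rw [BmapC_apply, ← prV_compC, hasProperSupport_iso_iff, hasProperSupport_comp_iff]
  constructor
  · exact (shriekPred_iff_hasProperSupport f F _ _).1
      ((mem_shriekSubgroup_iff f F _ _).1 (under_mem f F _ _))
  · exact (shriekPred_iff_hasProperSupport g ((Sh f).obj F) W _).1
      ((mem_shriekSubgroup_iff g ((Sh f).obj F) W _).1 (under_mem g ((Sh f).obj F) W t))

set_option backward.isDefEq.respectTransparency.types false in
theorem exists_of_shriekPredC (F : EtCoh.Ab X) (W : Z.Etale)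
    (y : F.obj.obj (op ((EtCoh.bc (f ≫ g)).obj W)))
    (hy : EtShriek.ShriekPred (f ≫ g) F W y) :
    ∃ t, ((BmapC f g).app F).hom.app (op W) t = y := by
  have h1 := (shriekPred_iff_hasProperSupport (f ≫ g) F W y).1 hy
  let s : F.obj.obj (op ((EtCoh.bc f).obj ((EtCoh.bc g).obj W))) :=
    F.obj.map (epsC f g W).inv.op y
  have hys : y = F.obj.map (epsC f g W).hom.op s := by
    show y = F.obj.map (epsC f g W).hom.op (F.obj.map (epsC f g W).inv.op y)
    rw [← ConcreteCategory.comp_apply, ← F.obj.map_comp, ← op_comp, (epsC f g W).hom_inv_id, op_id,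
      F.obj.map_id]
    rfl
  rw [hys, ← prV_compC, hasProperSupport_iso_iff] at h1
  -- first produce the section of `f_! F`
  have hs0 : EtShriek.HasProperSupport F ((EtCoh.bc f).obj ((EtCoh.bc g).obj W)) s
      (EtShriek.prV f ((EtCoh.bc g).obj W)) := by
    rw [hasProperSupport_iff] at h1 ⊢
    exact isProperOver_of_comp _ (EtShriek.prV g W) _ h1
  have hs1 : s ∈ EtShriek.shriekSubgroup f F ((EtCoh.bc g).obj W) :=
    (mem_shriekSubgroup_iff f F _ s).2 (shriekPred_of_hasProperSupport f F _ s hs0)
  let t0 : EtCoh.sect ((Sh f).obj F) ((EtCoh.bc g).obj W) :=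
    (show EtShriek.shriekSubgroup f F ((EtCoh.bc g).obj W) from ⟨s, hs1⟩)
  have ht0 : under f F _ t0 = s := rfl
  have h2 := (hasProperSupport_comp_iff f F ((EtCoh.bc g).obj W) t0 (EtShriek.prV g W)).1
    (by rw [ht0]; exact h1)
  have ht1 : t0 ∈ EtShriek.shriekSubgroup g ((Sh f).obj F) W :=
    (mem_shriekSubgroup_iff g ((Sh f).obj F) W t0).2
      (shriekPred_of_hasProperSupport g ((Sh f).obj F) W t0 h2.2)
  let t : EtCoh.sect ((Sh g).obj ((Sh f).obj F)) W :=
    (show EtShriek.shriekSubgroup g ((Sh f).obj F) W from ⟨t0, ht1⟩)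
  refine ⟨t, ?_⟩
  rw [BmapC_apply, hys]
  rfl

set_option backward.isDefEq.respectTransparency.types false in
theorem injective_BmapC (F : EtCoh.Ab X) (W : Z.Etale) :
    Function.Injective (((BmapC f g).app F).hom.app (op W)) := by
  intro t t' h
  rw [BmapC_apply, BmapC_apply] at h
  have hinj : Function.Injective (F.obj.map (epsC f g W).hom.op) := by
    intro x y hxy
    have := congrArg (F.obj.map (epsC f g W).inv.op) hxy
    simpa [← ConcreteCategory.comp_apply, ← F.obj.map_comp, ← op_comp] using this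
  exact under_injective g _ W (under_injective f F _ (hinj h))

/-- the comparison of presheaves `(g_! f_! F) → (sections of (f ≫ g)_* F with proper support)` -/
noncomputable def AmapC (F : EtCoh.Ab X) :
    ((Sh f ⋙ Sh g).obj F).obj ⟶ EtShriek.lowerShriekPre (f ≫ g) F where
  app W := AddCommGrpCat.ofHom
    ((((BmapC f g).app F).hom.app W).hom.codRestrict
      (EtShriek.shriekSubgroup (f ≫ g) F W.unop)
      (fun t => (mem_shriekSubgroup_iff (f ≫ g) F W.unop _).2 (shriekPred_BmapC f g F W.unop t)))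
  naturality := by
    intro W W' φ
    ext t
    apply Subtype.ext
    exact NatTrans.naturality_apply ((BmapC f g).app F).hom φ t

instance isIso_AmapC (F : EtCoh.Ab X) : IsIso (AmapC f g F) := by
  haveI : ∀ W, IsIso ((AmapC f g F).app W) := by
    rintro ⟨W⟩
    rw [ConcreteCategory.isIso_iff_bijective]
    constructor
    · intro t t' h
      apply injective_BmapC f g F W
      have := congrArg Subtype.val h
      exact this
    · rintro ⟨y, hy⟩
      obtain ⟨t, ht⟩ := exists_of_shriekPredC f g F W y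
        ((mem_shriekSubgroup_iff (f ≫ g) F W y).1 hy)
      exact ⟨t, Subtype.ext ht⟩
  exact NatIso.isIso_of_isIso_app _

/-- the comparison as a natural transformation of functors to presheaves -/
noncomputable def AmapCNat :
    (Sh f ⋙ Sh g) ⋙ sheafToPresheaf Z.smallEtaleTopology AddCommGrpCat.{u + 1} ⟶
      EtShriek.lowerShriekPreFunctor (f ≫ g) where
  app F := AmapC f g F
  naturality := by
    intro F F' α
    ext W t
    apply Subtype.ext
    have := congrArg (fun φ => φ.hom.app W t) ((BmapC f g).naturality α)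
    exact this

instance isIso_AmapCNat : IsIso (AmapCNat f g) := by
  haveI : ∀ F, IsIso ((AmapCNat f g).app F) := fun F => isIso_AmapC f g F
  exact NatIso.isIso_of_isIso_app _

/-- `(f ≫ g)_! ≅ g_! f_!` in un-sheafified form -/
noncomputable def ShCompIso : EtShriek.lowerShriek (f ≫ g) ≅ Sh f ⋙ Sh g :=
  Functor.isoWhiskerRight (asIso (AmapCNat f g)).symm
      (presheafToSheaf Z.smallEtaleTopology AddCommGrpCat.{u + 1}) ≪≫
    Functor.associator _ _ _ ≪≫
    Functor.isoWhiskerLeft (Sh f ⋙ Sh g)
      (sheafificationNatIso Z.smallEtaleTopology AddCommGrpCat.{u + 1}).symm ≪≫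
    Functor.rightUnitor _

/-- `(f ≫ g)_! ≅ f_! ⋙ g_!` -/
noncomputable def lowerShriekCompIso :
    EtShriek.lowerShriek (f ≫ g) ≅ EtShriek.lowerShriek f ⋙ EtShriek.lowerShriek g :=
  ShCompIso f g ≪≫ Functor.isoWhiskerRight (ShIso f).symm (Sh g) ≪≫
    Functor.isoWhiskerLeft (EtShriek.lowerShriek f) (ShIso g).symm

end Groth.Agent.Helper9.ShriekComp
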