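import Mathlib
import Groth.Prelude.Def_EtBase
import Groth.Prelude.Def_EtShriek2
import Groth.Agent.Helper9.ShriekCompA
import Groth.Agent.Helper9.ShriekCompF

/-! Compatibility of `(f ≫ g)_! ≅ f_! ⋙ g_!` with the inclusions into direct images, and uniqueness. -/

set_option autoImplicit false
universe u

open CategoryTheory CategoryTheory.Limits Opposite AlgebraicGeometry

namespace Groth.Agent.Helper9.ShriekComp

open Groth.Agent.Helper9.ShriekSupp Groth.Agent.Helper9.ShriekSheaf

section one

variable {X Y : Scheme.{u}} (f : X ⟶ Y) [LocallyOfFiniteType f]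

theorem ShIso_hom_app (F : EtCoh.Ab X) :
    (ShIso f).hom.app F = (sheafificationIso ((Sh f).obj F)).inv := by
  simp only [ShIso, Iso.trans_hom, Functor.isoWhiskerRight_hom, Functor.isoWhiskerLeft_hom,
    Iso.symm_hom, NatTrans.comp_app, Functor.whiskerRight_app, Functor.associator_hom_app,
    Functor.whiskerLeft_app, Functor.rightUnitor_hom_app, Category.id_comp]
  erw [(presheafToSheaf Y.smallEtaleTopology AddCommGrpCat.{u + 1}).map_id, Category.id_comp]
  rfl

theorem toSheafify_ShIso_hom (F : EtCoh.Ab X) :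
    toSheafify Y.smallEtaleTopology (EtShriek.lowerShriekPre f F) ≫ ((ShIso f).hom.app F).hom =
      𝟙 _ := by
  rw [ShIso_hom_app]
  exact (isoSheafify Y.smallEtaleTopology ((Sh f).obj F).property).hom_inv_id

theorem toPush_eq (F : EtCoh.Ab X) :
    EtShriek.lowerShriekToPush f F = (ShIso f).hom.app F ≫ (Shι f).app F := by
  apply Sheaf.hom_ext
  apply sheafify_hom_ext _ _ _ ((EtCoh.push f).obj F).property
  have h1 : toSheafify Y.smallEtaleTopology (EtShriek.lowerShriekPre f F) ≫
      (EtShriek.lowerShriekToPush f F).hom = EtShriek.lowerShriekPreι f F :=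
    toSheafify_sheafifyLift _ _ _
  have h2 : toSheafify Y.smallEtaleTopology (EtShriek.lowerShriekPre f F) ≫
      ((ShIso f).hom.app F ≫ (Shι f).app F).hom = EtShriek.lowerShriekPreι f F := by
    show toSheafify _ _ ≫ ((ShIso f).hom.app F).hom ≫ ((Shι f).app F).hom = _
    refine (Category.assoc _ _ _).symm.trans ?_
    refine (congrArg (· ≫ ((Shι f).app F).hom) (toSheafify_ShIso_hom f F)).trans ?_
    exact Category.id_comp _
  exact h1.trans h2.symm

end one

section mono

variable {X Y : Scheme.{u}}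

theorem mono_of_injective {F G : EtCoh.Ab X} (a : F ⟶ G)
    (h : ∀ W : X.Etale, Function.Injective (a.hom.app (op W))) : Mono a := by
  haveI : Mono ((sheafToPresheaf _ _).map a) := by
    haveI : ∀ W, Mono (((sheafToPresheaf _ _).map a).app W) := by
      rintro ⟨W⟩
      exact (AddCommGrpCat.mono_iff_injective _).2 (h W)
    exact NatTrans.mono_of_mono_app _
  exact (sheafToPresheaf _ _).mono_of_mono_map inferInstance

variable (f : X ⟶ Y) [LocallyOfFiniteType f]

instance mono_Shι_app (F : EtCoh.Ab X) : Mono ((Shι f).app F) := by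
  apply mono_of_injective
  intro W t t' ht
  exact Subtype.ext ht

instance mono_Sh_map {F G : EtCoh.Ab X} (a : F ⟶ G) [Mono a] : Mono ((Sh f).map a) := by
  apply mono_of_injective
  intro W t t' ht
  apply Subtype.ext
  apply injective_of_mono a ((EtCoh.bc f).obj W)
  exact congrArg Subtype.val ht

instance mono_toPush (F : EtCoh.Ab X) : Mono (EtShriek.lowerShriekToPush f F) := by
  rw [toPush_eq]
  infer_instance

end mono

section two

variable {X Y Z : Scheme.{u}} (h : X ⟶ Y) (g : Y ⟶ Z) [LocallyOfFiniteType h]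
  [LocallyOfFiniteType g] [IsSeparated g]

theorem ShCompIso_hom_app (F : EtCoh.Ab X) :
    (ShCompIso h g).hom.app F =
      (presheafToSheaf Z.smallEtaleTopology AddCommGrpCat.{u + 1}).map
        ((inv (AmapCNat h g)).app F) ≫ (sheafificationIso ((Sh h ⋙ Sh g).obj F)).inv := by
  simp only [ShCompIso, Iso.trans_hom, Functor.isoWhiskerRight_hom, Functor.isoWhiskerLeft_hom,
    Iso.symm_hom, NatTrans.comp_app, Functor.whiskerRight_app, Functor.associator_hom_app,
    Functor.whiskerLeft_app, Functor.rightUnitor_hom_app, Category.id_comp,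
    asIso_inv]
  rfl

theorem AmapC_ι (F : EtCoh.Ab X) :
    AmapC h g F ≫ EtShriek.lowerShriekPreι (h ≫ g) F = ((BmapC h g).app F).hom := by
  ext W t
  rfl

theorem ShCompIso_BmapC (F : EtCoh.Ab X) :
    (ShCompIso h g).hom.app F ≫ (BmapC h g).app F = EtShriek.lowerShriekToPush (h ≫ g) F := by
  apply Sheaf.hom_ext
  apply sheafify_hom_ext _ _ _ ((EtCoh.push (h ≫ g)).obj F).property
  have h1 : toSheafify Z.smallEtaleTopology (EtShriek.lowerShriekPre (h ≫ g) F) ≫
      (EtShriek.lowerShriekToPush (h ≫ g) F).hom = EtShriek.lowerShriekPreι (h ≫ g) F :=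
    toSheafify_sheafifyLift _ _ _
  have hk : (inv (AmapCNat h g)).app F ≫ AmapC h g F = 𝟙 _ :=
    congrArg (fun m => m.app F) (IsIso.inv_hom_id (AmapCNat h g))
  have h2 : toSheafify Z.smallEtaleTopology (EtShriek.lowerShriekPre (h ≫ g) F) ≫
      ((ShCompIso h g).hom.app F ≫ (BmapC h g).app F).hom =
        EtShriek.lowerShriekPreι (h ≫ g) F := by
    rw [ShCompIso_hom_app]
    show toSheafify _ _ ≫ (sheafifyMap _ ((inv (AmapCNat h g)).app F) ≫
      (isoSheafify _ ((Sh h ⋙ Sh g).obj F).property).inv) ≫ ((BmapC h g).app F).hom = _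
    rw [← Category.assoc, ← Category.assoc]
    have h3 := toSheafify_naturality Z.smallEtaleTopology ((inv (AmapCNat h g)).app F)
    refine (congrArg (fun m => (m ≫ (isoSheafify _ ((Sh h ⋙ Sh g).obj F).property).inv) ≫
      ((BmapC h g).app F).hom) h3.symm).trans ?_
    rw [Category.assoc ((inv (AmapCNat h g)).app F)]
    have h4 : toSheafify Z.smallEtaleTopology ((Sh h ⋙ Sh g).obj F).obj ≫
        (isoSheafify _ ((Sh h ⋙ Sh g).obj F).property).inv = 𝟙 _ :=
      (isoSheafify _ ((Sh h ⋙ Sh g).obj F).property).hom_inv_id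
    refine (congrArg (fun m => ((inv (AmapCNat h g)).app F ≫ m) ≫ ((BmapC h g).app F).hom)
      h4).trans ?_
    refine (congrArg (· ≫ ((BmapC h g).app F).hom)
      (Category.comp_id ((inv (AmapCNat h g)).app F))).trans ?_
    refine (congrArg (fun m => (inv (AmapCNat h g)).app F ≫ m) (AmapC_ι h g F).symm).trans ?_
    refine (Category.assoc _ _ _).symm.trans ?_
    refine (congrArg (· ≫ EtShriek.lowerShriekPreι (h ≫ g) F) hk).trans ?_
    exact Category.id_comp _
  exact h2.trans h1.symm

theorem BmapC_app (F : EtCoh.Ab X) :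
    (BmapC h g).app F = (Shι g).app ((Sh h).obj F) ≫ (EtCoh.push g).map ((Shι h).app F) ≫
      (EtCoh.pushComp g h).hom.app F := rfl

theorem lowerShriekCompIso_hom_app (F : EtCoh.Ab X) :
    (lowerShriekCompIso h g).hom.app F = (ShCompIso h g).hom.app F ≫
      (Sh g).map ((ShIso h).inv.app F) ≫ (ShIso g).inv.app ((EtShriek.lowerShriek h).obj F) := rfl

theorem ShIso_inv_toPush (F : EtCoh.Ab X) :
    (ShIso h).inv.app F ≫ EtShriek.lowerShriekToPush h F = (Shι h).app F := by
  rw [toPush_eq, ← Category.assoc, ← NatTrans.comp_app, Iso.inv_hom_id, NatTrans.id_app,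
    Category.id_comp]

/-- the inclusion `g_! h_! F → g_* h_* F` expressed through `Sh` -/
theorem incl_eq (F : EtCoh.Ab X) :
    (EtShriek.lowerShriek g).map (EtShriek.lowerShriekToPush h F) ≫
        EtShriek.lowerShriekToPush g ((EtCoh.push h).obj F) =
      (ShIso g).hom.app ((EtShriek.lowerShriek h).obj F) ≫
        (Sh g).map (EtShriek.lowerShriekToPush h F) ≫ (Shι g).app ((EtCoh.push h).obj F) := by
  rw [toPush_eq g, ← Category.assoc, (ShIso g).hom.naturality, Category.assoc]

theorem compat (F : EtCoh.Ab X) :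
    (lowerShriekCompIso h g).hom.app F ≫
        (EtShriek.lowerShriek g).map (EtShriek.lowerShriekToPush h F) ≫
          EtShriek.lowerShriekToPush g ((EtCoh.push h).obj F) =
      EtShriek.lowerShriekToPush (h ≫ g) F ≫ (EtCoh.pushComp g h).inv.app F := by
  rw [incl_eq, lowerShriekCompIso_hom_app, ← ShCompIso_BmapC, BmapC_app]
  simp only [Category.assoc]
  congr 1
  rw [← NatTrans.comp_app_assoc, Iso.inv_hom_id, NatTrans.id_app, Category.id_comp,
    ← Functor.map_comp_assoc, ShIso_inv_toPush, (Shι g).naturality,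
    ← NatTrans.comp_app, Iso.hom_inv_id, NatTrans.id_app]
  erw [Category.comp_id]

instance mono_incl (F : EtCoh.Ab X) :
    Mono ((EtShriek.lowerShriek g).map (EtShriek.lowerShriekToPush h F) ≫
        EtShriek.lowerShriekToPush g ((EtCoh.push h).obj F)) := by
  rw [incl_eq]
  infer_instance

theorem existsUnique_compat :
    ∃! φ : EtShriek.lowerShriek (h ≫ g) ≅ EtShriek.lowerShriek h ⋙ EtShriek.lowerShriek g,
      ∀ F : EtCoh.Ab X,
        φ.hom.app F ≫ (EtShriek.lowerShriek g).map (EtShriek.lowerShriekToPush h F) ≫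
            EtShriek.lowerShriekToPush g ((EtCoh.push h).obj F) =
          EtShriek.lowerShriekToPush (h ≫ g) F ≫ (EtCoh.pushComp g h).inv.app F := by
  refine ⟨lowerShriekCompIso h g, compat h g, ?_⟩
  intro φ hφ
  apply Iso.ext
  ext F : 2
  have h1 := (hφ F).trans (compat h g F).symm
  exact (cancel_mono _).1 h1

end two

end Groth.Agent.Helper9.ShriekComp
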