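import Mathlib
import Groth.Prelude.Def_EtBase
import Groth.Prelude.Def_EtShriek2
import Groth.Agent.Helper6.ShrMonoD
import Groth.Agent.Helper9.ShriekCompE
import Groth.Agent.Helper9.ShriekCompG
import Groth.Agent.Lead.ProperOver

/-! `j_! ⟶ (sections of j_* with proper support)` for a separated étale morphism `j`. -/

set_option autoImplicit false
universe u

open CategoryTheory CategoryTheory.Limits Opposite AlgebraicGeometry

namespace Groth.Agent.Helper9.ShriekEt

open Groth.Agent.Helper9.ShriekSupp Groth.Agent.Helper9.ShriekSheaf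
  Groth.Agent.Helper9.ProperOverB Groth.Agent.Helper9.ShriekComp Groth.Agent.Helper6.ShrMono

variable {U X : Scheme.{u}} (j : U ⟶ X) [hj : Etale j] [IsSeparated j] [EtShriek.JCont j]

instance lft_of_etale : LocallyOfFiniteType j := inferInstance

theorem isProper_id (A : Scheme.{u}) : IsProper (𝟙 A) := inferInstance

variable (F : EtCoh.Ab U)

set_option backward.isDefEq.respectTransparency.types false in
theorem sectSupp_sig_subset (W : U.Etale) (s : F.obj.obj (op W)) :
    EtShriek.sectSupp F (PP j W) (sig j F W s) ⊆ Set.range (gr j W).left.base := by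
  rw [sectSupp_eq]
  intro z hz
  by_contra hcon
  apply hz
  have h1 := (van_spec F (PP j W) (sig j F W s) (incC j W)).1 (sig_incC j F W s)
  apply h1
  have : z ∈ Set.range (Cop j W).ι.base := by
    rw [Scheme.Opens.range_ι]
    exact hcon
  exact this

set_option backward.isDefEq.respectTransparency.types false in
theorem isProperOver_range_gr (W : U.Etale) :
    ClSub.IsProperOver (EtShriek.prV j ((EtShriek.compEtale j).obj W))
      (Set.range (gr j W).left.base) := by
  rw [Groth.Agent.Lead.ProperOver.isProperOver_iff_of_range_eq _ (gr j W).left _ rfl]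
  have h : (gr j W).left ≫ EtShriek.prV j ((EtShriek.compEtale j).obj W) = 𝟙 W.left :=
    gr_left_fst j W
  rw [h]
  exact isProper_id W.left

theorem shriekPred_sig (W : U.Etale) (s : F.obj.obj (op W)) :
    EtShriek.ShriekPred j F ((EtShriek.compEtale j).obj W) (sig j F W s) := by
  apply shriekPred_of_hasProperSupport
  exact ⟨_, sectSupp_sig_subset j F W s, isProperOver_range_gr j W⟩

/-- `F ⟶ j⁻¹ (j_! F)` where `j_!` is the sheaf of sections with proper support: extension by zero
off the graph -/
noncomputable def sigSh' : F ⟶ (EtShriek.restrAlong j).obj ((Sh j).obj F) :=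
  ⟨{ app := fun W => AddCommGrpCat.ofHom
        ((sigHom j F W.unop).hom.codRestrict
          (EtShriek.shriekSubgroup j F ((EtShriek.compEtale j).obj W.unop))
          (fun s => (mem_shriekSubgroup_iff j F _ _).2 (shriekPred_sig j F W.unop s)))
     naturality := by
      intro W W' f
      ext s
      apply Subtype.ext
      exact (sig_naturality j F f.unop s).symm }⟩

theorem sigSh'_ι :
    sigSh' j F ≫ (EtShriek.restrAlong j).map ((Shι j).app F) = sigSh j F := by
  apply Sheaf.hom_ext
  ext W s
  rfl

/-- the comparison `j_! F ⟶ (sections of j_* F with proper support)` -/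
noncomputable def sigma : (EtShriek.extZero j).obj F ⟶ (Sh j).obj F :=
  (EtShriek.extZero j).map (sigSh' j F) ≫ (EtShriek.extZeroAdj j).counit.app ((Sh j).obj F)

theorem sigma_ι : sigma j F ≫ (Shι j).app F = (tau j).app F := by
  have h2 := (EtShriek.extZeroAdj j).counit.naturality ((Shι j).app F)
  have h3 : (EtShriek.extZero j).map ((EtShriek.restrAlong j).map ((Shι j).app F)) ≫
      (EtShriek.extZeroAdj j).counit.app ((EtCoh.push j).obj F) =
      (EtShriek.extZeroAdj j).counit.app ((Sh j).obj F) ≫ (Shι j).app F := h2
  show ((EtShriek.extZero j).map (sigSh' j F) ≫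
    (EtShriek.extZeroAdj j).counit.app ((Sh j).obj F)) ≫ (Shι j).app F =
    (EtShriek.extZero j).map (sigSh j F) ≫
      (EtShriek.extZeroAdj j).counit.app ((EtCoh.push j).obj F)
  rw [Category.assoc, ← h3, ← Category.assoc, ← (EtShriek.extZero j).map_comp, sigSh'_ι]

instance mono_sigma : Mono (sigma j F) := by
  haveI : Mono (sigma j F ≫ (Shι j).app F) := by
    rw [sigma_ι]
    exact mono_tau j F
  exact mono_of_mono (sigma j F) ((Shι j).app F)

theorem sigma_naturality {F G : EtCoh.Ab U} (φ : F ⟶ G) :
    (EtShriek.extZero j).map φ ≫ sigma j G = sigma j F ≫ (Sh j).map φ := by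
  rw [← cancel_mono ((Shι j).app G), Category.assoc, Category.assoc, sigma_ι,
    (Shι j).naturality, ← Category.assoc (sigma j F), sigma_ι]
  exact (tau j).naturality φ

/-- `sigma` as a natural transformation -/
noncomputable def sigmaNat : EtShriek.extZero j ⟶ Sh j where
  app F := sigma j F
  naturality _ _ φ := sigma_naturality j φ

end Groth.Agent.Helper9.ShriekEt
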