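import Mathlib
import Groth.Prelude.Def_EtBase
import Groth.Prelude.Def_EtShriek2
import Groth.Agent.Helper9.ShriekEtA
import Groth.Agent.Helper9.GeomFin
import Groth.Agent.Helper9.EtStalkFamily
import Groth.Agent.Helper9.EtStalkAlgClosed
import Groth.Agent.Helper4.SchLQF

/-! Stalks of the sheaf of sections with proper support along a separated étale morphism. -/

set_option autoImplicit false
universe u

open CategoryTheory CategoryTheory.Limits Opposite AlgebraicGeometry

namespace Groth.Agent.Helper9.ShriekEt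

open Groth.Agent.Helper9.ShriekSupp Groth.Agent.Helper9.ShriekSheaf
  Groth.Agent.Helper9.ProperOverB Groth.Agent.Helper9.ProperOverC
  Groth.Agent.Helper9.ShriekComp Groth.Agent.Helper6.ShrMono
  Groth.Agent.Helper9.EtShriekStalkSigma

attribute [local instance] Groth.Agent.Helper9.EtStalkExact.preservesFilteredColimits_forget_ab

section germ

variable {X : Scheme.{u}} {Ω : Type u} [Field Ω] [IsSepClosed Ω]
  (ξ : Spec (CommRingCat.of Ω) ⟶ X) (G : EtCoh.Ab X)

/-- the underlying morphism of a geometric point of an object of the small étale site -/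
noncomputable def ptLeft (W : X.Etale) (l : (Scheme.pointSmallEtale ξ).fiber.obj W) :
    Spec (CommRingCat.of Ω) ⟶ W.left := l.left

theorem ptLeft_hom (W : X.Etale) (l : (Scheme.pointSmallEtale ξ).fiber.obj W) :
    ptLeft ξ W l ≫ W.hom = ξ := Over.w l

/-- the topological point under a geometric point -/
noncomputable def ptImg (W : X.Etale) (l : (Scheme.pointSmallEtale ξ).fiber.obj W) : W.left :=
  (ptLeft ξ W l).base default

theorem ptImg_map {W W' : X.Etale} (f : W ⟶ W') (l : (Scheme.pointSmallEtale ξ).fiber.obj W) :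
    ptImg ξ W' ((Scheme.pointSmallEtale ξ).fiber.map f l) = f.left.base (ptImg ξ W l) := rfl

/-- the germ of a section at a geometric point outside its support vanishes -/
theorem germ_eq_zero_of_notMem (W : X.Etale) (l : (Scheme.pointSmallEtale ξ).fiber.obj W)
    (t : G.obj.obj (op W)) (h : ptImg ξ W l ∉ EtShriek.sectSupp G W t) :
    (Scheme.pointSmallEtale ξ).toPresheafFiber W l G.obj t = 0 := by
  rw [sectSupp_eq] at h
  simp only [Set.mem_compl_iff, not_not] at h
  let O : W.left.Opens := van G W t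
  let lW : Spec (CommRingCat.of Ω) ⟶ W.left := ptLeft ξ W l
  have hl : lW ≫ W.hom = ξ := ptLeft_hom ξ W l
  have hr : Set.range lW.base ⊆ Set.range O.ι.base := by
    rintro _ ⟨a, rfl⟩
    rw [Scheme.Opens.range_ι, Subsingleton.elim a default]
    exact h
  let l₀ : Spec (CommRingCat.of Ω) ⟶ O.toScheme := IsOpenImmersion.lift O.ι lW hr
  have hl₀ : l₀ ≫ O.ι = lW := IsOpenImmersion.lift_fac _ _ _
  let l' : (Scheme.pointSmallEtale ξ).fiber.obj (restr W O) :=
    Over.homMk l₀ (by
      show l₀ ≫ O.ι ≫ W.hom = ξ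
      rw [← Category.assoc, hl₀, hl])
  have hmap : (Scheme.pointSmallEtale ξ).fiber.map (restrι W O) l' = l := by
    apply Over.OverMorphism.ext
    exact hl₀
  have h1 := (Scheme.pointSmallEtale ξ).toPresheafFiber_w (restrι W O) l' G.obj
  rw [hmap] at h1
  have h2 := congrArg (fun m => m t) (congrArg AddCommGrpCat.Hom.hom h1)
  simp only [AddCommGrpCat.hom_comp, AddMonoidHom.coe_comp, Function.comp_apply] at h2
  have h3 : G.obj.map (restrι W O).op t = 0 := map_restr_van G W t le_rfl
  rw [← h2]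
  show (Scheme.pointSmallEtale ξ).toPresheafFiber (restr W O) l' G.obj
    (G.obj.map (restrι W O).op t) = 0
  rw [h3, map_zero]

/-- conversely, if the germ vanishes, the geometric point lies outside the support -/
theorem notMem_of_germ_eq_zero (W : X.Etale) (l : (Scheme.pointSmallEtale ξ).fiber.obj W)
    (t : G.obj.obj (op W))
    (h : (Scheme.pointSmallEtale ξ).toPresheafFiber W l G.obj t = 0) :
    ptImg ξ W l ∉ EtShriek.sectSupp G W t := by
  have h0 : (Scheme.pointSmallEtale ξ).toPresheafFiber W l G.obj t =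
      (Scheme.pointSmallEtale ξ).toPresheafFiber W l G.obj 0 := by
    rw [h, map_zero]
  obtain ⟨Y, f, y, hy, hf⟩ := ((Scheme.pointSmallEtale ξ).toPresheafFiber_eq_iff' W l t 0).1 h0
  intro hmem
  refine hmem Y f ⟨ptImg ξ Y y, ?_⟩ ?_
  · rw [← ptImg_map, hy]
  · rw [hf, map_zero]

end germ

section main

variable {U X : Scheme.{u}} (j : U ⟶ X) [hj : Etale j] [IsSeparated j] [EtShriek.JCont j]
  {Ω : Type u} [Field Ω] [IsSepClosed Ω] (ξ : Spec (CommRingCat.of Ω) ⟶ X) (F : EtCoh.Ab U)

set_option backward.isDefEq.respectTransparency.types false in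
instance etale_prV (W : X.Etale) : Etale (EtShriek.prV j W) :=
  MorphismProperty.pullback_fst (P := @Etale) W.hom j inferInstance

/-- the retraction evaluated on the germ of a section with proper support -/
theorem ret_germ (u0 : Lifts j ξ) (W : X.Etale) (l : (Scheme.pointSmallEtale ξ).fiber.obj W)
    (t : EtCoh.sect ((Sh j).obj F) W) :
    ret j ξ F u0 ((EtCoh.stalk ξ).map ((Shι j).app F)
      ((Scheme.pointSmallEtale ξ).toPresheafFiber W l ((Sh j).obj F).obj t)) =
    (Ψ j ξ u0).toPresheafFiber ((EtCoh.bc j).obj W) (pairPt j ξ u0 W l) F.obj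
      (under j F W t) := by
  have h1 := (Scheme.pointSmallEtale ξ).toPresheafFiber_naturality ((Shι j).app F).hom W l
  have h2 := congrArg (fun m => m t) (congrArg AddCommGrpCat.Hom.hom h1)
  have h3 := toPresheafFiber_ret j ξ F u0 W l
  have h4 := congrArg (fun m => m (under j F W t)) (congrArg AddCommGrpCat.Hom.hom h3)
  exact (congrArg (ret j ξ F u0) h2).trans h4

theorem isProperOver_supp (W : X.Etale) (t : EtCoh.sect ((Sh j).obj F) W) :
    ClSub.IsProperOver (EtShriek.prV j W)
      (EtShriek.sectSupp F ((EtCoh.bc j).obj W) (under j F W t)) := by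
  have h1 := (shriekPred_iff_hasProperSupport j F W _).1
    ((mem_shriekSubgroup_iff j F W _).1 (under_mem j F W t))
  rwa [hasProperSupport_iff] at h1

set_option backward.isDefEq.respectTransparency.types false in
/-- a geometric point of `W ×_X U` over `l` is of the form `pairPt` -/
theorem exists_pairPt (W : X.Etale) (l : (Scheme.pointSmallEtale ξ).fiber.obj W)
    (z : ((EtCoh.bc j).obj W).left) (hz : (EtShriek.prV j W).base z = ptImg ξ W l) :
    ∃ u0 : Lifts j ξ, ptImg u0.1 ((EtCoh.bc j).obj W) (pairPt j ξ u0 W l) = z := by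
  obtain ⟨a, ha1, ha2⟩ := Scheme.exists_fac_of_etale_of_isSepClosed (EtShriek.prV j W)
    (ptLeft ξ W l) z hz
  let pU : ((EtCoh.bc j).obj W).left ⟶ U := pullback.snd W.hom j
  have hc : EtShriek.prV j W ≫ W.hom = pU ≫ j := pullback.condition
  have hu : (a ≫ pU) ≫ j = ξ := by
    rw [Category.assoc, ← hc, ← Category.assoc, ha1, ptLeft_hom]
  refine ⟨⟨a ≫ pU, hu⟩, ?_⟩
  have hpair : ptLeft (a ≫ pU) ((EtCoh.bc j).obj W) (pairPt j ξ ⟨a ≫ pU, hu⟩ W l) = a := by
    apply pullback.hom_ext
    · exact (pairPt_left_fst j ξ ⟨a ≫ pU, hu⟩ W l).trans ha1.symm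
    · exact pairPt_left_snd j ξ ⟨a ≫ pU, hu⟩ W l
  show (ptLeft (a ≫ pU) ((EtCoh.bc j).obj W) (pairPt j ξ ⟨a ≫ pU, hu⟩ W l)).base default = z
  rw [hpair]
  exact ha2

/-- joint injectivity of the retractions on the stalk of the sheaf of sections with proper
support -/
theorem eq_zero_of_ret_eq_zero (d : ↑((EtCoh.stalk ξ).obj ((Sh j).obj F)))
    (h : ∀ u0 : Lifts j ξ, ret j ξ F u0 ((EtCoh.stalk ξ).map ((Shι j).app F) d) = 0) :
    d = 0 := by
  obtain ⟨W, l, t, rfl⟩ := (Scheme.pointSmallEtale ξ).toPresheafFiber_jointly_surjective d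
  have hZ := isProperOver_supp j F W t
  have hcl := isClosed_image (EtShriek.prV j W) _ hZ
  apply germ_eq_zero_of_notMem
  intro hmem
  have h1 := sectSupp_subset_of_isClosed j F W t _ hcl subset_rfl hmem
  obtain ⟨z, hzZ, hzw⟩ := h1
  obtain ⟨u0, hu0⟩ := exists_pairPt j ξ W l z hzw
  have h2 := (ret_germ j ξ F u0 W l t).symm.trans (h u0)
  have h3 := notMem_of_germ_eq_zero u0.1 F _ _ _ h2
  rw [hu0] at h3
  exact h3 hzZ

set_option backward.isDefEq.respectTransparency.types false in
/-- only finitely many retractions are nonzero on an element of the stalk of the sheaf of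
sections with proper support -/
theorem finite_ret_ne_zero (y : ↑((EtCoh.stalk ξ).obj ((Sh j).obj F))) :
    {u0 : Lifts j ξ | ret j ξ F u0 ((EtCoh.stalk ξ).map ((Shι j).app F) y) ≠ 0}.Finite := by
  obtain ⟨W, l, t, rfl⟩ := (Scheme.pointSmallEtale ξ).toPresheafFiber_jointly_surjective y
  obtain ⟨hcl, hp⟩ := isProperOver_supp j F W t
  let Z := EtShriek.sectSupp F ((EtCoh.bc j).obj W) (under j F W t)
  let π : red Z hcl ⟶ W.left := redι Z hcl ≫ EtShriek.prV j W
  haveI : IsProper π := hp
  haveI : LocallyQuasiFinite (EtShriek.prV j W) :=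
    Groth.Agent.Helper4.SchLQF.locallyQuasiFinite_of_etale _
  haveI : LocallyQuasiFinite π := inferInstance
  haveI : IsFinite π := IsFinite.of_isProper_of_locallyQuasiFinite π
  haveI hfin : Finite {a : Spec (CommRingCat.of Ω) ⟶ red Z hcl // a ≫ π = ptLeft ξ W l} :=
    GeomFin.finite_lifts π (ptLeft ξ W l)
  -- the geometric points `pairPt u0` for `u0` in the set factor through the support
  have hex : ∀ u0 : {u0 : Lifts j ξ | ret j ξ F u0 ((EtCoh.stalk ξ).map ((Shι j).app F)
      ((Scheme.pointSmallEtale ξ).toPresheafFiber W l ((Sh j).obj F).obj t)) ≠ 0},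
      ∃ a : Spec (CommRingCat.of Ω) ⟶ red Z hcl,
        a ≫ redι Z hcl = ptLeft u0.1.1 ((EtCoh.bc j).obj W) (pairPt j ξ u0.1 W l) := by
    rintro ⟨u0, hu0⟩
    have hmem : ptImg u0.1 ((EtCoh.bc j).obj W) (pairPt j ξ u0 W l) ∈ Z := by
      by_contra hcon
      apply hu0
      rw [ret_germ]
      exact germ_eq_zero_of_notMem u0.1 F _ _ _ hcon
    apply exists_lift_red
    rintro _ ⟨b, rfl⟩
    rw [Subsingleton.elim b default]
    exact hmem
  choose a ha using hex
  have hinj : Function.Injective (fun u0 => (⟨a u0, by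
      rw [← Category.assoc, ha u0]
      exact pairPt_left_fst j ξ u0.1 W l⟩ :
      {a : Spec (CommRingCat.of Ω) ⟶ red Z hcl // a ≫ π = ptLeft ξ W l})) := by
    intro u0 u0' h
    have h1 : a u0 = a u0' := congrArg Subtype.val h
    have h2 : ptLeft u0.1.1 ((EtCoh.bc j).obj W) (pairPt j ξ u0.1 W l) =
        ptLeft u0'.1.1 ((EtCoh.bc j).obj W) (pairPt j ξ u0'.1 W l) := by
      rw [← ha u0, ← ha u0', h1]
    have h3 := congrArg (fun b => b ≫ (pullback.snd W.hom j : ((EtCoh.bc j).obj W).left ⟶ U)) h2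
    have h4 : u0.1.1 = u0'.1.1 :=
      (pairPt_left_snd j ξ u0.1 W l).symm.trans (h3.trans (pairPt_left_snd j ξ u0'.1 W l))
    exact Subtype.ext (Subtype.ext h4)
  exact Set.finite_coe_iff.1 (Finite.of_injective _ hinj)

theorem stalk_sigma_ι (x : ↑((EtCoh.stalk ξ).obj ((EtShriek.extZero j).obj F))) :
    (EtCoh.stalk ξ).map ((Shι j).app F) ((EtCoh.stalk ξ).map (sigma j F) x) =
      (EtCoh.stalk ξ).map ((tau j).app F) x := by
  rw [← ConcreteCategory.comp_apply, ← (EtCoh.stalk ξ).map_comp, sigma_ι]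

/-- `sigma` is surjective on stalks -/
theorem surjective_stalk_sigma :
    Function.Surjective ((EtCoh.stalk ξ).map (sigma j F)) := by
  classical
  intro y
  let y' := (EtCoh.stalk ξ).map ((Shι j).app F) y
  let T : Finset (Lifts j ξ) := (finite_ret_ne_zero j ξ F y).toFinset
  let A : Lifts j ξ → AddCommGrpCat.{u + 1} := fun u => (Ψ j ξ u).presheafFiber.obj F.obj
  let z : ↑(∐ A) := ∑ u ∈ T, (Sigma.ι A u) (ret j ξ F u y')
  refine ⟨psi j ξ F z, ?_⟩
  rw [← sub_eq_zero]
  apply eq_zero_of_ret_eq_zero j ξ F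
  intro u0
  have e1 : (EtCoh.stalk ξ).map ((Shι j).app F)
      ((EtCoh.stalk ξ).map (sigma j F) (psi j ξ F z) - y) =
      (EtCoh.stalk ξ).map ((tau j).app F) (psi j ξ F z) - y' := by
    rw [map_sub, stalk_sigma_ι]
  have e2 : ret j ξ F u0 ((EtCoh.stalk ξ).map ((tau j).app F) (psi j ξ F z) - y') =
      ret j ξ F u0 ((EtCoh.stalk ξ).map ((tau j).app F) (psi j ξ F z)) - ret j ξ F u0 y' :=
    map_sub (ret j ξ F u0).hom _ _
  refine (congrArg (ret j ξ F u0) e1).trans (e2.trans ?_)
  rw [sub_eq_zero]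
  let c : ∐ A ⟶ A u0 := psi j ξ F ≫ (EtCoh.stalk ξ).map ((tau j).app F) ≫ ret j ξ F u0
  have hz : ret j ξ F u0 ((EtCoh.stalk ξ).map ((tau j).app F) (psi j ξ F z)) =
      ∑ u ∈ T, (Sigma.ι A u ≫ c) (ret j ξ F u y') := by
    show c (∑ u ∈ T, (Sigma.ι A u) (ret j ξ F u y')) = _
    rw [map_sum]
    rfl
  rw [hz]
  by_cases hu0 : u0 ∈ T
  · rw [Finset.sum_eq_single u0]
    · have h1 : Sigma.ι A u0 ≫ c = 𝟙 _ := ι_psi_tau_ret_self j ξ F u0
      rw [h1]
      rfl
    · intro u _ hne
      have h1 : Sigma.ι A u ≫ c = 0 := ι_psi_tau_ret_ne j ξ F u u0 hne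
      rw [h1]
      rfl
    · intro h
      exact (h hu0).elim
  · have h0 : ret j ξ F u0 y' = 0 := by
      by_contra hne
      exact hu0 ((Set.Finite.mem_toFinset _).2 hne)
    rw [h0]
    refine Finset.sum_eq_zero (fun u hu => ?_)
    have hne : u ≠ u0 := fun h => hu0 (h ▸ hu)
    have h1 : Sigma.ι A u ≫ c = 0 := ι_psi_tau_ret_ne j ξ F u u0 hne
    rw [h1]
    rfl

end main

section final

variable {U X : Scheme.{u}} (j : U ⟶ X) [hj : Etale j] [IsSeparated j] [EtShriek.JCont j]

instance epi_sigma (F : EtCoh.Ab U) : Epi (sigma j F) := by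
  apply Groth.Agent.Helper9.EtStalkFamily.epi_of_family
  intro x
  exact ⟨_, inferInstance, inferInstance, Groth.Agent.Helper9.EtStalkAlgClosed.geomPt x,
    Groth.Agent.Helper9.EtStalkAlgClosed.geomPt_default x, surjective_stalk_sigma j _ F⟩

instance isIso_sigma (F : EtCoh.Ab U) : IsIso (sigma j F) := isIso_of_mono_of_epi _

instance isIso_sigmaNat : IsIso (sigmaNat j) := by
  haveI : ∀ F, IsIso ((sigmaNat j).app F) := fun F => isIso_sigma j F
  exact NatIso.isIso_of_isIso_app _

/-- `j_! ≅` direct image with proper support, for `j` separated étale -/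
noncomputable def extZeroIso : EtShriek.extZero j ≅ EtShriek.lowerShriek j :=
  asIso (sigmaNat j) ≪≫ (ShIso j).symm

end final

end Groth.Agent.Helper9.ShriekEt
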