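import Mathlib

/-!
# Extension by zero of presheaves of modules along `Over X ⥤ C`, explicitly (over `RingCat`)
-/

namespace Groth.Agent.Helper9.ShriekNC

open CategoryTheory Opposite Limits DirectSum

universe u

set_option backward.isDefEq.respectTransparency false

open scoped Classical

section Basics

variable {C : Type u} [SmallCategory C] {R : Cᵒᵖ ⥤ RingCat.{u}}

/-- presheaves of modules over `R` -/
abbrev PMod (R : Cᵒᵖ ⥤ RingCat.{u}) : Type (u + 1) := PresheafOfModules.{u} R

/-- restriction as a semilinear map -/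
noncomputable def res (M : PMod R) {X Y : Cᵒᵖ}
    (g : X ⟶ Y) : M.obj X →ₛₗ[(R.map g).hom] M.obj Y where
  toFun x := M.map g x
  map_add' := map_add _
  map_smul' r x := M.map_smul g r x

lemma res_naturality {P Q : PMod R} (φ : P ⟶ Q) {X Y : Cᵒᵖ} (g : X ⟶ Y) (p : P.obj X) :
    res Q g (φ.app X p) = φ.app Y (res P g p) :=
  (PresheafOfModules.naturality_apply φ g p).symm

lemma res_comp (M : PMod R) {X Y Z : Cᵒᵖ}
    (g : X ⟶ Y) (h : Y ⟶ Z) (x : M.obj X) : res M (g ≫ h) x = res M h (res M g x) := by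
  show M.map (g ≫ h) x = M.map h (M.map g x)
  rw [M.map_comp]
  rfl

end Basics

variable {C : Type u} [SmallCategory C] {R : Cᵒᵖ ⥤ RingCat.{u}} {X : C}

/-- the ring presheaf on `Over X` -/
abbrev SX (R : Cᵒᵖ ⥤ RingCat.{u}) (X : C) : (Over X)ᵒᵖ ⥤ RingCat.{u} :=
  (Over.forget X).op ⋙ R


variable (R X) in
/-- restriction to `Over X` -/
noncomputable abbrev pf : PMod R ⥤ PMod (SX R X) :=
  PresheafOfModules.pushforward (F := Over.forget X) (𝟙 (SX R X))

variable (G : PMod (SX R X))

/-- the summand of `(j_! G)(V)` indexed by `a : V ⟶ X` -/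
def Cmp {V : C} (a : V ⟶ X) : Type u := G.obj (op (Over.mk a))

noncomputable instance {V : C} (a : V ⟶ X) : AddCommGroup (Cmp G a) :=
  inferInstanceAs (AddCommGroup (G.obj (op (Over.mk a))))

noncomputable instance {V : C} (a : V ⟶ X) : Module (R.obj (op V)) (Cmp G a) :=
  inferInstanceAs (Module ((SX R X).obj (op (Over.mk a))) (G.obj (op (Over.mk a))))

/-- restriction of summands -/
noncomputable def rs {V W : C} (g : W ⟶ V) (a : V ⟶ X) :
    Cmp G a →ₛₗ[(R.map g.op).hom] Cmp G (g ≫ a) :=
  res G (Over.homMk g : Over.mk (g ≫ a) ⟶ Over.mk a).op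

/-- sections of `j_! G` -/
abbrev Sec (V : C) : Type u := ⨁ a : (V ⟶ X), Cmp G a


/-- the inclusion of a summand -/
noncomputable def inc {V : C} (a : V ⟶ X) : Cmp G a →ₗ[R.obj (op V)] Sec G V :=
  DirectSum.lof (R.obj (op V)) (V ⟶ X) (fun b => Cmp G b) a

lemma res_id' {Y : Over X} (x : G.obj (op Y)) : res G (𝟙 Y).op x = x := by
  show G.map (𝟙 Y).op x = x
  rw [op_id, G.map_id]
  rfl

lemma inc_res_eq {W : C} {Y : Over X} {b b' : W ⟶ X} (k : Over.mk b ⟶ Y) (k' : Over.mk b' ⟶ Y)
    (hk : k.left = k'.left) (x : G.obj (op Y)) :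
    inc G b (res G k.op x) = inc G b' (res G k'.op x) := by
  have hb : b = b' := by
    have h1 : k.left ≫ Y.hom = b := Over.w k
    have h2 : k'.left ≫ Y.hom = b' := Over.w k'
    rw [← h1, ← h2, hk]
  subst hb
  have : k = k' := Over.OverMorphism.ext hk
  subst this
  rfl

/-- restriction of sections -/
noncomputable def rmap {V W : C} (g : W ⟶ V) : Sec G V →+ Sec G W :=
  DirectSum.toAddMonoid (fun a => (inc G (g ≫ a)).toAddMonoidHom.comp (rs G g a).toAddMonoidHom)

lemma rmap_inc {V W : C} (g : W ⟶ V) (a : V ⟶ X) (x : Cmp G a) :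
    rmap G g (inc G a x) = inc G (g ≫ a) (rs G g a x) :=
  DirectSum.toAddMonoid_of _ _ _

lemma sec_induction {V : C} {motive : Sec G V → Prop} (zero : motive 0)
    (add : ∀ s t, motive s → motive t → motive (s + t)) (single : ∀ a x, motive (inc G a x))
    (s : Sec G V) : motive s :=
  DirectSum.induction_on s zero single add

lemma rmap_id {V : C} (s : Sec G V) : rmap G (𝟙 V) s = s := by
  induction s using sec_induction with
  | zero => rw [map_zero]
  | add s t hs ht => rw [map_add, hs, ht]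
  | single a x =>
    rw [rmap_inc]
    have h := inc_res_eq G (Over.homMk (𝟙 V) : Over.mk (𝟙 V ≫ a) ⟶ Over.mk a) (𝟙 (Over.mk a)) rfl x
    rw [res_id'] at h
    exact h

lemma rmap_comp {V W W' : C} (g : W ⟶ V) (h : W' ⟶ W) (s : Sec G V) :
    rmap G (h ≫ g) s = rmap G h (rmap G g s) := by
  induction s using sec_induction with
  | zero => rw [map_zero, map_zero, map_zero]
  | add s t hs ht => rw [map_add, map_add, map_add, hs, ht]
  | single a x =>
    rw [rmap_inc, rmap_inc, rmap_inc]
    have h1 : rs G h (g ≫ a) (rs G g a x) =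
        res G ((Over.homMk h : Over.mk (h ≫ g ≫ a) ⟶ Over.mk (g ≫ a)) ≫
          (Over.homMk g : Over.mk (g ≫ a) ⟶ Over.mk a)).op x := by
      rw [op_comp, res_comp]
      rfl
    rw [h1]
    exact inc_res_eq G (Over.homMk (h ≫ g) : Over.mk ((h ≫ g) ≫ a) ⟶ Over.mk a)
      ((Over.homMk h : Over.mk (h ≫ g ≫ a) ⟶ Over.mk (g ≫ a)) ≫
          (Over.homMk g : Over.mk (g ≫ a) ⟶ Over.mk a)) rfl x


lemma rmap_smul {V W : C} (g : W ⟶ V) (r : R.obj (op V)) (s : Sec G V) :
    rmap G g (r • s) = (R.map g.op r) • rmap G g s := by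
  induction s using sec_induction with
  | zero => rw [smul_zero, map_zero, smul_zero]
  | add s t hs ht => rw [smul_add, map_add, map_add, hs, ht, smul_add]
  | single a x =>
    rw [← map_smul, rmap_inc, rmap_inc, map_smulₛₗ, map_smul]

/-- the underlying abelian presheaf of `j_! G` -/
noncomputable def ab : Cᵒᵖ ⥤ Ab.{u} where
  obj V := AddCommGrpCat.of (Sec G V.unop)
  map f := AddCommGrpCat.ofHom (rmap G f.unop)
  map_id V := by
    apply AddCommGrpCat.hom_ext
    apply AddMonoidHom.ext
    intro s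
    exact rmap_id G s
  map_comp f f' := by
    apply AddCommGrpCat.hom_ext
    apply AddMonoidHom.ext
    intro s
    exact rmap_comp G f.unop f'.unop s

noncomputable instance (V : Cᵒᵖ) :
    Module (R.obj V) ((ab G).obj V) :=
  inferInstanceAs (Module (R.obj (op V.unop)) (Sec G V.unop))

/-- `j_! G` as a presheaf of modules -/
noncomputable def sh : PMod R :=
  PresheafOfModules.ofPresheaf (ab G) (fun _ _ f r m => rmap_smul G f.unop r m)


lemma sh_res {V W : C} (g : W ⟶ V) (s : Sec G V) : res (sh G) g.op s = rmap G g s := rfl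

variable {G} {Q : PMod R}

/-- forward direction of the adjunction -/
noncomputable def fwd (ψ : sh G ⟶ Q) : G ⟶ (pf R X).obj Q where
  app Y := ModuleCat.ofHom (X := G.obj Y) (Y := ((pf R X).obj Q).obj Y)
    { toFun := fun x => ψ.app (op Y.unop.left) (inc G Y.unop.hom x)
      map_add' := fun x x' => by
        show ψ.app (op Y.unop.left) (inc G Y.unop.hom (x + x')) = _
        rw [map_add, map_add]
      map_smul' := fun (r : R.obj (op Y.unop.left)) (x : Cmp G Y.unop.hom) => by
        have h := map_smul (inc G Y.unop.hom) r x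
        have h' := map_smul (ψ.app (op Y.unop.left)).hom r (inc G Y.unop.hom x)
        exact (congrArg (ψ.app (op Y.unop.left)) h).trans h' }
  naturality {Y Y'} g := by
    apply ModuleCat.hom_ext
    apply LinearMap.ext
    intro x
    have h1 := res_naturality ψ g.unop.left.op (inc G Y.unop.hom x)
    rw [sh_res, rmap_inc] at h1
    have h2 := inc_res_eq G (Over.homMk g.unop.left :
      Over.mk (g.unop.left ≫ Y.unop.hom) ⟶ Over.mk Y.unop.hom) g.unop rfl x
    have h3 : rs G g.unop.left Y.unop.hom x = res G (Over.homMk g.unop.left :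
      Over.mk (g.unop.left ≫ Y.unop.hom) ⟶ Over.mk Y.unop.hom).op x := rfl
    rw [h3, h2] at h1
    exact h1.symm

lemma fwd_app (ψ : sh G ⟶ Q) (Y : Over X) (x : G.obj (op Y)) :
    (fwd ψ).app (op Y) x = ψ.app (op Y.left) (inc G Y.hom x) := rfl

/-- the components of a morphism `G ⟶ Q|_X` -/
noncomputable def cmp (φ : G ⟶ (pf R X).obj Q) {V : C} (a : V ⟶ X) :
    Cmp G a →ₗ[R.obj (op V)] Q.obj (op V) where
  toFun x := φ.app (op (Over.mk a)) x
  map_add' x x' := map_add (φ.app (op (Over.mk a))).hom x x'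
  map_smul' r x := map_smul (φ.app (op (Over.mk a))).hom r x

lemma cmp_apply (φ : G ⟶ (pf R X).obj Q) {V : C} (a : V ⟶ X) (x : Cmp G a) :
    cmp φ a x = φ.app (op (Over.mk a)) x := rfl

lemma cmp_rs (φ : G ⟶ (pf R X).obj Q) {V W : C} (g : W ⟶ V) (a : V ⟶ X) (x : Cmp G a) :
    cmp φ (g ≫ a) (rs G g a x) = res Q g.op (cmp φ a x) :=
  PresheafOfModules.naturality_apply φ
    (Over.homMk g : Over.mk (g ≫ a) ⟶ Over.mk a).op x

/-- the backward direction, sectionwise -/
noncomputable def bwdApp (φ : G ⟶ (pf R X).obj Q) (V : C) :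
    Sec G V →ₗ[R.obj (op V)] Q.obj (op V) :=
  DirectSum.toModule (R.obj (op V)) (V ⟶ X) (Q.obj (op V)) (fun a => cmp φ a)

lemma bwdApp_inc (φ : G ⟶ (pf R X).obj Q) {V : C} (a : V ⟶ X) (x : Cmp G a) :
    bwdApp φ V (inc G a x) = cmp φ a x :=
  DirectSum.toModule_lof _ _ _

lemma bwdApp_rmap (φ : G ⟶ (pf R X).obj Q) {V W : C} (g : W ⟶ V) (s : Sec G V) :
    bwdApp φ W (rmap G g s) = res Q g.op (bwdApp φ V s) := by
  induction s using sec_induction with
  | zero => simp only [map_zero]
  | add s t hs ht => simp only [map_add, hs, ht]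
  | single a x => rw [rmap_inc, bwdApp_inc, bwdApp_inc, cmp_rs]

/-- the backward direction -/
noncomputable def bwd (φ : G ⟶ (pf R X).obj Q) : sh G ⟶ Q where
  app V := ModuleCat.ofHom (X := (sh G).obj V) (bwdApp φ V.unop)
  naturality {V W} f := by
    apply ModuleCat.hom_ext
    apply LinearMap.ext
    intro s
    exact bwdApp_rmap φ f.unop s

lemma bwd_app (φ : G ⟶ (pf R X).obj Q) (V : C) (s : Sec G V) :
    (bwd φ).app (op V) s = bwdApp φ V s := rfl

lemma fwd_bwd (φ : G ⟶ (pf R X).obj Q) : fwd (bwd φ) = φ := by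
  apply PresheafOfModules.Hom.ext
  funext Y
  induction Y using Opposite.rec with | _ Y
  apply ModuleCat.hom_ext
  apply LinearMap.ext
  intro x
  show bwdApp φ Y.left (inc G Y.hom x) = φ.app (op Y) x
  rw [bwdApp_inc]
  rfl

lemma bwd_fwd (ψ : sh G ⟶ Q) : bwd (fwd ψ) = ψ := by
  apply PresheafOfModules.Hom.ext
  funext V
  induction V using Opposite.rec with | _ V
  apply ModuleCat.hom_ext
  apply LinearMap.ext
  intro s
  show bwdApp (fwd ψ) V s = ψ.app (op V) s
  induction s using sec_induction with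
  | zero => rw [map_zero, map_zero]
  | add s t hs ht => rw [map_add, map_add, hs, ht]
  | single a x =>
    rw [bwdApp_inc]
    rfl

variable (G Q) in
/-- `Hom(j_! G, Q) ≃ Hom(G, Q|_X)` -/
noncomputable def homEquiv : (sh G ⟶ Q) ≃ (G ⟶ (pf R X).obj Q) where
  toFun := fwd
  invFun := bwd
  left_inv := bwd_fwd
  right_inv := fwd_bwd

lemma fwd_comp {Q' : PMod R} (ψ : sh G ⟶ Q) (β : Q ⟶ Q') :
    fwd (ψ ≫ β) = fwd ψ ≫ (pf R X).map β := rfl


variable (R X) in
/-- extension by zero of presheaves of modules -/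
noncomputable def shF : PMod (SX R X) ⥤ PMod R :=
  Adjunction.leftAdjointOfEquiv (fun G Q => homEquiv G Q) (fun _ _ _ β ψ => fwd_comp ψ β)

variable (R X) in
/-- the adjunction `j_! ⊣ j^*` on presheaves of modules -/
noncomputable def shAdj : shF R X ⊣ pf R X :=
  Adjunction.adjunctionOfEquivLeft (fun G Q => homEquiv G Q) (fun _ _ _ β ψ => fwd_comp ψ β)

lemma shF_obj (G : PMod (SX R X)) : (shF R X).obj G = sh G := rfl

lemma shF_map {G G' : PMod (SX R X)} (f : G ⟶ G') :
    (shF R X).map f = bwd (f ≫ fwd (𝟙 (sh G'))) := rfl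

lemma shF_map_inc {G G' : PMod (SX R X)} (f : G ⟶ G') {V : C} (a : V ⟶ X) (x : Cmp G a) :
    ((shF R X).map f).app (op V) (inc G a x) = inc G' a (f.app (op (Over.mk a)) x) := by
  rw [shF_map]
  show bwdApp _ V (inc G a x) = _
  rw [bwdApp_inc]
  rfl

/-- the components of a morphism -/
noncomputable def cmpF {G G' : PMod (SX R X)} (f : G ⟶ G') {V : C} (a : V ⟶ X) :
    Cmp G a →ₗ[R.obj (op V)] Cmp G' a where
  toFun x := f.app (op (Over.mk a)) x
  map_add' x x' := map_add (f.app (op (Over.mk a))).hom x x'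
  map_smul' r x := map_smul (f.app (op (Over.mk a))).hom r x

lemma shF_map_eq_lmap {G G' : PMod (SX R X)} (f : G ⟶ G') (V : C) (s : Sec G V) :
    ((shF R X).map f).app (op V) s = DirectSum.lmap (fun a : V ⟶ X => cmpF f a) s := by
  induction s using sec_induction with
  | zero => simp only [map_zero]
  | add s t hs ht => simp only [map_add, hs, ht]
  | single a x =>
    rw [shF_map_inc]
    exact (DirectSum.lmap_lof (fun a : V ⟶ X => cmpF f a) a x).symm

instance mono_shF_map {G G' : PMod (SX R X)} (f : G ⟶ G') [Mono f] : Mono ((shF R X).map f) := by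
  apply PresheafOfModules.mono_of_injective
  intro V
  induction V using Opposite.rec with | _ V
  have h : Function.Injective (DirectSum.lmap (fun a : V ⟶ X => cmpF f a)) := by
    rw [DirectSum.lmap_injective]
    intro a
    exact PresheafOfModules.injective_of_mono f (op (Over.mk a))
  intro s t hst
  apply h
  rw [← shF_map_eq_lmap, ← shF_map_eq_lmap]
  exact hst


instance additive_pf : (pf R X).Additive where

instance additive_shF : (shF R X).Additive := (shAdj R X).left_adjoint_additive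

instance isLeftAdjoint_shF : (shF R X).IsLeftAdjoint := (shAdj R X).isLeftAdjoint

instance preservesFiniteLimits_shF : PreservesFiniteLimits (shF R X) := by
  refine ((Functor.preservesFiniteLimits_tfae (shF R X)).out 0 3).1 ?_
  intro S hS
  haveI := hS.mono_f
  refine ⟨?_, inferInstance⟩
  have h3 : PreservesFiniteColimits (shF R X) := inferInstance
  have hc : ∀ (S : ShortComplex (PMod (SX R X))), S.ShortExact →
      (S.map (shF R X)).Exact ∧ Epi ((shF R X).map S.g) :=
    ((Functor.preservesFiniteColimits_tfae (shF R X)).out 3 0).1 h3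
  exact (hc S hS).1

end Groth.Agent.Helper9.ShriekNC
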