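import Mathlib
import Groth.Agent.Helper9.ShriekNC

/-!
# Extension by zero of sheaves of modules over a sheaf of (not necessarily commutative) rings
-/

namespace Groth.Agent.Helper9.ShriekNCSh

open CategoryTheory Opposite Limits DirectSum Groth.Agent.Helper9.ShriekNC

universe u

set_option backward.isDefEq.respectTransparency false

open scoped Classical

variable {C : Type u} [SmallCategory C] {J : GrothendieckTopology C} (A : Sheaf J RingCat.{u})
  (X : C)

/-- presheaves of `A`-modules -/
abbrev PM : Type (u + 1) := PresheafOfModules.{u} A.obj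

/-- sheafification -/
noncomputable abbrev a : PM A ⥤ SheafOfModules.{u} A :=
  PresheafOfModules.sheafification.{u} (𝟙 A.obj)

/-- the inclusion -/
noncomputable abbrev ι : SheafOfModules.{u} A ⥤ PM A := SheafOfModules.forget A

/-- the sheafification adjunction -/
noncomputable abbrev adj : a A ⊣ SheafOfModules.forget A ⋙
    PresheafOfModules.restrictScalars (𝟙 A.obj) :=
  PresheafOfModules.sheafificationAdjunction (𝟙 A.obj)

/-- the unit -/
noncomputable def η (P : PM A) : P ⟶ (ι A).obj ((a A).obj P) := (adj A).unit.app P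

variable {A}

lemma locInj_η (P : PM A) (U : C) (x : P.obj (op U)) (hx : (η A P).app (op U) x = 0) :
    ∃ S ∈ J U, ∀ ⦃V : C⦄ (g : V ⟶ U), S g → res P g.op x = 0 := by
  haveI : Presheaf.IsLocallyInjective J ((PresheafOfModules.toPresheaf _).map (η A P)) :=
    (inferInstance : Presheaf.IsLocallyInjective J (CategoryTheory.toSheafify J P.presheaf))
  refine ⟨Presheaf.equalizerSieve (F := P.presheaf) (X := op U) x 0,
    Presheaf.equalizerSieve_mem J ((PresheafOfModules.toPresheaf _).map (η A P)) (X := op U) x 0
      (hx.trans (map_zero _).symm), fun V g hg => ?_⟩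
  exact hg.trans (map_zero _)

variable (A)

/-- the forgetful functor from sheaves of modules on `C/X` -/
noncomputable abbrev ιX : SheafOfModules.{u} (A.over X) ⥤ PMod (SX A.obj X) := ι (A.over X)

/-- the right adjoint of sheafification -/
noncomputable abbrev ι' : SheafOfModules.{u} A ⥤ PM A :=
  SheafOfModules.forget A ⋙ PresheafOfModules.restrictScalars (𝟙 A.obj)

/-- the explicit extension by zero -/
noncomputable abbrev ext : SheafOfModules.{u} (A.over X) ⥤ SheafOfModules.{u} A :=
  ιX A X ⋙ shF A.obj X ⋙ a A

/-- restriction commutes with the forgetful functors -/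
noncomputable def comm2 :
    𝟭 (SheafOfModules.{u} A) ⋙ (ι' A ⋙ pf A.obj X) ≅ SheafOfModules.overFunctor.{u} A X ⋙ ιX A X :=
  NatIso.ofComponents (fun N => Iso.refl _) (by
    intro N N' f
    rfl)

/-- the adjunction `ext ⊣ restr` -/
noncomputable def extAdj : ext A X ⊣ SheafOfModules.overFunctor.{u} A X :=
  ((shAdj A.obj X).comp (adj A)).restrictFullyFaithful
    (SheafOfModules.fullyFaithfulForget (A.over X))
    (Functor.FullyFaithful.id _) (Iso.refl _) (comm2 A X)

instance preservesFiniteLimits_ιX : PreservesFiniteLimits (ιX A X) := by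
  haveI : PreservesLimitsOfSize.{u, u}
      (SheafOfModules.forget.{u} (A.over X)) := inferInstance
  exact inferInstanceAs (PreservesFiniteLimits
    (SheafOfModules.forget.{u} (A.over X)))

instance preservesFiniteLimits_a' : PreservesFiniteLimits (a A) :=
  inferInstanceAs (PreservesFiniteLimits
    (PresheafOfModules.sheafification.{u} (𝟙 A.obj)))

instance preservesFiniteLimits_ext : PreservesFiniteLimits (ext A X) := by
  haveI : PreservesFiniteLimits (shF A.obj X ⋙ a A) := comp_preservesFiniteLimits _ _
  exact comp_preservesFiniteLimits _ _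


lemma inc_injective (G : PMod (SX A.obj X)) {V : C} (a : V ⟶ X) :
    Function.Injective (inc G a) :=
  DirectSum.of_injective (β := fun b : V ⟶ X => Cmp G b) a

lemma eq_zero_of_η_inc_eq_zero (G : SheafOfModules.{u} (A.over X)) {V : C} (a : V ⟶ X)
    (y : Cmp ((ιX A X).obj G) a)
    (h : (η A (sh ((ιX A X).obj G))).app (op V) (inc _ a y) = 0) : y = 0 := by
  obtain ⟨S, hS, hS'⟩ := locInj_η (sh ((ιX A X).obj G)) V (inc _ a y) h
  have hsh : Presieve.IsSheaf (J.over X) (G.val.presheaf ⋙ forget AddCommGrpCat) :=
    (isSheaf_iff_isSheaf_of_type (J.over X) _).1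
      ((Presheaf.isSheaf_iff_isSheaf_forget (J.over X) G.val.presheaf
        (forget AddCommGrpCat)).1 G.isSheaf)
  have hcov : (Sieve.overEquiv (Over.mk a)).symm S ∈ (J.over X) (Over.mk a) :=
    J.overEquiv_symm_mem_over (Over.mk a) S hS
  refine (hsh.isSeparated _ hcov).ext (t₁ := (y : G.val.obj (op (Over.mk a))))
    (t₂ := (0 : G.val.obj (op (Over.mk a)))) ?_
  intro Y' k hk
  have hk' : S k.left := (Sieve.overEquiv_symm_iff S k).1 hk
  have h1 := hS' k.left hk'
  rw [sh_res, rmap_inc] at h1
  have h2 := inc_res_eq ((ιX A X).obj G) (b := Y'.hom) (b' := k.left ≫ a) k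
    (Over.homMk k.left : Over.mk (k.left ≫ a) ⟶ Over.mk a) rfl y
  have h3 : inc ((ιX A X).obj G) Y'.hom (res ((ιX A X).obj G) k.op y) = 0 := h2.trans h1
  have h4 : res ((ιX A X).obj G) k.op y = 0 :=
    inc_injective A X _ Y'.hom (h3.trans (map_zero _).symm)
  exact h4.trans (map_zero (res ((ιX A X).obj G) k.op)).symm

lemma η_naturality {P P' : PM A} (f : P ⟶ P') (V : C) (x : P.obj (op V)) :
    (η A P').app (op V) (f.app (op V) x) =
      ((ι A).map ((a A).map f)).app (op V) ((η A P).app (op V) x) := by
  have h := (adj A).unit.naturality f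
  have h' := congrArg (fun φ => (PresheafOfModules.Hom.app φ (op V)).hom x) h
  exact h'

lemma η_inc_map {G G' : SheafOfModules.{u} (A.over X)} (f : G ⟶ G') {V : C} (a : V ⟶ X)
    (x : Cmp ((ιX A X).obj G) a) :
    (η A (sh ((ιX A X).obj G'))).app (op V)
        (inc _ a (((ιX A X).map f).app (op (Over.mk a)) x)) =
      ((ι A).map ((ext A X).map f)).app (op V)
        ((η A (sh ((ιX A X).obj G))).app (op V) (inc _ a x)) := by
  rw [← shF_map_inc]
  exact η_naturality A ((shF A.obj X).map ((ιX A X).map f)) V (inc _ a x)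

instance faithful_ext : (ext A X).Faithful where
  map_injective {G G'} f f' h := by
    apply SheafOfModules.Hom.ext
    apply PresheafOfModules.Hom.ext
    funext Y
    induction Y using Opposite.rec with | _ Y
    apply ModuleCat.hom_ext
    apply LinearMap.ext
    intro x
    have e1 := η_inc_map A X f Y.hom x
    have e2 := η_inc_map A X f' Y.hom x
    rw [h] at e1
    have e3 := e1.trans e2.symm
    have key : ∀ u v : Cmp ((ιX A X).obj G') Y.hom,
        (η A (sh ((ιX A X).obj G'))).app (op Y.left) (inc _ Y.hom u) =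
          (η A (sh ((ιX A X).obj G'))).app (op Y.left) (inc _ Y.hom v) → u = v := by
      intro u v huv
      have h0 : (η A (sh ((ιX A X).obj G'))).app (op Y.left) (inc _ Y.hom (u - v)) = 0 := by
        rw [map_sub, map_sub, huv, sub_self]
      exact sub_eq_zero.1 (eq_zero_of_η_inc_eq_zero A X G' Y.hom _ h0)
    exact key _ _ e3

/-- any left adjoint of restriction to `C/X` is exact and faithful -/
theorem exact_faithful_of_adj (L : SheafOfModules.{u} (A.over X) ⥤ SheafOfModules.{u} A)
    (adjL : L ⊣ SheafOfModules.overFunctor.{u} A X) :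
    PreservesFiniteLimits L ∧ PreservesFiniteColimits L ∧ L.Faithful := by
  have e : L ≅ ext A X := adjL.leftAdjointUniq (extAdj A X)
  refine ⟨preservesFiniteLimits_of_natIso e.symm, ?_, Functor.Faithful.of_iso e.symm⟩
  haveI : PreservesColimitsOfSize.{0, 0} L := adjL.leftAdjoint_preservesColimits
  exact PreservesColimitsOfSize.preservesFiniteColimits _

end Groth.Agent.Helper9.ShriekNCSh
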