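import Mathlib
import Groth.Prelude.Def_EtBase
import Groth.Prelude.Def_EtShriek2
import Groth.Agent.Helper9.ShriekEtB
import Groth.Agent.Helper9.StalkFinA
import Groth.Agent.Helper9.GeomPtFinite

/-! Stalks of the sheaf of sections with proper support along a separated locally quasi-finite
morphism: joint injectivity and finite support of the germ maps. -/

set_option autoImplicit false
universe u

open CategoryTheory CategoryTheory.Limits Opposite AlgebraicGeometry

namespace Groth.Agent.Helper9.ShriekQf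

open Groth.Agent.Helper9.ShriekSupp Groth.Agent.Helper9.ShriekSheaf
  Groth.Agent.Helper9.ProperOverB Groth.Agent.Helper9.ProperOverC
  Groth.Agent.Helper9.ShriekComp Groth.Agent.Helper9.ShriekEt
  Groth.Agent.Helper9.StalkFinA

attribute [local instance] Groth.Agent.Helper9.EtStalkExact.preservesFilteredColimits_forget_ab

variable {X Y : Scheme.{u}} (f : X ⟶ Y) [LocallyOfFiniteType f] [LocallyQuasiFinite f]
  {Ω : Type u} [Field Ω] [IsAlgClosed Ω] (η : Spec (CommRingCat.of Ω) ⟶ Y) (F : EtCoh.Ab X)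

/-- the lifts of the geometric point `η` to `X` -/
abbrev LiftsF : Type u := {ξ : Spec (CommRingCat.of Ω) ⟶ X // ξ ≫ f = η}

/-- the germ map `(f_* F)_η ⟶ F_ξ` -/
noncomputable abbrev th (ξ : LiftsF f η) :
    (EtCoh.stalk η).obj ((EtCoh.push f).obj F) ⟶ (EtCoh.stalk ξ.1).obj F :=
  theta f η ξ.1 ξ.2 F.obj

/-- the germ map evaluated on the germ of a section with proper support -/
theorem th_germ (ξ : LiftsF f η) (W : Y.Etale) (l : (Scheme.pointSmallEtale η).fiber.obj W)
    (t : EtCoh.sect ((Sh f).obj F) W) :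
    th f η F ξ ((EtCoh.stalk η).map ((Shι f).app F)
      ((Scheme.pointSmallEtale η).toPresheafFiber W l ((Sh f).obj F).obj t)) =
    (Scheme.pointSmallEtale ξ.1).toPresheafFiber ((EtCoh.bc f).obj W) (liftPt f η ξ.1 ξ.2 l) F.obj
      (under f F W t) := by
  have h1 := (Scheme.pointSmallEtale η).toPresheafFiber_naturality ((Shι f).app F).hom W l
  have h2 := congrArg (fun m => m t) (congrArg AddCommGrpCat.Hom.hom h1)
  have h4 := theta_apply f η ξ.1 ξ.2 F.obj W l (under f F W t)
  exact (congrArg (th f η F ξ) h2).trans h4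

omit [LocallyQuasiFinite f] in
theorem isProperOver_supp' (W : Y.Etale) (t : EtCoh.sect ((Sh f).obj F) W) :
    ClSub.IsProperOver (EtShriek.prV f W)
      (EtShriek.sectSupp F ((EtCoh.bc f).obj W) (under f F W t)) := by
  have h1 := (shriekPred_iff_hasProperSupport f F W _).1
    ((mem_shriekSubgroup_iff f F W _).1 (under_mem f F W t))
  rwa [hasProperSupport_iff] at h1

set_option backward.isDefEq.respectTransparency.types false in
instance lqf_prV (W : Y.Etale) : LocallyQuasiFinite (EtShriek.prV f W) :=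
  MorphismProperty.pullback_fst (P := @LocallyQuasiFinite) W.hom f inferInstance

set_option backward.isDefEq.respectTransparency.types false in
/-- a point of `X ×_Y W` over the image of `l` is the image of a geometric point `liftPt` -/
theorem exists_liftPt (W : Y.Etale) (l : (Scheme.pointSmallEtale η).fiber.obj W)
    (z : ((EtCoh.bc f).obj W).left) (hz : (EtShriek.prV f W).base z = ptImg η W l) :
    ∃ ξ : LiftsF f η, ptImg ξ.1 ((EtCoh.bc f).obj W) (liftPt f η ξ.1 ξ.2 l) = z := by
  obtain ⟨a, ha1, ha2⟩ := GeomPtFinite.exists_fac_of_quasiFiniteAt (EtShriek.prV f W)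
    (ShriekEt.ptLeft η W l) z ((EtShriek.prV f W).quasiFiniteAt z) hz
  let pX : ((EtCoh.bc f).obj W).left ⟶ X := pullback.snd W.hom f
  have hc : EtShriek.prV f W ≫ W.hom = pX ≫ f := pullback.condition
  have hu : (a ≫ pX) ≫ f = η := by
    rw [Category.assoc, ← hc, ← Category.assoc, ha1, ShriekEt.ptLeft_hom]
  refine ⟨⟨a ≫ pX, hu⟩, ?_⟩
  have hpair : ShriekEt.ptLeft (a ≫ pX) ((EtCoh.bc f).obj W) (liftPt f η (a ≫ pX) hu l) = a := by
    apply pullback.hom_ext
    · exact (ptLeft_liftPt_fst f η (a ≫ pX) hu l).trans ha1.symm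
    · exact ptLeft_liftPt_snd f η (a ≫ pX) hu l
  show (ShriekEt.ptLeft (a ≫ pX) ((EtCoh.bc f).obj W) (liftPt f η (a ≫ pX) hu l)).base default = z
  rw [hpair]
  exact ha2

/-- joint injectivity of the germ maps on the stalk of the sheaf of sections with proper support -/
theorem eq_zero_of_th_eq_zero (d : ↑((EtCoh.stalk η).obj ((Sh f).obj F)))
    (h : ∀ ξ : LiftsF f η, th f η F ξ ((EtCoh.stalk η).map ((Shι f).app F) d) = 0) :
    d = 0 := by
  obtain ⟨W, l, t, rfl⟩ := (Scheme.pointSmallEtale η).toPresheafFiber_jointly_surjective d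
  have hZ := isProperOver_supp' f F W t
  have hcl := isClosed_image (EtShriek.prV f W) _ hZ
  apply germ_eq_zero_of_notMem
  intro hmem
  have h1 := sectSupp_subset_of_isClosed f F W t _ hcl subset_rfl hmem
  obtain ⟨z, hzZ, hzw⟩ := h1
  obtain ⟨ξ, hξ⟩ := exists_liftPt f η W l z hzw
  have h2 := (th_germ f η F ξ W l t).symm.trans (h ξ)
  have h3 := notMem_of_germ_eq_zero ξ.1 F _ _ _ h2
  rw [hξ] at h3
  exact h3 hzZ

set_option backward.isDefEq.respectTransparency.types false in
/-- only finitely many germ maps are nonzero on an element of the stalk of the sheaf of sections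
with proper support -/
theorem finite_th_ne_zero (y : ↑((EtCoh.stalk η).obj ((Sh f).obj F))) :
    {ξ : LiftsF f η | th f η F ξ ((EtCoh.stalk η).map ((Shι f).app F) y) ≠ 0}.Finite := by
  obtain ⟨W, l, t, rfl⟩ := (Scheme.pointSmallEtale η).toPresheafFiber_jointly_surjective y
  obtain ⟨hcl, hp⟩ := isProperOver_supp' f F W t
  let Z := EtShriek.sectSupp F ((EtCoh.bc f).obj W) (under f F W t)
  let π : red Z hcl ⟶ W.left := redι Z hcl ≫ EtShriek.prV f W
  haveI : IsProper π := hp
  haveI : LocallyQuasiFinite π := inferInstance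
  haveI : IsFinite π := IsFinite.of_isProper_of_locallyQuasiFinite π
  haveI hfin : Finite {a : Spec (CommRingCat.of Ω) ⟶ red Z hcl // a ≫ π = ShriekEt.ptLeft η W l} :=
    GeomFin.finite_lifts π (ShriekEt.ptLeft η W l)
  have hex : ∀ ξ : {ξ : LiftsF f η | th f η F ξ ((EtCoh.stalk η).map ((Shι f).app F)
      ((Scheme.pointSmallEtale η).toPresheafFiber W l ((Sh f).obj F).obj t)) ≠ 0},
      ∃ a : Spec (CommRingCat.of Ω) ⟶ red Z hcl,
        a ≫ redι Z hcl =
          ShriekEt.ptLeft ξ.1.1 ((EtCoh.bc f).obj W) (liftPt f η ξ.1.1 ξ.1.2 l) := by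
    rintro ⟨ξ, hξ⟩
    have hmem : ptImg ξ.1 ((EtCoh.bc f).obj W) (liftPt f η ξ.1 ξ.2 l) ∈ Z := by
      by_contra hcon
      apply hξ
      rw [th_germ]
      exact germ_eq_zero_of_notMem ξ.1 F _ _ _ hcon
    apply exists_lift_red
    rintro _ ⟨b, rfl⟩
    rw [Subsingleton.elim b default]
    exact hmem
  choose a ha using hex
  have hinj : Function.Injective (fun ξ => (⟨a ξ, by
      rw [← Category.assoc, ha ξ]
      exact ptLeft_liftPt_fst f η ξ.1.1 ξ.1.2 l⟩ :
      {a : Spec (CommRingCat.of Ω) ⟶ red Z hcl // a ≫ π = ShriekEt.ptLeft η W l})) := by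
    intro ξ ξ' h
    have h1 : a ξ = a ξ' := congrArg Subtype.val h
    have h2 : ShriekEt.ptLeft ξ.1.1 ((EtCoh.bc f).obj W) (liftPt f η ξ.1.1 ξ.1.2 l) =
        ShriekEt.ptLeft ξ'.1.1 ((EtCoh.bc f).obj W) (liftPt f η ξ'.1.1 ξ'.1.2 l) := by
      rw [← ha ξ, ← ha ξ', h1]
    have h3 := congrArg (fun b => b ≫ (pullback.snd W.hom f : ((EtCoh.bc f).obj W).left ⟶ X)) h2
    have h4 : ξ.1.1 = ξ'.1.1 :=
      (ptLeft_liftPt_snd f η ξ.1.1 ξ.1.2 l).symm.trans
        (h3.trans (ptLeft_liftPt_snd f η ξ'.1.1 ξ'.1.2 l))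
    exact Subtype.ext (Subtype.ext h4)
  exact Set.finite_coe_iff.1 (Finite.of_injective _ hinj)

end Groth.Agent.Helper9.ShriekQf
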