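import Mathlib
import Groth.Prelude.Def_EtBase
import Groth.Agent.Helper9.PropAQF4
import Groth.Agent.Helper9.GeomSep

/-! Isolating a geometric point of a separated locally quasi-finite morphism in a clopen piece
finite over an étale neighbourhood of the base point, with a section to a prescribed étale
neighbourhood. -/

set_option autoImplicit false
set_option linter.style.haveILetI false
universe u

open CategoryTheory CategoryTheory.Limits AlgebraicGeometry

namespace Groth.Agent.Helper9.ShriekQf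

open Groth.Agent.Helper9.PropAQF2 Groth.Agent.Helper9.PropAQF3 Groth.Agent.Helper9.PropAQF4
  Groth.Agent.Helper9.GeomFin

set_option maxHeartbeats 800000 in
theorem exists_sepQf {X Y : Scheme.{u}} (f : X ⟶ Y) [IsSeparated f] [LocallyOfFiniteType f]
    [LocallyQuasiFinite f] {Ω : Type u} [Field Ω] [IsAlgClosed Ω]
    (η : Spec (CommRingCat.of Ω) ⟶ Y) (ξ0 : Spec (CommRingCat.of Ω) ⟶ X) (hξ0 : ξ0 ≫ f = η)
    {U0 : Scheme.{u}} (g0 : U0 ⟶ X) [Etale g0] (l0 : Spec (CommRingCat.of Ω) ⟶ U0)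
    (hl0 : l0 ≫ g0 = ξ0) :
    ∃ (V : Scheme.{u}) (v : V ⟶ Y) (_ : Etale v) (η' : Spec (CommRingCat.of Ω) ⟶ V)
      (hη' : η' ≫ v = η) (O : (pullback f v).Opens),
      IsClosed (O : Set ↥(pullback f v)) ∧ IsFinite (O.ι ≫ pullback.snd f v) ∧
      ∃ (h : (O : Scheme.{u}) ⟶ U0), h ≫ g0 = O.ι ≫ pullback.fst f v ∧
        (∃ ζ : Spec (CommRingCat.of Ω) ⟶ (O : Scheme.{u}),
          ζ ≫ O.ι = pullback.lift ξ0 η' (by rw [hξ0, hη']) ∧ ζ ≫ h = l0) ∧
        ∀ (ξ : Spec (CommRingCat.of Ω) ⟶ X) (hξ : ξ ≫ f = η),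
          (pullback.lift ξ η' (by rw [hξ, hη'])) default ∈ O → ξ = ξ0 := by
  haveI : LocallyQuasiFinite g0 := Groth.Agent.Helper4.SchLQF.locallyQuasiFinite_of_etale g0
  haveI : LocallyQuasiFinite (g0 ≫ f) := inferInstance
  haveI : LocallyOfFiniteType (g0 ≫ f) := inferInstance
  have hs : (g0 ≫ f) (l0 default) = η default := by
    have e1 : (l0 ≫ g0 ≫ f) default = η default := by
      rw [← Category.assoc, hl0, hξ0]
    exact e1
  obtain ⟨V, v, pt, hv, hpt, m, W, hWcl, hWfin, h, hh, hgeom, huq⟩ :=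
    main_geom_fin f g0 (η default) (fun _ : Unit => l0 default) (fun _ => hs)
      (fun _ => (g0 ≫ f).quasiFiniteAt _)
  haveI := hv
  obtain ⟨η', hη', hη'pt⟩ := Scheme.exists_fac_of_etale_of_isSepClosed v η pt hpt
  have hcond : l0 ≫ g0 ≫ f = η' ≫ v := by
    rw [← Category.assoc, hl0, hξ0, hη']
  let τ : Spec (CommRingCat.of Ω) ⟶ pullback (g0 ≫ f) v := pullback.lift l0 η' hcond
  have hτ1 : τ ≫ pullback.fst (g0 ≫ f) v = l0 := pullback.lift_fst _ _ _
  have hτ2 : τ ≫ pullback.snd (g0 ≫ f) v = η' := pullback.lift_snd _ _ _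
  have hpt1 : pullback.snd (g0 ≫ f) v (τ (IsLocalRing.closedPoint Ω)) = pt := by
    have e1 : (τ ≫ pullback.snd (g0 ≫ f) v) default = pt := by rw [hτ2, hη'pt]
    exact (congrArg (pullback.snd (g0 ≫ f) v) (apply_closedPoint τ)).trans e1
  have hpt2 : pullback.fst (g0 ≫ f) v (τ (IsLocalRing.closedPoint Ω)) = l0 default := by
    have e1 : (τ ≫ pullback.fst (g0 ≫ f) v) default = l0 default := by rw [hτ1]
    exact (congrArg (pullback.fst (g0 ≫ f) v) (apply_closedPoint τ)).trans e1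
  obtain ⟨j, ζ, hζ1, hζ2⟩ := hgeom () Ω τ hpt1 hpt2
  have hτσ : τ ≫ liftMap f g0 v = pullback.lift ξ0 η' (by rw [hξ0, hη']) := by
    apply pullback.hom_ext
    · rw [Category.assoc, liftMap_fst, ← Category.assoc, hτ1, hl0, pullback.lift_fst]
    · rw [Category.assoc, liftMap_snd, hτ2, pullback.lift_snd]
  refine ⟨V, v, hv, η', hη', W () j, hWcl () j, hWfin () j, h () j, hh () j,
    ⟨ζ, hζ1.trans hτσ, hζ2.trans hτ1⟩, ?_⟩
  intro ξ hξ hmem
  obtain ⟨w, hw⟩ := GeomSep.exists_lift_open (W () j) (pullback.lift ξ η' (by rw [hξ, hη'])) hmem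
  have hζsnd : ζ ≫ (W () j).ι ≫ pullback.snd f v = η' := by
    rw [← Category.assoc, hζ1, hτσ, pullback.lift_snd]
  have hwsnd : w ≫ (W () j).ι ≫ pullback.snd f v = η' := by
    rw [← Category.assoc, hw, pullback.lift_snd]
  have hwpt : (w ≫ (W () j).ι ≫ pullback.snd f v) (IsLocalRing.closedPoint Ω) = pt := by
    rw [hwsnd, apply_closedPoint, hη'pt]
  have hwζ : w = ζ := huq () j Ω w ζ (hwsnd.trans hζsnd.symm) hwpt
  have e1 : ξ = w ≫ (W () j).ι ≫ pullback.fst f v := by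
    rw [← Category.assoc, hw, pullback.lift_fst]
  have e2 : ξ0 = ζ ≫ (W () j).ι ≫ pullback.fst f v := by
    rw [← Category.assoc, hζ1, hτσ, pullback.lift_fst]
  rw [e1, e2, hwζ]

end Groth.Agent.Helper9.ShriekQf
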