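import Mathlib
import Groth.Prelude.Def_EtBase
import Groth.Prelude.Def_EtShriek2
import Groth.Agent.Helper9.ShriekEtB
import Groth.Agent.Helper9.EtDisjGlue
import Groth.Agent.Helper6.ShrMonoB

/-! Extension by zero of a section of an abelian étale sheaf along a clopen immersion of the small
étale site. -/

set_option autoImplicit false
set_option linter.style.haveILetI false
universe u

open CategoryTheory CategoryTheory.Limits Opposite AlgebraicGeometry

namespace Groth.Agent.Helper9.ShriekQf

open Groth.Agent.Helper9.ShriekSupp Groth.Agent.Helper9.EtDisjGlue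

variable {X : Scheme.{u}} (F : EtCoh.Ab X)

section Glue

variable {T O : X.Etale} (ι : O ⟶ T)

/-- the open complement of the range of a morphism with closed range -/
noncomputable def cOp (hcl : IsClosed (Set.range ι.left)) : T.left.Opens :=
  ⟨(Set.range ι.left)ᶜ, hcl.isOpen_compl⟩

/-- the two pieces -/
noncomputable def pcs (hcl : IsClosed (Set.range ι.left)) : Bool → X.Etale
  | true => O
  | false => restr T (cOp ι hcl)

/-- the inclusions of the two pieces -/
noncomputable def pcsι (hcl : IsClosed (Set.range ι.left)) : ∀ b, pcs ι hcl b ⟶ T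
  | true => ι
  | false => restrι T (cOp ι hcl)

/-- the family of sections `(s, 0)` on the two pieces -/
noncomputable def pcsFam (hcl : IsClosed (Set.range ι.left)) (s : F.obj.obj (op O)) :
    ∀ b, (F.obj ⋙ forget AddCommGrpCat).obj (op (pcs ι hcl b))
  | true => s
  | false => (0 : F.obj.obj (op (restr T (cOp ι hcl))))

set_option backward.isDefEq.respectTransparency.types false in
/-- extension by zero of a section along a clopen immersion -/
theorem exists_extZero [IsOpenImmersion ι.left] (hcl : IsClosed (Set.range ι.left))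
    (s : F.obj.obj (op O)) :
    ∃ t : F.obj.obj (op T), F.obj.map ι.op t = s ∧
      EtShriek.sectSupp F T t ⊆ Set.range ι.left := by
  have hmono : ∀ b, Mono (pcsι ι hcl b) := by
    intro b
    cases b
    · apply mono_of_mono_left
      exact inferInstanceAs (Mono (cOp ι hcl).ι)
    · apply mono_of_mono_left
      show Mono ι.left
      infer_instance
  have hsurj : ∀ x : T.left, ∃ (b : Bool) (z : (pcs ι hcl b).left), (pcsι ι hcl b).left z = x := by
    intro x
    by_cases hx : x ∈ Set.range ι.left
    · obtain ⟨w, hw⟩ := hx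
      exact ⟨true, w, hw⟩
    · refine ⟨false, ⟨x, hx⟩, ?_⟩
      show (cOp ι hcl).ι ⟨x, hx⟩ = x
      rfl
  have hdisj : ∀ a b, a ≠ b → ∀ (za : (pcs ι hcl a).left) (zb : (pcs ι hcl b).left),
      (pcsι ι hcl a).left za ≠ (pcsι ι hcl b).left zb := by
    have key : ∀ (w : O.left) (c : (restr T (cOp ι hcl)).left),
        ι.left w ≠ (restrι T (cOp ι hcl)).left c := by
      intro w c h
      have hc : (restrι T (cOp ι hcl)).left c ∈ cOp ι hcl := by
        show (cOp ι hcl).ι c ∈ cOp ι hcl
        exact c.2
      exact hc ⟨w, h⟩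
    intro a b hab za zb
    cases a <;> cases b
    · exact (hab rfl).elim
    · exact fun h => key zb za h.symm
    · exact key za zb
    · exact (hab rfl).elim
  obtain ⟨t, ht, -⟩ := existsUnique_glue (pcs ι hcl) (pcsι ι hcl) hmono hsurj hdisj
    (F.obj ⋙ forget AddCommGrpCat) (Groth.Agent.Helper6.ShrMono.isSheaf_forget' F)
    (pcsFam F ι hcl s)
  refine ⟨t, ht true, ?_⟩
  intro x hx
  by_contra hxr
  refine hx (restr T (cOp ι hcl)) (restrι T (cOp ι hcl)) ⟨⟨x, hxr⟩, rfl⟩ (ht false)

end Glue

end Groth.Agent.Helper9.ShriekQf
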