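import Mathlib
import Groth.Prelude.Def_EtBase
import Groth.Prelude.Def_EtShriek2
import Groth.Agent.Helper9.ShriekQfA
import Groth.Agent.Helper9.ShriekQfB
import Groth.Agent.Helper9.ShriekQfC
import Groth.Agent.Lead.ProperOver

/-! Stalks of the sheaf of sections with proper support along a separated locally quasi-finite
morphism: the germ maps are jointly surjective onto the direct sum. -/

set_option autoImplicit false
set_option linter.style.haveILetI false
universe u

open CategoryTheory CategoryTheory.Limits Opposite AlgebraicGeometry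

namespace Groth.Agent.Helper9.ShriekQf

open Groth.Agent.Helper9.ShriekSupp Groth.Agent.Helper9.ShriekSheaf
  Groth.Agent.Helper9.ProperOverB Groth.Agent.Helper9.ProperOverC
  Groth.Agent.Helper9.ShriekComp Groth.Agent.Helper9.ShriekEt
  Groth.Agent.Helper9.StalkFinA

attribute [local instance] Groth.Agent.Helper9.EtStalkExact.preservesFilteredColimits_forget_ab

variable {X Y : Scheme.{u}} (f : X ⟶ Y) [IsSeparated f] [LocallyOfFiniteType f]
  [LocallyQuasiFinite f]
  {Ω : Type u} [Field Ω] [IsAlgClosed Ω] (η : Spec (CommRingCat.of Ω) ⟶ Y) (F : EtCoh.Ab X)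

set_option maxHeartbeats 1600000 in
set_option backward.isDefEq.respectTransparency.types false in
/-- a geometric point of `X` over `η` can be isolated in a clopen piece of `X ×_Y W`, finite over
an étale neighbourhood `W` of `η`, and mapping to a prescribed étale neighbourhood -/
theorem exists_sepQfE (ξ0 : LiftsF f η) (U0 : X.Etale)
    (l0 : (Scheme.pointSmallEtale ξ0.1).fiber.obj U0) :
    ∃ (W : Y.Etale) (l : (Scheme.pointSmallEtale η).fiber.obj W) (O : X.Etale)
      (ι : O ⟶ (EtCoh.bc f).obj W) (_ : IsOpenImmersion ι.left),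
      IsClosed (Set.range ι.left) ∧ IsFinite (ι.left ≫ EtShriek.prV f W) ∧
      ∃ (h : O ⟶ U0) (ζ : (Scheme.pointSmallEtale ξ0.1).fiber.obj O),
        (Scheme.pointSmallEtale ξ0.1).fiber.map ι ζ = liftPt f η ξ0.1 ξ0.2 l ∧
        (Scheme.pointSmallEtale ξ0.1).fiber.map h ζ = l0 ∧
        ∀ ξ : LiftsF f η,
          ptImg ξ.1 ((EtCoh.bc f).obj W) (liftPt f η ξ.1 ξ.2 l) ∈ Set.range ι.left → ξ = ξ0 := by
  haveI : Etale U0.hom := U0.prop
  obtain ⟨V, v, hv, η', hη', O', hOcl, hOfin, h', hh', ⟨ζ', hζ1, hζ2⟩, huq⟩ :=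
    exists_sepQf f η ξ0.1 ξ0.2 U0.hom (StalkFinA.ptLeft l0) (ptLeft_w l0)
  haveI := hv
  let W : Y.Etale := Scheme.Etale.mk v
  let l : (Scheme.pointSmallEtale η).fiber.obj W := mkPt η η' hη'
  let T : X.Etale := (EtCoh.bc f).obj W
  let e : T.left ≅ pullback f v := pullbackSymmetry v f
  have he_inv_hom : e.inv ≫ T.hom = pullback.fst f v := pullbackSymmetry_inv_comp_snd v f
  have he_inv_pr : e.inv ≫ EtShriek.prV f W = pullback.snd f v := pullbackSymmetry_inv_comp_fst v f
  have he_hom_fst : e.hom ≫ pullback.fst f v = T.hom := pullbackSymmetry_hom_comp_fst v f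
  have he_hom_snd : e.hom ≫ pullback.snd f v = EtShriek.prV f W := pullbackSymmetry_hom_comp_snd v f
  have hTet : Etale T.hom := T.prop
  let O : X.Etale := Scheme.Etale.mk (O'.ι ≫ e.inv ≫ T.hom)
  let ιl : O.left ⟶ T.left := O'.ι ≫ e.inv
  let ι : O ⟶ T := MorphismProperty.Over.homMk ιl (Category.assoc _ _ _) trivial
  have hopen : IsOpenImmersion ι.left := by
    show IsOpenImmersion (O'.ι ≫ e.inv)
    infer_instance
  have hrange : Set.range ι.left = e.hom ⁻¹' (O' : Set ↥(pullback f v)) := by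
    ext x
    constructor
    · rintro ⟨w, rfl⟩
      show e.hom ((O'.ι ≫ e.inv) w) ∈ (O' : Set ↥(pullback f v))
      rw [← Scheme.Hom.comp_apply, Category.assoc, Iso.inv_hom_id, Category.comp_id]
      exact w.2
    · intro hx
      have hx' : e.hom x ∈ Set.range O'.ι := by
        rw [Scheme.Opens.range_ι]
        exact hx
      obtain ⟨w, hw⟩ := hx'
      refine ⟨w, ?_⟩
      show (O'.ι ≫ e.inv) w = x
      rw [Scheme.Hom.comp_apply, hw, ← Scheme.Hom.comp_apply, Iso.hom_inv_id]
      rfl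
  have hclosed : IsClosed (Set.range ι.left) := by
    rw [hrange]
    exact hOcl.preimage e.hom.continuous
  have hfin : IsFinite (ι.left ≫ EtShriek.prV f W) := by
    have e1 : ι.left ≫ EtShriek.prV f W = O'.ι ≫ pullback.snd f v := by
      exact (Category.assoc _ _ _).trans (congrArg (fun t => O'.ι ≫ t) he_inv_pr)
    rw [e1]
    exact hOfin
  have hhU : h' ≫ U0.hom = O.hom := by
    show h' ≫ U0.hom = O'.ι ≫ e.inv ≫ T.hom
    rw [hh', he_inv_hom]
  let h : O ⟶ U0 := MorphismProperty.Over.homMk h' hhU trivial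
  have hζhom : ζ' ≫ O.hom = ξ0.1 := by
    show ζ' ≫ O'.ι ≫ e.inv ≫ T.hom = ξ0.1
    rw [he_inv_hom, ← Category.assoc, hζ1, pullback.lift_fst]
  refine ⟨W, l, O, ι, hopen, hclosed, hfin, h, mkPt ξ0.1 ζ' hζhom, ?_, ?_, ?_⟩
  · apply pt_ext
    rw [ptLeft_map, ptLeft_mkPt]
    show ζ' ≫ O'.ι ≫ e.inv = _
    rw [← Category.assoc, hζ1]
    apply pullback.hom_ext
    · refine (Category.assoc _ _ _).trans ?_
      refine (congrArg (fun t => pullback.lift ξ0.1 η' _ ≫ t) he_inv_pr).trans ?_
      refine (pullback.lift_snd _ _ _).trans ?_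
      exact (ptLeft_liftPt_fst f η ξ0.1 ξ0.2 l).symm
    · refine (Category.assoc _ _ _).trans ?_
      refine (congrArg (fun t => pullback.lift ξ0.1 η' _ ≫ t) he_inv_hom).trans ?_
      refine (pullback.lift_fst _ _ _).trans ?_
      exact (ptLeft_liftPt_snd f η ξ0.1 ξ0.2 l).symm
  · apply pt_ext
    rw [ptLeft_map, ptLeft_mkPt]
    exact hζ2
  · intro ξ hmem
    apply Subtype.ext
    apply huq ξ.1 ξ.2
    rw [hrange] at hmem
    have hpt : ShriekEt.ptLeft ξ.1 T (liftPt f η ξ.1 ξ.2 l) ≫ e.hom =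
        pullback.lift ξ.1 η' (by rw [ξ.2, hη']) := by
      apply pullback.hom_ext
      · refine (Category.assoc _ _ _).trans ?_
        refine Eq.trans ?_ (pullback.lift_fst _ _ _).symm
        refine (congrArg (fun t => ShriekEt.ptLeft ξ.1 T (liftPt f η ξ.1 ξ.2 l) ≫ t)
          he_hom_fst).trans ?_
        exact ptLeft_liftPt_snd f η ξ.1 ξ.2 l
      · refine (Category.assoc _ _ _).trans ?_
        refine Eq.trans ?_ (pullback.lift_snd _ _ _).symm
        refine (congrArg (fun t => ShriekEt.ptLeft ξ.1 T (liftPt f η ξ.1 ξ.2 l) ≫ t)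
          he_hom_snd).trans ?_
        exact ptLeft_liftPt_fst f η ξ.1 ξ.2 l
    rw [← hpt]
    exact hmem

set_option backward.isDefEq.respectTransparency.types false in
/-- the germ maps are jointly surjective onto the direct sum: every element of a stalk `F_ξ₀` is
the image of an element of `(f_! F)_η` whose other components vanish -/
theorem exists_delta (ξ0 : LiftsF f η) (a : ↑((EtCoh.stalk ξ0.1).obj F)) :
    ∃ d : ↑((EtCoh.stalk η).obj ((Sh f).obj F)),
      th f η F ξ0 ((EtCoh.stalk η).map ((Shι f).app F) d) = a ∧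
      ∀ ξ : LiftsF f η, ξ ≠ ξ0 → th f η F ξ ((EtCoh.stalk η).map ((Shι f).app F) d) = 0 := by
  obtain ⟨U0, l0, s0, rfl⟩ := (Scheme.pointSmallEtale ξ0.1).toPresheafFiber_jointly_surjective a
  obtain ⟨W, l, O, ι, hopen, hcl, hfin, h, ζ, hζ1, hζ2, huq⟩ := exists_sepQfE f η ξ0 U0 l0
  haveI := hopen
  obtain ⟨t, ht1, ht2⟩ := exists_extZero F ι hcl (F.obj.map h.op s0)
  have hprop : ClSub.IsProperOver (EtShriek.prV f W) (Set.range ι.left) := by
    haveI : IsClosedImmersion ι.left := IsClosedImmersion.of_isPreimmersion _ hcl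
    rw [Groth.Agent.Lead.ProperOver.isProperOver_iff_of_range_eq _ ι.left _ rfl]
    haveI := hfin
    infer_instance
  have hpred : EtShriek.ShriekPred f F W t :=
    shriekPred_of_hasProperSupport f F W t ⟨_, ht2, hprop⟩
  let t' : EtCoh.sect ((Sh f).obj F) W :=
    (show EtShriek.shriekSubgroup f F W from ⟨t, (mem_shriekSubgroup_iff f F W t).2 hpred⟩)
  have hunder : under f F W t' = t := rfl
  refine ⟨(Scheme.pointSmallEtale η).toPresheafFiber W l ((Sh f).obj F).obj t', ?_, ?_⟩
  · rw [th_germ, hunder, ← hζ1]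
    have h1 := (Scheme.pointSmallEtale ξ0.1).toPresheafFiber_w ι ζ F.obj
    have h2 := congrArg (fun m => m t) (congrArg AddCommGrpCat.Hom.hom h1)
    simp only [AddCommGrpCat.hom_comp, AddMonoidHom.coe_comp, Function.comp_apply] at h2
    rw [← h2, ht1]
    have h3 := (Scheme.pointSmallEtale ξ0.1).toPresheafFiber_w h ζ F.obj
    have h4 := congrArg (fun m => m s0) (congrArg AddCommGrpCat.Hom.hom h3)
    simp only [AddCommGrpCat.hom_comp, AddMonoidHom.coe_comp, Function.comp_apply] at h4
    rw [hζ2] at h4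
    exact h4
  · intro ξ hne
    rw [th_germ, hunder]
    apply germ_eq_zero_of_notMem
    intro hmem
    exact hne (huq ξ (ht2 hmem))

end Groth.Agent.Helper9.ShriekQf
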