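import Mathlib
import Groth.Agent.Helper6.CoprodAb

/-! Recognising a direct sum of abelian groups from its "coordinate" homomorphisms, and
transferring exactness along such decompositions. -/

set_option autoImplicit false
set_option linter.style.haveILetI false
universe w v

open CategoryTheory CategoryTheory.Limits

namespace Groth.Agent.Helper9.SumDecomp

section Plain

variable {I : Type*}

/-- the coordinate homomorphisms `Φ i : S →+ G i` exhibit `S` as the direct sum of the `G i` -/
structure IsSumDecomp {S : Type*} [AddCommGroup S] {G : I → Type*} [∀ i, AddCommGroup (G i)]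
    (Φ : ∀ i, S →+ G i) : Prop where
  inj : ∀ d : S, (∀ i, Φ i d = 0) → d = 0
  fin : ∀ d : S, {i | Φ i d ≠ 0}.Finite
  surj : ∀ i (a : G i), ∃ d : S, Φ i d = a ∧ ∀ i', i' ≠ i → Φ i' d = 0

variable {S : Type*} [AddCommGroup S] {G : I → Type*} [∀ i, AddCommGroup (G i)]
  {Φ : ∀ i, S →+ G i}

theorem IsSumDecomp.ext (h : IsSumDecomp Φ) {d d' : S} (hd : ∀ i, Φ i d = Φ i d') : d = d' := by
  rw [← sub_eq_zero]
  apply h.inj
  intro i
  rw [map_sub, hd i, sub_self]

open Classical in
/-- an element with prescribed coordinates on a finite set and vanishing coordinates elsewhere -/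
theorem IsSumDecomp.exists_finset (h : IsSumDecomp Φ) (s : Finset I) (b : ∀ i, G i) :
    ∃ d : S, ∀ j, Φ j d = if j ∈ s then b j else 0 := by
  choose δ hδ1 hδ2 using h.surj
  refine ⟨∑ i ∈ s, δ i (b i), ?_⟩
  intro j
  rw [map_sum]
  split_ifs with hj
  · rw [Finset.sum_eq_single j]
    · exact hδ1 j (b j)
    · intro i _ hij
      exact hδ2 i (b i) j (Ne.symm hij)
    · intro hj'
      exact (hj' hj).elim
  · apply Finset.sum_eq_zero
    intro i hi
    apply hδ2 i (b i) j
    rintro rfl
    exact hj hi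

variable {S' : Type*} [AddCommGroup S'] {G' : I → Type*} [∀ i, AddCommGroup (G' i)]
  {Φ' : ∀ i, S' →+ G' i}
  {S'' : Type*} [AddCommGroup S''] {G'' : I → Type*} [∀ i, AddCommGroup (G'' i)]
  {Φ'' : ∀ i, S'' →+ G'' i}

open Classical in
/-- exactness in the middle transfers from the coordinates to the sums -/
theorem exact_transfer (h : IsSumDecomp Φ) (h' : IsSumDecomp Φ')
    (uS : S →+ S') (vS : S' →+ S'') (u : ∀ i, G i →+ G' i) (v : ∀ i, G' i →+ G'' i)
    (hu : ∀ i d, Φ' i (uS d) = u i (Φ i d)) (hv : ∀ i d, Φ'' i (vS d) = v i (Φ' i d))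
    (hex : ∀ i (b : G' i), v i b = 0 → ∃ a : G i, u i a = b)
    (b : S') (hb : vS b = 0) : ∃ a : S, uS a = b := by
  have h1 : ∀ i, ∃ a : G i, u i a = Φ' i b := by
    intro i
    apply hex
    rw [← hv, hb, map_zero]
  choose a ha using h1
  obtain ⟨d, hd⟩ := h.exists_finset (h'.fin b).toFinset a
  refine ⟨d, ?_⟩
  apply h'.ext
  intro j
  rw [hu, hd]
  split_ifs with hj
  · exact ha j
  · rw [map_zero]
    rw [Set.Finite.mem_toFinset] at hj
    simp only [Set.mem_ofPred_eq, ne_eq, not_not] at hj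
    exact hj.symm

end Plain

section Cat

variable {I : Type w} (G : I → AddCommGrpCat.{max w v}) [HasCoproduct G]
  (S : AddCommGrpCat.{max w v}) (Φ : ∀ i, S ⟶ G i)

open Classical in
/-- a group with coordinate homomorphisms exhibiting it as a direct sum is isomorphic to the
coproduct -/
theorem nonempty_iso (h : IsSumDecomp (fun i => (Φ i).hom)) : Nonempty (S ≅ ∐ G) := by
  choose δ hδ1 hδ2 using h.surj
  have hadd : ∀ i (a b : G i), δ i (a + b) = δ i a + δ i b := by
    intro i a b
    apply h.ext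
    intro j
    by_cases hj : j = i
    · subst hj
      rw [map_add, hδ1, hδ1, hδ1]
    · rw [map_add, hδ2 _ _ _ hj, hδ2 _ _ _ hj, hδ2 _ _ _ hj, add_zero]
  let e : ∀ i, G i ⟶ S := fun i => AddCommGrpCat.ofHom (AddMonoidHom.mk' (δ i) (hadd i))
  let Θ : ∐ G ⟶ S := Sigma.desc e
  have hΘ : ∀ i, Sigma.ι G i ≫ Θ = e i := fun i => Sigma.ι_desc e i
  have h1 : ∀ i, Sigma.ι G i ≫ Θ ≫ Φ i = 𝟙 _ := by
    intro i
    rw [← Category.assoc, hΘ]
    ext a
    exact hδ1 i a
  have h2 : ∀ i i', i ≠ i' → Sigma.ι G i ≫ Θ ≫ Φ i' = 0 := by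
    intro i i' hne
    rw [← Category.assoc, hΘ]
    ext a
    exact hδ2 i a i' (Ne.symm hne)
  haveI : Mono Θ := Groth.Agent.Helper6.CoprodAb.mono_of_retractions G Θ Φ h1 h2
  haveI : Epi Θ := by
    rw [AddCommGrpCat.epi_iff_surjective]
    intro d
    refine ⟨∑ i ∈ (h.fin d).toFinset, (Sigma.ι G i) (Φ i d), ?_⟩
    rw [map_sum]
    apply h.ext
    intro j
    show (Φ j).hom _ = (Φ j).hom d
    rw [map_sum]
    have hterm : ∀ i, (Φ j).hom (Θ ((Sigma.ι G i) (Φ i d))) =
        if j = i then (Φ j).hom d else 0 := by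
      intro i
      have e1 : Θ ((Sigma.ι G i) (Φ i d)) = δ i (Φ i d) := by
        have := congrArg (fun m => m (Φ i d)) (congrArg AddCommGrpCat.Hom.hom (hΘ i))
        exact this
      rw [e1]
      split_ifs with hji
      · subst hji
        exact hδ1 j _
      · exact hδ2 i _ j hji
    rw [Finset.sum_congr rfl (fun i _ => hterm i)]
    rw [Finset.sum_ite_eq]
    split_ifs with hj
    · rfl
    · rw [Set.Finite.mem_toFinset] at hj
      simp only [Set.mem_ofPred_eq, ne_eq, not_not] at hj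
      exact hj.symm
  haveI : IsIso Θ := isIso_of_mono_of_epi Θ
  exact ⟨(asIso Θ).symm⟩

end Cat

end Groth.Agent.Helper9.SumDecomp
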