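import Mathlib
import Groth.Prelude.Def_EtBase
import Groth.Prelude.Def_EtShriek2
import Groth.Agent.Helper9.ShriekQfD
import Groth.Agent.Helper9.SumDecomp

/-! Stalks of the sheaf of sections with proper support along a separated locally quasi-finite
morphism: the stalk is the direct sum of the stalks at the geometric points of the fibre. -/

set_option autoImplicit false
set_option linter.style.haveILetI false
universe u

open CategoryTheory CategoryTheory.Limits Opposite AlgebraicGeometry

namespace Groth.Agent.Helper9.ShriekQf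

open Groth.Agent.Helper9.ShriekComp Groth.Agent.Helper9.StalkFinA

attribute [local instance] Groth.Agent.Helper9.EtStalkExact.preservesFilteredColimits_forget_ab

variable {X Y : Scheme.{u}} (f : X ⟶ Y) [IsSeparated f] [LocallyOfFiniteType f]
  [LocallyQuasiFinite f]
  {Ω : Type u} [Field Ω] [IsAlgClosed Ω] (η : Spec (CommRingCat.of Ω) ⟶ Y) (F : EtCoh.Ab X)

/-- the coordinate maps `(f_! F)_η ⟶ F_ξ` -/
noncomputable def thS (ξ : LiftsF f η) :
    (EtCoh.stalk η).obj ((Sh f).obj F) ⟶ (EtCoh.stalk ξ.1).obj F :=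
  (EtCoh.stalk η).map ((Shι f).app F) ≫ th f η F ξ

theorem isSumDecomp_thS :
    SumDecomp.IsSumDecomp (fun ξ : LiftsF f η => (thS f η F ξ).hom) where
  inj d h := eq_zero_of_th_eq_zero f η F d h
  fin d := finite_th_ne_zero f η F d
  surj ξ0 a := exists_delta f η F ξ0 a

theorem thS_naturality {F F' : EtCoh.Ab X} (α : F ⟶ F') (ξ : LiftsF f η) :
    (EtCoh.stalk η).map ((Sh f).map α) ≫ thS f η F' ξ =
      thS f η F ξ ≫ (EtCoh.stalk ξ.1).map α := by
  unfold thS
  rw [← Category.assoc, ← (EtCoh.stalk η).map_comp, (Shι f).naturality, (EtCoh.stalk η).map_comp,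
    Category.assoc, Category.assoc]
  congr 1
  exact theta_naturality f η ξ.1 ξ.2 α.hom

/-- the stalk of `f_! F` at a geometric point is the direct sum of the stalks of `F` at the
geometric points of the fibre -/
theorem nonempty_stalk_iso :
    Nonempty ((EtCoh.stalk η).obj ((Sh f).obj F) ≅
      ∐ fun ξ : LiftsF f η => (EtCoh.stalk ξ.1).obj F) :=
  SumDecomp.nonempty_iso.{u, u + 1} (fun ξ : LiftsF f η => (EtCoh.stalk ξ.1).obj F)
    ((EtCoh.stalk η).obj ((Sh f).obj F)) (thS f η F) (isSumDecomp_thS f η F)

end Groth.Agent.Helper9.ShriekQf
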