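import Mathlib
import Groth.Prelude.Def_EtBase
import Groth.Prelude.Def_EtShriek2
import Groth.Agent.Helper9.ShriekQfE
import Groth.Agent.Helper9.ShriekSumB
import Groth.Agent.Helper9.EtStalkAlgClosed

/-! Exactness of the direct image with proper support along a separated locally quasi-finite
morphism. -/

set_option autoImplicit false
set_option linter.style.haveILetI false
universe u

open CategoryTheory CategoryTheory.Limits Opposite AlgebraicGeometry

namespace Groth.Agent.Helper9.ShriekQf

open Groth.Agent.Helper9.ShriekComp Groth.Agent.Helper9.StalkFinA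
  Groth.Agent.Helper9.EtStalkExact

attribute [local instance] Groth.Agent.Helper9.EtStalkExact.preservesFilteredColimits_forget_ab
  Groth.Agent.Helper9.EtStalkExact.ab5_ab

section Stalks

variable {X : Scheme.{u}}

/-- an abelian étale sheaf all of whose stalks at algebraically closed geometric points vanish is
zero -/
theorem isZero_of_stalks_ac (F : EtCoh.Ab X)
    (h : ∀ (Ω : Type u) [Field Ω] [IsAlgClosed Ω] (ξ : Spec (CommRingCat.of Ω) ⟶ X),
      IsZero ((EtCoh.stalk ξ).obj F)) : IsZero F := by
  have : Mono (0 : F ⟶ F) := by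
    have : Presheaf.IsLocallyInjective X.smallEtaleTopology (0 : F ⟶ F).hom := by
      apply Groth.Agent.Helper9.EtStalkAlgClosed.isLocallyInjective_of_stalk
      intro Ω _ _ ξ
      have : Subsingleton ↑((Scheme.pointSmallEtale ξ).presheafFiber.obj F.obj) :=
        AddCommGrpCat.subsingleton_of_isZero (h Ω ξ)
      exact Function.injective_of_subsingleton _
    exact Sheaf.mono_of_isLocallyInjective _
  exact IsZero.of_mono_zero F F

/-- exactness of a complex of abelian étale sheaves can be checked on the stalks at algebraically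
closed geometric points -/
theorem exact_of_stalks_ac (S : ShortComplex (EtCoh.Ab X))
    (h : ∀ (Ω : Type u) [Field Ω] [IsAlgClosed Ω] (ξ : Spec (CommRingCat.of Ω) ⟶ X),
      (S.map (EtCoh.stalk ξ)).Exact) : S.Exact := by
  rw [S.leftHomologyData.exact_iff]
  apply isZero_of_stalks_ac
  intro Ω _ _ ξ
  rw [← S.leftHomologyData.exact_map_iff (EtCoh.stalk ξ)]
  exact h Ω ξ

end Stalks

variable {X Y : Scheme.{u}} (f : X ⟶ Y) [IsSeparated f] [LocallyOfFiniteType f]
  [LocallyQuasiFinite f]

/-- `f_!` (without sheafification) preserves exact sequences -/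
theorem exact_map_Sh (S : ShortComplex (EtCoh.Ab X)) (hS : S.Exact) : (S.map (Sh f)).Exact := by
  apply exact_of_stalks_ac
  intro Ω _ _ η
  rw [ShortComplex.ab_exact_iff]
  intro b hb
  refine SumDecomp.exact_transfer (isSumDecomp_thS f η S.X₁) (isSumDecomp_thS f η S.X₂)
    ((EtCoh.stalk η).map ((Sh f).map S.f)).hom ((EtCoh.stalk η).map ((Sh f).map S.g)).hom
    (fun ξ => ((EtCoh.stalk ξ.1).map S.f).hom) (fun ξ => ((EtCoh.stalk ξ.1).map S.g).hom)
    (Φ'' := fun ξ : LiftsF f η => (thS f η S.X₃ ξ).hom) ?_ ?_ ?_ b hb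
  · intro ξ d
    exact congrArg (fun m => m d) (congrArg AddCommGrpCat.Hom.hom (thS_naturality f η S.f ξ))
  · intro ξ d
    exact congrArg (fun m => m d) (congrArg AddCommGrpCat.Hom.hom (thS_naturality f η S.g ξ))
  · intro ξ c hc
    have h1 : (S.map (EtCoh.stalk ξ.1)).Exact := hS.map _
    rw [ShortComplex.ab_exact_iff] at h1
    exact h1 c hc

theorem preservesFinite_Sh : PreservesFiniteLimits (Sh f) ∧ PreservesFiniteColimits (Sh f) :=
  ((Functor.exact_tfae (Sh f)).out 1 3).1 (exact_map_Sh f)

/-- `f_!` is exact -/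
theorem preservesFinite_lowerShriek :
    PreservesFiniteLimits (EtShriek.lowerShriek f) ∧
      PreservesFiniteColimits (EtShriek.lowerShriek f) := by
  obtain ⟨h1, h2⟩ := preservesFinite_Sh f
  exact ⟨preservesFiniteLimits_of_natIso (ShIso f).symm,
    preservesFiniteColimits_of_natIso (ShIso f).symm⟩

end Groth.Agent.Helper9.ShriekQf
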