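import Mathlib
import Groth.Prelude.Def_EtBase
import Groth.Prelude.Def_EtShriek2
import Groth.Agent.Helper9.ShriekSumB

/-! `f_!` commutes with direct sums indexed by types of the universe of the coefficient groups
(the same argument as in `ShriekSumB`, for a larger index universe). -/

set_option autoImplicit false
universe u

open CategoryTheory CategoryTheory.Limits Opposite AlgebraicGeometry

namespace Groth.Agent.Helper9.ShriekSumBig

open Groth.Agent.Helper9.ShriekSupp Groth.Agent.Helper9.ShriekSheaf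
  Groth.Agent.Helper9.ProperOverB Groth.Agent.Helper9.ShriekComp Groth.Agent.Helper9.SheafSum
  Groth.Agent.Helper9.ShriekSum

variable {X Y : Scheme.{u}} (f : X ⟶ Y) [LocallyOfFiniteType f]

variable {ι : Type (u + 1)} [DecidableEq ι] (F : ι → EtCoh.Ab X)

set_option backward.isDefEq.respectTransparency.types false in
/-- over a quasi-compact base, a section of `⊕ F_i` with proper support lies in a finite sub-sum -/
theorem exists_finset_rI_eq_zero (V : Y.Etale) [CompactSpace V.left]
    (t : EtCoh.sect ((Sh f).obj (∐ F)) V) :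
    ∃ I : Finset ι, (rI F I).hom.app (op ((EtCoh.bc f).obj V)) (under f (∐ F) V t) = 0 := by
  let U := (EtCoh.bc f).obj V
  let s := under f (∐ F) V t
  let Z := EtShriek.sectSupp (∐ F) U s
  have hZ : IsCompact Z := by
    have h1 := (shriekPred_iff_hasProperSupport f (∐ F) V s).1
      ((mem_shriekSubgroup_iff f (∐ F) V s).1 (under_mem f (∐ F) V t))
    rw [hasProperSupport_iff] at h1
    exact isCompact_of_isProperOver (EtShriek.prV f V) Z h1
  have hcov := finSieve_mem (J := X.smallEtaleTopology) F s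
  have hex : ∀ z : Z, ∃ (W : X.Etale) (g : W ⟶ U), FinSupp F W ((∐ F).obj.map g.op s) ∧
      z.1 ∈ Set.range g.left := fun z => EtSievePt.exists_of_mem U _ hcov z.1
  choose W g hg hz using hex
  choose I hI using hg
  have hopen : ∀ z : Z, IsOpen (Set.range (g z).left) := by
    intro z
    haveI : Etale (g z).left := EtPropA.etale_left (g z)
    exact (g z).left.isOpenMap.isOpen_range
  obtain ⟨T, hT⟩ := hZ.elim_finite_subcover (fun z : Z => Set.range (g z).left) hopen
    (fun z hzZ => Set.mem_iUnion.2 ⟨⟨z, hzZ⟩, hz ⟨z, hzZ⟩⟩)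
  refine ⟨T.biUnion I, ?_⟩
  apply eq_zero_of_sectSupp_eq_empty
  rw [Set.eq_empty_iff_forall_notMem]
  intro x hx
  have hxZ : x ∈ Z := EtShriek.sectSupp_map_subset (rI F (T.biUnion I)) U s hx
  obtain ⟨z, hzT, w, hw⟩ : ∃ z ∈ T, x ∈ Set.range (g z).left := by
    have := hT hxZ
    simpa only [Set.mem_iUnion, exists_prop] using this
  refine hx (W z) (g z) ⟨w, hw⟩ ?_
  have h1 := NatTrans.naturality_apply (rI F (T.biUnion I)).hom (g z).op s
  exact h1.symm.trans (hI z (T.biUnion I) (Finset.subset_biUnion_of_mem I hzT))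

/-- the comparison map `⊕ f_! F_i → f_! (⊕ F_i)` -/
noncomputable abbrev cmp : (∐ fun i => (Sh f).obj (F i)) ⟶ (Sh f).obj (∐ F) :=
  sigmaComparison (Sh f) F

/-- the finite-sum section of the comparison map -/
noncomputable def dI (I : Finset ι) : (Sh f).obj (∐ F) ⟶ ∐ fun i => (Sh f).obj (F i) :=
  ∑ i ∈ I, (Sh f).map (Sigma.π F i) ≫ Sigma.ι (fun i => (Sh f).obj (F i)) i

theorem dI_cmp (I : Finset ι) : dI f F I ≫ cmp f F = (Sh f).map (eI F I) := by
  rw [dI, eI, Preadditive.sum_comp, Functor.map_sum]
  refine Finset.sum_congr rfl (fun i _ => ?_)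
  rw [Category.assoc, ι_comp_sigmaComparison, ← Functor.map_comp]

theorem cmp_π (j : ι) :
    cmp f F ≫ (Sh f).map (Sigma.π F j) = Sigma.π (fun i => (Sh f).obj (F i)) j := by
  apply Sigma.hom_ext
  intro i
  rw [ι_comp_sigmaComparison_assoc, ← Functor.map_comp]
  by_cases h : i = j
  · subst h
    rw [Sigma.ι_π_eq_id, Sigma.ι_π_eq_id, (Sh f).map_id]
  · rw [Sigma.ι_π_of_ne _ h, Sigma.ι_π_of_ne _ h, Functor.map_zero]

set_option backward.isDefEq.respectTransparency.types false in
/-- over a quasi-compact base the comparison map is surjective on sections -/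
theorem surjective_cmp (V : Y.Etale) [CompactSpace V.left]
    (t : EtCoh.sect ((Sh f).obj (∐ F)) V) : ∃ x, (cmp f F).hom.app (op V) x = t := by
  obtain ⟨I, hI⟩ := exists_finset_rI_eq_zero f F V t
  have h1 : ((Sh f).map (rI F I)).hom.app (op V) t = 0 := by
    apply under_injective f (∐ F) V
    exact hI
  have h2 : (Sh f).map (eI F I) + (Sh f).map (rI F I) = 𝟙 _ := by
    rw [← Functor.map_add, eI_add_rI, (Sh f).map_id]
  have h3 := congrArg (fun m => m.hom.app (op V) t) h2
  have h4 : ((Sh f).map (eI F I)).hom.app (op V) t + ((Sh f).map (rI F I)).hom.app (op V) t = t :=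
    h3
  rw [h1, add_zero, ← dI_cmp] at h4
  exact ⟨(dI f F I).hom.app (op V) t, h4⟩

omit [LocallyOfFiniteType f] [DecidableEq ι] in
theorem sum_hom_app' {H₁ H₂ : EtCoh.Ab Y} (W : Y.Etale) (I : Finset ι) (m : ι → (H₁ ⟶ H₂))
    (x : EtCoh.sect H₁ W) :
    (∑ i ∈ I, m i).hom.app (op W) x = ∑ i ∈ I, (m i).hom.app (op W) x := by
  classical
  induction I using Finset.induction_on with
  | empty => simp
  | insert a I ha ih =>
    rw [Finset.sum_insert ha, Finset.sum_insert ha, ← ih]
    rfl

theorem eq_zero_aux (V : Y.Etale) (x : EtCoh.sect (∐ fun i => (Sh f).obj (F i)) V)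
    (hπ : ∀ j, (Sigma.π (fun i => (Sh f).obj (F i)) j).hom.app (op V) x = 0)
    {W : Y.Etale} (φ : W ⟶ V) (I : Finset ι)
    (h0 : (rI (fun i => (Sh f).obj (F i)) I).hom.app (op W)
      ((∐ fun i => (Sh f).obj (F i)).obj.map φ.op x) = 0) :
    (∐ fun i => (Sh f).obj (F i)).obj.map φ.op x = 0 := by
  have h2 := congrArg (fun m => m.hom.app (op W) ((∐ fun i => (Sh f).obj (F i)).obj.map φ.op x))
    (eI_add_rI (fun i => (Sh f).obj (F i)) I)
  have h3 : (eI (fun i => (Sh f).obj (F i)) I).hom.app (op W)
        ((∐ fun i => (Sh f).obj (F i)).obj.map φ.op x) +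
      (rI (fun i => (Sh f).obj (F i)) I).hom.app (op W)
        ((∐ fun i => (Sh f).obj (F i)).obj.map φ.op x) =
      (∐ fun i => (Sh f).obj (F i)).obj.map φ.op x := h2
  rw [h0, add_zero] at h3
  rw [← h3, eI, sum_hom_app']
  refine Finset.sum_eq_zero (fun i _ => ?_)
  have h5 := NatTrans.naturality_apply (Sigma.π (fun i => (Sh f).obj (F i)) i).hom φ.op x
  show (Sigma.ι (fun i => (Sh f).obj (F i)) i).hom.app (op W)
    ((Sigma.π (fun i => (Sh f).obj (F i)) i).hom.app (op W)
      ((∐ fun i => (Sh f).obj (F i)).obj.map φ.op x)) = 0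
  rw [h5, hπ i, map_zero, map_zero]

theorem injective_cmp (V : Y.Etale) : Function.Injective ((cmp f F).hom.app (op V)) := by
  rw [injective_iff_map_eq_zero]
  intro x hx
  have hπ : ∀ j, (Sigma.π (fun i => (Sh f).obj (F i)) j).hom.app (op V) x = 0 := by
    intro j
    rw [← cmp_π]
    show ((Sh f).map (Sigma.π F j)).hom.app (op V) ((cmp f F).hom.app (op V) x) = 0
    rw [hx, map_zero]
  refine eq_zero_of_sieve _ V x _
    (finSieve_mem (J := Y.smallEtaleTopology) (fun i => (Sh f).obj (F i)) x) ?_
  intro W φ hφ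
  obtain ⟨I, hI⟩ := hφ
  have h0 := hI I subset_rfl
  exact eq_zero_aux f F V x hπ φ I h0

instance mono_cmp : Mono (cmp f F) :=
  mono_of_injective _ (injective_cmp f F)

set_option backward.isDefEq.respectTransparency.types false in
instance isLocallySurjective_cmp : Sheaf.IsLocallySurjective (cmp f F) where
  imageSieve_mem := by
    intro V t
    apply EtSievePt.mem_of_forall_point
    intro y
    obtain ⟨_, ⟨O', hO', rfl⟩, hyO, -⟩ := V.left.isBasis_affineOpens.exists_subset_of_mem_open
      (Set.mem_univ y) isOpen_univ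
    haveI : CompactSpace (restr V O').left := by
      show CompactSpace (Scheme.Opens.toScheme O')
      exact isCompact_iff_compactSpace.1 (IsAffineOpen.isCompact hO')
    refine ⟨restr V O', restrι V O', ?_, ?_⟩
    · exact surjective_cmp f F (restr V O') _
    · have : y ∈ Set.range (restrι V O').left.base := by
        rw [range_restrι]; exact hyO
      exact this

instance epi_cmp : Epi (cmp f F) := Sheaf.epi_of_isLocallySurjective (cmp f F)

instance isIso_cmp : IsIso (cmp f F) := isIso_of_mono_of_epi _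

omit [DecidableEq ι] in
theorem preservesCoproducts_Sh (ι : Type (u + 1)) : PreservesColimitsOfShape (Discrete ι) (Sh f) := by
  classical
  haveI : ∀ F : ι → EtCoh.Ab X, PreservesColimit (Discrete.functor F) (Sh f) := fun F =>
    PreservesCoproduct.of_iso_comparison (Sh f) F
  exact preservesColimitsOfShape_of_discrete (Sh f)

theorem preservesCoproducts_lowerShriek (ι : Type (u + 1)) :
    PreservesColimitsOfShape (Discrete ι) (EtShriek.lowerShriek f) :=
  haveI := preservesCoproducts_Sh f ι
  preservesColimitsOfShape_of_natIso (ShIso f).symm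

end Groth.Agent.Helper9.ShriekSumBig
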