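import Mathlib
import Groth.Prelude.Def_EtBase
import Groth.Prelude.Def_EtShriek2
import Groth.Agent.Helper9.ShriekQfF
import Groth.Agent.Helper9.ShriekSumC

/-! The direct image with proper support along a separated locally quasi-finite morphism preserves
all colimits, hence is a left adjoint. -/

set_option autoImplicit false
set_option linter.style.haveILetI false
universe u

open CategoryTheory CategoryTheory.Limits Opposite AlgebraicGeometry

namespace Groth.Agent.Helper9.ShriekQf

open Groth.Agent.Helper9.ShriekComp

variable {X Y : Scheme.{u}} (f : X ⟶ Y) [IsSeparated f] [LocallyOfFiniteType f]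
  [LocallyQuasiFinite f]

theorem preservesColimits_Sh : PreservesColimitsOfSize.{u + 1, u + 1} (Sh f) := by
  obtain ⟨h1, h2⟩ := preservesFinite_Sh f
  haveI : PreservesColimitsOfShape WalkingParallelPair (Sh f) := inferInstance
  haveI : ∀ J : Type (u + 1), PreservesColimitsOfShape (Discrete J) (Sh f) := fun J =>
    Groth.Agent.Helper9.ShriekSumBig.preservesCoproducts_Sh f J
  exact preservesColimits_of_preservesCoequalizers_and_coproducts.{u + 1} (Sh f)

theorem isLeftAdjoint_Sh : (Sh f).IsLeftAdjoint :=
  haveI := preservesColimits_Sh f
  isLeftAdjoint_of_preservesColimits_of_isSeparating (isSeparator_separator (EtCoh.Ab X)) (Sh f)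

/-- `f_!` is a left adjoint -/
theorem isLeftAdjoint_lowerShriek : (EtShriek.lowerShriek f).IsLeftAdjoint :=
  haveI := isLeftAdjoint_Sh f
  Functor.isLeftAdjoint_of_iso (ShIso f).symm

end Groth.Agent.Helper9.ShriekQf
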