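import Mathlib
import Groth.Prelude.Def_EtBase
import Groth.Prelude.Def_EtShriek2
import Groth.Prelude.Def_EtTens2
import Groth.Agent.Helper9.ShriekQfE
import Groth.Agent.Helper9.PtTensorB
import Groth.Agent.Helper9.EtStalkPullB

/-! The projection morphism `f_! F ⊗ G ⟶ f_!(F ⊗ f⁻¹G)` for the direct image with proper
support. -/

set_option autoImplicit false
set_option linter.style.haveILetI false
universe u

open CategoryTheory CategoryTheory.Limits Opposite AlgebraicGeometry TensorProduct

namespace Groth.Agent.Helper9.ShriekQf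

open Groth.Agent.Helper9.ShriekSheaf Groth.Agent.Helper9.ShriekComp
  Groth.Agent.Helper9.PtTensor Groth.Agent.Helper9.EtStalkPullB

section Supp

variable {X : Scheme.{u}} (A B : EtCoh.Ab X)

/-- the support of `s ⊗ t` is contained in the support of `s` -/
theorem sectSupp_tm_subset (W : X.Etale) (s : A.obj.obj (op W)) (t : B.obj.obj (op W)) :
    EtShriek.sectSupp (TT A B) W (tm A B W s t) ⊆ EtShriek.sectSupp A W s := by
  intro x hx W' g hw h0
  apply hx W' g hw
  rw [tm_map, h0, tm_zero_left]

end Supp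

variable {X Y : Scheme.{u}} (f : X ⟶ Y) [IsSeparated f] [LocallyOfFiniteType f]
  (F : EtCoh.Ab X) (G : EtCoh.Ab Y)

/-- the sheaf `F ⊗ f⁻¹G` -/
noncomputable abbrev HH : EtCoh.Ab X := TT F ((EtCoh.pull f).obj G)

theorem prj_mem (V : Y.Etale) (s : EtCoh.sect ((Sh f).obj F) V) (g : G.obj.obj (op V)) :
    tm F ((EtCoh.pull f).obj G) ((EtCoh.bc f).obj V) (under f F V s) (ug f G V g) ∈
      EtShriek.shriekSubgroup f (HH f F G) V := by
  rw [mem_shriekSubgroup_iff]
  apply shriekPred_of_hasProperSupport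
  exact ⟨_, sectSupp_tm_subset F ((EtCoh.pull f).obj G) _ _ _, isProperOver_supp' f F V s⟩

/-- the section `s ⊗ f^*g` of `f_!(F ⊗ f⁻¹G)` -/
noncomputable def prj (V : Y.Etale) (s : EtCoh.sect ((Sh f).obj F) V) (g : G.obj.obj (op V)) :
    EtCoh.sect ((Sh f).obj (HH f F G)) V :=
  (show EtShriek.shriekSubgroup f (HH f F G) V from ⟨_, prj_mem f F G V s g⟩)

theorem under_prj (V : Y.Etale) (s : EtCoh.sect ((Sh f).obj F) V) (g : G.obj.obj (op V)) :
    under f (HH f F G) V (prj f F G V s g) =
      tm F ((EtCoh.pull f).obj G) ((EtCoh.bc f).obj V) (under f F V s) (ug f G V g) := rfl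

theorem under_add (V : Y.Etale) (s s' : EtCoh.sect ((Sh f).obj F) V) :
    under f F V (s + s') = under f F V s + under f F V s' := rfl

theorem ug_add (V : Y.Etale) (g g' : G.obj.obj (op V)) :
    ug f G V (g + g') = ug f G V g + ug f G V g' :=
  map_add _ _ _

theorem prj_add_left (V : Y.Etale) (s s' : EtCoh.sect ((Sh f).obj F) V) (g : G.obj.obj (op V)) :
    prj f F G V (s + s') g = prj f F G V s g + prj f F G V s' g := by
  apply under_injective f (HH f F G) V
  rw [under_add, under_prj, under_prj, under_prj, under_add, tm_add_left]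

theorem prj_add_right (V : Y.Etale) (s : EtCoh.sect ((Sh f).obj F) V) (g g' : G.obj.obj (op V)) :
    prj f F G V s (g + g') = prj f F G V s g + prj f F G V s g' := by
  apply under_injective f (HH f F G) V
  rw [under_add, under_prj, under_prj, under_prj, ug_add, tm_add_right]

theorem ug_map {V V' : Y.Etale} (a : V' ⟶ V) (g : G.obj.obj (op V)) :
    ug f G V' (G.obj.map a.op g) =
      ((EtCoh.pull f).obj G).obj.map ((EtCoh.bc f).map a).op (ug f G V g) :=
  NatTrans.naturality_apply ((EtCoh.pullPushAdj f).unit.app G).hom a.op g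

theorem prj_map {V V' : Y.Etale} (a : V' ⟶ V) (s : EtCoh.sect ((Sh f).obj F) V)
    (g : G.obj.obj (op V)) :
    ((Sh f).obj (HH f F G)).obj.map a.op (prj f F G V s g) =
      prj f F G V' (((Sh f).obj F).obj.map a.op s) (G.obj.map a.op g) := by
  apply under_injective f (HH f F G) V'
  rw [under_map, under_prj, under_prj, under_map, ug_map, tm_map]

/-- the biadditive map `(s, g) ↦ s ⊗ f^*g` -/
noncomputable def prjHom (V : Y.Etale) :
    EtCoh.sect ((Sh f).obj F) V →+ G.obj.obj (op V) →+ EtCoh.sect ((Sh f).obj (HH f F G)) V :=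
  AddMonoidHom.mk' (fun s => AddMonoidHom.mk' (fun g => prj f F G V s g)
      (fun g g' => prj_add_right f F G V s g g'))
    (fun s s' => by
      ext g
      exact prj_add_left f F G V s s' g)

theorem prjHom_apply (V : Y.Etale) (s : EtCoh.sect ((Sh f).obj F) V) (g : G.obj.obj (op V)) :
    prjHom f F G V s g = prj f F G V s g := rfl

/-- the projection morphism on presheaves -/
noncomputable def prjPre :
    EtTens.tensorObj ((Sh f).obj F).obj G.obj ⟶ ((Sh f).obj (HH f F G)).obj where
  app V := AddCommGrpCat.ofHom (TensorProduct.liftAddHom (prjHom f F G V.unop)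
    (fun r s g => by
      rw [map_zsmul, map_zsmul]
      rfl))
  naturality := by
    intro V V' a
    apply EtTens.hom_ext_tmul
    intro s g
    exact (prj_map f F G a.unop s g).symm

theorem prjPre_tmul (V : Y.Etale) (s : EtCoh.sect ((Sh f).obj F) V) (g : G.obj.obj (op V)) :
    (prjPre f F G).app (op V) (s ⊗ₜ[ℤ] g) = prj f F G V s g := rfl

/-- the projection morphism `f_! F ⊗ G ⟶ f_!(F ⊗ f⁻¹G)` -/
noncomputable def prjS : TT ((Sh f).obj F) G ⟶ (Sh f).obj (HH f F G) :=
  ObjectProperty.homMk (sheafifyLift Y.smallEtaleTopology (prjPre f F G)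
    ((Sh f).obj (HH f F G)).property)

theorem prjS_tm (V : Y.Etale) (s : EtCoh.sect ((Sh f).obj F) V) (g : G.obj.obj (op V)) :
    (prjS f F G).hom.app (op V) (tm ((Sh f).obj F) G V s g) = prj f F G V s g := by
  have h1 := toSheafify_sheafifyLift Y.smallEtaleTopology (prjPre f F G)
    ((Sh f).obj (HH f F G)).property
  have h2 := congrArg (fun m => m.app (op V) (s ⊗ₜ[ℤ] g)) h1
  exact h2

end Groth.Agent.Helper9.ShriekQf
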