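import Mathlib
import Groth.Agent.Helper9.SumDecomp

/-! Direct sum decompositions of abelian groups given by coordinate homomorphisms: transport
along isomorphisms, comparison of two decompositions, and tensoring with a fixed group. -/

set_option autoImplicit false
set_option linter.style.haveILetI false

open TensorProduct

namespace Groth.Agent.Helper9.SumDecomp

variable {I : Type*} {S : Type*} [AddCommGroup S] {G : I → Type*} [∀ i, AddCommGroup (G i)]
  {Φ : ∀ i, S →+ G i}

theorem IsSumDecomp.of_equiv (h : IsSumDecomp Φ) {S' : Type*} [AddCommGroup S']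
    {G' : I → Type*} [∀ i, AddCommGroup (G' i)] (e : S' ≃+ S) (g : ∀ i, G i ≃+ G' i)
    (Φ' : ∀ i, S' →+ G' i) (hΦ : ∀ i d, Φ' i d = g i (Φ i (e d))) : IsSumDecomp Φ' where
  inj d hd := by
    have h1 : e d = 0 := by
      apply h.inj
      intro i
      have h2 := hd i
      rw [hΦ] at h2
      exact (g i).map_eq_zero_iff.1 h2
    exact e.map_eq_zero_iff.1 h1
  fin d := by
    refine (h.fin (e d)).subset ?_
    intro i hi hcon
    apply hi
    rw [hΦ, hcon, map_zero]
  surj i a := by
    obtain ⟨d, hd1, hd2⟩ := h.surj i ((g i).symm a)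
    refine ⟨e.symm d, ?_, ?_⟩
    · rw [hΦ, AddEquiv.apply_symm_apply, hd1, AddEquiv.apply_symm_apply]
    · intro i' hi'
      rw [hΦ, AddEquiv.apply_symm_apply, hd2 i' hi', map_zero]

open Classical in
/-- a homomorphism compatible with two direct sum decompositions with the same summands is
bijective -/
theorem bijective_of_compat (h : IsSumDecomp Φ) {S' : Type*} [AddCommGroup S']
    {Φ' : ∀ i, S' →+ G i} (h' : IsSumDecomp Φ') (α : S →+ S')
    (hα : ∀ i d, Φ' i (α d) = Φ i d) : Function.Bijective α := by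
  constructor
  · rw [injective_iff_map_eq_zero]
    intro d hd
    apply h.inj
    intro i
    rw [← hα, hd, map_zero]
  · intro d'
    obtain ⟨d, hd⟩ := h.exists_finset (h'.fin d').toFinset (fun i => Φ' i d')
    refine ⟨d, ?_⟩
    apply h'.ext
    intro j
    rw [hα, hd]
    split_ifs with hj
    · rfl
    · rw [Set.Finite.mem_toFinset] at hj
      simp only [Set.mem_ofPred_eq, ne_eq, not_not] at hj
      exact hj.symm

section Tensor

variable (M : Type*) [AddCommGroup M]

/-- the coordinate maps tensored with a fixed group -/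
noncomputable def tcoord (Φ : ∀ i, S →+ G i) (i : I) : S ⊗[ℤ] M →+ G i ⊗[ℤ] M :=
  (TensorProduct.map (Φ i).toIntLinearMap (LinearMap.id : M →ₗ[ℤ] M)).toAddMonoidHom

theorem tcoord_tmul (i : I) (d : S) (m : M) : tcoord M Φ i (d ⊗ₜ[ℤ] m) = Φ i d ⊗ₜ[ℤ] m := rfl

open Classical in
/-- a direct sum decomposition stays one after tensoring with a fixed group -/
theorem IsSumDecomp.tensor (h : IsSumDecomp Φ) : IsSumDecomp (tcoord M Φ) := by
  choose δ hδ1 hδ2 using h.surj
  have hadd : ∀ i (a b : G i), δ i (a + b) = δ i a + δ i b := by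
    intro i a b
    apply h.ext
    intro j
    by_cases hj : j = i
    · subst hj
      rw [map_add, hδ1, hδ1, hδ1]
    · rw [map_add, hδ2 _ _ _ hj, hδ2 _ _ _ hj, hδ2 _ _ _ hj, add_zero]
  let e : ∀ i, G i →+ S := fun i => AddMonoidHom.mk' (δ i) (hadd i)
  let E : ∀ i, G i ⊗[ℤ] M →+ S ⊗[ℤ] M := fun i =>
    (TensorProduct.map (e i).toIntLinearMap (LinearMap.id : M →ₗ[ℤ] M)).toAddMonoidHom
  have hE : ∀ i (a : G i) (m : M), E i (a ⊗ₜ[ℤ] m) = δ i a ⊗ₜ[ℤ] m := fun i a m => rfl
  have hFE : ∀ i (c : G i ⊗[ℤ] M), tcoord M Φ i (E i c) = c := by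
    intro i c
    induction c using TensorProduct.induction_on with
    | zero => rw [map_zero, map_zero]
    | tmul a m => rw [hE, tcoord_tmul, hδ1]
    | add a b ha hb => rw [map_add, map_add, ha, hb]
  have hFE' : ∀ i i', i' ≠ i → ∀ c : G i ⊗[ℤ] M, tcoord M Φ i' (E i c) = 0 := by
    intro i i' hne c
    induction c using TensorProduct.induction_on with
    | zero => rw [map_zero, map_zero]
    | tmul a m => rw [hE, tcoord_tmul, hδ2 i a i' hne, zero_tmul]
    | add a b ha hb => rw [map_add, map_add, ha, hb, add_zero]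
  have hrec : ∀ (d : S) (s : Finset I), (h.fin d).toFinset ⊆ s → ∑ i ∈ s, δ i (Φ i d) = d := by
    intro d s hs
    apply h.ext
    intro j
    rw [map_sum]
    have hterm : ∀ i, Φ j (δ i (Φ i d)) = if j = i then Φ j d else 0 := by
      intro i
      split_ifs with hji
      · subst hji
        exact hδ1 j _
      · exact hδ2 i _ j hji
    rw [Finset.sum_congr rfl (fun i _ => hterm i), Finset.sum_ite_eq]
    split_ifs with hj
    · rfl
    · have hj' : j ∉ (h.fin d).toFinset := fun hc => hj (hs hc)
      rw [Set.Finite.mem_toFinset] at hj'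
      simp only [Set.mem_ofPred_eq, ne_eq, not_not] at hj'
      exact hj'.symm
  have key : ∀ z : S ⊗[ℤ] M, ∃ s0 : Finset I, ∀ s : Finset I, s0 ⊆ s →
      ∑ i ∈ s, E i (tcoord M Φ i z) = z := by
    intro z
    induction z using TensorProduct.induction_on with
    | zero =>
      refine ⟨∅, fun s _ => ?_⟩
      apply Finset.sum_eq_zero
      intro i _
      rw [map_zero, map_zero]
    | tmul d m =>
      refine ⟨(h.fin d).toFinset, fun s hs => ?_⟩
      have h1 : ∀ i, E i (tcoord M Φ i (d ⊗ₜ[ℤ] m)) = δ i (Φ i d) ⊗ₜ[ℤ] m := fun i => rfl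
      rw [Finset.sum_congr rfl (fun i _ => h1 i), ← TensorProduct.sum_tmul, hrec d s hs]
    | add a b ha hb =>
      obtain ⟨sa, hsa⟩ := ha
      obtain ⟨sb, hsb⟩ := hb
      refine ⟨sa ∪ sb, fun s hs => ?_⟩
      have h1 : ∀ i, E i (tcoord M Φ i (a + b)) = E i (tcoord M Φ i a) + E i (tcoord M Φ i b) :=
        fun i => by rw [map_add, map_add]
      rw [Finset.sum_congr rfl (fun i _ => h1 i), Finset.sum_add_distrib,
        hsa s (Finset.union_subset_left hs), hsb s (Finset.union_subset_right hs)]
  refine ⟨?_, ?_, ?_⟩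
  · intro z hz
    obtain ⟨s0, hs0⟩ := key z
    rw [← hs0 s0 subset_rfl]
    apply Finset.sum_eq_zero
    intro i _
    rw [hz i, map_zero]
  · intro z
    induction z using TensorProduct.induction_on with
    | zero =>
      refine Set.Finite.subset Set.finite_empty ?_
      intro i hi
      exact (hi (map_zero _)).elim
    | tmul d m =>
      refine (h.fin d).subset ?_
      intro i hi hcon
      apply hi
      rw [tcoord_tmul, hcon, zero_tmul]
    | add a b ha hb =>
      refine (ha.union hb).subset ?_
      intro i hi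
      by_contra hcon
      apply hi
      have h1 : tcoord M Φ i a = 0 := by
        by_contra h2
        exact hcon (Or.inl h2)
      have h2 : tcoord M Φ i b = 0 := by
        by_contra h3
        exact hcon (Or.inr h3)
      rw [map_add, h1, h2, add_zero]
  · intro i c
    exact ⟨E i c, hFE i c, fun i' hi' => hFE' i i' hi' c⟩

end Tensor

end Groth.Agent.Helper9.SumDecomp
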