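import Mathlib
import Groth.Prelude.Def_EtBase
import Groth.Prelude.Def_EtShriek2
import Groth.Prelude.Def_EtTens2
import Groth.Agent.Helper9.ShriekQfH
import Groth.Agent.Helper9.SumDecompB

/-! The projection morphism `f_! F ⊗ G ⟶ f_!(F ⊗ f⁻¹G)` is an isomorphism for `f` separated and
locally quasi-finite: computation on stalks. -/

set_option autoImplicit false
set_option linter.style.haveILetI false
universe u

open CategoryTheory CategoryTheory.Limits Opposite AlgebraicGeometry TensorProduct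

namespace Groth.Agent.Helper9.ShriekQf

open Groth.Agent.Helper9.ShriekSheaf Groth.Agent.Helper9.ShriekComp
  Groth.Agent.Helper9.PtTensor Groth.Agent.Helper9.EtStalkPullB Groth.Agent.Helper9.SumDecomp

attribute [local instance] Groth.Agent.Helper9.EtStalkExact.preservesFilteredColimits_forget_ab

variable {X Y : Scheme.{u}} (f : X ⟶ Y) [IsSeparated f] [LocallyOfFiniteType f]
  [LocallyQuasiFinite f]
  {Ω : Type u} [Field Ω] [IsAlgClosed Ω] (η : Spec (CommRingCat.of Ω) ⟶ Y)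
  (F : EtCoh.Ab X) (G : EtCoh.Ab Y)

theorem thS_germ (ξ : LiftsF f η) (W : Y.Etale) (l : (Scheme.pointSmallEtale η).fiber.obj W)
    (t : EtCoh.sect ((Sh f).obj F) W) :
    thS f η F ξ ((Scheme.pointSmallEtale η).toPresheafFiber W l ((Sh f).obj F).obj t) =
      (Scheme.pointSmallEtale ξ.1).toPresheafFiber ((EtCoh.bc f).obj W)
        (StalkFinA.liftPt f η ξ.1 ξ.2 l) F.obj (under f F W t) :=
  th_germ f η F ξ W l t

theorem stalk_map_germ {A B : EtCoh.Ab Y} (a : A ⟶ B) (W : Y.Etale)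
    (l : (Scheme.pointSmallEtale η).fiber.obj W) (t : A.obj.obj (op W)) :
    (EtCoh.stalk η).map a ((Scheme.pointSmallEtale η).toPresheafFiber W l A.obj t) =
      (Scheme.pointSmallEtale η).toPresheafFiber W l B.obj (a.hom.app (op W) t) := by
  have h2 := (Scheme.pointSmallEtale η).toPresheafFiber_naturality a.hom W l
  exact congrArg (fun m => m t) (congrArg AddCommGrpCat.Hom.hom h2)

/-- the key formula on pure tensors -/
theorem key_tmul (ξ : LiftsF f η) (d : ↑((EtCoh.stalk η).obj ((Sh f).obj F)))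
    (γ : ↑((EtCoh.stalk η).obj G)) :
    thS f η (HH f F G) ξ ((EtCoh.stalk η).map (prjS f F G)
      (tauEquiv ((Sh f).obj F) G η (d ⊗ₜ[ℤ] γ))) =
    tauEquiv F ((EtCoh.pull f).obj G) ξ.1
      (thS f η F ξ d ⊗ₜ[ℤ] psi f η ξ.1 ξ.2 G γ) := by
  obtain ⟨W, l, s, g, rfl, rfl⟩ :=
    exists_common₂ (Scheme.pointSmallEtale η) ((Sh f).obj F).obj G.obj d γ
  unfold gm
  rw [tauEquiv_tmul, stalk_map_germ, prjS_tm, thS_germ, under_prj, thS_germ, psi_apply,
    tauEquiv_tmul]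

/-- the comparison of stalks `G_η ≃ (f⁻¹G)_ξ` as an additive equivalence -/
noncomputable def psiEquiv (ξ : LiftsF f η) :
    ↑((EtCoh.stalk η).obj G) ≃+ ↑((EtCoh.stalk ξ.1).obj ((EtCoh.pull f).obj G)) :=
  (asIso (psi f η ξ.1 ξ.2 G)).addCommGroupIsoToAddEquiv

theorem psiEquiv_apply (ξ : LiftsF f η) (γ : ↑((EtCoh.stalk η).obj G)) :
    psiEquiv f η G ξ γ = psi f η ξ.1 ξ.2 G γ := rfl

/-- `F_ξ ⊗ G_η ≃ (F ⊗ f⁻¹G)_ξ` -/
noncomputable def gEquiv (ξ : LiftsF f η) :
    ↑((EtCoh.stalk ξ.1).obj F) ⊗[ℤ] ↑((EtCoh.stalk η).obj G) ≃+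
      ↑((EtCoh.stalk ξ.1).obj (HH f F G)) :=
  (TensorProduct.congr (LinearEquiv.refl ℤ ↑((EtCoh.stalk ξ.1).obj F))
    (psiEquiv f η G ξ).toIntLinearEquiv).toAddEquiv.trans
    (tauEquiv F ((EtCoh.pull f).obj G) ξ.1)

theorem gEquiv_tmul (ξ : LiftsF f η) (a : ↑((EtCoh.stalk ξ.1).obj F))
    (γ : ↑((EtCoh.stalk η).obj G)) :
    gEquiv f η F G ξ (a ⊗ₜ[ℤ] γ) =
      tauEquiv F ((EtCoh.pull f).obj G) ξ.1 (a ⊗ₜ[ℤ] psi f η ξ.1 ξ.2 G γ) := rfl

/-- the coordinate maps of the stalk of `f_! F ⊗ G` -/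
noncomputable def Psi (ξ : LiftsF f η) :
    ↑((EtCoh.stalk η).obj (TT ((Sh f).obj F) G)) →+ ↑((EtCoh.stalk ξ.1).obj (HH f F G)) :=
  (thS f η (HH f F G) ξ).hom.comp ((EtCoh.stalk η).map (prjS f F G)).hom

theorem Psi_apply (ξ : LiftsF f η) (z : ↑((EtCoh.stalk η).obj (TT ((Sh f).obj F) G))) :
    Psi f η F G ξ z = thS f η (HH f F G) ξ ((EtCoh.stalk η).map (prjS f F G) z) := rfl

theorem key (ξ : LiftsF f η)
    (x : ↑((EtCoh.stalk η).obj ((Sh f).obj F)) ⊗[ℤ] ↑((EtCoh.stalk η).obj G)) :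
    Psi f η F G ξ (tauEquiv ((Sh f).obj F) G η x) =
      gEquiv f η F G ξ (tcoord ↑((EtCoh.stalk η).obj G)
        (fun ξ : LiftsF f η => (thS f η F ξ).hom) ξ x) := by
  induction x using TensorProduct.induction_on with
  | zero => rw [map_zero, map_zero, map_zero, map_zero]
  | tmul d γ =>
    rw [tcoord_tmul, gEquiv_tmul, Psi_apply]
    exact key_tmul f η F G ξ d γ
  | add a b ha hb => rw [map_add, map_add, map_add, map_add, ha, hb]

theorem isSumDecomp_Psi : IsSumDecomp (Psi f η F G) := by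
  refine ((isSumDecomp_thS f η F).tensor ↑((EtCoh.stalk η).obj G)).of_equiv
    (tauEquiv ((Sh f).obj F) G η).symm (gEquiv f η F G) (Psi f η F G) ?_
  intro ξ z
  have h1 := key f η F G ξ ((tauEquiv ((Sh f).obj F) G η).symm z)
  rw [AddEquiv.apply_symm_apply] at h1
  exact h1

theorem bijective_stalk_prjS :
    Function.Bijective ((EtCoh.stalk η).map (prjS f F G)) :=
  bijective_of_compat (isSumDecomp_Psi f η F G) (isSumDecomp_thS f η (HH f F G))
    ((EtCoh.stalk η).map (prjS f F G)).hom (fun _ _ => rfl)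

instance isIso_prjS : IsIso (prjS f F G) :=
  EtStalkAlgClosed.isIso_of_stalks _ (fun _ _ _ η => bijective_stalk_prjS f η F G)

/-- **projection formula** for `Sh f` -/
noncomputable def projIso : TT ((Sh f).obj F) G ≅ (Sh f).obj (HH f F G) :=
  asIso (prjS f F G)

end Groth.Agent.Helper9.ShriekQf
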