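import Mathlib
import Groth.Agent.S19229
import Groth.Agent.S19232

namespace Groth.Agent.Helper9.SigmaLin

open Module

universe u v

variable {k : Type u} [Field k] {σ : k →+* k}

/-- if the image of `T` spans, so do the images of all iterates -/
theorem span_range_iterate_eq_top {V : Type v} [AddCommGroup V] [Module k V] (T : V →ₛₗ[σ] V)
    (h1 : Submodule.span k (Set.range ⇑T) = ⊤) (n : ℕ) :
    Submodule.span k (Set.range ((⇑T)^[n])) = ⊤ := by
  induction n with
  | zero => simp
  | succ n ih =>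
    rw [eq_top_iff, ← h1, Submodule.span_le]
    rintro _ ⟨x, rfl⟩
    have hx : x ∈ Submodule.span k (Set.range ((⇑T)^[n])) := by rw [ih]; exact Submodule.mem_top
    induction hx using Submodule.span_induction with
    | mem y hy =>
      obtain ⟨w, rfl⟩ := hy
      apply Submodule.subset_span
      exact ⟨w, by rw [Function.iterate_succ_apply']⟩
    | zero => rw [map_zero]; exact zero_mem _
    | add y z _ _ hy hz => rw [map_add]; exact add_mem hy hz
    | smul c y _ hy => rw [map_smulₛₗ]; exact Submodule.smul_mem _ _ hy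

/-- a nonzero fixed vector exists when the image of `T` spans a nonzero space -/
theorem exists_fixed_ne_zero {V : Type v} [AddCommGroup V] [Module k V] [FiniteDimensional k V]
    [Nontrivial V] (T : V →ₛₗ[σ] V)
    (h1 : Submodule.span k (Set.range ⇑T) = ⊤)
    (h2 : ∀ (n : ℕ) (b : Fin (n + 1) → k), b ≠ 0 →
      ∃ x : k, x ≠ 0 ∧ x = ∑ i : Fin (n + 1), (⇑σ)^[i.val + 1] x * (⇑σ)^[i.val] (b (Fin.rev i))) :
    ∃ v : V, v ≠ 0 ∧ T v = v := by
  obtain ⟨e, he⟩ := exists_ne (0 : V)
  have hnil : ∀ m : ℕ, (⇑T)^[m] e ≠ 0 := by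
    intro m hm
    apply he
    exact Groth.Agent.S19229.result k σ V T e ⟨m, hm⟩
      (fun n => by rw [span_range_iterate_eq_top T h1 n]; exact Submodule.mem_top)
  obtain ⟨v, _, hv0, hTv⟩ := Groth.Agent.S19232.result k σ V T h2 e hnil
  exact ⟨v, hv0, hTv⟩

/-- a new fixed vector outside the span of a family of fixed vectors -/
theorem exists_fixed_notMem {V : Type v} [AddCommGroup V] [Module k V] [FiniteDimensional k V]
    (T : V →ₛₗ[σ] V)
    (h1 : Submodule.span k (Set.range ⇑T) = ⊤)
    (h2 : ∀ (n : ℕ) (b : Fin (n + 1) → k), b ≠ 0 →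
      ∃ x : k, x ≠ 0 ∧ x = ∑ i : Fin (n + 1), (⇑σ)^[i.val + 1] x * (⇑σ)^[i.val] (b (Fin.rev i)))
    (h3 : ∀ c : k, ∃ y : k, σ y - y + c = 0)
    {j : ℕ} (f : Fin j → V) (hf : ∀ i, T (f i) = f i)
    (hne : Submodule.span k (Set.range f) ≠ ⊤) :
    ∃ w : V, T w = w ∧ w ∉ Submodule.span k (Set.range f) := by
  classical
  set F : Submodule k V := Submodule.span k (Set.range f) with hF
  have hTF : F ≤ F.comap T := by
    rw [hF, Submodule.span_le]
    rintro _ ⟨i, rfl⟩
    rw [SetLike.mem_coe, Submodule.mem_comap, hf i]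
    exact Submodule.subset_span ⟨i, rfl⟩
  let Tq : (V ⧸ F) →ₛₗ[σ] (V ⧸ F) := F.mapQ F T hTF
  have hTq : ∀ x : V, Tq (F.mkQ x) = F.mkQ (T x) := fun x => rfl
  have hq1 : Submodule.span k (Set.range ⇑Tq) = ⊤ := by
    rw [eq_top_iff]
    rintro q -
    obtain ⟨x, rfl⟩ := F.mkQ_surjective q
    have hx : x ∈ Submodule.span k (Set.range ⇑T) := by rw [h1]; exact Submodule.mem_top
    induction hx using Submodule.span_induction with
    | mem y hy =>
      obtain ⟨w, rfl⟩ := hy
      exact Submodule.subset_span ⟨F.mkQ w, hTq w⟩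
    | zero => rw [map_zero]; exact zero_mem _
    | add y z _ _ hy hz => rw [map_add]; exact add_mem hy hz
    | smul c y _ hy => rw [map_smul]; exact Submodule.smul_mem _ _ hy
  have hnt : Nontrivial (V ⧸ F) := Submodule.Quotient.nontrivial_iff.mpr hne
  obtain ⟨q, hq0, hqfix⟩ := exists_fixed_ne_zero Tq hq1 h2
  obtain ⟨w, rfl⟩ := F.mkQ_surjective q
  have hwF : w ∉ F := fun h => hq0 ((Submodule.Quotient.mk_eq_zero F).mpr h)
  have hdiff : T w - w ∈ F := by
    have : F.mkQ (T w - w) = 0 := by rw [map_sub, ← hTq, hqfix, sub_self]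
    exact (Submodule.Quotient.mk_eq_zero F).mp this
  obtain ⟨c, hc⟩ := (Submodule.mem_span_range_iff_exists_fun k).mp hdiff
  choose y hy using fun i => h3 (c i)
  refine ⟨w + ∑ i, y i • f i, ?_, ?_⟩
  · rw [map_add, map_sum]
    simp only [map_smulₛₗ, hf]
    have hTw : T w = w + ∑ i, c i • f i := by rw [hc]; abel
    rw [hTw, add_assoc, ← Finset.sum_add_distrib]
    congr 1
    refine Finset.sum_congr rfl fun i _ => ?_
    rw [← add_smul]
    congr 1
    have := hy i
    linear_combination this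
  · intro h
    apply hwF
    have h5 : ∑ i, y i • f i ∈ F :=
      Submodule.sum_mem _ fun i _ => Submodule.smul_mem _ _ (Submodule.subset_span ⟨i, rfl⟩)
    have := Submodule.sub_mem _ h h5
    simpa using this

end Groth.Agent.Helper9.SigmaLin
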