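import Mathlib
import Groth.Agent.S19234
import Groth.Agent.S19235

/-! Fixed points of semilinear maps over a local ring with maximal ideal `(p)` and `p^n = 0`
(helper9). -/

namespace Groth.Agent.Helper9.SigmaLocal

universe u v

open IsLocalRing

set_option linter.unusedSectionVars false

section FieldLevel

variable (k : Type u) [Field k] (σ : k →+* k) (hσ : Function.Surjective σ)
  (V : Type v) [AddCommGroup V] [Module k V] [FiniteDimensional k V] (T : V →ₛₗ[σ] V)

include hσ in
theorem fixed_basis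
    (h2 : ∀ (n : ℕ) (b : Fin (n + 1) → k), b ≠ 0 →
      ∃ x : k, x ≠ 0 ∧ x = ∑ i : Fin (n + 1), (⇑σ)^[i.val + 1] x * (⇑σ)^[i.val] (b (Fin.rev i)))
    (h3 : ∀ c : k, ∃ y : k, σ y - y + c = 0) :
    ∃ (d : ℕ) (b : Fin d → V), (∀ i, T (b i) = b i) ∧
      ∀ v, T v = v → ∃ c : Fin d → k, (∀ i, σ (c i) = c i) ∧ v = ∑ i, c i • b i := by
  classical
  obtain ⟨-, bJ, hbJ⟩ := Groth.Agent.S19234.result k σ hσ V T h2 h3
  refine ⟨_, fun i => (bJ i : V), hbJ, ?_⟩
  intro v hv
  have hvJ : v ∈ ⨅ n : ℕ, Submodule.span k (Set.range ((⇑T)^[n])) := by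
    rw [Submodule.mem_iInf]
    intro n
    exact Submodule.subset_span ⟨v, Function.iterate_fixed hv n⟩
  have hrepr : v = ∑ i, (bJ.repr ⟨v, hvJ⟩ i) • (bJ i : V) := by
    have := congrArg Subtype.val (bJ.sum_repr ⟨v, hvJ⟩)
    simp only [Submodule.coe_sum, Submodule.coe_smul] at this
    exact this.symm
  refine ⟨fun i => bJ.repr ⟨v, hvJ⟩ i, ?_, hrepr⟩
  have hT : T v = ∑ i, σ (bJ.repr ⟨v, hvJ⟩ i) • (bJ i : V) := by
    conv_lhs => rw [hrepr]
    rw [map_sum]
    refine Finset.sum_congr rfl fun i _ => ?_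
    rw [map_smulₛₗ, hbJ]
  have hli : LinearIndependent k (fun i => (bJ i : V)) :=
    bJ.linearIndependent.map' (Submodule.subtype _) (Submodule.ker_subtype _)
  have hsub : ∑ i, (σ (bJ.repr ⟨v, hvJ⟩ i) - bJ.repr ⟨v, hvJ⟩ i) • (bJ i : V) = 0 := by
    simp only [sub_smul, Finset.sum_sub_distrib]
    rw [← hT, ← hrepr, hv, sub_self]
  intro i
  have := Fintype.linearIndependent_iff.mp hli _ hsub i
  exact sub_eq_zero.mp this

include hσ in
theorem fixed_finite_field
    (h2 : ∀ (n : ℕ) (b : Fin (n + 1) → k), b ≠ 0 →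
      ∃ x : k, x ≠ 0 ∧ x = ∑ i : Fin (n + 1), (⇑σ)^[i.val + 1] x * (⇑σ)^[i.val] (b (Fin.rev i)))
    (h3 : ∀ c : k, ∃ y : k, σ y - y + c = 0) (hfin : {x : k | σ x = x}.Finite) :
    {v : V | T v = v}.Finite := by
  classical
  obtain ⟨d, b, -, hb⟩ := fixed_basis k σ hσ V T h2 h3
  have hpi : {f : Fin d → k | ∀ i, f i ∈ {x : k | σ x = x}}.Finite := Set.Finite.pi' fun _ => hfin
  refine (hpi.image fun c => ∑ i, c i • b i).subset ?_
  intro v hv
  obtain ⟨c, hc, hvc⟩ := hb v hv
  exact ⟨c, fun i => hc i, hvc.symm⟩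

end FieldLevel

section LocalLevel

variable {R : Type u} [CommRing R] [IsLocalRing R]
  (σ : R →+* R) (σbar : ResidueField R →+* ResidueField R)
  (hσbar : ∀ r : R, σbar (residue R r) = residue R (σ r))
  {M : Type v} [AddCommGroup M] [Module R M] (T : M →ₛₗ[σ] M)

/-- the residue field acts on `M / 𝔪 M` -/
@[reducible] noncomputable def qMod (R : Type u) [CommRing R] [IsLocalRing R]
    (M : Type v) [AddCommGroup M] [Module R M] :
    Module (ResidueField R) (M ⧸ (maximalIdeal R) • (⊤ : Submodule R M)) :=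
  inferInstanceAs (Module (R ⧸ (maximalIdeal R)) (M ⧸ (maximalIdeal R) • (⊤ : Submodule R M)))

attribute [local instance] qMod

theorem residue_smul_mkQ (r : R) (m : M) :
    (residue R r) • (((maximalIdeal R) • (⊤ : Submodule R M)).mkQ m) =
      ((maximalIdeal R) • (⊤ : Submodule R M)).mkQ (r • m) := rfl

include hσbar in
theorem σ_mem (r : R) (hr : r ∈ maximalIdeal R) : σ r ∈ maximalIdeal R := by
  rw [← residue_eq_zero_iff] at hr ⊢
  rw [← hσbar, hr, map_zero]

include hσbar in
theorem le_comap : (maximalIdeal R) • (⊤ : Submodule R M) ≤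
    ((maximalIdeal R) • (⊤ : Submodule R M)).comap T := by
  rw [Submodule.smul_le]
  intro r hr m _
  rw [Submodule.mem_comap, map_smulₛₗ]
  exact Submodule.smul_mem_smul (σ_mem σ σbar hσbar r hr) Submodule.mem_top

/-- the induced map on `M / 𝔪 M` -/
noncomputable def Tq : (M ⧸ (maximalIdeal R) • (⊤ : Submodule R M)) →ₛₗ[σbar]
    (M ⧸ (maximalIdeal R) • (⊤ : Submodule R M)) :=
  { toFun := ((maximalIdeal R) • (⊤ : Submodule R M)).mapQ
      ((maximalIdeal R) • (⊤ : Submodule R M)) T (le_comap σ σbar hσbar T)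
    map_add' := fun x y => map_add _ x y
    map_smul' := by
      intro c x
      obtain ⟨r, rfl⟩ := residue_surjective c
      obtain ⟨m, rfl⟩ := Submodule.mkQ_surjective _ x
      rw [residue_smul_mkQ]
      show ((maximalIdeal R) • (⊤ : Submodule R M)).mkQ (T (r • m)) =
        σbar (residue R r) • ((maximalIdeal R) • (⊤ : Submodule R M)).mkQ (T m)
      rw [map_smulₛₗ, hσbar, residue_smul_mkQ] }

theorem Tq_mkQ (m : M) : Tq σ σbar hσbar T (((maximalIdeal R) • (⊤ : Submodule R M)).mkQ m) =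
    ((maximalIdeal R) • (⊤ : Submodule R M)).mkQ (T m) := rfl

theorem finite_q [Module.Finite R M] :
    Module.Finite (ResidueField R) (M ⧸ (maximalIdeal R) • (⊤ : Submodule R M)) := by
  classical
  have h1 : Module.Finite R (M ⧸ (maximalIdeal R) • (⊤ : Submodule R M)) := inferInstance
  obtain ⟨s, hs⟩ := h1.fg_top
  refine ⟨⟨s, ?_⟩⟩
  rw [eq_top_iff]
  intro x hxtop
  clear hxtop
  have hx : x ∈ Submodule.span R (s : Set (M ⧸ (maximalIdeal R) • (⊤ : Submodule R M))) := by
    rw [hs]; trivial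
  induction hx using Submodule.span_induction with
  | mem y hy => exact Submodule.subset_span hy
  | zero => exact Submodule.zero_mem _
  | add y z _ _ hy hz => exact Submodule.add_mem _ hy hz
  | smul r y _ hy =>
    obtain ⟨m, rfl⟩ := Submodule.mkQ_surjective _ y
    have : r • ((maximalIdeal R) • (⊤ : Submodule R M)).mkQ m =
        (residue R r) • ((maximalIdeal R) • (⊤ : Submodule R M)).mkQ m := by
      rw [residue_smul_mkQ, map_smul]
    rw [this]
    exact Submodule.smul_mem _ _ hy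

/-- the restriction of `T` to `𝔪 M` -/
noncomputable def TN : ((maximalIdeal R) • (⊤ : Submodule R M) : Submodule R M) →ₛₗ[σ]
    ((maximalIdeal R) • (⊤ : Submodule R M) : Submodule R M) :=
  (T.domRestrict _).codRestrict _ (fun x => le_comap σ σbar hσbar T x.2)

theorem TN_coe (x : ((maximalIdeal R) • (⊤ : Submodule R M) : Submodule R M)) :
    ((TN σ σbar hσbar T x : ((maximalIdeal R) • (⊤ : Submodule R M) : Submodule R M)) : M) =
      T (x : M) := rfl

theorem finite_N [Module.Finite R M] (hfg : (maximalIdeal R).FG) :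
    Module.Finite R ((maximalIdeal R) • (⊤ : Submodule R M) : Submodule R M) :=
  Module.Finite.iff_fg.mpr (Submodule.FG.smul hfg Module.Finite.fg_top)

theorem mem_N_iff (m : M) : m ∈ (maximalIdeal R) • (⊤ : Submodule R M) ↔
    ((maximalIdeal R) • (⊤ : Submodule R M)).mkQ m = 0 := by
  rw [← LinearMap.mem_ker, Submodule.ker_mkQ]

end LocalLevel

section Main

attribute [local instance] qMod

variable (p : ℕ) [Fact p.Prime] (R : Type u) [CommRing R] [IsLocalRing R]
  (hmax : maximalIdeal R = Ideal.span {(p : R)})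
  (σ : R →+* R) (σbar : ResidueField R →+* ResidueField R)
  (hσbar : ∀ r : R, σbar (residue R r) = residue R (σ r))
  (hsurj : Function.Surjective σbar)
  (h2 : ∀ (n : ℕ) (b : Fin (n + 1) → ResidueField R), b ≠ 0 →
    ∃ x : ResidueField R, x ≠ 0 ∧
      x = ∑ i : Fin (n + 1), (⇑σbar)^[i.val + 1] x * (⇑σbar)^[i.val] (b (Fin.rev i)))
  (h3 : ∀ c : ResidueField R, ∃ y : ResidueField R, σbar y - y + c = 0)

include hmax in
theorem maximalIdeal_fg : (maximalIdeal R).FG := by
  rw [hmax]
  exact Submodule.fg_span_singleton _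

include hmax in
theorem kill_N {M : Type v} [AddCommGroup M] [Module R M] (j : ℕ)
    (hM : ∀ m : M, (p : R) ^ (j + 1) • m = 0)
    (x : ((maximalIdeal R) • (⊤ : Submodule R M) : Submodule R M)) : (p : R) ^ j • x = 0 := by
  obtain ⟨x, hx⟩ := x
  rw [hmax, Submodule.ideal_span_singleton_smul, Submodule.mem_smul_pointwise_iff_exists] at hx
  obtain ⟨m, _, rfl⟩ := hx
  apply Subtype.ext
  rw [Submodule.coe_smul, Submodule.coe_zero]
  show (p : R) ^ j • (p : R) • m = 0
  rw [smul_smul, ← pow_succ, hM]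

include hmax hσbar hsurj h2 h3 in
theorem fixed_finite (hfin : {x : ResidueField R | σbar x = x}.Finite) :
    ∀ (j : ℕ) (M : Type v) [AddCommGroup M] [Module R M] [Module.Finite R M] (T : M →ₛₗ[σ] M),
      (∀ m : M, (p : R) ^ j • m = 0) → {m : M | T m = m}.Finite := by
  intro j
  induction j with
  | zero =>
    intro M _ _ _ T h0
    have : ∀ m : M, m = 0 := fun m => by simpa using h0 m
    exact Set.Finite.subset (Set.finite_singleton 0) (fun m _ => this m)
  | succ j ih =>
    intro M _ _ _ T hM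
    have := finite_N (M := M) (maximalIdeal_fg p R hmax)
    have hN := ih _ (TN σ σbar hσbar T) (kill_N p R hmax j hM)
    have := finite_q (R := R) (M := M)
    have hV := fixed_finite_field (ResidueField R) σbar hsurj
      (M ⧸ (maximalIdeal R) • (⊤ : Submodule R M)) (Tq σ σbar hσbar T) h2 h3 hfin
    refine Set.Finite.of_finite_fibers (((maximalIdeal R) • (⊤ : Submodule R M)).mkQ)
      (hV.subset ?_) ?_
    · rintro _ ⟨m, hm, rfl⟩
      show Tq σ σbar hσbar T _ = _
      rw [Tq_mkQ, show T m = m from hm]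
    · rintro _ ⟨m₀, hm₀, rfl⟩
      refine ((hN.image fun x : ((maximalIdeal R) • (⊤ : Submodule R M) : Submodule R M) =>
        m₀ + (x : M))).subset ?_
      rintro m ⟨hm, hmm₀⟩
      have hmem : m - m₀ ∈ (maximalIdeal R) • (⊤ : Submodule R M) := by
        rw [mem_N_iff, map_sub, show _ = _ from hmm₀, sub_self]
      refine ⟨⟨m - m₀, hmem⟩, ?_, ?_⟩
      · apply Subtype.ext
        rw [TN_coe]
        show T (m - m₀) = m - m₀
        rw [map_sub, show T m = m from hm, show T m₀ = m₀ from hm₀]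
      · show m₀ + (m - m₀) = m
        abel

include hmax hσbar hsurj h2 h3 in
theorem fixed_fg (n : ℕ) (hn : (p : R) ^ n = 0)
    (hlift : ∀ x : ResidueField R, σbar x = x → ∃ r : R, σ r = r ∧ residue R r = x) :
    ∀ (j : ℕ) (M : Type v) [AddCommGroup M] [Module R M] [Module.Finite R M] (T : M →ₛₗ[σ] M),
      (∀ m : M, (p : R) ^ j • m = 0) →
      ∃ (ι : Type) (_ : Fintype ι) (g : ι → M), (∀ i, T (g i) = g i) ∧
        ∀ m, T m = m → ∃ c : ι → R, (∀ i, σ (c i) = c i) ∧ m = ∑ i, c i • g i := by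
  intro j
  induction j with
  | zero =>
    intro M _ _ _ T h0
    have : ∀ m : M, m = 0 := fun m => by simpa using h0 m
    exact ⟨Fin 0, inferInstance, Fin.elim0, fun i => i.elim0, fun m _ =>
      ⟨Fin.elim0, fun i => i.elim0, by simp [this m]⟩⟩
  | succ j ih =>
    intro M _ _ _ T hM
    have := finite_N (M := M) (maximalIdeal_fg p R hmax)
    obtain ⟨ι₁, _, g₁, hg₁, hgen₁⟩ := ih _ (TN σ σbar hσbar T) (kill_N p R hmax j hM)
    have := finite_q (R := R) (M := M)
    obtain ⟨d, b, hb, hgenV⟩ := fixed_basis (ResidueField R) σbar hsurj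
      (M ⧸ (maximalIdeal R) • (⊤ : Submodule R M)) (Tq σ σbar hσbar T) h2 h3
    have hSN := Groth.Agent.S19235.result p R hmax n hn σ σbar hσbar hsurj h2 h3
      ((maximalIdeal R) • (⊤ : Submodule R M) : Submodule R M) (TN σ σbar hσbar T)
    have hliftb : ∀ i : Fin d, ∃ m : M, T m = m ∧
        ((maximalIdeal R) • (⊤ : Submodule R M)).mkQ m = b i := by
      intro i
      obtain ⟨m, hm⟩ := Submodule.mkQ_surjective _ (b i)
      have hmem : T m - m ∈ (maximalIdeal R) • (⊤ : Submodule R M) := by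
        rw [mem_N_iff, map_sub, ← Tq_mkQ σ σbar hσbar T, hm, hb, sub_self]
      obtain ⟨u, hu⟩ := hSN ⟨T m - m, hmem⟩
      have hu' : (u : M) - T (u : M) = T m - m := by
        have := congrArg Subtype.val hu
        simpa [TN_coe] using this
      refine ⟨m + u, ?_, ?_⟩
      · have hTu : T (u : M) = (u : M) - (T m - m) := by rw [← hu']; abel
        rw [map_add, hTu]; abel
      · rw [map_add, hm, (mem_N_iff _).1 u.2, add_zero]
    choose g₂ hg₂fix hg₂b using hliftb
    refine ⟨Fin d ⊕ ι₁, inferInstance, Sum.elim g₂ (fun i => (g₁ i : M)), ?_, ?_⟩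
    · rintro (i | i)
      · exact hg₂fix i
      · have := congrArg Subtype.val (hg₁ i)
        rwa [TN_coe] at this
    · intro m hm
      have hv : Tq σ σbar hσbar T (((maximalIdeal R) • (⊤ : Submodule R M)).mkQ m) =
          ((maximalIdeal R) • (⊤ : Submodule R M)).mkQ m := by rw [Tq_mkQ, hm]
      obtain ⟨cbar, hcbar, hvc⟩ := hgenV _ hv
      choose c hcσ hcres using fun i => hlift (cbar i) (hcbar i)
      have hTm' : T (m - ∑ i, c i • g₂ i) = m - ∑ i, c i • g₂ i := by
        rw [map_sub, map_sum, hm]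
        congr 1
        refine Finset.sum_congr rfl fun i _ => ?_
        rw [map_smulₛₗ, hcσ, hg₂fix]
      have hm'N : m - ∑ i, c i • g₂ i ∈ (maximalIdeal R) • (⊤ : Submodule R M) := by
        rw [mem_N_iff, map_sub, map_sum, hvc, sub_eq_zero]
        refine Finset.sum_congr rfl fun i _ => ?_
        rw [← residue_smul_mkQ, hcres, hg₂b]
      obtain ⟨e, heσ, hme⟩ := hgen₁ ⟨m - ∑ i, c i • g₂ i, hm'N⟩
        (Subtype.ext (by rw [TN_coe]; exact hTm'))
      refine ⟨Sum.elim c e, ?_, ?_⟩
      · rintro (i | i)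
        · exact hcσ i
        · exact heσ i
      · rw [Fintype.sum_sum_type]
        simp only [Sum.elim_inl, Sum.elim_inr]
        have := congrArg Subtype.val hme
        simp only [Submodule.coe_sum, Submodule.coe_smul] at this
        rw [← this]
        abel

end Main

end Groth.Agent.Helper9.SigmaLocal
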