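import Groth.Agent.Helper9.FM3
import Mathlib

set_option autoImplicit false

namespace Groth.Agent.Helper9.SimpSub

open CategoryTheory CategoryTheory.Limits Opposite
open Groth.Agent.Helper9.FM

universe v u

variable {A : Type u} [Category.{v} A] [Abelian A]

theorem sub_finset_sup {X : A} {ι : Type*} (s : Finset ι) (f : ι → Subobject X) :
    sub (s.sup f) = s.sup (fun i => sub (f i)) := by
  classical
  induction s using Finset.induction_on with
  | empty => simp [sub_bot]
  | insert a s ha ih => rw [Finset.sup_insert, Finset.sup_insert, FM.sub_sup, ih]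

theorem sub_of_isLUB {X : A} {ι : Type*} [Finite ι] (f : ι → Subobject X) (T : Subobject X)
    (h : IsLUB (Set.range f) T) : sub T = ⨆ i, sub (f i) := by
  classical
  haveI := Fintype.ofFinite ι
  have hT : T = Finset.univ.sup f := by
    apply le_antisymm
    · apply h.2
      rintro _ ⟨i, rfl⟩
      exact Finset.le_sup (Finset.mem_univ i)
    · apply Finset.sup_le
      intro i _
      exact h.1 ⟨i, rfl⟩
  rw [hT, sub_finset_sup, Finset.sup_univ_eq_iSup]

instance (m i : ℕ) : Finite (SimplexCategory.mk m ⟶ SimplexCategory.mk i) := by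
  apply Finite.of_injective
    (fun φ : (SimplexCategory.mk m ⟶ SimplexCategory.mk i) => (φ.toOrderHom : Fin (m + 1) → Fin (i + 1)))
  intro φ ψ h
  ext x : 3
  exact congrFun h x

theorem S6818 (U : SimplicialObject A) (n : ℕ)
    (U' : ∀ m : ℕ, Subobject (U.obj (op (SimplexCategory.mk m))))
    (hU' : ∀ m : ℕ, IsLUB (Set.range (fun φ : Σ i : Fin (n + 1),
      (SimplexCategory.mk m ⟶ SimplexCategory.mk i) => imageSubobject (U.map φ.2.op))) (U' m)) :
    (∀ (m m' : ℕ) (ψ : SimplexCategory.mk m' ⟶ SimplexCategory.mk m),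
      imageSubobject ((U' m).arrow ≫ U.map ψ.op) ≤ U' m') ∧
    (∀ i : ℕ, i ≤ n → U' i = ⊤) ∧
    (∀ m : ℕ, n < m → U' m ⊓ AlgebraicTopology.NormalizedMooreComplex.objX U m = ⊥) := by
  have hsub : ∀ d : ℕ, sub (U' d) = ⨆ φ : Σ i : Fin (n + 1),
      (SimplexCategory.mk d ⟶ SimplexCategory.mk i), LinearMap.range (m (U.map φ.2.op)) := by
    intro d
    rw [sub_of_isLUB _ _ (hU' d)]
    congr 1
    funext φ
    rw [sub_image]
  refine ⟨?_, ?_, ?_⟩
  · intro d d' ψ
    rw [sub_le_iff, sub_image_comp, hsub, hsub, Submodule.map_iSup]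
    apply iSup_le
    rintro ⟨i, φ⟩
    rw [← LinearMap.range_comp, ← m_comp, ← U.map_comp, ← op_comp]
    exact le_iSup (fun φ : Σ i : Fin (n + 1), (SimplexCategory.mk d' ⟶ SimplexCategory.mk i) =>
      LinearMap.range (m (U.map φ.2.op))) ⟨i, ψ ≫ φ⟩
  · intro i hi
    rw [eq_top_iff]
    have h1 : imageSubobject (U.map (𝟙 (SimplexCategory.mk i)).op) ≤ U' i :=
      (hU' i).1 ⟨⟨⟨i, by omega⟩, 𝟙 _⟩, rfl⟩
    refine le_trans ?_ h1
    rw [sub_le_iff, sub_top, sub_image]
    have : U.map (𝟙 (SimplexCategory.mk i)).op = 𝟙 _ := by rw [op_id, U.map_id]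
    rw [this, m_id]
    rintro x -
    exact ⟨x, rfl⟩
  · intro d hd
    obtain ⟨k, rfl⟩ : ∃ k, d = k + 1 := ⟨d - 1, by omega⟩
    rw [eq_bot_iff, sub_le_iff, FM.sub_inf, sub_bot]
    rintro x ⟨hx1, hx2⟩
    rw [Submodule.mem_bot]
    -- x is fixed by PInfty
    have h2 : m ((AlgebraicTopology.DoldKan.PInfty (X := U)).f (k + 1)) x = x := by
      obtain ⟨y, rfl⟩ := hx2
      rw [← m_comp_apply]
      congr 2
      have := congrArg (fun g => g.f (k + 1))
        (AlgebraicTopology.DoldKan.inclusionOfMooreComplexMap_comp_PInfty U)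
      exact this
    -- x is killed by PInfty
    have h3 : m ((AlgebraicTopology.DoldKan.PInfty (X := U)).f (k + 1)) x = 0 := by
      have hle : sub (U' (k + 1)) ≤
          LinearMap.ker (m ((AlgebraicTopology.DoldKan.PInfty (X := U)).f (k + 1))) := by
        rw [hsub]
        apply iSup_le
        rintro ⟨i, φ⟩
        rintro _ ⟨y, rfl⟩
        rw [LinearMap.mem_ker]
        have hni : ¬ Function.Injective φ.toOrderHom := by
          intro hinj
          have := Fintype.card_le_of_injective _ hinj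
          simp only [SimplexCategory.len_mk, Fintype.card_fin] at this
          have := i.2
          omega
        obtain ⟨j, θ', hθ⟩ := SimplexCategory.eq_σ_comp_of_not_injective φ hni
        have : U.map φ.op = U.map θ'.op ≫ U.σ j := by
          rw [hθ, op_comp, U.map_comp]; rfl
        rw [this, m_comp_apply, ← m_comp_apply (U.σ j), AlgebraicTopology.DoldKan.σ_comp_PInfty]
        simp
      exact hle hx1
    rw [← h2, h3]

end Groth.Agent.Helper9.SimpSub
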