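import Groth.Agent.Helper9.SimpSub
import Mathlib

set_option autoImplicit false

namespace Groth.Agent.Helper9.SimpSub

open CategoryTheory CategoryTheory.Limits Opposite
open Groth.Agent.Helper9.FM

universe v u

variable {A : Type u} [Category.{v} A] [Abelian A]

section SubFunctor

variable {J : Type*} [Category J] (G : J ⥤ A) (S : ∀ j, Subobject (G.obj j))
  (h : ∀ (j j' : J) (f : j ⟶ j'), (S j').Factors ((S j).arrow ≫ G.map f))

/-- the subfunctor attached to a compatible family of subobjects -/
noncomputable def subFunctor : J ⥤ A where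
  obj j := (S j : A)
  map {j j'} f := (S j').factorThru _ (h j j' f)
  map_id j := by
    rw [← cancel_mono (S j).arrow, Subobject.factorThru_arrow, G.map_id, Category.comp_id,
      Category.id_comp]
  map_comp f g := by
    rw [← cancel_mono (S _).arrow, Subobject.factorThru_arrow, Category.assoc,
      Subobject.factorThru_arrow, ← Category.assoc, Subobject.factorThru_arrow, Category.assoc,
      G.map_comp]

noncomputable def subFunctorι : subFunctor G S h ⟶ G where
  app j := (S j).arrow
  naturality j j' f := Subobject.factorThru_arrow _ _ (h j j' f)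

end SubFunctor

/-- the subobject of `V_k` generated by the images of the `V_i`, `i ≤ n` -/
noncomputable instance (n k : ℕ) :
    Fintype (Σ i : Fin (n + 1), (SimplexCategory.mk k ⟶ SimplexCategory.mk i)) :=
  Fintype.ofFinite _

noncomputable def gen (V : SimplicialObject A) (n k : ℕ) :
    Subobject (V.obj (op (SimplexCategory.mk k))) :=
  Finset.univ.sup (fun φ : Σ i : Fin (n + 1), (SimplexCategory.mk k ⟶ SimplexCategory.mk i) =>
    imageSubobject (V.map φ.2.op))

theorem isLUB_gen (V : SimplicialObject A) (n k : ℕ) :
    IsLUB (Set.range (fun φ : Σ i : Fin (n + 1), (SimplexCategory.mk k ⟶ SimplexCategory.mk i) =>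
      imageSubobject (V.map φ.2.op))) (gen V n k) := by
  unfold gen
  constructor
  · rintro _ ⟨φ, rfl⟩
    exact Finset.le_sup (f := fun φ : Σ i : Fin (n + 1),
      (SimplexCategory.mk k ⟶ SimplexCategory.mk i) => imageSubobject (V.map φ.2.op))
      (Finset.mem_univ φ)
  · intro T hT
    apply Finset.sup_le
    intro φ _
    exact hT ⟨φ, rfl⟩

theorem gen_unique (V : SimplicialObject A) (n k : ℕ)
    (T : Subobject (V.obj (op (SimplexCategory.mk k))))
    (hT : IsLUB (Set.range (fun φ : Σ i : Fin (n + 1),
      (SimplexCategory.mk k ⟶ SimplexCategory.mk i) => imageSubobject (V.map φ.2.op))) T) :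
    T = gen V n k := hT.unique (isLUB_gen V n k)


/-- the family of generated subobjects, indexed by `SimplexCategoryᵒᵖ` -/
noncomputable def genS (V : SimplicialObject A) (n : ℕ) (j : SimplexCategoryᵒᵖ) :
    Subobject (V.obj j) := gen V n j.unop.len

theorem genS_factors (V : SimplicialObject A) (n : ℕ) {j j' : SimplexCategoryᵒᵖ} (f : j ⟶ j') :
    (genS V n j').Factors ((genS V n j).arrow ≫ V.map f) := by
  rw [factors_iff, ← sub_image, ← sub_le_iff]
  exact (S6818 V n (gen V n) (isLUB_gen V n)).1 j.unop.len j'.unop.len f.unop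

/-- the simplicial subobject generated in dimensions `≤ n` -/
noncomputable def genObj (V : SimplicialObject A) (n : ℕ) : SimplicialObject A :=
  subFunctor V (genS V n) (fun _ _ f => genS_factors V n f)

noncomputable def genι (V : SimplicialObject A) (n : ℕ) : genObj V n ⟶ V :=
  subFunctorι V (genS V n) (fun _ _ f => genS_factors V n f)

theorem genι_app (V : SimplicialObject A) (n : ℕ) (j : SimplexCategoryᵒᵖ) :
    (genι V n).app j = (genS V n j).arrow := rfl

theorem genS_eq_top (V : SimplicialObject A) (n : ℕ) (j : SimplexCategoryᵒᵖ)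
    (hj : j.unop.len ≤ n) : genS V n j = ⊤ := (S6818 V n (gen V n) (isLUB_gen V n)).2.1 _ hj

variable (m : ℕ) [∀ F : (SimplexCategory.Truncated m)ᵒᵖ ⥤ A,
  (SimplexCategory.Truncated.inclusion m).op.HasLeftKanExtension F]

theorem gen_sk_eq_top (U : SimplicialObject.Truncated A m) (k : ℕ) :
    gen ((SimplicialObject.Truncated.sk m).obj U) m k = ⊤ := by
  set V := (SimplicialObject.Truncated.sk m).obj U with hV
  let ι := genι V m
  let η := (SimplicialObject.skAdj m).unit.app U
  have hiso : IsIso ((SimplicialObject.truncation m).map ι) := by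
    apply (config := { allowSynthFailures := true }) NatIso.isIso_of_isIso_app
    intro X
    change IsIso ((genS V m _).arrow)
    rw [Subobject.isIso_arrow_iff_eq_top]
    apply genS_eq_top
    exact X.unop.2
  let ξ : U ⟶ (SimplicialObject.truncation m).obj (genObj V m) :=
    η ≫ inv ((SimplicialObject.truncation m).map ι)
  let ρ : V ⟶ genObj V m := ((SimplicialObject.skAdj m).homEquiv U (genObj V m)).symm ξ
  have hρ : ρ ≫ ι = 𝟙 V := by
    apply ((SimplicialObject.skAdj m).homEquiv U V).injective
    rw [Adjunction.homEquiv_naturality_right, Equiv.apply_symm_apply, Adjunction.homEquiv_id]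
    simp only [ξ, Category.assoc, IsIso.inv_hom_id, Category.comp_id]
    rfl
  have h1 : ρ.app (op (SimplexCategory.mk k)) ≫ (gen V m k).arrow = 𝟙 _ := by
    have := congrArg (fun t => t.app (op (SimplexCategory.mk k))) hρ
    exact this
  have : Epi (gen V m k).arrow := by
    haveI : IsSplitEpi (gen V m k).arrow := ⟨⟨_, h1⟩⟩
    infer_instance
  have : IsIso (gen V m k).arrow := isIso_of_mono_of_epi _
  exact (Subobject.isIso_arrow_iff_eq_top _).1 this

theorem S6806 (U : SimplicialObject.Truncated A m) (n : ℕ) (hn : m < n) :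
    AlgebraicTopology.NormalizedMooreComplex.objX ((SimplicialObject.Truncated.sk m).obj U) n
      = ⊥ := by
  have h := (S6818 _ m (gen ((SimplicialObject.Truncated.sk m).obj U) m) (isLUB_gen _ m)).2.2 n hn
  rw [gen_sk_eq_top, top_inf_eq] at h
  exact h

end Groth.Agent.Helper9.SimpSub
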