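import Groth.Agent.Helper9.SimpSub2
import Mathlib

set_option autoImplicit false

namespace Groth.Agent.Helper9.SimpSub

open CategoryTheory CategoryTheory.Limits Opposite
open Groth.Agent.Helper9.FM

universe v u

section Fin

variable (n : ℕ)

instance finite_truncated : Finite (SimplexCategory.Truncated n) := by
  apply Finite.of_injective
    (fun X : SimplexCategory.Truncated n => (⟨X.obj.len, Nat.lt_succ_of_le X.property⟩ : Fin (n + 1)))
  intro X Y h
  have h1 : X.obj.len = Y.obj.len := congrArg Fin.val h
  ext
  exact h1

instance finite_truncated_hom (X Y : SimplexCategory.Truncated n) : Finite (X ⟶ Y) := by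
  apply Finite.of_injective (fun f : X ⟶ Y => f.hom)
  intro f g h
  exact ObjectProperty.hom_ext _ h

instance finite_truncated_op : Finite (SimplexCategory.Truncated n)ᵒᵖ :=
  Finite.of_injective Opposite.unop Opposite.unop_injective

instance finite_truncated_op_hom (X Y : (SimplexCategory.Truncated n)ᵒᵖ) : Finite (X ⟶ Y) :=
  Finite.of_injective Quiver.Hom.unop Quiver.Hom.unop_inj

instance finite_simplex_op_hom (X Y : SimplexCategoryᵒᵖ) : Finite (X ⟶ Y) :=
  Finite.of_injective Quiver.Hom.unop Quiver.Hom.unop_inj

variable (Y : SimplexCategoryᵒᵖ)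

instance finite_costr :
    Finite (CostructuredArrow (SimplexCategory.Truncated.inclusion n).op Y) := by
  apply Finite.of_injective
    (fun c : CostructuredArrow (SimplexCategory.Truncated.inclusion n).op Y =>
      (⟨c.left, c.hom⟩ : Σ X : (SimplexCategory.Truncated n)ᵒᵖ,
        ((SimplexCategory.Truncated.inclusion n).op.obj X ⟶ Y)))
  intro c c' h
  obtain ⟨l, r, f⟩ := c
  obtain ⟨l', r', f'⟩ := c'
  obtain rfl : r = r' := Subsingleton.elim _ _
  simp only [Sigma.mk.injEq] at h
  obtain ⟨rfl, h2⟩ := h
  have := eq_of_heq h2
  subst this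
  rfl

instance finite_costr_hom (c c' : CostructuredArrow (SimplexCategory.Truncated.inclusion n).op Y) :
    Finite (c ⟶ c') := by
  apply Finite.of_injective (fun f : c ⟶ c' => f.left)
  intro f g h
  exact CostructuredArrow.ext f g h

noncomputable instance finCategory_costr :
    FinCategory (CostructuredArrow (SimplexCategory.Truncated.inclusion n).op Y) where
  fintypeObj := Fintype.ofFinite _
  fintypeHom := fun _ _ => Fintype.ofFinite _

end Fin

variable {A : Type u} [Category.{v} A] [Abelian A]

instance pointwise (n : ℕ) (F : (SimplexCategory.Truncated n)ᵒᵖ ⥤ A) :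
    (SimplexCategory.Truncated.inclusion n).op.HasPointwiseLeftKanExtension F :=
  fun _ => inferInstance

variable (n : ℕ) [∀ F : (SimplexCategory.Truncated n)ᵒᵖ ⥤ A,
  (SimplexCategory.Truncated.inclusion n).op.HasLeftKanExtension F]

instance unit_isIso (W : SimplicialObject.Truncated A n) :
    IsIso ((SimplicialObject.skAdj n).unit.app W) := by
  haveI := pointwise n W
  have h : IsIso ((SimplexCategory.Truncated.inclusion n).op.lanUnit.app W) := inferInstance
  have e : (SimplicialObject.skAdj n).unit.app W =
      (SimplexCategory.Truncated.inclusion n).op.lanUnit.app W := by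
    unfold SimplicialObject.skAdj
    rw [Functor.lanAdjunction_unit]
  rw [e]
  exact h

theorem sub_eq_iSup (U : SimplicialObject A) (k d : ℕ)
    (T : Subobject (U.obj (op (SimplexCategory.mk d))))
    (hT : IsLUB (Set.range (fun φ : Σ i : Fin (k + 1),
      (SimplexCategory.mk d ⟶ SimplexCategory.mk i) => imageSubobject (U.map φ.2.op))) T) :
    sub T = ⨆ φ : Σ i : Fin (k + 1), (SimplexCategory.mk d ⟶ SimplexCategory.mk i),
      LinearMap.range (m (U.map φ.2.op)) := by
  rw [sub_of_isLUB _ _ hT]
  congr 1
  funext φ
  rw [sub_image]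

/-- the counit of the skeleton adjunction is an isomorphism in degrees `≤ n` -/
theorem counit_app_isIso (U : SimplicialObject A) (i : ℕ) (hi : i ≤ n) :
    IsIso (((SimplicialObject.skAdj n).counit.app U).app (op (SimplexCategory.mk i))) := by
  have h1 := (SimplicialObject.skAdj n).right_triangle_components U
  have h2 : IsIso ((SimplicialObject.truncation n).map ((SimplicialObject.skAdj n).counit.app U)) := by
    have : (SimplicialObject.truncation n).map ((SimplicialObject.skAdj n).counit.app U) =
        inv ((SimplicialObject.skAdj n).unit.app ((SimplicialObject.truncation n).obj U)) := by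
      rw [← cancel_epi ((SimplicialObject.skAdj n).unit.app ((SimplicialObject.truncation n).obj U)),
        h1, IsIso.hom_inv_id]
      rfl
    rw [this]; infer_instance
  have h3 : IsIso (((SimplicialObject.truncation n).map
      ((SimplicialObject.skAdj n).counit.app U)).app (op ⟨SimplexCategory.mk i, hi⟩)) :=
    inferInstance
  exact h3

theorem S6819_image (U : SimplicialObject A) (d : ℕ) :
    LinearMap.range (m (((SimplicialObject.skAdj n).counit.app U).app (op (SimplexCategory.mk d)))) =
      ⨆ φ : Σ i : Fin (n + 1), (SimplexCategory.mk d ⟶ SimplexCategory.mk i),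
        LinearMap.range (m (U.map φ.2.op)) := by
  set ε := (SimplicialObject.skAdj n).counit.app U with hε
  set V := (SimplicialObject.Truncated.sk n).obj ((SimplicialObject.truncation n).obj U) with hV
  have hnat : ∀ {a b : ℕ} (φ : SimplexCategory.mk a ⟶ SimplexCategory.mk b),
      V.map φ.op ≫ ε.app (op (SimplexCategory.mk a)) =
        ε.app (op (SimplexCategory.mk b)) ≫ U.map φ.op := fun φ => ε.naturality φ.op
  apply le_antisymm
  · rintro _ ⟨v, rfl⟩
    have hv : v ∈ sub (gen V n d) := by
      rw [gen_sk_eq_top, sub_top]; trivial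
    rw [sub_eq_iSup V n d _ (isLUB_gen V n d)] at hv
    have : m (ε.app (op (SimplexCategory.mk d))) v ∈
        Submodule.map (m (ε.app (op (SimplexCategory.mk d))))
          (⨆ φ : Σ i : Fin (n + 1), (SimplexCategory.mk d ⟶ SimplexCategory.mk i),
            LinearMap.range (m (V.map φ.2.op))) := ⟨v, hv, rfl⟩
    rw [Submodule.map_iSup] at this
    have hle : (⨆ φ : Σ i : Fin (n + 1), (SimplexCategory.mk d ⟶ SimplexCategory.mk i),
        Submodule.map (m (ε.app (op (SimplexCategory.mk d)))) (LinearMap.range (m (V.map φ.2.op)))) ≤
        ⨆ φ : Σ i : Fin (n + 1), (SimplexCategory.mk d ⟶ SimplexCategory.mk i),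
          LinearMap.range (m (U.map φ.2.op)) := by
      apply iSup_mono
      rintro ⟨i, φ⟩
      rw [← LinearMap.range_comp, ← m_comp, hnat φ, m_comp, LinearMap.range_comp]
      exact LinearMap.map_le_range
    exact hle this
  · apply iSup_le
    rintro ⟨i, φ⟩
    rintro _ ⟨y, rfl⟩
    haveI := counit_app_isIso n U i (by have := i.2; omega)
    obtain ⟨v, rfl⟩ := ((isIso_iff (ε.app (op (SimplexCategory.mk (i : ℕ))))).1 inferInstance).2 y
    refine ⟨m (V.map φ.op) v, ?_⟩
    rw [← m_comp_apply, hnat φ, m_comp_apply]

theorem S6819_mono (U : SimplicialObject A) (d : ℕ) :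
    Mono (((SimplicialObject.skAdj n).counit.app U).app (op (SimplexCategory.mk d))) := by
  have hN : Mono ((AlgebraicTopology.normalizedMooreComplex A).map
      ((SimplicialObject.skAdj n).counit.app U)) := by
    apply (config := { allowSynthFailures := true }) HomologicalComplex.mono_of_mono_f
    intro k
    change Mono ((AlgebraicTopology.NormalizedMooreComplex.map
      ((SimplicialObject.skAdj n).counit.app U)).f k)
    rw [AlgebraicTopology.NormalizedMooreComplex.map_f]
    by_cases hk : k ≤ n
    · haveI := counit_app_isIso n U k hk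
      have hm : Mono ((AlgebraicTopology.NormalizedMooreComplex.objX
          ((SimplicialObject.Truncated.sk n).obj ((SimplicialObject.truncation n).obj U)) k).arrow ≫
          ((SimplicialObject.skAdj n).counit.app U).app (op (SimplexCategory.mk k))) :=
        mono_comp _ _
      exact @mono_of_mono_fac _ _ _ _ _ _ _ _ hm (Subobject.factorThru_arrow _ _ _)
    · have hbot : AlgebraicTopology.NormalizedMooreComplex.objX
          ((SimplicialObject.Truncated.sk n).obj ((SimplicialObject.truncation n).obj U)) k = ⊥ :=
        S6806 n _ k (by omega)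
      have hz : IsZero (Subobject.underlying.obj (AlgebraicTopology.NormalizedMooreComplex.objX
          ((SimplicialObject.Truncated.sk n).obj ((SimplicialObject.truncation n).obj U)) k)) := by
        rw [hbot]
        exact (Subobject.botCoeIsoZero).isZero_iff.2 (isZero_zero A)
      exact hz.mono _
  haveI : (AlgebraicTopology.normalizedMooreComplex A).Faithful :=
    inferInstanceAs (Abelian.DoldKan.equivalence (A := A)).functor.Faithful
  have hε' : Mono ((SimplicialObject.skAdj n).counit.app U) :=
    (AlgebraicTopology.normalizedMooreComplex A).mono_of_mono_map hN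
  exact (NatTrans.mono_iff_mono_app _).1 hε' _

theorem S6819 (U : SimplicialObject A)
    (U' : ∀ d : ℕ, Subobject (U.obj (op (SimplexCategory.mk d))))
    (hU' : ∀ d : ℕ, IsLUB (Set.range (fun φ : Σ i : Fin (n + 1),
      (SimplexCategory.mk d ⟶ SimplexCategory.mk i) => imageSubobject (U.map φ.2.op))) (U' d))
    (d : ℕ) :
    Mono (((SimplicialObject.skAdj n).counit.app U).app (op (SimplexCategory.mk d))) ∧
      imageSubobject (((SimplicialObject.skAdj n).counit.app U).app (op (SimplexCategory.mk d)))
        = U' d := by
  refine ⟨S6819_mono n U d, ?_⟩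
  rw [eq_iff_sub_eq, sub_image, S6819_image, sub_eq_iSup U n d _ (hU' d)]

end Groth.Agent.Helper9.SimpSub
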