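import Mathlib
import Groth.Prelude.Def_CAlg
import Groth.Agent.Helper9.DepthKer
import Groth.Agent.Helper9.ReflKer

/-! Serre's conditions (S₁), (S₂) for kernels. -/

set_option autoImplicit false
universe u v

namespace Groth.Agent.Helper9.SkKer

open LocCoh Groth.Agent.Helper9.DepthKer Groth.Agent.Helper9.ReflKer

variable {A : Type u} [CommRing A]

section supp

variable {M N : Type u} [AddCommGroup M] [Module A M] [AddCommGroup N] [Module A N]

/-- support of a localized module: from `A_p` to `A`. -/
lemma comap_mem_support (p : Ideal A) [p.IsPrime]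
    (q' : PrimeSpectrum (Localization.AtPrime p))
    (h : q' ∈ Module.support (Localization.AtPrime p) (LocalizedModule p.primeCompl M)) :
    PrimeSpectrum.comap (algebraMap A (Localization.AtPrime p)) q' ∈ Module.support A M := by
  rw [Module.mem_support_iff'] at h ⊢
  obtain ⟨x, hx⟩ := h
  induction x using LocalizedModule.induction_on with
  | h g s =>
    refine ⟨g, fun r hr hrg => ?_⟩
    have h1 : algebraMap A (Localization.AtPrime p) r ∉ q'.asIdeal := hr
    apply hx _ h1
    rw [← Localization.mk_one_eq_algebraMap, LocalizedModule.mk_smul_mk, hrg, LocalizedModule.zero_mk]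

/-- support of a localized module: from `A` to `A_p`. -/
lemma mem_support_of_comap (p : Ideal A) [p.IsPrime]
    (q' : PrimeSpectrum (Localization.AtPrime p))
    (h : PrimeSpectrum.comap (algebraMap A (Localization.AtPrime p)) q' ∈ Module.support A M) :
    q' ∈ Module.support (Localization.AtPrime p) (LocalizedModule p.primeCompl M) := by
  rw [Module.mem_support_iff'] at h ⊢
  obtain ⟨e, he⟩ := h
  refine ⟨LocalizedModule.mk e 1, fun r' hr' hzero => ?_⟩
  obtain ⟨a, t, rfl⟩ := IsLocalization.exists_mk'_eq p.primeCompl r'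
  rw [← Localization.mk_eq_mk'] at hr' hzero
  rw [LocalizedModule.mk_smul_mk, ← LocalizedModule.zero_mk (1 : p.primeCompl),
    LocalizedModule.mk_eq] at hzero
  obtain ⟨s, hs⟩ := hzero
  simp only [one_smul, smul_zero] at hs
  replace hs : (s : A) • a • e = 0 := hs
  have h1 : (s : A) * a ∈ (PrimeSpectrum.comap (algebraMap A (Localization.AtPrime p)) q').asIdeal := by
    by_contra hcon
    apply he _ hcon
    rw [mul_smul]; exact hs
  have h2 : algebraMap A (Localization.AtPrime p) ((s : A) * a) ∈ q'.asIdeal := h1
  apply hr'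
  have h3 : (Localization.mk a t : Localization.AtPrime p) =
      Localization.mk 1 (s * t) * algebraMap A (Localization.AtPrime p) ((s : A) * a) := by
    rw [← Localization.mk_one_eq_algebraMap, Localization.mk_mul, Localization.mk_eq_mk_iff,
      Localization.r_iff_exists]
    exact ⟨1, by simp; ring⟩
  rw [h3]
  exact Ideal.mul_mem_left _ _ h2

lemma supportDim_loc_le (p : Ideal A) [p.IsPrime]
    (h : Module.support A M ⊆ Module.support A N) :
    Module.supportDim (Localization.AtPrime p) (LocalizedModule p.primeCompl M) ≤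
      Module.supportDim (Localization.AtPrime p) (LocalizedModule p.primeCompl N) := by
  have hsub : Module.support (Localization.AtPrime p) (LocalizedModule p.primeCompl M) ⊆
      Module.support (Localization.AtPrime p) (LocalizedModule p.primeCompl N) := by
    intro q' hq'
    exact mem_support_of_comap p q' (h (comap_mem_support p q' hq'))
  unfold Module.supportDim
  exact Order.krullDim_le_of_strictMono (Set.inclusion hsub) (fun a b hab => hab)

end supp

section numerics

lemma num1 (d D : WithBot ℕ∞) (hdD : d ≤ D) (δ γ : ℕ∞) (h1 : 1 ≤ δ → 1 ≤ γ)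
    (h : min ((1 : ℕ) : WithBot ℕ∞) D ≤ (δ : WithBot ℕ∞)) :
    min ((1 : ℕ) : WithBot ℕ∞) d ≤ (γ : WithBot ℕ∞) := by
  induction d using WithBot.recBotCoe with
  | bot => simp
  | coe e' =>
    induction D using WithBot.recBotCoe with
    | bot => simp at hdD
    | coe E' =>
      rw [WithBot.coe_le_coe] at hdD
      have e1 : ((1 : ℕ) : WithBot ℕ∞) = ((1 : ℕ∞) : WithBot ℕ∞) := rfl
      rw [e1, ← WithBot.coe_min, WithBot.coe_le_coe] at h ⊢
      by_cases he : e' = 0
      · rw [he]; simp
      · have h1e : 1 ≤ e' := Order.one_le_iff_ne_zero.mpr he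
        have h1E : 1 ≤ E' := h1e.trans hdD
        rw [min_eq_left h1E] at h
        exact (min_le_left _ _).trans (h1 h)

lemma num2 (d D D1 : WithBot ℕ∞) (hdD : d ≤ D) (hdD1 : d ≤ D1) (δ δ1 γ : ℕ∞)
    (h1 : 1 ≤ δ → 1 ≤ γ) (h2 : 2 ≤ δ → 1 ≤ δ1 → 2 ≤ γ)
    (hS2 : min ((2 : ℕ) : WithBot ℕ∞) D ≤ (δ : WithBot ℕ∞))
    (hS1 : min ((1 : ℕ) : WithBot ℕ∞) D1 ≤ (δ1 : WithBot ℕ∞)) :
    min ((2 : ℕ) : WithBot ℕ∞) d ≤ (γ : WithBot ℕ∞) := by
  induction d using WithBot.recBotCoe with
  | bot => simp
  | coe e' =>
    induction D using WithBot.recBotCoe with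
    | bot => simp at hdD
    | coe E' =>
      induction D1 using WithBot.recBotCoe with
      | bot => simp at hdD1
      | coe E1' =>
        rw [WithBot.coe_le_coe] at hdD hdD1
        have e1 : ((1 : ℕ) : WithBot ℕ∞) = ((1 : ℕ∞) : WithBot ℕ∞) := rfl
        have e2 : ((2 : ℕ) : WithBot ℕ∞) = ((2 : ℕ∞) : WithBot ℕ∞) := rfl
        rw [e1, ← WithBot.coe_min, WithBot.coe_le_coe] at hS1
        rw [e2, ← WithBot.coe_min, WithBot.coe_le_coe] at hS2 ⊢
        by_cases he : e' = 0
        · rw [he]; simp
        · have h1e : 1 ≤ e' := Order.one_le_iff_ne_zero.mpr he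
          have h1E : 1 ≤ E' := h1e.trans hdD
          have hδ1 : 1 ≤ δ := by
            refine le_trans ?_ hS2
            exact le_min (by norm_num) h1E
          have hγ1 : 1 ≤ γ := h1 hδ1
          by_cases he2 : 2 ≤ e'
          · have h2E : 2 ≤ E' := he2.trans hdD
            have h2E1 : 1 ≤ E1' := le_trans (by norm_num) (he2.trans hdD1)
            rw [min_eq_left h2E] at hS2
            rw [min_eq_left h2E1] at hS1
            exact (min_le_left _ _).trans (h2 hS2 hS1)
          · have : e' ≤ 1 := by
              rw [not_le] at he2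
              have h3 : (2 : ℕ∞) = 1 + 1 := by norm_num
              rw [h3] at he2
              exact Order.le_of_lt_add_one he2
            exact (min_le_right _ _).trans (this.trans hγ1)

end numerics

section ker

variable {E0 E1 : Type u} [AddCommGroup E0] [Module A E0]
  [AddCommGroup E1] [Module A E1] (u : E0 →ₗ[A] E1)

/-- localized kernel -/
theorem exists_loc_ker (p : Ideal A) [p.IsPrime] :
    ∃ u' : LocalizedModule p.primeCompl E0 →ₗ[Localization.AtPrime p] LocalizedModule p.primeCompl E1,
      Nonempty (LocalizedModule p.primeCompl (LinearMap.ker u) ≃ₗ[Localization.AtPrime p]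
        LinearMap.ker u') := by
  let S := p.primeCompl
  let f₀ := LocalizedModule.mkLinearMap S (LinearMap.ker u)
  let f₁ := LocalizedModule.mkLinearMap S E0
  let f₂ := LocalizedModule.mkLinearMap S E1
  let ι' : LocalizedModule S (LinearMap.ker u) →ₗ[Localization.AtPrime p] LocalizedModule S E0 :=
    IsLocalizedModule.mapExtendScalars S f₀ f₁ (Localization.AtPrime p) (LinearMap.ker u).subtype
  let u' : LocalizedModule S E0 →ₗ[Localization.AtPrime p] LocalizedModule S E1 :=
    IsLocalizedModule.mapExtendScalars S f₁ f₂ (Localization.AtPrime p) u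
  have hinj : Function.Injective ι' :=
    IsLocalizedModule.map_injective S f₀ f₁ _ (Submodule.injective_subtype _)
  have hex' : Function.Exact ι' u' :=
    IsLocalizedModule.map_exact S f₀ f₁ f₂ _ u (LinearMap.exact_subtype_ker_map u)
  have hrange : LinearMap.range ι' = LinearMap.ker u' := (LinearMap.exact_iff.mp hex').symm
  exact ⟨u', ⟨(LinearEquiv.ofInjective ι' hinj).trans (LinearEquiv.ofEq _ _ hrange)⟩⟩

variable [IsNoetherianRing A] [Module.Finite A E0] [Module.Finite A E1]

omit [IsNoetherianRing A] [Module.Finite A E1] in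
theorem hasS1_ker (h : HasSk 1 A E0) : HasSk 1 A (LinearMap.ker u) := by
  intro p _
  obtain ⟨u', ⟨e⟩⟩ := exists_loc_ker u p
  have hγ : depth (Localization.AtPrime p) (LocalizedModule p.primeCompl (LinearMap.ker u)) =
      idealDepth (IsLocalRing.maximalIdeal (Localization.AtPrime p)) (LinearMap.ker u') :=
    idealDepth_congr _ e
  have hd : Module.supportDim (Localization.AtPrime p) (LocalizedModule p.primeCompl (LinearMap.ker u)) ≤
      Module.supportDim (Localization.AtPrime p) (LocalizedModule p.primeCompl E0) := by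
    rw [Module.supportDim_eq_of_equiv e]
    exact Module.supportDim_le_of_injective (LinearMap.ker u').subtype (Submodule.injective_subtype _)
  refine num1 _ _ hd _ _ ?_ (h p)
  intro h1
  rw [hγ]
  exact depth_ker_one u' h1

theorem hasS2_ker (hsupp : Module.support A (LinearMap.ker u) ⊆ Module.support A E1)
    (hE1 : HasSk 1 A E1) (hE0 : HasSk 2 A E0) : HasSk 2 A (LinearMap.ker u) := by
  intro p _
  obtain ⟨u', ⟨e⟩⟩ := exists_loc_ker u p
  have hγ : depth (Localization.AtPrime p) (LocalizedModule p.primeCompl (LinearMap.ker u)) =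
      idealDepth (IsLocalRing.maximalIdeal (Localization.AtPrime p)) (LinearMap.ker u') :=
    idealDepth_congr _ e
  have hd : Module.supportDim (Localization.AtPrime p) (LocalizedModule p.primeCompl (LinearMap.ker u)) ≤
      Module.supportDim (Localization.AtPrime p) (LocalizedModule p.primeCompl E0) := by
    rw [Module.supportDim_eq_of_equiv e]
    exact Module.supportDim_le_of_injective (LinearMap.ker u').subtype (Submodule.injective_subtype _)
  have hd1 := supportDim_loc_le p hsupp
  refine num2 _ _ _ hd hd1 _ _ _ ?_ ?_ (hE0 p) (hE1 p)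
  · intro h1
    rw [hγ]
    exact depth_ker_one u' h1
  · intro h2 h1
    rw [hγ]
    exact depth_ker_two u' h2 h1

end ker

end Groth.Agent.Helper9.SkKer
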