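import Mathlib
import Groth.Prelude.Def_DerSch2
import Groth.Agent.Helper9.SmTor7
import Groth.Agent.Helper9.RelTor2
import Groth.Agent.Helper9.Chart5
import Groth.Agent.Helper3.KosBridgeB

/-! Factorization of a finite type morphism of finite tor dimension on affine opens as a closed
immersion of finite tor dimension into an affine space, followed by the projection. -/

set_option autoImplicit false
set_option linter.style.haveILetI false
set_option linter.unusedVariables false
set_option linter.unusedSectionVars false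
set_option linter.unusedSimpArgs false
universe u

namespace Groth.Agent.Helper9.SmTor8

open CategoryTheory CategoryTheory.Limits AlgebraicGeometry Opposite TopologicalSpace
open Groth.Agent.Helper3.DRingLib Groth.Agent.Lead.PerfLib

attribute [local instance] HasDerivedCategory.standard

variable {X Y : Scheme.{u}}

/-- restriction of the structure sheaf, placed in degree `0`, to an open subscheme -/
noncomputable def rcUnitCxIso {Z : Scheme.{u}} (j : Z ⟶ X) [IsOpenImmersion j] :
    (Rc j).obj (DerSch.unitCx X) ≅ DerSch.unitCx Z :=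
  (HomologicalComplex.singleMapHomologicalComplex (Scheme.Modules.restrictFunctor j)
    (ComplexShape.up ℤ) 0).app (Coh.structureModule X) ≪≫
    (HomologicalComplex.single _ _ 0).mapIso (Scheme.Modules.restrictUnitIso j)

/-- the tor amplitude of the structure sheaf relative to `f` restricts to open subschemes -/
theorem hasTorAmplitudeAt_unitCx_restrict (f : X ⟶ Y) {Z : Scheme.{u}} (j : Z ⟶ X)
    [IsOpenImmersion j] (a b : ℤ) (u : Z)
    (h : DerSch.HasTorAmplitudeAt f a b (DerSch.unitCx X) (j.base u)) :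
    DerSch.HasTorAmplitudeAt (j ≫ f) a b (DerSch.unitCx Z) u :=
  Groth.Agent.Helper9.RelTor2.hasTorAmplitudeAt_of_iso (j ≫ f)
    (DerivedCategory.Q.mapIso (rcUnitCxIso j)) a b u
    ((Groth.Agent.Helper9.RelTor2.hasTorAmplitudeAt_restrict_iff f j _ a b u).2 h)

open Groth.Agent.Helper3.KosBridgeB in
/-- the comorphism of the projection of the affine space -/
theorem chartP_appLE {V : Y.Opens} (hV : IsAffineOpen V) (n : ℕ)
    (e : (⊤ : (P (V := V) n).Opens) ≤ (chartP hV n) ⁻¹ᵁ V) :
    ((Scheme.ΓSpecIso (CommRingCat.of (MvPolynomial (Fin n) Γ(Y, V)))).inv.hom).comp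
      (MvPolynomial.C : Γ(Y, V) →+* MvPolynomial (Fin n) Γ(Y, V)) =
      ((chartP hV n).appLE V ⊤ e).hom := by
  have h1 := IsAffineOpen.SpecMap_appLE_fromSpec (chartP hV n) hV
    (isAffineOpen_top (P (V := V) n)) e
  have h2 : Spec.map ((chartP hV n).appLE V ⊤ e) =
      Spec.map (CommRingCat.ofHom (MvPolynomial.C : Γ(Y, V) →+* MvPolynomial (Fin n) Γ(Y, V)) ≫
        (Scheme.ΓSpecIso (CommRingCat.of (MvPolynomial (Fin n) Γ(Y, V)))).inv) := by
    rw [← cancel_mono hV.fromSpec, h1, IsAffineOpen.fromSpec_top, Scheme.isoSpec_Spec_inv,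
      Spec.map_comp, Category.assoc]
    rfl
  have h3 := Spec.map_injective h2
  rw [h3]
  rfl

open Groth.Agent.Helper3.KosBridgeB in
/-- **the factorization** -/
theorem s17643 [IsNoetherian X] [IsNoetherian Y] (f : X ⟶ Y) [LocallyOfFiniteType f]
    (hf : DerSch.HasFiniteTorDim f)
    (U : X.Opens) (hU : IsAffineOpen U) (V : Y.Opens) (hV : IsAffineOpen V) (hUV : U ≤ f ⁻¹ᵁ V) :
    ∃ (W : Scheme.{u}) (g : (U : Scheme.{u}) ⟶ W) (h : W ⟶ Y),
      IsClosedImmersion g ∧ DerSch.HasFiniteTorDim g ∧ Smooth h ∧ g ≫ h = U.ι ≫ f := by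
  have hft : (f.appLE V U hUV).hom.FiniteType :=
    HasRingHomProperty.appLE (P := @LocallyOfFiniteType) f inferInstance ⟨V, hV⟩ ⟨U, hU⟩ hUV
  obtain ⟨n, α, hα, hαC⟩ := Groth.Agent.Helper9.Chart5.exists_isChart f hUV hft
  obtain ⟨a, b, hab⟩ := hf
  have hcomm : chartI hU n α ≫ chartP hV n = U.ι ≫ f := chart_comm f hU hV hUV n α hαC
  refine ⟨P (V := V) n, chartI hU n α, chartP hV n, isClosedImmersion_chartI hU n α hα,
    ⟨a - n, b, fun x => ?_⟩, inferInstance, hcomm⟩
  have h1 : DerSch.HasTorAmplitudeAt (U.ι ≫ f) a b (DerSch.unitCx (U : Scheme.{u})) x :=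
    hasTorAmplitudeAt_unitCx_restrict f U.ι a b x (hab _)
  rw [← hcomm] at h1
  have e : (⊤ : (P (V := V) n).Opens) ≤ (chartP hV n) ⁻¹ᵁ V := by
    intro z _
    show (chartP hV n).base z ∈ V
    unfold chartP
    rw [Scheme.Hom.comp_base]
    have hz : hV.fromSpec.base ((Spec.map (CommRingCat.ofHom
        (MvPolynomial.C : Γ(Y, V) →+* MvPolynomial (Fin n) Γ(Y, V)))).base z) ∈
        Set.range hV.fromSpec.base := ⟨_, rfl⟩
    rw [hV.range_fromSpec] at hz
    exact hz
  exact Groth.Agent.Helper9.SmTor5.hasTorAmplitudeAt_of_comp' (chartP hV n) (chartI hU n α)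
    (DerSch.unitCx (U : Scheme.{u})) x n a b hV (isAffineOpen_top _) trivial e
    ((Scheme.ΓSpecIso (CommRingCat.of (MvPolynomial (Fin n) Γ(Y, V)))).inv.hom)
    (chartP_appLE hV n e)
    (RingHom.Etale.of_bijective
      (ConcreteCategory.bijective_of_isIso
        (Scheme.ΓSpecIso (CommRingCat.of (MvPolynomial (Fin n) Γ(Y, V)))).inv)) h1

end Groth.Agent.Helper9.SmTor8
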