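import Mathlib
import Groth.Prelude.Def_SpSeq
import Groth.Prelude.Def_CohSite
import Groth.Prelude.Def_CohCx
import Groth.Agent.Helper1.SiteDelta
import Groth.Agent.Helper9.CechSieve
import Groth.Agent.Helper9.SieveAcyc
import Groth.Agent.Helper9.SpGroth2
import Groth.Agent.Helper9.SpFinal

/-!
# The Čech-to-derived (Cartan–Leray) spectral sequence of a covering family
-/

set_option autoImplicit false
set_option linter.style.haveILetI false
set_option linter.unusedSectionVars false

namespace Groth.Agent.Helper9.SpCech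

open CategoryTheory Limits Abelian CochainComplex HomComplex Opposite
open Groth.Agent.Helper9 Groth.Agent.Helper1

universe u

variable {C : Type u} [SmallCategory C] (J : GrothendieckTopology C)

/-- presheaves as sheaves for the trivial topology -/
abbrev E : (Cᵒᵖ ⥤ AddCommGrpCat.{u}) ⥤ Sheaf (⊥ : GrothendieckTopology C) AddCommGrpCat.{u} :=
  (sheafBotEquivalence AddCommGrpCat.{u}).inverse

/-- the forgetful functor to presheaves (seen as sheaves for the trivial topology) -/
noncomputable abbrev F : Sheaf J AddCommGrpCat.{u} ⥤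
    Sheaf (⊥ : GrothendieckTopology C) AddCommGrpCat.{u} :=
  sheafToPresheaf J AddCommGrpCat.{u} ⋙ E

instance : (E (C := C)).Additive where
  map_add := rfl

instance : (F J).Additive := inferInstance

instance injective_F_obj (I : Sheaf J AddCommGrpCat.{u}) [Injective I] :
    Injective ((F J).obj I) := by
  haveI : Injective I.obj :=
    Injective.injective_of_adjoint (sheafificationAdjunction J AddCommGrpCat.{u}) _
  exact Injective.injective_of_adjoint (sheafBotEquivalence AddCommGrpCat.{u}).toAdjunction I.obj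

section theta

variable {J} {X : C} (S : Sieve X) (hS : S ∈ J X)

/-- the compatible family of restrictions of a section -/
def restr (G : Sheaf J AddCommGrpCat.{u}) (s : G.obj.obj (op X)) :
    Presieve.FamilyOfElements (G.obj ⋙ forget AddCommGrpCat.{u}) S.arrows :=
  fun _ f _ => G.obj.map f.op s

lemma restr_sieveCompatible (G : Sheaf J AddCommGrpCat.{u}) (s : G.obj.obj (op X)) :
    (restr S G s).SieveCompatible := by
  intro V V' f g hf
  show G.obj.map (g ≫ f).op s = G.obj.map g.op (G.obj.map f.op s)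
  rw [op_comp, G.obj.map_comp]
  rfl

/-- `Hom(ℤ_X, G) → Hom(ℤ[S], G)` -/
noncomputable def κ (G : Sheaf J AddCommGrpCat.{u}) :
    (SiteCoh.freeY J X ⟶ G) →+ (E.obj (SieveAcyc.ZS S) ⟶ (F J).obj G) where
  toFun ψ := E.map (SieveAcyc.ofFam (restr S G (SiteCoh.homEquiv X G ψ))
    (restr_sieveCompatible S G _))
  map_zero' := by
    rw [← E.map_zero]
    congr 1
    apply SieveAcyc.hom_ext_ZS
    intro V f hf
    rw [SieveAcyc.ofFam_app_gOf]
    show G.obj.map f.op (SiteCoh.homAddEquiv X G 0) = _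
    rw [map_zero, map_zero]
    rfl
  map_add' ψ ψ' := by
    rw [← E.map_add]
    congr 1
    apply SieveAcyc.hom_ext_ZS
    intro V f hf
    rw [SieveAcyc.ofFam_app_gOf]
    show G.obj.map f.op (SiteCoh.homAddEquiv X G (ψ + ψ')) = _
    rw [map_add, map_add]
    show _ = (SieveAcyc.ofFam _ _).app (op V) _ + (SieveAcyc.ofFam _ _).app (op V) _
    rw [SieveAcyc.ofFam_app_gOf, SieveAcyc.ofFam_app_gOf]
    rfl

lemma κ_hom_app (G : Sheaf J AddCommGrpCat.{u}) (ψ : SiteCoh.freeY J X ⟶ G) {V : C} (f : V ⟶ X)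
    (hf : S f) :
    (κ S G ψ).hom.app (op V) (SieveAcyc.gOf S f hf) = G.obj.map f.op (SiteCoh.homEquiv X G ψ) :=
  SieveAcyc.ofFam_app_gOf _ (restr_sieveCompatible S G _) f hf

lemma κ_natural {G G' : Sheaf J AddCommGrpCat.{u}} (g : G ⟶ G') (ψ : SiteCoh.freeY J X ⟶ G) :
    κ S G' (ψ ≫ g) = κ S G ψ ≫ (F J).map g := by
  apply Sheaf.hom_ext
  apply SieveAcyc.hom_ext_ZS
  intro V f hf
  refine (κ_hom_app S G' (ψ ≫ g) f hf).trans ?_
  rw [SiteCoh.homEquiv_comp]
  refine Eq.trans ?_ (congrArg (g.hom.app (op V)) (κ_hom_app S G ψ f hf)).symm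
  exact (NatTrans.naturality_apply g.hom f.op _).symm

include hS in
lemma κ_bijective (G : Sheaf J AddCommGrpCat.{u}) : Function.Bijective (κ S G) := by
  have hsh := SieveAcyc.isSheafFor G S hS
  constructor
  · intro ψ ψ' h
    apply (SiteCoh.homEquiv X G).injective
    refine hsh.isSeparatedFor.ext ?_
    intro V f hf
    have h1 := κ_hom_app S G ψ f hf
    have h2 := κ_hom_app S G ψ' f hf
    rw [h] at h1
    exact h1.symm.trans h2
  · intro φ
    obtain ⟨s, hs, -⟩ := hsh (SieveAcyc.famOf φ.hom)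
      ((Presieve.compatible_iff_sieveCompatible _).2 (SieveAcyc.famOf_sieveCompatible φ.hom))
    refine ⟨(SiteCoh.homEquiv X G).symm s, ?_⟩
    apply Sheaf.hom_ext
    apply SieveAcyc.hom_ext_ZS
    intro V f hf
    refine (κ_hom_app S G _ f hf).trans ?_
    rw [Equiv.apply_symm_apply]
    exact hs f hf

/-- `Hom(ℤ[S], G) ≃ Hom(ℤ_X, G)` for a covering sieve -/
noncomputable def θ (G : Sheaf J AddCommGrpCat.{u}) :
    (E.obj (SieveAcyc.ZS S) ⟶ (F J).obj G) ≃+ (SiteCoh.freeY J X ⟶ G) :=
  (AddEquiv.ofBijective (κ S G) (κ_bijective S hS G)).symm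

lemma hθ {G G' : Sheaf J AddCommGrpCat.{u}} (g : G ⟶ G')
    (φ : E.obj (SieveAcyc.ZS S) ⟶ (F J).obj G) :
    θ S hS G' (φ ≫ (F J).map g) = θ S hS G φ ≫ g := by
  apply (κ_bijective S hS G').1
  rw [κ_natural]
  have h1 : κ S G' (θ S hS G' (φ ≫ (F J).map g)) = φ ≫ (F J).map g :=
    (AddEquiv.ofBijective (κ S G') (κ_bijective S hS G')).apply_symm_apply _
  have h2 : κ S G (θ S hS G φ) = φ :=
    (AddEquiv.ofBijective (κ S G) (κ_bijective S hS G)).apply_symm_apply _
  rw [h1, h2]

end theta

section derived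

open Groth.Agent.Helper1.DeltaFun Groth.Agent.Helper1.ExtPre

instance : PreservesFiniteLimits (E (C := C)) := inferInstance
instance : PreservesFiniteColimits (E (C := C)) := inferInstance
instance : PreservesFiniteLimits (F J) := inferInstance

/-- the δ-functor `G ↦ E (U ↦ Hⁿ(U, G))` -/
noncomputable def TDelta : DeltaFunctor (Sheaf J AddCommGrpCat.{u})
    (Sheaf (⊥ : GrothendieckTopology C) AddCommGrpCat.{u}) :=
  (extPreDelta.{u} (SiteCoh.freeFunctor J)).postcomp E

lemma TDelta_effaceable : (TDelta J).Effaceable :=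
  fun I _ n => Functor.map_isZero E (isZero_extPre_of_injective (SiteCoh.freeFunctor J) I n)

/-- the right derived functors of the forgetful functor are the cohomology presheaves -/
noncomputable def rightDerivedIso (n : ℕ) :
    (F J).rightDerived n ≅ Sheaf.cohomologyPresheafFunctor.{u} J n ⋙ E :=
  isoOfEffaceable (T := rightDerivedDelta (F J)) (T' := TDelta J)
    (rightDerivedDelta_effaceable _) (TDelta_effaceable J)
    ((F J).rightDerivedZeroIsoSelf ≪≫
      Functor.isoWhiskerRight (SiteCoh.coh0Iso (J := J)).symm E) n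

end derived

/-- **The spectral sequence of a covering** (existence form). -/
theorem cartanLeray [HasPullbacks C] (M : Sheaf J AddCommGrpCat.{u}) {X : C} {ι : Type u}
    (Y : ι → Over X)
    (hY : Sieve.ofArrows (fun i => (Y i).left) (fun i => (Y i).hom) ∈ J X) :
    ∃ (Es : E₂CohomologicalSpectralSequence AddCommGrpCat.{u})
      (a : SpSeq.Abutment Es (fun n : ℤ =>
        if 0 ≤ n then AddCommGrpCat.of (CohSite.HU M n.toNat X)
        else AddCommGrpCat.of PUnit.{u + 1})),
      (∀ n, a.IsFinite n) ∧ SpSeq.IsBounded Es ∧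
      ∀ p q : ℤ, Nonempty ((Es.page 2 le_rfl).X (p, q) ≅
        (if 0 ≤ p ∧ 0 ≤ q then CohCx.cechH (M.cohomologyPresheaf q.toNat) Y p.toNat
         else AddCommGrpCat.of PUnit.{u + 1})) := by
  let I : InjectiveResolution M := Classical.choice (HasInjectiveResolution.out)
  obtain ⟨Es, a, ha, hb, hE, hz⟩ := SpGroth2.exists_spectralSequence (F J) I
    (E.obj (CechSieve.ZR Y)) (fun n => SpAcyc.acyc_of_injective _ _)
  refine ⟨Es, SpFinal.exists_final Es _ a ha hb
    (fun p' q' => CohCx.cechH (M.cohomologyPresheaf q') Y p') ?_ hz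
    (fun n' => AddCommGrpCat.of (CohSite.HU M n' X))
    (AddCommGrpCat.of PUnit.{u + 1}) (AddCommGrpCat.of PUnit.{u + 1})
    (AddCommGrpCat.isZero_of_subsingleton _) (AddCommGrpCat.isZero_of_subsingleton _)
    (fun n' => ?_) (fun n hn => ?_)⟩
  · intro p' q'
    obtain ⟨e⟩ := hE p' q'
    exact ⟨e ≪≫ (SpGroth2.extCongr _ ((rightDerivedIso J q').app M) p').toAddCommGrpIso ≪≫
      ((CechSieve.isoT Y p').app (M.cohomologyPresheaf q')).symm⟩
  · exact ⟨((SpCoh.cohomologyClassEquiv (F J) (E.obj (CechSieve.ZR Y))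
      (SiteCoh.freeY J X) (θ (CechSieve.R Y) hY) (hθ (CechSieve.R Y) hY) I.cochainComplex
        (n' : ℤ)).trans
      (I.extAddEquivCohomologyClass (X := SiteCoh.freeY J X) (n := n')).symm).toAddCommGrpIso⟩
  · haveI := SpCoh.subsingleton_of_isZero (E.obj (CechSieve.ZR Y)) (SpGroth2.FI (F J) I) n
      (CochainComplex.isZero_of_isStrictlyGE _ 0 n hn)
    exact AddCommGrpCat.isZero_of_subsingleton _

end Groth.Agent.Helper9.SpCech
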