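import Mathlib
import Groth.Prelude.Def_SpSeq
import Groth.Prelude.Def_ModSite2
import Groth.Prelude.Def_ExtSupp
import Groth.Agent.Helper9.QuotExact
import Groth.Agent.Helper9.SpGroth2
import Groth.Agent.Helper9.SpFinal
import Groth.Agent.Helper9.SpCoh

/-!
# The spectral sequence `Ext^p(M, ℋ^q_Z(N)) ⇒ Ext^{p+q}_Z(M, N)` on a ringed site
-/

set_option autoImplicit false
set_option linter.style.haveILetI false
set_option linter.unusedSectionVars false

namespace Groth.Agent.Helper9.SpExtZ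

open CategoryTheory Limits Abelian Opposite
open Groth.Agent.Helper9

universe u

variable {C : Type u} [SmallCategory C] {J : GrothendieckTopology C} (O : Sheaf J CommRingCat.{u})
  (U : C) [ModSite.HasPushOver O U]

/-- `Hom(M, Γ_Z G) ≃ Hom(M/M_U, G)` -/
noncomputable def θ (M G : ModSite.Mod O) :
    (M ⟶ (ModSite.sectOn O U).obj G) ≃+ ((ModSite.quotOn O U).obj M ⟶ G) where
  toEquiv := (QuotSectAdj.homEquiv O U M G).symm
  map_add' f f' := by
    show QuotSectAdj.bwd O U (f + f') = QuotSectAdj.bwd O U f + QuotSectAdj.bwd O U f'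
    rw [← cancel_epi ((ModSite.quotOnπ O U).app M), Preadditive.comp_add, QuotSectAdj.π_bwd,
      QuotSectAdj.π_bwd, QuotSectAdj.π_bwd, Preadditive.add_comp]

lemma hθ (M : ModSite.Mod O) {G G' : ModSite.Mod O} (g : G ⟶ G')
    (φ : M ⟶ (ModSite.sectOn O U).obj G) :
    θ O U M G' (φ ≫ (ModSite.sectOn O U).map g) = θ O U M G φ ≫ g := by
  show QuotSectAdj.bwd O U (φ ≫ (ModSite.sectOn O U).map g) = QuotSectAdj.bwd O U φ ≫ g
  rw [← cancel_epi ((ModSite.quotOnπ O U).app M), QuotSectAdj.π_bwd, ← Category.assoc,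
    QuotSectAdj.π_bwd, Category.assoc, Category.assoc]
  congr 1
  have h := (ModSite.sectOnι O U).naturality g
  rw [Functor.id_map] at h
  exact h

/-- **The spectral sequence `Ext^p(M, ℋ^q_Z N) ⇒ Ext^{p+q}_Z(M, N)`** (existence form). -/
theorem main [HasExt.{u} (ModSite.Mod O)] [HasInjectiveResolutions (ModSite.Mod O)]
    (M N : ModSite.Mod O)
    (Z Z' : AddCommGrpCat.{u}) (hZ : IsZero Z) (hZ' : IsZero Z') :
    ∃ (E : E₂CohomologicalSpectralSequence AddCommGrpCat.{u})
      (a : SpSeq.Abutment E (fun n : ℤ =>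
        if 0 ≤ n then AddCommGrpCat.of (ExtSupp.ExtZ U M N n.toNat) else Z)),
      (∀ n : ℤ, a.IsFinite n) ∧ SpSeq.IsBounded E ∧
      ∀ p q : ℤ, Nonempty ((E.page 2 le_rfl).X (p, q) ≅
        (if 0 ≤ p ∧ 0 ≤ q then
          AddCommGrpCat.of (Abelian.Ext.{u} M ((ModSite.HZsh O U q.toNat).obj N) p.toNat)
          else Z')) := by
  haveI : EnoughInjectives (ModSite.Mod O) :=
    ModCechExt.enoughInjectives_mod (ModSite.ringSh O)
  let I : InjectiveResolution N := Classical.choice (HasInjectiveResolution.out)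
  obtain ⟨E, a, ha, hb, hE, hz⟩ := SpGroth2.exists_spectralSequence (ModSite.sectOn O U) I M
    (fun n =>
      haveI := QuotExact.injective_sectOn O U (I.cochainComplex.X n)
      SpAcyc.acyc_of_injective _ _)
  refine ⟨E, SpFinal.exists_final E _ a ha hb
    (fun p' q' => AddCommGrpCat.of (Abelian.Ext.{u} M ((ModSite.HZsh O U q').obj N) p'))
    hE hz
    (fun n' => AddCommGrpCat.of (ExtSupp.ExtZ U M N n')) Z Z' hZ hZ'
    (fun n' => ?_) (fun n hn => ?_)⟩
  · exact ⟨((SpCoh.cohomologyClassEquiv (ModSite.sectOn O U) M ((ModSite.quotOn O U).obj M)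
      (θ O U M) (hθ O U M) I.cochainComplex (n' : ℤ)).trans
      (I.extAddEquivCohomologyClass (X := (ModSite.quotOn O U).obj M) (n := n')).symm).toAddCommGrpIso⟩
  · haveI := SpCoh.subsingleton_of_isZero M
      (SpGroth2.FI (ModSite.sectOn O U) I) n
      (CochainComplex.isZero_of_isStrictlyGE _ 0 n hn)
    exact AddCommGrpCat.isZero_of_subsingleton _

end Groth.Agent.Helper9.SpExtZ
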