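import Mathlib
import Groth.Prelude.Def_SpSeq
import Groth.Prelude.Def_ModSite2
import Groth.Prelude.Def_ExtSupp
import Groth.Agent.Helper9.QuotOnFlat
import Groth.Agent.Helper9.FlatExtVanish
import Groth.Agent.Helper9.SpGroth2
import Groth.Agent.Helper9.SpFinal
import Groth.Agent.Helper9.SpCoh

/-!
# The spectral sequence `Ext^p(O_Z, ℰxt^q(M, N)) ⇒ Ext^{p+q}_Z(M, N)` on a ringed site
-/

set_option autoImplicit false
set_option linter.style.haveILetI false
set_option linter.unusedSectionVars false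

namespace Groth.Agent.Helper9.SpHZExt

open CategoryTheory Limits Abelian Opposite
open Groth.Agent.Helper9 Groth.Agent.Helper9.TensorAdj

universe u

variable {C : Type u} [SmallCategory C] {J : GrothendieckTopology C} (O : Sheaf J CommRingCat.{u})

/-- `Hom(X₀, ℋom(M, G)) ≃ Hom(X', G)` for `X₀ ⊗ M ≅ X'` -/
noncomputable def θ (M : ModSite.Mod O) [ModSite.HasSheafHom M] {X₀ X' : ModSite.Mod O}
    (e : (TN M).obj X₀ ≅ X') (G : ModSite.Mod O) :
    (X₀ ⟶ (ModSite.sheafHom M).obj G) ≃+ (X' ⟶ G) :=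
  (((ModSite.sheafHomAdj M).homAddEquiv X₀ G).symm).trans (ExtZRQuot.preAddEquiv e G)

lemma hθ (M : ModSite.Mod O) [ModSite.HasSheafHom M] {X₀ X' : ModSite.Mod O}
    (e : (TN M).obj X₀ ≅ X') {G G' : ModSite.Mod O} (g : G ⟶ G')
    (φ : X₀ ⟶ (ModSite.sheafHom M).obj G) :
    θ O M e G' (φ ≫ (ModSite.sheafHom M).map g) = θ O M e G φ ≫ g := by
  show e.inv ≫ ((ModSite.sheafHomAdj M).homEquiv _ _).symm
      (φ ≫ (ModSite.sheafHom M).map g) =
    (e.inv ≫ ((ModSite.sheafHomAdj M).homEquiv _ _).symm φ) ≫ g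
  rw [Adjunction.homEquiv_naturality_right_symm, Category.assoc]

variable (U : C) [ModSite.HasPushOver O U]

/-- `O_Z ⊗ M ≅ M_Z` -/
theorem nonempty_iso (M : ModSite.Mod O) :
    Nonempty ((TN M).obj ((ModSite.quotOn O U).obj (ModSite.unit O)) ≅
      (ModSite.quotOn O U).obj M) := by
  obtain ⟨i⟩ := QuotSectTensor.nonempty_iso12 O U (TN M) (QuotSectTensor.k1 O U M)
    (QuotSectTensor.k2 O U M)
  exact ⟨i.app (ModSite.unit O) ≪≫ (ModSite.quotOn O U).mapIso (ExtZRQuot.unitIso O M)⟩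

/-- **The spectral sequence `Ext^p(O_Z, ℰxt^q(M, N)) ⇒ Ext^{p+q}_Z(M, N)`** (existence form). -/
theorem main [HasExt.{u} (ModSite.Mod O)] [HasInjectiveResolutions (ModSite.Mod O)]
    (M N : ModSite.Mod O) [ModSite.HasSheafHom M]
    (Z Z' : AddCommGrpCat.{u}) (hZ : IsZero Z) (hZ' : IsZero Z') :
    ∃ (E : E₂CohomologicalSpectralSequence AddCommGrpCat.{u})
      (a : SpSeq.Abutment E (fun n : ℤ =>
        if 0 ≤ n then AddCommGrpCat.of (ExtSupp.ExtZ U M N n.toNat) else Z)),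
      (∀ n : ℤ, a.IsFinite n) ∧ SpSeq.IsBounded E ∧
      ∀ p q : ℤ, Nonempty ((E.page 2 le_rfl).X (p, q) ≅
        (if 0 ≤ p ∧ 0 ≤ q then
          AddCommGrpCat.of (Abelian.Ext.{u} ((ModSite.quotOn O U).obj (ModSite.unit O))
            ((ModSite.extSh M q.toNat).obj N) p.toNat)
          else Z')) := by
  haveI : EnoughInjectives (ModSite.Mod O) :=
    ModCechExt.enoughInjectives_mod (ModSite.ringSh O)
  obtain ⟨e⟩ := nonempty_iso O U M
  let I : InjectiveResolution N := Classical.choice (HasInjectiveResolution.out)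
  obtain ⟨E, a, ha, hb, hE, hz⟩ := SpGroth2.exists_spectralSequence (ModSite.sheafHom M) I
    ((ModSite.quotOn O U).obj (ModSite.unit O))
    (fun n q => FlatExtVanish.subsingleton_ext O M (I.cochainComplex.X n) q _
      (QuotOnFlat.isFlat_quotOn_unit O U))
  refine ⟨E, SpFinal.exists_final E _ a ha hb
    (fun p' q' => AddCommGrpCat.of (Abelian.Ext.{u} ((ModSite.quotOn O U).obj (ModSite.unit O))
            ((ModSite.extSh M q').obj N) p'))
    hE hz
    (fun n' => AddCommGrpCat.of (ExtSupp.ExtZ U M N n')) Z Z' hZ hZ'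
    (fun n' => ?_) (fun n hn => ?_)⟩
  · exact ⟨((SpCoh.cohomologyClassEquiv (ModSite.sheafHom M)
      ((ModSite.quotOn O U).obj (ModSite.unit O)) ((ModSite.quotOn O U).obj M)
      (θ O M e) (hθ O M e) I.cochainComplex (n' : ℤ)).trans
      (I.extAddEquivCohomologyClass (X := (ModSite.quotOn O U).obj M) (n := n')).symm).toAddCommGrpIso⟩
  · haveI := SpCoh.subsingleton_of_isZero ((ModSite.quotOn O U).obj (ModSite.unit O))
      (SpGroth2.FI (ModSite.sheafHom M) I) n
      (CochainComplex.isZero_of_isStrictlyGE _ 0 n hn)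
    exact AddCommGrpCat.isZero_of_subsingleton _

end Groth.Agent.Helper9.SpHZExt
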