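import Mathlib
import Groth.Prelude.Def_SpSeq
import Groth.Prelude.Def_CohSite
import Groth.Prelude.Def_CohCx
import Groth.Agent.Helper1.SiteCoh
import Groth.Agent.Helper9.PushAcyc
import Groth.Agent.Helper9.SpGroth2
import Groth.Agent.Helper9.SpFinal

/-!
# The Leray spectral sequence for a morphism of sites
-/

set_option autoImplicit false
set_option linter.style.haveILetI false
set_option linter.unusedSectionVars false

namespace Groth.Agent.Helper9.SpLeray

open CategoryTheory Limits Abelian CochainComplex HomComplex Opposite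
open Groth.Agent.Helper9 Groth.Agent.Helper1

universe u

variable {C D : Type u} [SmallCategory C] [SmallCategory D]
  (J : GrothendieckTopology C) (K : GrothendieckTopology D) (u : D ⥤ C) [u.IsContinuous K J]

/-- `Hom(ℤ_V, u_* G) ≃ Hom(ℤ_{u V}, G)` -/
noncomputable def θ (V : D) (G : Sheaf J AddCommGrpCat.{u}) :
    (SiteCoh.freeY K V ⟶ (CohSite.push J K u).obj G) ≃+ (SiteCoh.freeY J (u.obj V) ⟶ G) where
  toFun φ := (SiteCoh.homAddEquiv (u.obj V) G).symm
    (SiteCoh.homAddEquiv V ((CohSite.push J K u).obj G) φ)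
  invFun ψ := (SiteCoh.homAddEquiv V ((CohSite.push J K u).obj G)).symm
    (SiteCoh.homAddEquiv (u.obj V) G ψ)
  left_inv φ := by
    have h := (SiteCoh.homAddEquiv (u.obj V) G).apply_symm_apply
      (SiteCoh.homAddEquiv V ((CohSite.push J K u).obj G) φ)
    exact (congrArg (SiteCoh.homAddEquiv V ((CohSite.push J K u).obj G)).symm h).trans
      ((SiteCoh.homAddEquiv V ((CohSite.push J K u).obj G)).symm_apply_apply φ)
  right_inv ψ := by
    have h := (SiteCoh.homAddEquiv V ((CohSite.push J K u).obj G)).apply_symm_apply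
      (SiteCoh.homAddEquiv (u.obj V) G ψ)
    exact (congrArg (SiteCoh.homAddEquiv (u.obj V) G).symm h).trans
      ((SiteCoh.homAddEquiv (u.obj V) G).symm_apply_apply ψ)
  map_add' φ ψ := by
    have h := (SiteCoh.homAddEquiv V ((CohSite.push J K u).obj G)).map_add φ ψ
    exact (congrArg (SiteCoh.homAddEquiv (u.obj V) G).symm h).trans
      ((SiteCoh.homAddEquiv (u.obj V) G).symm.map_add _ _)

lemma θ_spec (V : D) (G : Sheaf J AddCommGrpCat.{u})
    (φ : SiteCoh.freeY K V ⟶ (CohSite.push J K u).obj G) :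
    SiteCoh.homEquiv (u.obj V) G (θ J K u V G φ) =
      SiteCoh.homEquiv V ((CohSite.push J K u).obj G) φ :=
  (SiteCoh.homAddEquiv (u.obj V) G).apply_symm_apply
      (SiteCoh.homAddEquiv V ((CohSite.push J K u).obj G) φ)

lemma hθ (V : D) {G G' : Sheaf J AddCommGrpCat.{u}} (g : G ⟶ G')
    (φ : SiteCoh.freeY K V ⟶ (CohSite.push J K u).obj G) :
    θ J K u V G' (φ ≫ (CohSite.push J K u).map g) = θ J K u V G φ ≫ g := by
  apply (SiteCoh.homEquiv (u.obj V) G').injective
  rw [θ_spec, SiteCoh.homEquiv_comp, SiteCoh.homEquiv_comp, θ_spec]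
  rfl

/-- **The Leray spectral sequence** (existence form). -/
theorem leray [PreservesFiniteLimits (u.sheafPullback (Type u) K J)]
    (M : Sheaf J AddCommGrpCat.{u}) (V : D) :
    ∃ (E : E₂CohomologicalSpectralSequence AddCommGrpCat.{u})
      (a : SpSeq.Abutment E (fun n : ℤ =>
        if 0 ≤ n then AddCommGrpCat.of (CohSite.HU M n.toNat (u.obj V))
        else AddCommGrpCat.of PUnit.{u + 1})),
      (∀ n, a.IsFinite n) ∧ SpSeq.IsBounded E ∧
      ∀ p q : ℤ, Nonempty ((E.page 2 le_rfl).X (p, q) ≅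
        (if 0 ≤ p ∧ 0 ≤ q then
          AddCommGrpCat.of (CohSite.HU ((CohSite.Rpush J K u q.toNat).obj M) p.toNat V)
         else AddCommGrpCat.of PUnit.{u + 1})) := by
  let I : InjectiveResolution M := Classical.choice (HasInjectiveResolution.out)
  obtain ⟨E, a, ha, hb, hE, hz⟩ := SpGroth2.exists_spectralSequence (CohSite.push J K u) I
    (SiteCoh.freeY K V) (fun n q =>
      PushAcyc.subsingleton_HU_push_injective (K := K) u (I.cochainComplex.X n) V q)
  refine ⟨E, SpFinal.exists_final E _ a ha hb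
    (fun p' q' => AddCommGrpCat.of (CohSite.HU ((CohSite.Rpush J K u q').obj M) p' V)) hE hz
    (fun n' => AddCommGrpCat.of (CohSite.HU M n' (u.obj V)))
    (AddCommGrpCat.of PUnit.{u + 1}) (AddCommGrpCat.of PUnit.{u + 1})
    (AddCommGrpCat.isZero_of_subsingleton _) (AddCommGrpCat.isZero_of_subsingleton _)
    (fun n' => ?_) (fun n hn => ?_)⟩
  · exact ⟨((SpCoh.cohomologyClassEquiv (CohSite.push J K u) (SiteCoh.freeY K V)
      (SiteCoh.freeY J (u.obj V)) (θ J K u V) (hθ J K u V) I.cochainComplex (n' : ℤ)).trans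
      (I.extAddEquivCohomologyClass (X := SiteCoh.freeY J (u.obj V)) (n := n')).symm).toAddCommGrpIso⟩
  · haveI := SpCoh.subsingleton_of_isZero (SiteCoh.freeY K V) (SpGroth2.FI (CohSite.push J K u) I) n
      (CochainComplex.isZero_of_isStrictlyGE _ 0 n hn)
    exact AddCommGrpCat.isZero_of_subsingleton _

end Groth.Agent.Helper9.SpLeray
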