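import Mathlib
import Groth.Prelude.Def_SpSeq
import Groth.Prelude.Def_CohSite
import Groth.Agent.Helper1.SiteDelta
import Groth.Agent.Helper1.DeltaComp
import Groth.Agent.Helper9.PushAcyc
import Groth.Agent.Helper9.SpGS

/-!
# The Leray spectral sequence of a composite of morphisms of sites (sheaf valued)
-/

set_option autoImplicit false
set_option linter.style.haveILetI false
set_option linter.unusedSectionVars false

namespace Groth.Agent.Helper9.SpLeray2

open CategoryTheory Limits Abelian Opposite ZeroObject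
open Groth.Agent.Helper9 Groth.Agent.Helper1

universe u

variable {C D B : Type u} [SmallCategory C] [SmallCategory D] [SmallCategory B]
  (J : GrothendieckTopology C) (K : GrothendieckTopology D) (L : GrothendieckTopology B)
  (u : D ⥤ C) [u.IsContinuous K J] [PreservesFiniteLimits (u.sheafPullback (Type u) K J)]
  (w : B ⥤ D) [w.IsContinuous L K]

/-- direct images of injective sheaves are acyclic for direct images -/
lemma isZero_Rpush_push (Q : Sheaf J AddCommGrpCat.{u}) [Injective Q] (q : ℕ) (hq : 0 < q) :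
    IsZero ((CohSite.Rpush K L w q).obj ((CohSite.push J K u).obj Q)) := by
  obtain ⟨q, rfl⟩ : ∃ q' : ℕ, q = q' + 1 := ⟨q - 1, by lia⟩
  refine IsZero.of_iso ?_ ((SiteCoh.RpushIso K L w (q + 1)).app _)
  show IsZero ((SiteCoh.Φ L w).obj ((SiteCoh.cohPre K (q + 1)).obj ((CohSite.push J K u).obj Q)))
  refine Functor.map_isZero (SiteCoh.Φ L w) ?_
  rw [Functor.isZero_iff]
  intro V
  have h := PushAcyc.subsingleton_HU_push_injective (K := K) u Q V.unop q
  exact @AddCommGrpCat.isZero_of_subsingleton _ h

/-- the composite of direct images -/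
noncomputable def pushCompIso [(w ⋙ u).IsContinuous L J] :
    CohSite.push J K u ⋙ CohSite.push K L w ≅ CohSite.push J L (w ⋙ u) :=
  NatIso.ofComponents (fun F => Iso.refl _)

/-- **The Leray spectral sequence of a composite** (existence form). -/
theorem main [PreservesFiniteLimits (w.sheafPullback (Type u) L K)]
    [(w ⋙ u).IsContinuous L J] (M : Sheaf J AddCommGrpCat.{u}) :
    ∃ (E : E₂CohomologicalSpectralSequence (Sheaf L AddCommGrpCat.{u}))
      (a : SpSeq.Abutment E (fun n : ℤ =>
        if 0 ≤ n then (CohSite.Rpush J L (w ⋙ u) n.toNat).obj M else 0)),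
      (∀ n, a.IsFinite n) ∧ SpSeq.IsBounded E ∧
      ∀ p q : ℤ, Nonempty ((E.page 2 le_rfl).X (p, q) ≅
        (if 0 ≤ p ∧ 0 ≤ q then
          (CohSite.Rpush K L w p.toNat).obj ((CohSite.Rpush J K u q.toNat).obj M) else 0)) := by
  obtain ⟨E, a, ha, hb, hE⟩ := SpGS.grothendieck (CohSite.push J K u) (CohSite.push K L w)
    (fun Q hQ q hq => isZero_Rpush_push J K L u w Q q hq) M
  let e : ∀ n : ℤ, (if 0 ≤ n then
      ((CohSite.push J K u ⋙ CohSite.push K L w).rightDerived n.toNat).obj M else 0) ≅
      (if 0 ≤ n then (CohSite.Rpush J L (w ⋙ u) n.toNat).obj M else 0) := fun n =>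
    if hn : 0 ≤ n then
      eqToIso (if_pos hn) ≪≫
        (DeltaFun.rightDerivedIso (pushCompIso J K L u w) n.toNat).app M ≪≫
        eqToIso (if_pos hn).symm
    else eqToIso (if_neg hn) ≪≫ eqToIso (if_neg hn).symm
  exact ⟨E, SpConvC.transport e a, fun n => SpConvC.transport_isFinite e a n (ha n), hb, hE⟩

end Groth.Agent.Helper9.SpLeray2
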