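import Mathlib
import Groth.Prelude.Def_SpSeq
import Groth.Prelude.Def_LocCohZ
import Groth.Agent.Helper1.SiteCoh
import Groth.Agent.Helper9.SuppLCInj
import Groth.Agent.Helper9.GammaZExt
import Groth.Agent.Helper9.SpGroth2
import Groth.Agent.Helper9.SpFinal

/-!
# The spectral sequence `H^p(X, ℋ^q_Z(F)) ⇒ H^{p+q}_Z(X, F)`
-/

set_option autoImplicit false
set_option linter.style.haveILetI false
set_option linter.unusedSectionVars false

namespace Groth.Agent.Helper9.SpLocCoh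

open CategoryTheory Limits Abelian CochainComplex HomComplex Opposite TopologicalSpace
open Groth.Agent.Helper9 Groth.Agent.Helper1

universe u

variable {X : TopCat.{u}} (U : Opens X)

/-- `Hom(ℤ_X, Γ_Z G) ≃ Hom(ℤ_X/ℤ_U, G)` -/
noncomputable def θ (G : CohTop.Ab X) :
    (SiteCoh.freeY (Opens.grothendieckTopology X) (⊤ : Opens X) ⟶ (LocCohZ.sectSuppF U).obj G) ≃+
      (LocCohZ.zq (le_top : U ≤ ⊤) ⟶ G) :=
  (((SiteCoh.homAddEquiv (⊤ : Opens X) ((LocCohZ.sectSuppF U).obj G)).trans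
    (GammaZExt.gammaEquiv U G)).trans (LocCohZ.sect0Equiv G (le_top : U ≤ ⊤)).symm).trans
    Ext.addEquiv₀

lemma θ_spec (G : CohTop.Ab X)
    (φ : SiteCoh.freeY (Opens.grothendieckTopology X) (⊤ : Opens X) ⟶
      (LocCohZ.sectSuppF U).obj G) :
    (LocCohZ.sect0Equiv G (le_top : U ≤ ⊤) (Ext.mk₀ (θ U G φ))).1 =
      (GammaZExt.gammaEquiv U G (SiteCoh.homEquiv (⊤ : Opens X) _ φ)).1 := by
  unfold θ
  simp only [AddEquiv.trans_apply]
  rw [← Ext.addEquiv₀_symm_apply, AddEquiv.symm_apply_apply, AddEquiv.apply_symm_apply]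
  rfl

lemma hθ {G G' : CohTop.Ab X} (g : G ⟶ G')
    (φ : SiteCoh.freeY (Opens.grothendieckTopology X) (⊤ : Opens X) ⟶
      (LocCohZ.sectSuppF U).obj G) :
    θ U G' (φ ≫ (LocCohZ.sectSuppF U).map g) = θ U G φ ≫ g := by
  apply (Ext.mk₀_bijective _ _).1
  apply (LocCohZ.sect0Equiv G' (le_top : U ≤ ⊤)).injective
  apply Subtype.ext
  rw [θ_spec, SiteCoh.homEquiv_comp, ← Ext.mk₀_comp_mk₀]
  refine Eq.trans ?_ (GammaZExt.sect0Equiv_naturality g le_top (Ext.mk₀ (θ U G φ))).symm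
  rw [θ_spec]
  exact GammaZExt.gammaEquiv_naturality U g _

/-- **The local-to-global spectral sequence for cohomology with supports** (existence form). -/
theorem main (F : CohTop.Ab X) :
    ∃ (E : E₂CohomologicalSpectralSequence AddCommGrpCat.{u})
      (a : SpSeq.Abutment E (fun n : ℤ =>
        if 0 ≤ n then AddCommGrpCat.of (LocCohZ.HZc F n.toNat U)
        else AddCommGrpCat.of PUnit.{u + 1})),
      (∀ n : ℤ, a.IsFinite n) ∧ SpSeq.IsBounded E ∧
      ∀ p q : ℤ, Nonempty ((E.page 2 le_rfl).X (p, q) ≅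
        (if 0 ≤ p ∧ 0 ≤ q then
          AddCommGrpCat.of (CohTop.HU ((LocCohZ.HZsh U q.toNat).obj F) p.toNat ⊤)
          else AddCommGrpCat.of PUnit.{u + 1})) := by
  let I : InjectiveResolution F := Classical.choice (HasInjectiveResolution.out)
  obtain ⟨E, a, ha, hb, hE, hz⟩ := SpGroth2.exists_spectralSequence (LocCohZ.sectSuppF U) I
    (SiteCoh.freeY (Opens.grothendieckTopology X) (⊤ : Opens X)) (fun n =>
      haveI := SuppLCInj.injective_sectSupp U (I.cochainComplex.X n)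
      SpAcyc.acyc_of_injective _ _)
  refine ⟨E, SpFinal.exists_final E _ a ha hb
    (fun p' q' => AddCommGrpCat.of (CohTop.HU ((LocCohZ.HZsh U q').obj F) p' ⊤)) hE hz
    (fun n' => AddCommGrpCat.of (LocCohZ.HZc F n' U))
    (AddCommGrpCat.of PUnit.{u + 1}) (AddCommGrpCat.of PUnit.{u + 1})
    (AddCommGrpCat.isZero_of_subsingleton _) (AddCommGrpCat.isZero_of_subsingleton _)
    (fun n' => ?_) (fun n hn => ?_)⟩
  · exact ⟨((SpCoh.cohomologyClassEquiv (LocCohZ.sectSuppF U)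
      (SiteCoh.freeY (Opens.grothendieckTopology X) (⊤ : Opens X))
      (LocCohZ.zq (le_top : U ≤ ⊤)) (θ U) (hθ U) I.cochainComplex (n' : ℤ)).trans
      (I.extAddEquivCohomologyClass (X := LocCohZ.zq (le_top : U ≤ ⊤))
        (n := n')).symm).toAddCommGrpIso⟩
  · haveI := SpCoh.subsingleton_of_isZero
      (SiteCoh.freeY (Opens.grothendieckTopology X) (⊤ : Opens X))
      (SpGroth2.FI (LocCohZ.sectSuppF U) I) n
      (CochainComplex.isZero_of_isStrictlyGE _ 0 n hn)
    exact AddCommGrpCat.isZero_of_subsingleton _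

end Groth.Agent.Helper9.SpLocCoh
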