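import Mathlib
import Groth.Prelude.Def_SpSeq
import Groth.Prelude.Def_LocCohZ
import Groth.Agent.Helper9.SuppLCInj
import Groth.Agent.Helper9.GammaZExt
import Groth.Agent.Helper9.SpGroth2
import Groth.Agent.Helper9.SpFinal

/-!
# The spectral sequence `H^p_{Y'}(Y, R^q f_* F) ⇒ H^{p+q}_{X'}(X, F)`
-/

set_option autoImplicit false
set_option linter.style.haveILetI false
set_option linter.unusedSectionVars false

namespace Groth.Agent.Helper9.SpLocPush

open CategoryTheory Limits Abelian CochainComplex HomComplex Opposite TopologicalSpace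
open Groth.Agent.Helper9

universe u

variable {X Y : TopCat.{u}} (f : X ⟶ Y) (V : Opens Y)

/-- sections of `f_* G` over `Y` vanishing on `V` are sections of `G` over `X` vanishing on
`f⁻¹ V` -/
noncomputable def midEquiv (G : CohTop.Ab X) :
    LocCohZ.sectZ ((CohTop.push f).obj G) (le_top : V ≤ ⊤) ≃+
      LocCohZ.sectZ G (le_top : (Opens.map f).obj V ≤ ⊤) where
  toFun s := ⟨s.1, s.2⟩
  invFun s := ⟨s.1, s.2⟩
  left_inv _ := rfl
  right_inv _ := rfl
  map_add' _ _ := rfl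

/-- `Hom(ℤ_Y/ℤ_V, f_* G) ≃ Hom(ℤ_X/ℤ_{f⁻¹V}, G)` -/
noncomputable def θ (G : CohTop.Ab X) :
    (LocCohZ.zq (le_top : V ≤ ⊤) ⟶ (CohTop.push f).obj G) ≃+
      (LocCohZ.zq (le_top : (Opens.map f).obj V ≤ ⊤) ⟶ G) :=
  (((Ext.addEquiv₀.symm.trans (LocCohZ.sect0Equiv ((CohTop.push f).obj G) (le_top : V ≤ ⊤))).trans
    (midEquiv f V G)).trans
      (LocCohZ.sect0Equiv G (le_top : (Opens.map f).obj V ≤ ⊤)).symm).trans Ext.addEquiv₀

lemma θ_spec (G : CohTop.Ab X) (φ : LocCohZ.zq (le_top : V ≤ ⊤) ⟶ (CohTop.push f).obj G) :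
    (LocCohZ.sect0Equiv G (le_top : (Opens.map f).obj V ≤ ⊤) (Ext.mk₀ (θ f V G φ))).1 =
      (LocCohZ.sect0Equiv ((CohTop.push f).obj G) (le_top : V ≤ ⊤) (Ext.mk₀ φ)).1 := by
  unfold θ
  simp only [AddEquiv.trans_apply]
  rw [← Ext.addEquiv₀_symm_apply, AddEquiv.symm_apply_apply, AddEquiv.apply_symm_apply]
  rfl

lemma hθ {G G' : CohTop.Ab X} (g : G ⟶ G')
    (φ : LocCohZ.zq (le_top : V ≤ ⊤) ⟶ (CohTop.push f).obj G) :
    θ f V G' (φ ≫ (CohTop.push f).map g) = θ f V G φ ≫ g := by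
  apply (Ext.mk₀_bijective _ _).1
  apply (LocCohZ.sect0Equiv G' (le_top : (Opens.map f).obj V ≤ ⊤)).injective
  apply Subtype.ext
  rw [θ_spec, ← Ext.mk₀_comp_mk₀, ← Ext.mk₀_comp_mk₀]
  refine Eq.trans (GammaZExt.sect0Equiv_naturality ((CohTop.push f).map g) le_top (Ext.mk₀ φ)) ?_
  refine Eq.trans ?_ (GammaZExt.sect0Equiv_naturality g le_top (Ext.mk₀ (θ f V G φ))).symm
  rw [θ_spec]
  rfl

/-- **The spectral sequence `H^p_{Y'}(Y, R^q f_* F) ⇒ H^{p+q}_{X'}(X, F)`** (existence form). -/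
theorem main (F : CohTop.Ab X) :
    ∃ (E : E₂CohomologicalSpectralSequence AddCommGrpCat.{u})
      (a : SpSeq.Abutment E (fun n : ℤ =>
        if 0 ≤ n then AddCommGrpCat.of (LocCohZ.HZc F n.toNat ((Opens.map f).obj V))
          else AddCommGrpCat.of PUnit.{u + 1})),
      (∀ n : ℤ, a.IsFinite n) ∧ SpSeq.IsBounded E ∧
      ∀ p q : ℤ, Nonempty ((E.page 2 le_rfl).X (p, q) ≅
        (if 0 ≤ p ∧ 0 ≤ q then
          AddCommGrpCat.of (LocCohZ.HZc ((CohTop.Rpush f q.toNat).obj F) p.toNat V)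
          else AddCommGrpCat.of PUnit.{u + 1})) := by
  let I : InjectiveResolution F := Classical.choice (HasInjectiveResolution.out)
  obtain ⟨E, a, ha, hb, hE, hz⟩ := SpGroth2.exists_spectralSequence (CohTop.push f) I
    (LocCohZ.zq (le_top : V ≤ ⊤)) (fun n =>
      haveI := SuppLCInj.injective_push f (I.cochainComplex.X n)
      SpAcyc.acyc_of_injective _ _)
  refine ⟨E, SpFinal.exists_final E _ a ha hb
    (fun p' q' => AddCommGrpCat.of (LocCohZ.HZc ((CohTop.Rpush f q').obj F) p' V)) hE hz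
    (fun n' => AddCommGrpCat.of (LocCohZ.HZc F n' ((Opens.map f).obj V)))
    (AddCommGrpCat.of PUnit.{u + 1}) (AddCommGrpCat.of PUnit.{u + 1})
    (AddCommGrpCat.isZero_of_subsingleton _) (AddCommGrpCat.isZero_of_subsingleton _)
    (fun n' => ?_) (fun n hn => ?_)⟩
  · exact ⟨((SpCoh.cohomologyClassEquiv (CohTop.push f)
      (LocCohZ.zq (le_top : V ≤ ⊤))
      (LocCohZ.zq (le_top : (Opens.map f).obj V ≤ ⊤)) (θ f V) (hθ f V) I.cochainComplex
        (n' : ℤ)).trans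
      (I.extAddEquivCohomologyClass (X := LocCohZ.zq (le_top : (Opens.map f).obj V ≤ ⊤))
        (n := n')).symm).toAddCommGrpIso⟩
  · haveI := SpCoh.subsingleton_of_isZero
      (LocCohZ.zq (le_top : V ≤ ⊤))
      (SpGroth2.FI (CohTop.push f) I) n
      (CochainComplex.isZero_of_isStrictlyGE _ 0 n hn)
    exact AddCommGrpCat.isZero_of_subsingleton _

end Groth.Agent.Helper9.SpLocPush
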