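import Mathlib
import Groth.Prelude.Def_SpSeq
import Groth.Prelude.Def_CohSite
import Groth.Prelude.Def_CohCx
import Groth.Agent.Helper1.SiteCoh
import Groth.Agent.Helper9.SpCech

/-!
# The spectral sequence `H^p(R, ℋ^q(M)) ⇒ H^{p+q}(aR, M)` for a presheaf of sets `R`
-/

set_option autoImplicit false
set_option linter.style.haveILetI false
set_option linter.unusedSectionVars false

namespace Groth.Agent.Helper9.SpPsh

open CategoryTheory Limits Abelian CochainComplex HomComplex Opposite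
open Groth.Agent.Helper9 Groth.Agent.Helper1

universe u

variable {C : Type u} [SmallCategory C] (J : GrothendieckTopology C) (R : Cᵒᵖ ⥤ Type u)

/-- the free abelian presheaf on `R`, as a sheaf for the trivial topology -/
noncomputable abbrev X₀ : Sheaf (⊥ : GrothendieckTopology C) AddCommGrpCat.{u} :=
  (SiteCoh.LF (⊥ : GrothendieckTopology C)).obj R

/-- the sheaf of sets associated to `R` -/
noncomputable abbrev aR : Sheaf J (Type u) := (presheafToSheaf J (Type u)).obj R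

/-- the free abelian sheaf on the sheaf associated to `R` -/
noncomputable abbrev X' : Sheaf J AddCommGrpCat.{u} := (SiteCoh.LF J).obj (aR J R).obj

/-- morphisms out of the associated sheaf -/
noncomputable def liftEquiv (P : Cᵒᵖ ⥤ Type u) (hP : Presheaf.IsSheaf J P) :
    ((aR J R).obj ⟶ P) ≃ (R ⟶ P) where
  toFun ξ := toSheafify J R ≫ ξ
  invFun ζ := sheafifyLift J ζ hP
  left_inv ξ := (sheafifyLift_unique J _ hP ξ rfl).symm
  right_inv ζ := toSheafify_sheafifyLift J ζ hP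

/-- `Hom(ℤ[aR], G) → Hom(R, G)` -/
noncomputable def Θ₁ (G : Sheaf J AddCommGrpCat.{u}) :
    (X' J R ⟶ G) ≃ (R ⟶ (SiteCoh.RF (⊥ : GrothendieckTopology C)).obj ((SpCech.F J).obj G)) :=
  ((SiteCoh.adjF J).homEquiv (aR J R).obj G).trans
    (liftEquiv J R ((SiteCoh.RF J).obj G)
      ((Presheaf.isSheaf_iff_isSheaf_forget J G.obj (forget AddCommGrpCat.{u})).1 G.property))

lemma Θ₁_natural {G G' : Sheaf J AddCommGrpCat.{u}} (g : G ⟶ G') (ψ : X' J R ⟶ G) :
    Θ₁ J R G' (ψ ≫ g) = Θ₁ J R G ψ ≫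
      (SiteCoh.RF (⊥ : GrothendieckTopology C)).map ((SpCech.F J).map g) := by
  show toSheafify J R ≫ (SiteCoh.adjF J).homEquiv (aR J R).obj G' (ψ ≫ g) =
    (toSheafify J R ≫ (SiteCoh.adjF J).homEquiv (aR J R).obj G ψ) ≫ _
  rw [Adjunction.homEquiv_naturality_right]
  exact (Category.assoc _ _ _).symm

/-- the natural bijection `Hom(ℤ[aR], G) ≃ Hom(ℤ[R], G)` -/
noncomputable def Θ (G : Sheaf J AddCommGrpCat.{u}) :
    (X' J R ⟶ G) ≃ (X₀ R ⟶ (SpCech.F J).obj G) :=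
  (Θ₁ J R G).trans
    ((SiteCoh.adjF (⊥ : GrothendieckTopology C)).homEquiv R ((SpCech.F J).obj G)).symm

lemma Θ_natural {G G' : Sheaf J AddCommGrpCat.{u}} (g : G ⟶ G') (ψ : X' J R ⟶ G) :
    Θ J R G' (ψ ≫ g) = Θ J R G ψ ≫ (SpCech.F J).map g := by
  show ((SiteCoh.adjF (⊥ : GrothendieckTopology C)).homEquiv R ((SpCech.F J).obj G')).symm
      (Θ₁ J R G' (ψ ≫ g)) =
    ((SiteCoh.adjF (⊥ : GrothendieckTopology C)).homEquiv R ((SpCech.F J).obj G)).symm
      (Θ₁ J R G ψ) ≫ (SpCech.F J).map g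
  rw [Θ₁_natural, Adjunction.homEquiv_naturality_right_symm]

/-- the canonical morphism `ℤ[R] ⟶ ℤ[aR]` of presheaves -/
noncomputable def c : X₀ R ⟶ (SpCech.F J).obj (X' J R) := Θ J R (X' J R) (𝟙 _)

lemma Θ_eq (G : Sheaf J AddCommGrpCat.{u}) (ψ : X' J R ⟶ G) :
    Θ J R G ψ = c J R ≫ (SpCech.F J).map ψ := by
  unfold c
  rw [← Θ_natural, Category.id_comp]

/-- `Hom(ℤ[R], G) ≃+ Hom(ℤ[aR], G)` -/
noncomputable def θ (G : Sheaf J AddCommGrpCat.{u}) :
    (X₀ R ⟶ (SpCech.F J).obj G) ≃+ (X' J R ⟶ G) :=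
  AddEquiv.symm
    { Θ J R G with
      map_add' := fun ψ ψ' => by
        show Θ J R G (ψ + ψ') = Θ J R G ψ + Θ J R G ψ'
        rw [Θ_eq, Θ_eq, Θ_eq, Functor.map_add, Preadditive.comp_add] }

lemma hθ {G G' : Sheaf J AddCommGrpCat.{u}} (g : G ⟶ G')
    (φ : X₀ R ⟶ (SpCech.F J).obj G) :
    θ J R G' (φ ≫ (SpCech.F J).map g) = θ J R G φ ≫ g := by
  apply (Θ J R G').injective
  rw [Θ_natural]
  have h1 : Θ J R G' (θ J R G' (φ ≫ (SpCech.F J).map g)) = φ ≫ (SpCech.F J).map g :=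
    (Θ J R G').apply_symm_apply _
  have h2 : Θ J R G (θ J R G φ) = φ := (Θ J R G).apply_symm_apply _
  rw [h1, h2]

/-- **The spectral sequence `H^p(R, ℋ^q(M)) ⇒ H^{p+q}(aR, M)`** (existence form). -/
theorem main (M : Sheaf J AddCommGrpCat.{u}) :
    ∃ (E : E₂CohomologicalSpectralSequence AddCommGrpCat.{u})
      (a : SpSeq.Abutment E (fun n : ℤ =>
        if 0 ≤ n then AddCommGrpCat.of (CohCx.HK ((presheafToSheaf J (Type u)).obj R) M n.toNat)
        else AddCommGrpCat.of PUnit.{u + 1})),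
      (∀ n, a.IsFinite n) ∧ SpSeq.IsBounded E ∧
      ∀ p q : ℤ, Nonempty ((E.page 2 le_rfl).X (p, q) ≅
        (if 0 ≤ p ∧ 0 ≤ q then
          AddCommGrpCat.of (CohCx.HK (J := (⊥ : GrothendieckTopology C))
            ⟨R, Presheaf.isSheaf_bot _⟩
            ⟨M.cohomologyPresheaf q.toNat, Presheaf.isSheaf_bot _⟩ p.toNat)
         else AddCommGrpCat.of PUnit.{u + 1})) := by
  let I : InjectiveResolution M := Classical.choice (HasInjectiveResolution.out)
  obtain ⟨E, a, ha, hb, hE, hz⟩ := SpGroth2.exists_spectralSequence (SpCech.F J) I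
    (X₀ R) (fun n => SpAcyc.acyc_of_injective _ _)
  refine ⟨E, SpFinal.exists_final E _ a ha hb
    (fun p' q' => AddCommGrpCat.of (CohCx.HK (J := (⊥ : GrothendieckTopology C))
            ⟨R, Presheaf.isSheaf_bot _⟩
            ⟨M.cohomologyPresheaf q', Presheaf.isSheaf_bot _⟩ p')) ?_ hz
    (fun n' => AddCommGrpCat.of (CohCx.HK ((presheafToSheaf J (Type u)).obj R) M n'))
    (AddCommGrpCat.of PUnit.{u + 1}) (AddCommGrpCat.of PUnit.{u + 1})
    (AddCommGrpCat.isZero_of_subsingleton _) (AddCommGrpCat.isZero_of_subsingleton _)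
    (fun n' => ?_) (fun n hn => ?_)⟩
  · intro p' q'
    obtain ⟨e⟩ := hE p' q'
    exact ⟨e ≪≫ (SpGroth2.extCongr _ ((SpCech.rightDerivedIso J q').app M) p').toAddCommGrpIso⟩
  · exact ⟨((SpCoh.cohomologyClassEquiv (SpCech.F J) (X₀ R) (X' J R) (θ J R) (hθ J R)
        I.cochainComplex (n' : ℤ)).trans
      (I.extAddEquivCohomologyClass (X := X' J R) (n := n')).symm).toAddCommGrpIso⟩
  · haveI := SpCoh.subsingleton_of_isZero (X₀ R) (SpGroth2.FI (SpCech.F J) I) n
      (CochainComplex.isZero_of_isStrictlyGE _ 0 n hn)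
    exact AddCommGrpCat.isZero_of_subsingleton _

end Groth.Agent.Helper9.SpPsh
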