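import Mathlib
import Groth.Prelude.Def_SpSeq
import Groth.Agent.Helper9.SpConvC

/-! Replacing the abutment objects and the `E₂` terms of a spectral sequence statement by
isomorphic ones. -/

set_option autoImplicit false
set_option linter.style.haveILetI false
set_option linter.unusedSectionVars false

namespace Groth.Agent.Helper9.SpReplace

open CategoryTheory Limits
open Groth.Agent.Helper9

universe v u

variable {C : Type u} [Category.{v} C] [Abelian C]

theorem replace (A A' : ℕ → C) (T T' : ℕ → ℕ → C) (Z Z' : C)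
    (eA : ∀ n, Nonempty (A n ≅ A' n)) (eT : ∀ p q, Nonempty (T p q ≅ T' p q))
    (h : ∃ (E : E₂CohomologicalSpectralSequence C)
      (a : SpSeq.Abutment E (fun n : ℤ => if 0 ≤ n then A n.toNat else Z)),
      (∀ n, a.IsFinite n) ∧ SpSeq.IsBounded E ∧
      ∀ p q : ℤ, Nonempty ((E.page 2 le_rfl).X (p, q) ≅
        (if 0 ≤ p ∧ 0 ≤ q then T p.toNat q.toNat else Z'))) :
    ∃ (E : E₂CohomologicalSpectralSequence C)
      (a : SpSeq.Abutment E (fun n : ℤ => if 0 ≤ n then A' n.toNat else Z)),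
      (∀ n, a.IsFinite n) ∧ SpSeq.IsBounded E ∧
      ∀ p q : ℤ, Nonempty ((E.page 2 le_rfl).X (p, q) ≅
        (if 0 ≤ p ∧ 0 ≤ q then T' p.toNat q.toNat else Z')) := by
  obtain ⟨E, a, ha, hb, hE⟩ := h
  have e : ∀ n : ℤ, Nonempty ((if 0 ≤ n then A n.toNat else Z) ≅
      (if 0 ≤ n then A' n.toNat else Z)) := by
    intro n
    by_cases hn : 0 ≤ n
    · rw [if_pos hn, if_pos hn]
      exact eA _
    · rw [if_neg hn, if_neg hn]
      exact ⟨Iso.refl _⟩
  refine ⟨E, SpConvC.transport (fun n => (e n).some) a,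
    fun n => SpConvC.transport_isFinite _ a n (ha n), hb, fun p q => ?_⟩
  obtain ⟨i⟩ := hE p q
  by_cases hpq : 0 ≤ p ∧ 0 ≤ q
  · rw [if_pos hpq] at i ⊢
    obtain ⟨j⟩ := eT p.toNat q.toNat
    exact ⟨i ≪≫ j⟩
  · rw [if_neg hpq] at i ⊢
    exact ⟨i⟩

end Groth.Agent.Helper9.SpReplace
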