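import Mathlib

namespace Groth.Agent.Helper9.SpSeqMono

open CategoryTheory CategoryTheory.Limits

universe v u

variable {C : Type u} [Category.{v} C] [Abelian C] {ι : Type*} {c : ComplexShape ι}

lemma mono_homologyMap {K L : HomologicalComplex C c} (φ : K ⟶ L) (j : ι)
    (hK : K.d (c.prev j) j = 0) (hL : L.d (c.prev j) j = 0) [Mono (φ.f j)] :
    Mono (HomologicalComplex.homologyMap φ j) := by
  have h1 := K.isIso_pOpcycles _ j rfl hK
  have h2 := L.isIso_pOpcycles _ j rfl hL
  have h3 : HomologicalComplex.opcyclesMap φ j = inv (K.pOpcycles j) ≫ φ.f j ≫ L.pOpcycles j := by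
    rw [IsIso.eq_inv_comp, HomologicalComplex.p_opcyclesMap]
  have h4 : Mono (HomologicalComplex.opcyclesMap φ j) := by
    rw [h3]; infer_instance
  have h5 : Mono (HomologicalComplex.homologyMap φ j ≫ L.homologyι j) := by
    rw [HomologicalComplex.homologyι_naturality]; infer_instance
  exact mono_of_mono _ (L.homologyι j)

lemma isZero_homology_of_isZero (K : HomologicalComplex C c) (j : ι) (h : IsZero (K.X j)) :
    IsZero (K.homology j) :=
  ShortComplex.isZero_homology_of_isZero_X₂ _ h

end Groth.Agent.Helper9.SpSeqMono
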