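import Mathlib

/-!
# Linear algebra for traces on subquotients (helper for S14284 / S14283)
-/

set_option autoImplicit false
universe u

namespace Groth.Agent.Helper9.SpTrA

open Module

section General

variable {R V : Type*} [CommRing R] [AddCommGroup V]
    [Module R V] [Module.Finite R V]
    (W : Submodule R V) [Module.Free R W] [Module.Finite R W] [Module.Free R (V ⧸ W)]

open Module.Basis in
theorem trace_eq_trace_add_trace (e : V →ₗ[R] V) (he : W ≤ W.comap e) :
    LinearMap.trace R V e = LinearMap.trace R W (e.restrict he) +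
      LinearMap.trace R (V ⧸ W) (W.mapQ W e he) := by
  classical
  let m := Module.Free.ChooseBasisIndex R W
  let bW : Basis m R W := Module.Free.chooseBasis R W
  let n := Module.Free.ChooseBasisIndex R (V ⧸ W)
  let bQ : Basis n R (V ⧸ W) := Module.Free.chooseBasis R (V ⧸ W)
  let b := sumQuot bW bQ
  let A : Matrix m m R := LinearMap.toMatrix bW bW (e.restrict he)
  let B : Matrix m n R := Matrix.of fun i l ↦
    ((sumQuot bW bQ).repr (e ((sumQuot bW bQ) (Sum.inr l)))) (Sum.inl i)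
  let D : Matrix n n R := LinearMap.toMatrix bQ bQ (W.mapQ W e he)
  suffices LinearMap.toMatrix b b e = Matrix.fromBlocks A B 0 D by
    rw [LinearMap.trace_eq_matrix_trace R b, this, LinearMap.trace_eq_matrix_trace R bW,
      LinearMap.trace_eq_matrix_trace R bQ]
    show Matrix.trace (Matrix.fromBlocks A B 0 D) = Matrix.trace A + Matrix.trace D
    simp [Matrix.trace, Fintype.sum_sum_type]
  ext u v
  cases u with
  | inl i =>
    cases v with
    | inl k =>
      simp only [b, sumQuot_inl, Matrix.fromBlocks_apply₁₁, A, LinearMap.toMatrix_apply]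
      apply sumQuot_repr_inl_of_mem
    | inr l => simp [b, LinearMap.toMatrix_apply, Matrix.fromBlocks_apply₁₂, B]
  | inr j =>
    cases v with
    | inl k =>
      suffices W.mkQ (e (bW k)) = 0 by simp [LinearMap.toMatrix_apply, b, this]
      rw [← LinearMap.mem_ker, Submodule.ker_mkQ]
      exact he (Submodule.coe_mem (bW k))
    | inr l =>
      simp only [LinearMap.toMatrix_apply, sumQuot_repr_inr,
        Matrix.fromBlocks_apply₂₂, b, D]
      rw [← sumQuot_inr bW bQ l, W.mapQ_apply]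
      simp

end General

section Field

variable {k : Type*} [Field k]
variable {V₁ V₂ V₃ : Type*} [AddCommGroup V₁] [Module k V₁] [AddCommGroup V₂] [Module k V₂]
  [AddCommGroup V₃] [Module k V₃]

/-- trace is invariant under an intertwining linear equivalence -/
theorem trace_eq_of_equiv (e : V₁ ≃ₗ[k] V₂) (φ₁ : V₁ →ₗ[k] V₁) (φ₂ : V₂ →ₗ[k] V₂)
    (h : ∀ x, e (φ₁ x) = φ₂ (e x)) : LinearMap.trace k V₁ φ₁ = LinearMap.trace k V₂ φ₂ := by
  have : φ₂ = e.conj φ₁ := by
    ext x
    simp only [LinearEquiv.conj_apply, LinearMap.coe_comp, LinearEquiv.coe_coe,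
      Function.comp_apply]
    rw [h]; simp
  rw [this, LinearMap.trace_conj']

/-- additivity of the trace in short exact sequences with compatible endomorphisms -/
theorem trace_add_of_exact [Module.Finite k V₂]
    (i : V₁ →ₗ[k] V₂) (p : V₂ →ₗ[k] V₃) (hi : Function.Injective i) (hp : Function.Surjective p)
    (hex : Function.Exact i p)
    (φ₁ : V₁ →ₗ[k] V₁) (φ₂ : V₂ →ₗ[k] V₂) (φ₃ : V₃ →ₗ[k] V₃)
    (h₁ : ∀ x, i (φ₁ x) = φ₂ (i x)) (h₂ : ∀ x, p (φ₂ x) = φ₃ (p x)) :
    LinearMap.trace k V₂ φ₂ = LinearMap.trace k V₁ φ₁ + LinearMap.trace k V₃ φ₃ := by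
  set W : Submodule k V₂ := LinearMap.ker p with hW
  have he : W ≤ W.comap φ₂ := by
    intro x hx
    simp only [hW, Submodule.mem_comap, LinearMap.mem_ker] at hx ⊢
    rw [h₂, hx, map_zero]
  rw [trace_eq_trace_add_trace W φ₂ he]
  congr 1
  · -- V₁ ≃ W
    have hr : LinearMap.range i = W := by
      rw [hW]; exact (LinearMap.exact_iff.mp hex).symm
    let e : V₁ ≃ₗ[k] W := (LinearEquiv.ofInjective i hi).trans (LinearEquiv.ofEq _ _ hr)
    symm
    apply trace_eq_of_equiv e
    intro x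
    apply Subtype.ext
    simp [e, h₁]
  · -- V₂ ⧸ W ≃ V₃
    let e : (V₂ ⧸ W) ≃ₗ[k] V₃ := p.quotKerEquivOfSurjective hp
    apply trace_eq_of_equiv e
    intro x
    obtain ⟨y, rfl⟩ := Submodule.Quotient.mk_surjective _ x
    exact h₂ y

theorem hasEigenvalue_of_injective (i : V₁ →ₗ[k] V₂) (hi : Function.Injective i)
    (φ₁ : V₁ →ₗ[k] V₁) (φ₂ : V₂ →ₗ[k] V₂) (h₁ : ∀ x, i (φ₁ x) = φ₂ (i x)) (μ : k)
    (hμ : Module.End.HasEigenvalue φ₁ μ) : Module.End.HasEigenvalue φ₂ μ := by
  obtain ⟨v, hv⟩ := hμ.exists_hasEigenvector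
  refine Module.End.hasEigenvalue_of_hasEigenvector (x := i v) ⟨?_, ?_⟩
  · rw [Module.End.mem_eigenspace_iff, ← h₁, hv.apply_eq_smul, map_smul]
  · intro h0
    exact hv.2 (hi (h0.trans (map_zero i).symm))

theorem hasEigenvalue_of_surjective [Module.Finite k V₂]
    (p : V₂ →ₗ[k] V₃) (hp : Function.Surjective p)
    (φ₂ : V₂ →ₗ[k] V₂) (φ₃ : V₃ →ₗ[k] V₃) (h₂ : ∀ x, p (φ₂ x) = φ₃ (p x)) (μ : k)
    (hμ : Module.End.HasEigenvalue φ₃ μ) : Module.End.HasEigenvalue φ₂ μ := by
  by_contra hcon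
  -- φ₂ - μ is injective, hence surjective
  have hinj : Function.Injective (φ₂ - μ • (LinearMap.id : V₂ →ₗ[k] V₂)) := by
    rw [← LinearMap.ker_eq_bot]
    by_contra hne
    apply hcon
    rw [Module.End.hasEigenvalue_iff]
    intro hbot
    apply hne
    rw [← hbot]
    ext x
    simp [sub_eq_zero]
  have hsurj : Function.Surjective (φ₂ - μ • (LinearMap.id : V₂ →ₗ[k] V₂)) :=
    LinearMap.injective_iff_surjective.mp hinj
  obtain ⟨v, hv⟩ := hμ.exists_hasEigenvector
  have hsurj3 : Function.Surjective (φ₃ - μ • (LinearMap.id : V₃ →ₗ[k] V₃)) := by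
    intro y
    obtain ⟨x, rfl⟩ := hp y
    obtain ⟨z, hz⟩ := hsurj x
    refine ⟨p z, ?_⟩
    rw [← hz]
    simp [h₂]
  haveI : Module.Finite k V₃ := Module.Finite.of_surjective p hp
  have hinj3 : Function.Injective (φ₃ - μ • (LinearMap.id : V₃ →ₗ[k] V₃)) :=
    LinearMap.injective_iff_surjective.mpr hsurj3
  apply hv.2
  apply hinj3
  rw [map_zero]
  simp [hv.apply_eq_smul]

end Field

section Complex

variable {V : Type*} [AddCommGroup V] [Module ℂ V] [Module.Finite ℂ V]

theorem norm_trace_le (φ : V →ₗ[ℂ] V) (c : ℝ)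
    (h : ∀ μ : ℂ, Module.End.HasEigenvalue φ μ → ‖μ‖ ≤ c) :
    ‖LinearMap.trace ℂ V φ‖ ≤ (Module.finrank ℂ V : ℝ) * c := by
  rw [Module.End.trace_eq_sum_roots_charpoly_of_splits (f := φ) (IsAlgClosed.splits φ.charpoly)]
  have hcard : Multiset.card φ.charpoly.roots = Module.finrank ℂ V := by
    rw [← LinearMap.charpoly_natDegree φ]
    exact (IsAlgClosed.splits φ.charpoly).natDegree_eq_card_roots.symm
  calc ‖φ.charpoly.roots.sum‖ ≤ (φ.charpoly.roots.map (fun μ => ‖μ‖)).sum :=
        norm_multiset_sum_le _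
    _ ≤ Multiset.card φ.charpoly.roots • c := by
        rw [← Multiset.card_map (fun μ : ℂ => ‖μ‖)]
        apply Multiset.sum_le_card_nsmul
        intro x hx
        rw [Multiset.mem_map] at hx
        obtain ⟨μ, hμ, rfl⟩ := hx
        apply h
        rw [Module.End.hasEigenvalue_iff_isRoot_charpoly]
        exact (Polynomial.mem_roots'.mp hμ).2
    _ = (Module.finrank ℂ V : ℝ) * c := by rw [hcard, nsmul_eq_mul]

end Complex

end Groth.Agent.Helper9.SpTrA
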