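import Mathlib
import Groth.Agent.Helper9.SpTrA

/-!
# Traces of the endomorphism `X` on `ℂ[X]`-modules: the `ModuleCat` layer
-/

set_option autoImplicit false
universe u

namespace Groth.Agent.Helper9.SpTrB

open CategoryTheory CategoryTheory.Limits Groth.Agent.Helper9

/-- restriction of scalars `ℂ[X]`-modules to `ℂ`-vector spaces -/
noncomputable abbrev resC : ModuleCat.{u} (Polynomial ℂ) ⥤ ModuleCat.{u} ℂ :=
  ModuleCat.restrictScalars (algebraMap ℂ (Polynomial ℂ))

/-- the endomorphism `Φ` = multiplication by `X` -/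
noncomputable abbrev Phi (M : ModuleCat.{u} (Polynomial ℂ)) : (resC.obj M) →ₗ[ℂ] (resC.obj M) :=
  (resC.map ((Polynomial.X : Polynomial ℂ) • 𝟙 M)).hom

/-- its trace -/
noncomputable abbrev tr (M : ModuleCat.{u} (Polynomial ℂ)) : ℂ :=
  LinearMap.trace ℂ _ (Phi M)

/-- underlying `ℂ`-linear map of a morphism -/
noncomputable abbrev lin {M N : ModuleCat.{u} (Polynomial ℂ)} (f : M ⟶ N) :
    (resC.obj M) →ₗ[ℂ] (resC.obj N) := (resC.map f).hom

lemma Phi_apply (M : ModuleCat.{u} (Polynomial ℂ)) (x : resC.obj M) :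
    Phi M x = ((Polynomial.X : Polynomial ℂ) • (show M from x) : M) := rfl

lemma lin_apply {M N : ModuleCat.{u} (Polynomial ℂ)} (f : M ⟶ N) (x : resC.obj M) :
    lin f x = f.hom (show M from x) := rfl

lemma lin_Phi {M N : ModuleCat.{u} (Polynomial ℂ)} (f : M ⟶ N) (x : resC.obj M) :
    lin f (Phi M x) = Phi N (lin f x) := by
  rw [lin_apply, Phi_apply, Phi_apply, lin_apply]
  exact map_smul f.hom _ _

lemma lin_injective {M N : ModuleCat.{u} (Polynomial ℂ)} (f : M ⟶ N) [Mono f] :
    Function.Injective (lin f) :=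
  (ModuleCat.mono_iff_injective f).mp inferInstance

lemma lin_surjective {M N : ModuleCat.{u} (Polynomial ℂ)} (f : M ⟶ N) [Epi f] :
    Function.Surjective (lin f) :=
  (ModuleCat.epi_iff_surjective f).mp inferInstance

lemma lin_exact (S : ShortComplex (ModuleCat.{u} (Polynomial ℂ))) (hS : S.Exact) :
    Function.Exact (lin S.f) (lin S.g) :=
  (ShortComplex.ShortExact.moduleCat_exact_iff_function_exact S).mp hS

lemma tr_eq_of_iso {M N : ModuleCat.{u} (Polynomial ℂ)} (e : M ≅ N) : tr M = tr N := by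
  let e' : (resC.obj M) ≃ₗ[ℂ] (resC.obj N) := (resC.mapIso e).toLinearEquiv
  exact SpTrA.trace_eq_of_equiv e' (Phi M) (Phi N) (fun x => lin_Phi e.hom x)

lemma finite_of_iso {M N : ModuleCat.{u} (Polynomial ℂ)} (e : M ≅ N)
    [Module.Finite ℂ (resC.obj M)] : Module.Finite ℂ (resC.obj N) :=
  Module.Finite.equiv (resC.mapIso e).toLinearEquiv

lemma finrank_eq_of_iso {M N : ModuleCat.{u} (Polynomial ℂ)} (e : M ≅ N) :
    Module.finrank ℂ (resC.obj M) = Module.finrank ℂ (resC.obj N) :=
  LinearEquiv.finrank_eq (resC.mapIso e).toLinearEquiv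

lemma hasEigenvalue_of_iso {M N : ModuleCat.{u} (Polynomial ℂ)} (e : M ≅ N) (μ : ℂ)
    (h : Module.End.HasEigenvalue (Phi N) μ) : Module.End.HasEigenvalue (Phi M) μ :=
  SpTrA.hasEigenvalue_of_injective (lin e.inv) (lin_injective e.inv) (Phi N) (Phi M)
    (fun x => lin_Phi e.inv x) μ h

lemma tr_eq_zero_of_isZero {M : ModuleCat.{u} (Polynomial ℂ)} (h : IsZero M) : tr M = 0 := by
  haveI : Subsingleton M := ModuleCat.subsingleton_of_isZero h
  haveI : Subsingleton (resC.obj M) := ‹Subsingleton M›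
  have : Phi M = 0 := Subsingleton.elim _ _
  rw [tr, this, map_zero]

/-- A subquotient `H` of `M` (a quotient of a subobject `Z`). -/
lemma subquotient {M Z H : ModuleCat.{u} (Polynomial ℂ)} (i : Z ⟶ M) [Mono i] (p : Z ⟶ H) [Epi p]
    [Module.Finite ℂ (resC.obj M)] :
    Module.Finite ℂ (resC.obj H) ∧
      Module.finrank ℂ (resC.obj H) ≤ Module.finrank ℂ (resC.obj M) ∧
      ∀ μ : ℂ, Module.End.HasEigenvalue (Phi H) μ → Module.End.HasEigenvalue (Phi M) μ := by
  haveI : Module.Finite ℂ (resC.obj Z) := Module.Finite.of_injective (lin i) (lin_injective i)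
  haveI : Module.Finite ℂ (resC.obj H) := Module.Finite.of_surjective (lin p) (lin_surjective p)
  refine ⟨inferInstance, ?_, ?_⟩
  · exact (LinearMap.finrank_le_finrank_of_surjective (lin_surjective p)).trans
      (LinearMap.finrank_le_finrank_of_injective (lin_injective i))
  · intro μ hμ
    exact SpTrA.hasEigenvalue_of_injective (lin i) (lin_injective i) (Phi Z) (Phi M)
      (fun x => lin_Phi i x) μ
      (SpTrA.hasEigenvalue_of_surjective (lin p) (lin_surjective p) (Phi Z) (Phi H)
        (fun x => lin_Phi p x) μ hμ)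

lemma range_invariant {M N : ModuleCat.{u} (Polynomial ℂ)} (f : M ⟶ N) :
    ∀ y ∈ LinearMap.range (lin f), Phi N y ∈ LinearMap.range (lin f) := by
  rintro _ ⟨x, rfl⟩
  exact ⟨Phi M x, lin_Phi f x⟩

/-- trace of `Φ` on the image of a morphism -/
noncomputable def trRange {M N : ModuleCat.{u} (Polynomial ℂ)} (f : M ⟶ N) : ℂ :=
  LinearMap.trace ℂ (LinearMap.range (lin f)) ((Phi N).restrict (range_invariant f))

lemma norm_tr_le (M : ModuleCat.{u} (Polynomial ℂ)) [Module.Finite ℂ (resC.obj M)] (c : ℝ)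
    (h : ∀ μ : ℂ, Module.End.HasEigenvalue (Phi M) μ → ‖μ‖ ≤ c) :
    ‖tr M‖ ≤ (Module.finrank ℂ (resC.obj M) : ℝ) * c :=
  SpTrA.norm_trace_le (Phi M) c h

lemma norm_trRange_le {M N : ModuleCat.{u} (Polynomial ℂ)} (f : M ⟶ N)
    [Module.Finite ℂ (resC.obj N)] (c : ℝ) (hc : 0 ≤ c)
    (h : ∀ μ : ℂ, Module.End.HasEigenvalue (Phi N) μ → ‖μ‖ ≤ c) :
    ‖trRange f‖ ≤ (Module.finrank ℂ (resC.obj N) : ℝ) * c := by
  have h1 : ‖trRange f‖ ≤ (Module.finrank ℂ (LinearMap.range (lin f)) : ℝ) * c := by
    apply SpTrA.norm_trace_le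
    intro μ hμ
    apply h
    exact SpTrA.hasEigenvalue_of_injective (LinearMap.range (lin f)).subtype
      (Submodule.injective_subtype _) _ (Phi N) (fun x => rfl) μ hμ
  refine h1.trans ?_
  apply mul_le_mul_of_nonneg_right _ hc
  exact_mod_cast Submodule.finrank_le _

lemma trRange_eq_zero_of_isZero {M N : ModuleCat.{u} (Polynomial ℂ)} (f : M ⟶ N) (h : IsZero N) :
    trRange f = 0 := by
  haveI : Subsingleton N := ModuleCat.subsingleton_of_isZero h
  haveI : Subsingleton (resC.obj N) := ‹Subsingleton N›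
  haveI : Subsingleton (LinearMap.range (lin f)) := inferInstance
  have : (Phi N).restrict (range_invariant f) = 0 := Subsingleton.elim _ _
  rw [trRange, this, map_zero]

/-- the trace on the middle term of a short complex -/
theorem tr_X₂ (S : ShortComplex (ModuleCat.{u} (Polynomial ℂ))) [Module.Finite ℂ (resC.obj S.X₂)] :
    tr S.X₂ = tr S.homology + trRange S.f + trRange S.g := by
  haveI : Module.Finite ℂ (resC.obj S.cycles) :=
    Module.Finite.of_injective (lin S.iCycles) (lin_injective S.iCycles)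
  -- first exact sequence : 0 → cycles → X₂ → range g → 0
  have hex1 : Function.Exact (lin S.iCycles) (lin S.g) :=
    lin_exact (ShortComplex.mk S.iCycles S.g S.iCycles_g)
      (ShortComplex.exact_of_f_is_kernel _ S.cyclesIsKernel)
  have h1 : tr S.X₂ = tr S.cycles + trRange S.g := by
    refine SpTrA.trace_add_of_exact (lin S.iCycles) (lin S.g).rangeRestrict
      (lin_injective S.iCycles) (LinearMap.surjective_rangeRestrict _) ?_ (Phi S.cycles) (Phi S.X₂)
      ((Phi S.X₃).restrict (range_invariant S.g)) (fun x => lin_Phi S.iCycles x) ?_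
    · intro y
      rw [← hex1 y]
      constructor
      · intro h
        exact congrArg Subtype.val h
      · intro h
        exact Subtype.ext h
    · intro x
      exact Subtype.ext (lin_Phi S.g x)
  -- second exact sequence : 0 → range toCycles → cycles → homology → 0
  have hex2 : Function.Exact (lin S.toCycles) (lin S.homologyπ) :=
    lin_exact (ShortComplex.mk S.toCycles S.homologyπ S.toCycles_comp_homologyπ)
      (ShortComplex.exact_of_g_is_cokernel _ S.homologyIsCokernel)
  have h2 : tr S.cycles = trRange S.toCycles + tr S.homology := by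
    refine SpTrA.trace_add_of_exact (LinearMap.range (lin S.toCycles)).subtype (lin S.homologyπ)
      (Submodule.injective_subtype _) (lin_surjective S.homologyπ) ?_
      ((Phi S.cycles).restrict (range_invariant S.toCycles)) (Phi S.cycles)
      (Phi S.homology) (fun x => rfl) (fun x => lin_Phi S.homologyπ x)
    intro y
    rw [hex2 y]
    constructor
    · rintro ⟨x, rfl⟩
      exact ⟨⟨_, ⟨x, rfl⟩⟩, rfl⟩
    · rintro ⟨⟨_, ⟨x, rfl⟩⟩, rfl⟩
      exact ⟨x, rfl⟩
  -- comparison of the ranges of `toCycles` and `f`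
  have h3 : trRange S.toCycles = trRange S.f := by
    have hcomp : ∀ x, lin S.iCycles (lin S.toCycles x) = lin S.f x := by
      intro x
      have := S.toCycles_i
      rw [← this]
      rfl
    have hmap : (LinearMap.range (lin S.toCycles)).map (lin S.iCycles) = LinearMap.range (lin S.f) := by
      ext y
      constructor
      · rintro ⟨_, ⟨x, rfl⟩, rfl⟩
        exact ⟨x, (hcomp x).symm⟩
      · rintro ⟨x, rfl⟩
        exact ⟨_, ⟨x, rfl⟩, hcomp x⟩
    let e : LinearMap.range (lin S.toCycles) ≃ₗ[ℂ] LinearMap.range (lin S.f) :=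
      (Submodule.equivMapOfInjective (lin S.iCycles) (lin_injective S.iCycles) _).trans
        (LinearEquiv.ofEq _ _ hmap)
    apply SpTrA.trace_eq_of_equiv e
    intro x
    apply Subtype.ext
    exact lin_Phi S.iCycles x.1
  rw [h1, h2, h3]
  ring

end Groth.Agent.Helper9.SpTrB
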