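import Mathlib
import Groth.Agent.Helper9.SpTrB

/-!
# Alternating sums of traces over a page of a first-quadrant spectral sequence
-/

set_option autoImplicit false
universe u

namespace Groth.Agent.Helper9.SpTrC

open CategoryTheory CategoryTheory.Limits Groth.Agent.Helper9 SpTrB

/-- the sign `(-1)^(p+q)` -/
noncomputable def sgn (pq : ℤ × ℤ) : ℂ := (-1 : ℂ) ^ (pq.1 + pq.2)

lemma sgn_add (pq v : ℤ × ℤ) (hv : v.1 + v.2 = 1) : sgn (pq + v) = - sgn pq := by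
  unfold sgn
  have : (pq + v).1 + (pq + v).2 = (pq.1 + pq.2) + 1 := by
    simp only [Prod.fst_add, Prod.snd_add]; lia
  rw [this, zpow_add₀ (by norm_num), zpow_one]; ring

lemma sgn_cast (p q : ℕ) : sgn ((p : ℤ), (q : ℤ)) = (-1 : ℂ) ^ (p + q) := by
  unfold sgn
  simp only
  rw [← Nat.cast_add, zpow_natCast]

lemma norm_sgn (pq : ℤ × ℤ) : ‖sgn pq‖ = 1 := by
  unfold sgn
  rw [norm_zpow, norm_neg, norm_one, one_zpow]

/-- the embedding `ℕ × ℕ → ℤ × ℤ` -/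
def ι (pq : ℕ × ℕ) : ℤ × ℤ := ((pq.1 : ℤ), (pq.2 : ℤ))

lemma ι_injective : Function.Injective ι := by
  rintro ⟨a, b⟩ ⟨c, d⟩ h
  simp only [ι, Prod.mk.injEq, Nat.cast_inj] at h
  exact Prod.ext h.1 h.2

lemma neg_of_not_mem_range_ι (pq : ℤ × ℤ) (h : pq ∉ Set.range ι) : pq.1 < 0 ∨ pq.2 < 0 := by
  by_contra hcon
  push Not at hcon
  apply h
  refine ⟨(pq.1.toNat, pq.2.toNat), ?_⟩
  simp only [ι]
  rw [Int.toNat_of_nonneg hcon.1, Int.toNat_of_nonneg hcon.2]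

/-- the dominating function -/
noncomputable def G (N : ℕ) (a c : ℕ → ℝ) (b d : ℕ → ℕ) (pq : ℕ × ℕ) : ℝ :=
  (c pq.1 * d pq.1) * (if pq.2 ≤ N then a pq.2 * b pq.2 else 0)

lemma G_nonneg (N : ℕ) (a c : ℕ → ℝ) (b d : ℕ → ℕ) (ha : ∀ q, 0 ≤ a q) (hc : ∀ p, 0 ≤ c p)
    (pq : ℕ × ℕ) : 0 ≤ G N a c b d pq := by
  unfold G
  apply mul_nonneg (mul_nonneg (hc _) (Nat.cast_nonneg _))
  split_ifs
  · exact mul_nonneg (ha _) (Nat.cast_nonneg _)
  · exact le_rfl

lemma summable_G (N : ℕ) (a c : ℕ → ℝ) (b d : ℕ → ℕ) (ha : ∀ q, 0 ≤ a q) (hc : ∀ p, 0 ≤ c p)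
    (hsum : Summable fun p : ℕ => c p * (d p : ℝ)) : Summable (G N a c b d) := by
  have hg : Summable (fun q : ℕ => if q ≤ N then a q * (b q : ℝ) else 0) := by
    apply summable_of_ne_finset_zero (s := Finset.range (N + 1))
    intro q hq
    rw [Finset.mem_range] at hq
    rw [if_neg (by lia)]
  show Summable (fun pq : ℕ × ℕ => (c pq.1 * (d pq.1 : ℝ)) *
    (if pq.2 ≤ N then a pq.2 * (b pq.2 : ℝ) else 0))
  apply Summable.mul_of_nonneg hsum hg
  · intro p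
    exact mul_nonneg (hc _) (Nat.cast_nonneg _)
  · intro q
    dsimp only
    split_ifs
    · exact mul_nonneg (ha _) (Nat.cast_nonneg _)
    · exact le_rfl

/-- domination of a first-quadrant family -/
structure Dom (t : ℤ × ℤ → ℂ) (g : ℕ × ℕ → ℝ) : Prop where
  quad : ∀ pq : ℤ × ℤ, pq.1 < 0 ∨ pq.2 < 0 → t pq = 0
  le : ∀ pq : ℕ × ℕ, ‖t (ι pq)‖ ≤ g pq

namespace Dom

variable {t : ℤ × ℤ → ℂ} {g : ℕ × ℕ → ℝ}

lemma summable_sgn (h : Dom t g) (hg : Summable g) : Summable (fun pq => sgn pq * t pq) := by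
  rw [← ι_injective.summable_iff]
  · apply Summable.of_norm_bounded hg
    intro pq
    simp only [Function.comp_apply]
    rw [norm_mul, norm_sgn, one_mul]
    exact h.le pq
  · intro pq hpq
    rw [h.quad pq (neg_of_not_mem_range_ι pq hpq), mul_zero]

lemma tsum_nat (h : Dom t g) :
    ∑' pq : ℕ × ℕ, (-1 : ℂ) ^ (pq.1 + pq.2) * t (ι pq) = ∑' pq : ℤ × ℤ, sgn pq * t pq := by
  rw [← ι_injective.tsum_eq (f := fun pq => sgn pq * t pq)]
  · apply tsum_congr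
    intro pq
    rw [← sgn_cast]
    rfl
  · intro pq hpq
    by_contra hcon
    apply hpq
    show sgn pq * t pq = 0
    rw [h.quad pq (neg_of_not_mem_range_ι pq hcon), mul_zero]

end Dom

/-- the boundedness condition on a family of `ℂ[X]`-modules indexed by `ℤ × ℤ` -/
structure Bd (X : ℤ × ℤ → ModuleCat.{u} (Polynomial ℂ)) (N : ℕ) (a c : ℕ → ℝ) (b d : ℕ → ℕ) :
    Prop where
  quad : ∀ pq : ℤ × ℤ, pq.1 < 0 ∨ pq.2 < 0 → IsZero (X pq)
  fin : ∀ pq : ℤ × ℤ, Module.Finite ℂ (resC.obj (X pq))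
  van : ∀ p q : ℕ, N < q → IsZero (X ((p : ℤ), (q : ℤ)))
  eig : ∀ (p q : ℕ) (μ : ℂ),
    Module.End.HasEigenvalue (Phi (X ((p : ℤ), (q : ℤ)))) μ → ‖μ‖ ≤ a q * c p
  rk : ∀ p q : ℕ, Module.finrank ℂ (resC.obj (X ((p : ℤ), (q : ℤ)))) ≤ b q * d p

namespace Bd

variable {X : ℤ × ℤ → ModuleCat.{u} (Polynomial ℂ)} {N : ℕ} {a c : ℕ → ℝ} {b d : ℕ → ℕ}

lemma of_subquotient (h : Bd X N a c b d) (X' : ℤ × ℤ → ModuleCat.{u} (Polynomial ℂ))
    (hX' : ∀ pq, ∃ (Z : ModuleCat.{u} (Polynomial ℂ)) (i : Z ⟶ X pq) (p : Z ⟶ X' pq),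
      Mono i ∧ Epi p) : Bd X' N a c b d := by
  have key : ∀ pq, IsZero (X pq) → IsZero (X' pq) := by
    intro pq hz
    obtain ⟨Z, i, p, hi, hp⟩ := hX' pq
    exact IsZero.of_epi p (IsZero.of_mono i hz)
  have key2 : ∀ pq, Module.Finite ℂ (resC.obj (X' pq)) ∧
      Module.finrank ℂ (resC.obj (X' pq)) ≤ Module.finrank ℂ (resC.obj (X pq)) ∧
      ∀ μ : ℂ, Module.End.HasEigenvalue (Phi (X' pq)) μ →
        Module.End.HasEigenvalue (Phi (X pq)) μ := by
    intro pq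
    obtain ⟨Z, i, p, hi, hp⟩ := hX' pq
    haveI := h.fin pq
    exact subquotient i p
  exact
    { quad := fun pq hpq => key pq (h.quad pq hpq)
      fin := fun pq => (key2 pq).1
      van := fun p q hq => key _ (h.van p q hq)
      eig := fun p q μ hμ => h.eig p q μ ((key2 _).2.2 μ hμ)
      rk := fun p q => ((key2 _).2.1).trans (h.rk p q) }

lemma dom (h : Bd X N a c b d) (ha : ∀ q, 0 ≤ a q) (hc : ∀ p, 0 ≤ c p) (t : ℤ × ℤ → ℂ)
    (ht0 : ∀ pq, IsZero (X pq) → t pq = 0)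
    (hle : ∀ (pq : ℤ × ℤ) (cc : ℝ), 0 ≤ cc →
      (∀ μ : ℂ, Module.End.HasEigenvalue (Phi (X pq)) μ → ‖μ‖ ≤ cc) →
      ‖t pq‖ ≤ (Module.finrank ℂ (resC.obj (X pq)) : ℝ) * cc) : Dom t (G N a c b d) where
  quad pq hpq := ht0 pq (h.quad pq hpq)
  le := by
    rintro ⟨p, q⟩
    unfold G
    simp only [ι]
    by_cases hq : q ≤ N
    · rw [if_pos hq]
      refine (hle _ (a q * c p) (mul_nonneg (ha q) (hc p)) (h.eig p q)).trans ?_
      have h1 : (Module.finrank ℂ (resC.obj (X ((p : ℤ), (q : ℤ)))) : ℝ) ≤ (b q : ℝ) * (d p : ℝ) := by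
        exact_mod_cast h.rk p q
      calc (Module.finrank ℂ (resC.obj (X ((p : ℤ), (q : ℤ)))) : ℝ) * (a q * c p)
          ≤ ((b q : ℝ) * (d p : ℝ)) * (a q * c p) :=
            mul_le_mul_of_nonneg_right h1 (mul_nonneg (ha q) (hc p))
        _ = c p * ↑(d p) * (a q * ↑(b q)) := by ring
    · rw [if_neg hq, mul_zero, ht0 _ (h.van p q (by lia)), norm_zero]

lemma dom_tr (h : Bd X N a c b d) (ha : ∀ q, 0 ≤ a q) (hc : ∀ p, 0 ≤ c p) :
    Dom (fun pq => tr (X pq)) (G N a c b d) :=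
  h.dom ha hc _ (fun pq hz => tr_eq_zero_of_isZero hz)
    (fun pq cc _ hcc => by haveI := h.fin pq; exact norm_tr_le (X pq) cc hcc)

end Bd

variable {v : ℤ × ℤ}

lemma tr_X (K : HomologicalComplex (ModuleCat.{u} (Polynomial ℂ)) (ComplexShape.up' v))
    (pq : ℤ × ℤ) [Module.Finite ℂ (resC.obj (K.X pq))] :
    tr (K.X pq) = tr (K.homology pq) + trRange (K.d (pq - v) pq) + trRange (K.d pq (pq + v)) := by
  haveI : Module.Finite ℂ (resC.obj (K.sc pq).X₂) := ‹Module.Finite ℂ (resC.obj (K.X pq))›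
  have h := tr_X₂ (K.sc pq)
  have hprev : (ComplexShape.up' v).prev pq = pq - v :=
    (ComplexShape.up' v).prev_eq' (sub_add_cancel pq v)
  have hnext : (ComplexShape.up' v).next pq = pq + v :=
    (ComplexShape.up' v).next_eq' rfl
  have h' : tr (K.X pq) = tr (K.homology pq) +
      trRange (K.d ((ComplexShape.up' v).prev pq) pq) +
      trRange (K.d pq ((ComplexShape.up' v).next pq)) := h
  rw [hprev, hnext] at h'
  exact h'

/-- One step: passing from a page to its homology. -/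
theorem step (hv : v.1 + v.2 = 1)
    (K : HomologicalComplex (ModuleCat.{u} (Polynomial ℂ)) (ComplexShape.up' v))
    (X' : ℤ × ℤ → ModuleCat.{u} (Polynomial ℂ)) (e : ∀ pq, K.homology pq ≅ X' pq)
    (N : ℕ) (a c : ℕ → ℝ) (b d : ℕ → ℕ) (ha : ∀ q, 0 ≤ a q) (hc : ∀ p, 0 ≤ c p)
    (hsum : Summable fun p : ℕ => c p * (d p : ℝ)) (h : Bd K.X N a c b d) :
    Bd X' N a c b d ∧
      ∑' pq : ℕ × ℕ, (-1 : ℂ) ^ (pq.1 + pq.2) * tr (X' (ι pq)) =
        ∑' pq : ℕ × ℕ, (-1 : ℂ) ^ (pq.1 + pq.2) * tr (K.X (ι pq)) := by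
  have hG := summable_G N a c b d ha hc hsum
  have h' : Bd X' N a c b d := by
    apply h.of_subquotient
    intro pq
    exact ⟨K.cycles pq, K.iCycles pq, K.homologyπ pq ≫ (e pq).hom, inferInstance, inferInstance⟩
  refine ⟨h', ?_⟩
  have hT := h.dom_tr ha hc
  have hT' := h'.dom_tr ha hc
  let γ : ℤ × ℤ → ℂ := fun pq => trRange (K.d (pq - v) pq)
  have hγ : Dom γ (G N a c b d) :=
    h.dom ha hc γ (fun pq hz => trRange_eq_zero_of_isZero _ hz)
      (fun pq cc hcc0 hcc => by haveI := h.fin pq; exact norm_trRange_le _ cc hcc0 hcc)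
  have hid : ∀ pq, tr (K.X pq) = tr (X' pq) + γ pq + γ (pq + v) := by
    intro pq
    haveI := h.fin pq
    rw [tr_X K pq, tr_eq_of_iso (e pq)]
    congr 1
    show trRange (K.d pq (pq + v)) = trRange (K.d (pq + v - v) (pq + v))
    rw [add_sub_cancel_right]
  rw [hT'.tsum_nat, hT.tsum_nat]
  have s1 := hT'.summable_sgn hG
  have s2 := hγ.summable_sgn hG
  have s3 : Summable (fun pq => sgn pq * γ (pq + v)) := by
    have := ((Equiv.addRight v).summable_iff.mpr s2).neg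
    refine this.congr ?_
    intro pq
    simp only [Function.comp_apply, Equiv.coe_addRight]
    rw [sgn_add pq v hv]
    ring
  have e3 : ∑' pq, sgn pq * γ (pq + v) = - ∑' pq, sgn pq * γ pq := by
    rw [← (Equiv.addRight v).tsum_eq (fun pq => sgn pq * γ pq), ← tsum_neg]
    apply tsum_congr
    intro pq
    simp only [Equiv.coe_addRight]
    rw [sgn_add pq v hv]
    ring
  have : (fun pq => sgn pq * tr (K.X pq)) =
      fun pq => (sgn pq * tr (X' pq) + sgn pq * γ pq) + sgn pq * γ (pq + v) := by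
    funext pq
    rw [hid pq]
    ring
  rw [this, (s1.add s2).tsum_add s3, s1.tsum_add s2, e3]
  ring

end Groth.Agent.Helper9.SpTrC
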