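import Mathlib
import Groth.Prelude.Def_SpSeq
import Groth.Agent.Helper9.SpTrB

/-!
# Trace of `Φ` along a finite filtration
-/

set_option autoImplicit false
universe u

namespace Groth.Agent.Helper9.SpTrD

open CategoryTheory CategoryTheory.Limits Groth.Agent.Helper9 SpTrB

/-- additivity in short exact sequences of `ℂ[X]`-modules -/
lemma tr_shortExact (S : ShortComplex (ModuleCat.{u} (Polynomial ℂ))) (hS : S.ShortExact)
    [Module.Finite ℂ (resC.obj S.X₁)] [Module.Finite ℂ (resC.obj S.X₃)] :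
    Module.Finite ℂ (resC.obj S.X₂) ∧ tr S.X₂ = tr S.X₁ + tr S.X₃ := by
  haveI := hS.mono_f
  haveI := hS.epi_g
  haveI : Module.Finite ℂ (resC.obj S.X₂) :=
    Module.Finite.of_exact (lin_exact S hS.exact) (lin_surjective S.g)
  exact ⟨inferInstance, SpTrA.trace_add_of_exact (lin S.f) (lin S.g) (lin_injective S.f)
    (lin_surjective S.g) (lin_exact S hS.exact) (Phi _) (Phi _) (Phi _)
    (fun x => lin_Phi S.f x) (fun x => lin_Phi S.g x)⟩

lemma finite_of_isZero {M : ModuleCat.{u} (Polynomial ℂ)} (h : IsZero M) :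
    Module.Finite ℂ (resC.obj M) := by
  haveI : Subsingleton M := ModuleCat.subsingleton_of_isZero h
  haveI : Subsingleton (resC.obj M) := ‹Subsingleton M›
  infer_instance

variable {M : ModuleCat.{u} (Polynomial ℂ)} (F : ℤ → Subobject M) (hF : Antitone F)

lemma grPiece_shortExact (p : ℤ) :
    (ShortComplex.mk ((F (p + 1)).ofLE (F p) (hF (Int.le_add_one le_rfl)))
      (cokernel.π _) (cokernel.condition _)).ShortExact :=
  ShortComplex.ShortExact.mk' (ShortComplex.exact_cokernel _) inferInstance inferInstance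

theorem filtration_aux (b : ℤ) (hb : F b = ⊥)
    (hfin : ∀ p, Module.Finite ℂ (resC.obj (SpSeq.grPiece F hF p))) :
    ∀ (k : ℕ) (p : ℤ), p + k = b →
      Module.Finite ℂ (resC.obj (F p : ModuleCat.{u} (Polynomial ℂ))) ∧
        tr (F p : ModuleCat.{u} (Polynomial ℂ)) =
          ∑ i ∈ Finset.Ico p b, tr (SpSeq.grPiece F hF i) := by
  intro k
  induction k with
  | zero =>
    intro p hp
    have hpb : p = b := by simpa using hp
    subst hpb
    have hz : IsZero (F p : ModuleCat.{u} (Polynomial ℂ)) :=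
      (isZero_zero _).of_iso (Subobject.isoOfEq _ _ hb ≪≫ Subobject.botCoeIsoZero)
    refine ⟨finite_of_isZero hz, ?_⟩
    rw [tr_eq_zero_of_isZero hz, Finset.Ico_self, Finset.sum_empty]
  | succ k ih =>
    intro p hp
    obtain ⟨h1, h2⟩ := ih (p + 1) (by push_cast at hp ⊢; lia)
    haveI := h1
    haveI := hfin p
    have hS := grPiece_shortExact F hF p
    haveI : Module.Finite ℂ (resC.obj (ShortComplex.mk ((F (p + 1)).ofLE (F p)
        (hF (Int.le_add_one le_rfl))) (cokernel.π _) (cokernel.condition _)).X₁) := h1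
    haveI : Module.Finite ℂ (resC.obj (ShortComplex.mk ((F (p + 1)).ofLE (F p)
        (hF (Int.le_add_one le_rfl))) (cokernel.π _) (cokernel.condition _)).X₃) := hfin p
    obtain ⟨h3, h4⟩ := tr_shortExact _ hS
    refine ⟨h3, ?_⟩
    have hpb : p < b := by push_cast at hp; lia
    have hnot : p ∉ Finset.Ico (p + 1) b := by simp
    rw [← Finset.insert_Ico_add_one_left_eq_Ico hpb, Finset.sum_insert hnot, ← h2, add_comm]
    exact h4

theorem filtration (a b : ℤ) (hab : a ≤ b) (ha : F a = ⊤) (hb : F b = ⊥)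
    (hfin : ∀ p, Module.Finite ℂ (resC.obj (SpSeq.grPiece F hF p))) :
    Module.Finite ℂ (resC.obj M) ∧
      tr M = ∑ i ∈ Finset.Ico a b, tr (SpSeq.grPiece F hF i) := by
  obtain ⟨h1, h2⟩ := filtration_aux F hF b hb hfin (b - a).toNat a
    (by rw [Int.toNat_of_nonneg (by lia)]; ring)
  let e : (F a : ModuleCat.{u} (Polynomial ℂ)) ≅ M :=
    Subobject.isoOfEq _ _ ha ≪≫ asIso (⊤ : Subobject M).arrow
  haveI := h1
  exact ⟨finite_of_iso e, by rw [← tr_eq_of_iso e, h2]⟩

end Groth.Agent.Helper9.SpTrD
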