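import Mathlib
import Groth.Prelude.Def_SpSeq
import Groth.Agent.Helper9.SpTrC
import Groth.Agent.Helper9.SpTrD

/-!
# Alternating trace of the abutment of a first-quadrant spectral sequence
-/

set_option autoImplicit false
universe u

namespace Groth.Agent.Helper9.SpTrE

open CategoryTheory CategoryTheory.Limits Groth.Agent.Helper9 SpTrB SpTrC SpTrD Filter Topology

lemma trRange_eq_zero_of_eq_zero {M N : ModuleCat.{u} (Polynomial ℂ)} (f : M ⟶ N) (h : f = 0) :
    trRange f = 0 := by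
  subst h
  haveI : Subsingleton (LinearMap.range (lin (0 : M ⟶ N))) := by
    have : LinearMap.range (lin (0 : M ⟶ N)) = ⊥ := by
      rw [eq_bot_iff]
      rintro _ ⟨x, rfl⟩
      show (0 : M ⟶ N).hom x = 0
      simp
    rw [this]
    infer_instance
  have : (Phi N).restrict (range_invariant (0 : M ⟶ N)) = 0 := Subsingleton.elim _ _
  rw [trRange, this, map_zero]

lemma Dom.summable_norm {t : ℤ × ℤ → ℂ} {g : ℕ × ℕ → ℝ} (h : Dom t g) (hg : Summable g) :
    Summable (fun pq => ‖t pq‖) := by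
  rw [← ι_injective.summable_iff]
  · apply Summable.of_nonneg_of_le (fun pq => norm_nonneg _) _ hg
    intro pq
    exact h.le pq
  · intro pq hpq
    rw [h.quad pq (neg_of_not_mem_range_ι pq hpq), norm_zero]

variable (E : E₂CohomologicalSpectralSequence (ModuleCat.{u} (Polynomial ℂ)))
variable (N : ℕ) (a c : ℕ → ℝ) (b d : ℕ → ℕ)

/-- all the pages satisfy the bounds and have the same alternating trace sum -/
theorem pages (ha : ∀ q, 0 ≤ a q) (hc : ∀ p, 0 ≤ c p)
    (hsum : Summable fun p : ℕ => c p * (d p : ℝ))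
    (h2 : Bd (E.page 2 le_rfl).X N a c b d) :
    ∀ (r : ℤ) (hr : 2 ≤ r), Bd (E.page r hr).X N a c b d ∧
      ∑' pq : ℕ × ℕ, (-1 : ℂ) ^ (pq.1 + pq.2) * tr ((E.page r hr).X (ι pq)) =
        ∑' pq : ℕ × ℕ, (-1 : ℂ) ^ (pq.1 + pq.2) * tr ((E.page 2 le_rfl).X (ι pq)) := by
  intro r hr
  induction r, hr using Int.leInduction with
  | base => exact ⟨h2, rfl⟩
  | succ r hr ih =>
    have key := step (v := (⟨r, 1 - r⟩ : ℤ × ℤ)) (by simp) (E.page r hr)
      (fun pq => (E.page (r + 1) (Int.le_add_one hr)).X pq)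
      (fun pq => E.iso r (r + 1) pq rfl hr) N a c b d ha hc hsum ih.1
    exact ⟨key.1, key.2.trans ih.2⟩

/-- at a stationary position the trace does not change any more -/
theorem tr_stationary {pq : ℤ × ℤ} {r₁ : ℤ} (hst : SpSeq.StationaryAt E pq r₁)
    (hfin : ∀ (r : ℤ) (hr : 2 ≤ r), Module.Finite ℂ (resC.obj ((E.page r hr).X pq))) :
    ∀ (r : ℤ) (hr1 : r₁ ≤ r),
      tr ((E.page r (hst.1.trans hr1)).X pq) = tr ((E.page r₁ hst.1).X pq) := by
  intro r hr1
  induction r, hr1 using Int.leInduction with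
  | base => rfl
  | succ r hr1 ih =>
    rw [← ih]
    have hr : (2 : ℤ) ≤ r := hst.1.trans hr1
    haveI := hfin r hr
    have h0 := hst.2 r hr hr1
    have hX := tr_X (v := (⟨r, 1 - r⟩ : ℤ × ℤ)) (E.page r hr) pq
    rw [trRange_eq_zero_of_eq_zero _ h0.1, trRange_eq_zero_of_eq_zero _ h0.2, add_zero,
      add_zero] at hX
    rw [hX]
    exact (tr_eq_of_iso (E.iso r (r + 1) pq rfl hr)).symm

variable {E} {H : ℤ → ModuleCat.{u} (Polynomial ℂ)} (abut : SpSeq.Abutment E H)

/-- the limit term -/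
noncomputable def Xinf (pq : ℤ × ℤ) : ModuleCat.{u} (Polynomial ℂ) :=
  (E.page (abut.rk pq) (abut.stat pq).1).X pq

variable {N a c b d}

lemma bd_Xinf (hpages : ∀ (r : ℤ) (hr : 2 ≤ r), Bd (E.page r hr).X N a c b d) :
    Bd (Xinf abut) N a c b d where
  quad pq h := (hpages _ _).quad pq h
  fin pq := (hpages _ _).fin pq
  van p q h := (hpages _ _).van p q h
  eig p q μ h := (hpages _ _).eig p q μ h
  rk p q := (hpages _ _).rk p q

instance : Nonempty {r : ℤ // 2 ≤ r} := ⟨⟨2, le_rfl⟩⟩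

theorem tsum_Xinf (ha : ∀ q, 0 ≤ a q) (hc : ∀ p, 0 ≤ c p)
    (hsum : Summable fun p : ℕ => c p * (d p : ℝ))
    (h2 : Bd (E.page 2 le_rfl).X N a c b d) :
    ∑' pq : ℕ × ℕ, (-1 : ℂ) ^ (pq.1 + pq.2) * tr (Xinf abut (ι pq)) =
      ∑' pq : ℕ × ℕ, (-1 : ℂ) ^ (pq.1 + pq.2) * tr ((E.page 2 le_rfl).X (ι pq)) := by
  have hp := pages E N a c b d ha hc hsum h2
  have hG := summable_G N a c b d ha hc hsum
  let f : {r : ℤ // 2 ≤ r} → ℕ × ℕ → ℂ := fun r pq =>
    (-1 : ℂ) ^ (pq.1 + pq.2) * tr ((E.page r.1 r.2).X (ι pq))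
  let g : ℕ × ℕ → ℂ := fun pq => (-1 : ℂ) ^ (pq.1 + pq.2) * tr (Xinf abut (ι pq))
  have lim : Tendsto (fun r => ∑' pq, f r pq) atTop (𝓝 (∑' pq, g pq)) := by
    apply tendsto_tsum_of_dominated_convergence hG
    · intro pq
      apply tendsto_atTop_of_eventually_const (i₀ := ⟨abut.rk (ι pq), (abut.stat (ι pq)).1⟩)
      intro r hr
      have hr1 : abut.rk (ι pq) ≤ r.1 := hr
      show (-1 : ℂ) ^ (pq.1 + pq.2) * tr ((E.page r.1 r.2).X (ι pq)) =
        (-1 : ℂ) ^ (pq.1 + pq.2) * tr (Xinf abut (ι pq))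
      congr 1
      exact tr_stationary E (abut.stat (ι pq)) (fun r hr => (hp r hr).1.fin _) r.1 hr1
    · apply Eventually.of_forall
      intro r pq
      show ‖(-1 : ℂ) ^ (pq.1 + pq.2) * tr ((E.page r.1 r.2).X (ι pq))‖ ≤ _
      rw [norm_mul, norm_pow, norm_neg, norm_one, one_pow, one_mul]
      exact ((hp r.1 r.2).1.dom_tr ha hc).le pq
  have hconst : (fun r : {r : ℤ // 2 ≤ r} => ∑' pq, f r pq) = fun _ =>
      ∑' pq : ℕ × ℕ, (-1 : ℂ) ^ (pq.1 + pq.2) * tr ((E.page 2 le_rfl).X (ι pq)) := by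
    funext r
    exact (hp r.1 r.2).2
  rw [hconst] at lim
  exact tendsto_nhds_unique lim tendsto_const_nhds

/-- transport of graded pieces along an equality of the total degree -/
noncomputable def grIso (m n : ℤ) (h : m = n) (p : ℤ) :
    SpSeq.grPiece (abut.fil m) (abut.anti m) p ≅ SpSeq.grPiece (abut.fil n) (abut.anti n) p := by
  subst h
  exact Iso.refl _

/-- the trace on the abutment as a sum over the limit terms on the antidiagonal -/
theorem tr_H (hfin : ∀ n, abut.IsFinite n) (hX : Bd (Xinf abut) N a c b d) (n : ℤ) :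
    Module.Finite ℂ (resC.obj (H n)) ∧
      tr (H n) = ∑' p : ℤ, tr (Xinf abut (p, n - p)) := by
  obtain ⟨⟨a₀, ha₀⟩, ⟨b₀, hb₀⟩⟩ := hfin n
  change abut.fil n a₀ = ⊤ at ha₀
  change abut.fil n b₀ = ⊥ at hb₀
  have hF := abut.anti n
  set a' : ℤ := min a₀ 0 with ha'
  set b' : ℤ := max b₀ (max (n + 1) 0) with hb'
  have hta : abut.fil n a' = ⊤ := top_le_iff.mp (ha₀ ▸ hF (min_le_left _ _))
  have htb : abut.fil n b' = ⊥ := le_bot_iff.mp (hb₀ ▸ hF (le_max_left _ _))
  have hab : a' ≤ b' := (min_le_right _ _).trans ((le_max_right _ _).trans (le_max_right _ _))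
  have e : ∀ p : ℤ, Xinf abut (p, n - p) ≅ SpSeq.grPiece (abut.fil n) (abut.anti n) p :=
    fun p => abut.β (p, n - p) ≪≫ grIso abut _ _ (by simp) p
  have hfin' : ∀ p, Module.Finite ℂ (resC.obj (SpSeq.grPiece (abut.fil n) (abut.anti n) p)) := by
    intro p
    haveI := hX.fin (p, n - p)
    exact finite_of_iso (e p)
  obtain ⟨h1, h2⟩ := filtration (abut.fil n) (abut.anti n) a' b' hab hta htb hfin'
  refine ⟨h1, ?_⟩
  rw [h2, tsum_eq_sum (s := Finset.Ico a' b')]
  · apply Finset.sum_congr rfl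
    intro p _
    exact (tr_eq_of_iso (e p)).symm
  · intro p hp
    apply tr_eq_zero_of_isZero
    apply hX.quad
    simp only [Finset.mem_Ico, not_and_or, not_le, not_lt] at hp
    rcases hp with hp | hp
    · left
      exact lt_of_lt_of_le hp (min_le_right _ _)
    · right
      have : n + 1 ≤ p := ((le_max_left _ _).trans (le_max_right _ _)).trans hp
      simp only
      lia

/-- the reindexing `(n, p) ↦ (p, n - p)` -/
def φ : ℤ × ℤ ≃ ℤ × ℤ where
  toFun np := (np.2, np.1 - np.2)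
  invFun pq := (pq.1 + pq.2, pq.1)
  left_inv np := by ext <;> simp
  right_inv pq := by ext <;> simp

lemma sgn_φ (n p : ℤ) : sgn (φ (n, p)) = (-1 : ℂ) ^ n := by
  unfold sgn φ
  simp

theorem main (E : E₂CohomologicalSpectralSequence (ModuleCat.{u} (Polynomial ℂ)))
    (H : ℤ → ModuleCat.{u} (Polynomial ℂ)) (abut : SpSeq.Abutment E H)
    (hfin : ∀ n, abut.IsFinite n) (N : ℕ) (a c : ℕ → ℝ) (b d : ℕ → ℕ)
    (ha : ∀ q, 0 ≤ a q) (hc : ∀ p, 0 ≤ c p)
    (hsum : Summable fun p : ℕ => c p * (d p : ℝ))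
    (h2 : Bd (E.page 2 le_rfl).X N a c b d) :
    Summable (fun n : ℕ => ‖tr (H n)‖) ∧
      ∑' n : ℕ, (-1 : ℂ) ^ n * tr (H n) =
        ∑' pq : ℕ × ℕ, (-1 : ℂ) ^ (pq.1 + pq.2) * tr ((E.page 2 le_rfl).X (ι pq)) := by
  have hp := pages E N a c b d ha hc hsum h2
  have hG := summable_G N a c b d ha hc hsum
  have hX : Bd (Xinf abut) N a c b d := bd_Xinf abut (fun r hr => (hp r hr).1)
  have hD := hX.dom_tr ha hc
  have hH := tr_H abut hfin hX
  -- the families on `ℤ × ℤ`
  have hsF : Summable (fun pq => sgn pq * tr (Xinf abut pq)) := hD.summable_sgn hG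
  have hsN : Summable (fun pq => ‖tr (Xinf abut pq)‖) := Dom.summable_norm hD hG
  have hsFφ : Summable (fun np : ℤ × ℤ => sgn (φ np) * tr (Xinf abut (φ np))) :=
    φ.summable_iff.mpr hsF
  have hsNφ : Summable (fun np : ℤ × ℤ => ‖tr (Xinf abut (φ np))‖) :=
    φ.summable_iff.mpr hsN
  -- negative degrees
  have hneg : ∀ n : ℤ, n < 0 → tr (H n) = 0 := by
    intro n hn
    rw [(hH n).2]
    refine (tsum_congr (fun p => ?_)).trans tsum_zero
    apply tr_eq_zero_of_isZero
    apply hX.quad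
    simp only
    lia
  constructor
  · -- absolute summability
    have h1 : Summable (fun n : ℤ => ∑' p : ℤ, ‖tr (Xinf abut (φ (n, p)))‖) := hsNφ.prod
    have h2 : Summable (fun n : ℕ => ∑' p : ℤ, ‖tr (Xinf abut (φ ((n : ℤ), p)))‖) :=
      h1.comp_injective Nat.cast_injective
    apply Summable.of_nonneg_of_le (fun n => norm_nonneg _) _ h2
    intro n
    rw [(hH n).2]
    exact norm_tsum_le_tsum_norm (hsNφ.prod_factor (n : ℤ))
  · rw [← tsum_Xinf abut ha hc hsum h2, hD.tsum_nat, ← φ.tsum_eq, hsFφ.tsum_prod]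
    rw [← Nat.cast_injective.tsum_eq (f := fun n : ℤ => ∑' p : ℤ,
      sgn (φ (n, p)) * tr (Xinf abut (φ (n, p))))]
    · apply tsum_congr
      intro n
      rw [(hH n).2, ← tsum_mul_left]
      apply tsum_congr
      intro p
      rw [sgn_φ, zpow_natCast]
      rfl
    · intro n hn
      by_contra hcon
      apply hn
      have hn0 : n < 0 := by
        by_contra h0
        push Not at h0
        exact hcon ⟨n.toNat, Int.toNat_of_nonneg h0⟩
      show ∑' p : ℤ, sgn (φ (n, p)) * tr (Xinf abut (φ (n, p))) = 0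
      refine (tsum_congr (fun p => ?_)).trans tsum_zero
      have : tr (Xinf abut (φ (n, p))) = 0 := by
        apply tr_eq_zero_of_isZero
        apply hX.quad
        show p < 0 ∨ n - p < 0
        lia
      rw [this, mul_zero]

end Groth.Agent.Helper9.SpTrE
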