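import Mathlib

/-!
# Points in the closure of the range of a quasi-compact morphism are specializations (helper9)
-/

set_option autoImplicit false
universe u
open CategoryTheory CategoryTheory.Limits AlgebraicGeometry TopologicalSpace

namespace Groth.Agent.Helper9.SpecClosure

/-- Ring-level statement: a prime containing `ker φ` is a specialization of a point of the range
of `comap φ`. -/
theorem exists_comap_le {A B : Type u} [CommRing A] [CommRing B] (φ : A →+* B)
    (p : PrimeSpectrum A) (hp : p ∈ closure (Set.range (PrimeSpectrum.comap φ))) :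
    ∃ z : PrimeSpectrum B, PrimeSpectrum.comap φ z ⤳ p := by
  rw [PrimeSpectrum.closure_range_comap, PrimeSpectrum.mem_zeroLocus] at hp
  have hp' : RingHom.ker φ ≤ p.asIdeal := hp
  obtain ⟨q, hq, hqp⟩ := Ideal.exists_minimalPrimes_le hp'
  obtain ⟨q', hq', hq'q⟩ := Ideal.exists_comap_eq_of_mem_minimalPrimes φ q hq
  refine ⟨⟨q', hq'⟩, ?_⟩
  rw [← PrimeSpectrum.le_iff_specializes]
  change q'.comap φ ≤ p.asIdeal
  rw [hq'q.2]
  exact hqp

/-- For a quasi-compact morphism `g`, every point in the closure of the range of `g` is a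
specialization of a point in the range. -/
theorem exists_specializes_of_mem_closure_range {Z P : Scheme.{u}} (g : Z ⟶ P) [QuasiCompact g]
    (p : P) (hp : p ∈ closure (Set.range g)) : ∃ z, g z ⤳ p := by
  wlog hP : ∃ R, P = Spec R generalizing Z P with H
  · obtain ⟨i, p', hp'⟩ := P.affineCover.exists_eq p
    have : QuasiCompact (P.affineCover.pullbackHom g i) :=
      inferInstanceAs (QuasiCompact (pullback.snd g (P.affineCover.f i)))
    have hcl : p' ∈ closure (Set.range (P.affineCover.pullbackHom g i)) := by
      change p' ∈ closure (Set.range (pullback.snd g (P.affineCover.f i)))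
      rw [Scheme.Pullback.range_snd,
        ← (P.affineCover.f i).isOpenEmbedding.isOpenMap.preimage_closure_eq_closure_preimage
          (P.affineCover.f i).continuous]
      change (P.affineCover.f i) p' ∈ closure (Set.range g)
      rw [hp']
      exact hp
    obtain ⟨z', hz'⟩ := H (P.affineCover.pullbackHom g i) p' hcl ⟨_, rfl⟩
    · refine ⟨(pullback.fst g (P.affineCover.f i)) z', ?_⟩
      have h1 := hz'.map (P.affineCover.f i).continuous
      rw [hp'] at h1
      have h2 : (P.affineCover.f i) ((P.affineCover.pullbackHom g i) z') =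
          g ((pullback.fst g (P.affineCover.f i)) z') := by
        change (pullback.snd g (P.affineCover.f i) ≫ P.affineCover.f i) z' =
          (pullback.fst g (P.affineCover.f i) ≫ g) z'
        rw [pullback.condition]
      rwa [h2] at h1
  obtain ⟨R, rfl⟩ := hP
  wlog hZ : ∃ R', Z = Spec R' generalizing Z with H
  · obtain ⟨R', g₀, hg₀⟩ :=
      compactSpace_iff_exists.mp (QuasiCompact.compactSpace_of_compactSpace g)
    have inst : QuasiCompact (g₀ ≫ g) := inferInstance
    have hcl : p ∈ closure (Set.range (g₀ ≫ g)) := by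
      rwa [Scheme.Hom.comp_base, TopCat.coe_comp, Set.range_comp, hg₀.range_eq, Set.image_univ]
    obtain ⟨z', hz'⟩ := H (g₀ ≫ g) hcl ⟨_, rfl⟩
    exact ⟨g₀ z', hz'⟩
  obtain ⟨R', rfl⟩ := hZ
  obtain ⟨φ, rfl⟩ := Spec.homEquiv.symm.surjective g
  exact exists_comap_le φ.hom p hp

end Groth.Agent.Helper9.SpecClosure
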