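import Mathlib
import Groth.Prelude.Def_CohTop
import Groth.Agent.Helper9.SoftH
import Groth.Agent.Helper9.SoftK

/-!
# The stalk of `R^p f_* F` at `y` as the cohomology of a subset `K`: the formal part

`K` is contained in all `f⁻¹ V`, `V ∋ y` open, sections of `F|K` are germs of sections of `F`
over the `f⁻¹ V`, and restrictions of injectives to `K` are acyclic.
-/

set_option autoImplicit false

namespace Groth.Agent.Helper9.SpecS4

open CategoryTheory TopologicalSpace Opposite TopCat Topology Limits Abelian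
open Groth.Agent.Helper9.SoftA Groth.Agent.Helper9.SoftC Groth.Agent.Helper9.SoftI
open Groth.Agent.Helper9.SoftK Groth.Agent.Helper9.SoftH
open Groth.Agent.Helper1.DeltaCmp Groth.Agent.Helper1.DeltaFun Groth.Agent.Helper1.CechTop
open Groth.Agent.Helper1.CohTopFun Groth.Agent.Lead.CohTopB

universe u

variable {X Y : TopCat.{u}} (f : X ⟶ Y) (y : Y) (K : Set X)
  (hKy : ∀ V : Opens Y, y ∈ V → K ⊆ (((Opens.map f).obj V : Opens X) : Set X))
  (F : CohTop.Ab X)

/-- the cocone computing the map from the stalk of the direct image to sections on `K` -/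
noncomputable def stalkCocone :
    Cocone ((OpenNhds.inclusion y).op ⋙ ((CohTop.push f).obj F).obj) where
  pt := (pb (iK K) F).obj.obj (op ⊤)
  ι :=
    { app := fun V => AddCommGrpCat.ofHom
        (toK K F ((Opens.map f).obj V.unop.1) (hKy V.unop.1 V.unop.2))
      naturality := fun V V' j => by
        ext s
        exact toK_res K F (U := (Opens.map f).obj V.unop.1) (U' := (Opens.map f).obj V'.unop.1)
          (fun x hx => leOfHom j.unop hx) (hKy V'.unop.1 V'.unop.2) s }

/-- the comparison map -/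
noncomputable def φ : CohTop.stalk ((CohTop.push f).obj F) y ⟶ (pb (iK K) F).obj.obj (op ⊤) :=
  colimit.desc _ (stalkCocone f y K hKy F)

lemma φ_germ (V : Opens Y) (hy : y ∈ V) (s : F.obj.obj (op ((Opens.map f).obj V))) :
    φ f y K hKy F (TopCat.Presheaf.germ ((CohTop.push f).obj F).obj V y hy s) =
      toK K F ((Opens.map f).obj V) (hKy V hy) s := by
  have h := colimit.ι_desc (stalkCocone f y K hKy F) (op (⟨V, hy⟩ : OpenNhds y))
  exact ConcreteCategory.congr_hom h s

lemma φ_nat {F F' : CohTop.Ab X} (α : F ⟶ F')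
    (x : CohTop.stalk ((CohTop.push f).obj F) y) :
    φ f y K hKy F' ((stalkF y).map ((CohTop.push f).map α) x) =
      ((CohTop.pull (iK K)).map α).hom.app (op ⊤) (φ f y K hKy F x) := by
  obtain ⟨V, hy, s, rfl⟩ := TopCat.Presheaf.germ_exist ((CohTop.push f).obj F).obj x
  have h1 : (stalkF y).map ((CohTop.push f).map α)
      (TopCat.Presheaf.germ ((CohTop.push f).obj F).obj V y hy s) =
      TopCat.Presheaf.germ ((CohTop.push f).obj F').obj V y hy
        (α.hom.app (op ((Opens.map f).obj V)) s) :=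
    TopCat.Presheaf.stalkFunctor_map_germ_apply V y hy ((CohTop.push f).map α).hom s
  rw [h1, φ_germ, φ_germ]
  exact toK_nat K α _ _ s

lemma φ_injective
    (hinj : ∀ (V : Opens Y) (hy : y ∈ V) (s : F.obj.obj (op ((Opens.map f).obj V))),
      toK K F ((Opens.map f).obj V) (hKy V hy) s = 0 →
        ∃ (V' : Opens Y) (_ : y ∈ V') (hle : V' ≤ V),
          F.obj.map ((Opens.map f).map (homOfLE hle)).op s = 0) :
    Function.Injective (φ f y K hKy F) := by
  rw [injective_iff_map_eq_zero]
  intro x hx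
  obtain ⟨V, hy, s, rfl⟩ := TopCat.Presheaf.germ_exist ((CohTop.push f).obj F).obj x
  rw [φ_germ] at hx
  obtain ⟨V', hy', hle, h0⟩ := hinj V hy s hx
  have e1 := TopCat.Presheaf.germ_res_apply ((CohTop.push f).obj F).obj (homOfLE hle) y hy' s
  rw [← e1]
  have e2 : ((CohTop.push f).obj F).obj.map (homOfLE hle).op s = 0 := h0
  rw [e2]
  exact map_zero (TopCat.Presheaf.germ ((CohTop.push f).obj F).obj V' y hy').hom

lemma φ_surjective
    (hsurj : ∀ γ : (pb (iK K) F).obj.obj (op ⊤), ∃ (V : Opens Y) (hy : y ∈ V)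
      (τ : F.obj.obj (op ((Opens.map f).obj V))),
        toK K F ((Opens.map f).obj V) (hKy V hy) τ = γ) :
    Function.Surjective (φ f y K hKy F) := by
  intro γ
  obtain ⟨V, hy, τ, hτ⟩ := hsurj γ
  exact ⟨TopCat.Presheaf.germ ((CohTop.push f).obj F).obj V y hy τ, (φ_germ f y K hKy F V hy τ).trans hτ⟩

section Main

variable
  (hinj : ∀ (F : CohTop.Ab X) (V : Opens Y) (hy : y ∈ V)
      (s : F.obj.obj (op ((Opens.map f).obj V))),
      toK K F ((Opens.map f).obj V) (hKy V hy) s = 0 →
        ∃ (V' : Opens Y) (_ : y ∈ V') (hle : V' ≤ V),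
          F.obj.map ((Opens.map f).map (homOfLE hle)).op s = 0)
  (hsurj : ∀ (F : CohTop.Ab X) (γ : (pb (iK K) F).obj.obj (op ⊤)), ∃ (V : Opens Y) (hy : y ∈ V)
      (τ : F.obj.obj (op ((Opens.map f).obj V))),
        toK K F ((Opens.map f).obj V) (hKy V hy) τ = γ)
  (heff : ∀ (I : CohTop.Ab X) [Injective I] (n : ℕ), IsZero ((HZSeq K (n + 1)).obj I))

/-- `(f_* F)_y ≅ Γ(K, F|K)`, naturally in `F` -/
noncomputable def stalkIso :
    CohTop.push f ⋙ stalkF y ≅ CohTop.pull (iK K) ⋙ sectionsFunctor ⊤ :=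
  NatIso.ofComponents (fun F => (AddEquiv.ofBijective (φ f y K hKy F).hom
      ⟨φ_injective f y K hKy F (hinj F), φ_surjective f y K hKy F (hsurj F)⟩).toAddCommGrpIso)
    (by
      intro F F' α
      apply AddCommGrpCat.hom_ext
      apply AddMonoidHom.ext
      intro x
      exact φ_nat f y K hKy α x)

/-- `H⁰(K, F|K) ≅ (F|K)(K)`, naturally in `F` -/
noncomputable def h0Iso : HZSeq K 0 ≅ CohTop.pull (iK K) ⋙ sectionsFunctor ⊤ :=
  NatIso.ofComponents (fun F =>
    (Sheaf.H.equiv₀ ((CohTop.pull (iK K)).obj F) isTerminalTop).toAddCommGrpIso)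
    (by
      intro F G φ
      apply AddCommGrpCat.hom_ext
      apply AddMonoidHom.ext
      intro x
      exact (Sheaf.H.equiv₀_naturality isTerminalTop ((CohTop.pull (iK K)).map φ) x).symm)

/-- the degree zero comparison -/
noncomputable def e0 : (Tst f y).T 0 ≅ HZSeq K 0 :=
  Functor.isoWhiskerRight (CohTop.push f).rightDerivedZeroIsoSelf (stalkF y) ≪≫
    stalkIso f y K hKy hinj hsurj ≪≫ (h0Iso K).symm

include hinj hsurj heff in
theorem nonempty_iso_aux (n : ℕ) (F : CohTop.Ab X) :
    Nonempty (((Tst f y).T n).obj F ≅ (HZSeq K n).obj F) := by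
  have key : ∀ F : CohTop.Ab X, True →
      Nonempty (Effacement (fun n => (Tst f y).T n) (fun n => HZSeq K n) (fun _ => True) F) := by
    intro F _
    obtain ⟨S, hS, hI, rfl⟩ : ∃ (S : ShortComplex (CohTop.Ab X)) (_ : S.ShortExact)
        (_ : Injective S.X₂), S.X₁ = F := ⟨injSC F, injSC_shortExact F, inferInstance, rfl⟩
    have l1 : HasLES (fun n => (Tst f y).T n) S := (Tst f y).hasLES S hS
    haveI : (CohTop.pull (iK K)).Additive := SoftK.pull_additive (iK K)
    haveI : PreservesFiniteLimits (CohTop.pull (iK K)) := SoftK.pull_pfl (iK K)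
    haveI : PreservesFiniteColimits (CohTop.pull (iK K)) := SoftK.pull_pfc (iK K)
    have l2 : HasLES (fun n => HZSeq K n) S :=
      hasLES_extSeq (CohTop.pull (iK K)) (constZ (TopCat.of K)) S hS
    exact ⟨{
      S := S
      iso := rfl
      mem := trivial
      zero := fun n => by
        have h1 : IsZero ((CohTop.Rpush f (n + 1)).obj S.X₂) :=
          Functor.isZero_rightDerived_obj_injective_succ (CohTop.push f) n S.X₂
        exact (stalkF y).map_isZero h1
      zero' := fun n => heff S.X₂ n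
      les := l1
      les' := l2 }⟩
  exact nonempty_iso (fun _ => True) (e0 f y K hKy hinj hsurj) key n F trivial

include hinj hsurj heff in
/-- **the stalk of `R^p f_* F` at `y` is `H^p(K, F|K)`** -/
theorem nonempty_stalk_iso (F : CohTop.Ab X) (p : ℕ) :
    Nonempty (CohTop.stalk ((CohTop.Rpush f p).obj F) y ≅
      AddCommGrpCat.of (CohTop.H ((CohTop.pull (iK K)).obj F) p)) :=
  nonempty_iso_aux f y K hKy hinj hsurj heff p F

end Main

end Groth.Agent.Helper9.SpecS4
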