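import Mathlib
import Groth.Prelude.Def_CohTop
import Groth.Agent.Helper9.SpecS4
import Groth.Agent.Helper9.SpecS5

/-!
# The stalk of `R^p f_* F` for a spectral map of spectral spaces
-/

set_option autoImplicit false

namespace Groth.Agent.Helper9.SpecS6

open CategoryTheory TopologicalSpace Opposite TopCat Topology Limits Abelian
open Groth.Agent.Helper9.SoftA Groth.Agent.Helper9.SoftC Groth.Agent.Helper9.SoftI
open Groth.Agent.Helper9.SoftK Groth.Agent.Helper9.SpecS1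

universe u

variable {X Y : TopCat.{u}} [SpectralSpace X] [SpectralSpace Y] (f : X ⟶ Y)
  (hf : IsSpectralMap f) (y : Y)

/-- preimages of the quasi-compact open neighbourhoods of `y` -/
def nbY : Set (Opens X) :=
  {U | ∃ V : Opens Y, y ∈ V ∧ IsCompact (V : Set Y) ∧ U = (Opens.map f).obj V}

include hf in
lemma qcFam_nbY : QCFam (nbY f y) where
  nonempty := ⟨(Opens.map f).obj ⊤, ⊤, True.intro, isCompact_univ, rfl⟩
  qc := by
    rintro U ⟨V, -, hVc, rfl⟩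
    exact hf.isCompact_preimage_of_isOpen V.isOpen hVc
  directed := by
    rintro U ⟨V, hyV, hVc, rfl⟩ U' ⟨V', hyV', hV'c, rfl⟩
    exact ⟨(Opens.map f).obj (V ⊓ V'), ⟨V ⊓ V', ⟨hyV, hyV'⟩,
      QuasiSeparatedSpace.inter_isCompact _ _ V.isOpen hVc V'.isOpen hV'c, rfl⟩, le_rfl⟩

lemma mem_of_mem_closure {x : X} (hx : y ∈ closure {f x}) (V : Opens Y) (hy : y ∈ V) :
    f x ∈ V := by
  obtain ⟨z, hzV, hz⟩ := mem_closure_iff.1 hx V V.isOpen hy
  rw [Set.mem_singleton_iff.1 hz] at hzV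
  exact hzV

lemma core_nbY : core (nbY f y) = {x : X | y ∈ closure {f x}} := by
  ext x
  constructor
  · intro hx
    show y ∈ closure {f x}
    rw [mem_closure_iff]
    intro O hO hyO
    obtain ⟨N, ⟨hNo, hNc⟩, hyN, hNO⟩ :=
      (PrespectralSpace.isTopologicalBasis (X := Y)).exists_subset_of_mem_open hyO hO
    have h1 : x ∈ (Opens.map f).obj ⟨N, hNo⟩ := hx _ ⟨⟨N, hNo⟩, hyN, hNc, rfl⟩
    exact ⟨f x, hNO h1, rfl⟩
  · rintro hx U ⟨V, hyV, -, rfl⟩
    exact mem_of_mem_closure f y hx V hyV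

include hf in
/-- **S0884** -/
theorem main (F : CohTop.Ab X) (p : ℕ) :
    Nonempty (CohTop.stalk ((CohTop.Rpush f p).obj F) y ≃+
      CohTop.H ((CohTop.pull (iK {x : X | y ∈ closure {f x}})).obj F) p) := by
  suffices h : ∀ K : Set X, K = core (nbY f y) →
      Nonempty (CohTop.stalk ((CohTop.Rpush f p).obj F) y ≅
        AddCommGrpCat.of (CohTop.H ((CohTop.pull (iK K)).obj F) p)) by
    obtain ⟨i⟩ := h _ (core_nbY f y).symm
    exact ⟨i.addCommGroupIsoToAddEquiv⟩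
  intro K hK
  subst hK
  have h𝒰 := qcFam_nbY f hf y
  have hKy : ∀ V : Opens Y, y ∈ V →
      core (nbY f y) ⊆ (((Opens.map f).obj V : Opens X) : Set X) := by
    intro V hy x hx
    rw [core_nbY] at hx
    exact mem_of_mem_closure f y hx V hy
  refine SpecS4.nonempty_stalk_iso f y (core (nbY f y)) hKy ?_ ?_
    (fun I _ n => SpecS5.isZero_HZSeq h𝒰 I n) F p
  · intro F V hy s h
    obtain ⟨N, ⟨hNo, hNc⟩, hyN, hNV⟩ :=
      (PrespectralSpace.isTopologicalBasis (X := Y)).exists_subset_of_mem_open hy V.isOpen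
    let V₀ : Opens Y := ⟨N, hNo⟩
    have hV₀V : V₀ ≤ V := hNV
    have hU₀ : (Opens.map f).obj V₀ ∈ nbY f y := ⟨V₀, hyN, hNc, rfl⟩
    have hle₀ : (Opens.map f).obj V₀ ≤ (Opens.map f).obj V := fun x hx => hV₀V hx
    have h1 : toK (core (nbY f y)) F ((Opens.map f).obj V₀) (core_subset hU₀)
        (F.obj.map (homOfLE hle₀).op s) = 0 :=
      (toK_res (core (nbY f y)) F hle₀ (core_subset hU₀) s).trans h
    obtain ⟨U', ⟨V₁, hyV₁, -, rfl⟩, hle, h0⟩ := SpecS2.toK_eq_zero' F h𝒰 hU₀ _ h1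
    refine ⟨V₁ ⊓ V₀, ⟨hyV₁, hyN⟩, inf_le_right.trans hV₀V, ?_⟩
    have hle₂ : (Opens.map f).obj (V₁ ⊓ V₀) ≤ (Opens.map f).obj V₁ := fun x hx => hx.1
    have := congrArg (F.obj.map (homOfLE hle₂).op) h0
    rw [SoftD.map_map, SoftD.map_map, map_zero] at this
    exact this
  · intro F γ
    obtain ⟨U, ⟨V, hyV, hVc, rfl⟩, τ, hτ⟩ := SpecS2.toK_surj' F h𝒰 γ
    exact ⟨V, hyV, τ, hτ⟩

end Groth.Agent.Helper9.SpecS6
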