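import Mathlib

set_option autoImplicit false

/-!
# Splitting a three term complex of finite free modules near a prime

If `E₁ → E₂ → E₃` is a complex of finite free modules which is exact in the middle after
tensoring with the residue field of a prime `p`, then there are `f ∉ p` and maps
`σ₁ : E₂ → E₁`, `σ₂ : E₃ → E₂` with `d₁ σ₁ + σ₂ d₂ = f`.
-/

namespace Groth.Agent.Helper9.SplTr1
open TensorProduct IsLocalRing

universe u

section local_

variable {R : Type u} [CommRing R] [IsLocalRing R]
  {F G H : Type u} [AddCommGroup F] [Module R F] [AddCommGroup G] [Module R G]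
  [AddCommGroup H] [Module R H] [Module.Finite R G] [Module.Free R G]
  [Module.Finite R H] [Module.Free R H]

/-- local case: a complex exact modulo the maximal ideal is split in the middle -/
theorem exists_splitting_local
    (f : F →ₗ[R] G) (g : G →ₗ[R] H) (hgf : g ∘ₗ f = 0)
    (hex : Function.Exact (f.lTensor (ResidueField R)) (g.lTensor (ResidueField R))) :
    ∃ (s₁ : G →ₗ[R] F) (s₂ : H →ₗ[R] G), f ∘ₗ s₁ + s₂ ∘ₗ g = LinearMap.id := by
  let π : G →ₗ[R] G ⧸ LinearMap.range f := (LinearMap.range f).mkQ
  have hle : LinearMap.range f ≤ LinearMap.ker g := by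
    rintro _ ⟨x, rfl⟩
    exact LinearMap.congr_fun hgf x
  let gt : (G ⧸ LinearMap.range f) →ₗ[R] H := (LinearMap.range f).liftQ g hle
  have hg : gt ∘ₗ π = g := (LinearMap.range f).liftQ_mkQ g hle
  have hπf : π ∘ₗ f = 0 := by
    ext x
    exact (Submodule.Quotient.mk_eq_zero _).2 ⟨x, rfl⟩
  have hπ : Function.Surjective π := Submodule.mkQ_surjective _
  have hinj : Function.Injective (gt.lTensor (ResidueField R)) := by
    rw [injective_iff_map_eq_zero]
    intro y hy
    obtain ⟨x, rfl⟩ := LinearMap.lTensor_surjective (ResidueField R) hπ y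
    have h1 : (g.lTensor (ResidueField R)) x = 0 := by
      rw [← hg, LinearMap.lTensor_comp]
      exact hy
    obtain ⟨w, rfl⟩ := (hex x).1 h1
    rw [← LinearMap.comp_apply, ← LinearMap.lTensor_comp, hπf, LinearMap.lTensor_zero,
      LinearMap.zero_apply]
  obtain ⟨l', hl'⟩ :=
    (IsLocalRing.split_injective_iff_lTensor_residueField_injective gt).2 hinj
  -- the quotient is projective
  have hproj : Module.Projective R (G ⧸ LinearMap.range f) :=
    Module.Projective.of_split gt l' hl'
  obtain ⟨σ, hσ⟩ := Module.projective_lifting_property π LinearMap.id hπ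
  -- `id - σ π` lands in the range of `f`
  let ρ : G →ₗ[R] G := LinearMap.id - σ ∘ₗ π
  have hmem : ∀ x : G, ρ x ∈ LinearMap.range f := by
    intro x
    rw [← Submodule.Quotient.mk_eq_zero]
    show π (ρ x) = 0
    have : π (σ (π x)) = π x := LinearMap.congr_fun hσ (π x)
    simp [ρ, this]
  let k : G →ₗ[R] LinearMap.range f := ρ.codRestrict _ hmem
  obtain ⟨s₁, hs₁⟩ := Module.projective_lifting_property f.rangeRestrict k
    (LinearMap.surjective_rangeRestrict f)
  refine ⟨s₁, σ ∘ₗ l', ?_⟩
  ext x
  have h1 : f (s₁ x) = x - σ (π x) := by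
    have := congrArg Subtype.val (LinearMap.congr_fun hs₁ x)
    simpa [k, ρ] using this
  have h2 : l' (g x) = π x := by
    rw [← hg]
    exact LinearMap.congr_fun hl' (π x)
  simp [h1, h2]

end local_

section prime

variable {R : Type u} [CommRing R] (p : Ideal R) [p.IsPrime]
  {F G H : Type u} [AddCommGroup F] [Module R F] [AddCommGroup G] [Module R G]
  [AddCommGroup H] [Module R H] [Module.Finite R F] [Module.Free R F]
  [Module.Finite R G] [Module.Free R G]
  [Module.Finite R H] [Module.Free R H]

omit [Module.Finite R F] [Module.Free R F] [Module.Finite R G] [Module.Free R G]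
  [Module.Finite R H] [Module.Free R H] in
lemma cancel_comm (f : F →ₗ[R] G)
    (x : (ResidueField (Localization.AtPrime p)) ⊗[Localization.AtPrime p]
      ((Localization.AtPrime p) ⊗[R] F)) :
    (f.lTensor (ResidueField (Localization.AtPrime p)))
      (AlgebraTensorModule.cancelBaseChange R (Localization.AtPrime p) (Localization.AtPrime p)
        (ResidueField (Localization.AtPrime p)) F x) =
    AlgebraTensorModule.cancelBaseChange R (Localization.AtPrime p) (Localization.AtPrime p)
        (ResidueField (Localization.AtPrime p)) G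
      (((f.baseChange (Localization.AtPrime p)).lTensor
        (ResidueField (Localization.AtPrime p))) x) := by
  induction x using TensorProduct.induction_on with
  | zero => simp
  | add a b ha hb => simp only [map_add, ha, hb]
  | tmul k y =>
    induction y using TensorProduct.induction_on with
    | zero => simp
    | add a b ha hb => simp only [TensorProduct.tmul_add, map_add, ha, hb]
    | tmul l m => simp

/-- a complex of finite free modules which is exact in the middle at the residue field of `p`
is split in the middle up to an element outside `p` -/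
theorem exists_splitting
    (f : F →ₗ[R] G) (g : G →ₗ[R] H) (hgf : g ∘ₗ f = 0)
    (hex : Function.Exact (f.lTensor p.ResidueField) (g.lTensor p.ResidueField)) :
    ∃ (r : R) (_ : r ∉ p) (σ₁ : G →ₗ[R] F) (σ₂ : H →ₗ[R] G),
      f ∘ₗ σ₁ + σ₂ ∘ₗ g = r • LinearMap.id := by
  let L := Localization.AtPrime p
  let S := p.primeCompl
  let κ := ResidueField L
  let f' : L ⊗[R] F →ₗ[L] L ⊗[R] G := f.baseChange L
  let g' : L ⊗[R] G →ₗ[L] L ⊗[R] H := g.baseChange L
  have hgf' : g' ∘ₗ f' = 0 := by
    rw [← LinearMap.baseChange_comp, hgf, LinearMap.baseChange_zero]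
  have hex' : Function.Exact (f'.lTensor κ) (g'.lTensor κ) := by
    let eF := AlgebraTensorModule.cancelBaseChange R L L κ F
    let eG := AlgebraTensorModule.cancelBaseChange R L L κ G
    let eH := AlgebraTensorModule.cancelBaseChange R L L κ H
    refine (Function.Exact.iff_of_ladder_addEquiv eF.toAddEquiv eG.toAddEquiv eH.toAddEquiv
      (f₁₂ := (f'.lTensor κ).toAddMonoidHom) (f₂₃ := (g'.lTensor κ).toAddMonoidHom)
      (g₁₂ := (f.lTensor κ).toAddMonoidHom) (g₂₃ := (g.lTensor κ).toAddMonoidHom)
      ?_ ?_).1 hex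
    · ext x
      exact cancel_comm p f x
    · ext x
      exact cancel_comm p g x
  obtain ⟨s₁, s₂, hs⟩ := exists_splitting_local f' g' hgf' hex'
  let ιF : F →ₗ[R] L ⊗[R] F := TensorProduct.mk R L F 1
  let ιG : G →ₗ[R] L ⊗[R] G := TensorProduct.mk R L G 1
  let ιH : H →ₗ[R] L ⊗[R] H := TensorProduct.mk R L H 1
  haveI : IsLocalizedModule S ιF :=
    (isLocalizedModule_iff_isBaseChange S L _).mpr (TensorProduct.isBaseChange R F L)
  haveI : IsLocalizedModule S ιG :=
    (isLocalizedModule_iff_isBaseChange S L _).mpr (TensorProduct.isBaseChange R G L)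
  have hfι : (f'.restrictScalars R) ∘ₗ ιF = ιG ∘ₗ f := by
    ext x; simp [f', ιF, ιG]
  have hgι : (g'.restrictScalars R) ∘ₗ ιG = ιH ∘ₗ g := by
    ext x; simp [g', ιG, ιH]
  haveI : Module.FinitePresentation R G := Module.finitePresentation_of_projective R G
  haveI : Module.FinitePresentation R H := Module.finitePresentation_of_projective R H
  obtain ⟨σ₁, a, ha⟩ := Module.FinitePresentation.exists_lift_of_isLocalizedModule S ιF
    ((s₁.restrictScalars R) ∘ₗ ιG)
  obtain ⟨σ₂, b, hb⟩ := Module.FinitePresentation.exists_lift_of_isLocalizedModule S ιG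
    ((s₂.restrictScalars R) ∘ₗ ιH)
  -- compare the two endomorphisms of `G`
  have hcmp : ιG ∘ₗ ((b : R) • (f ∘ₗ σ₁) + (a : R) • (σ₂ ∘ₗ g)) =
      ιG ∘ₗ (((a : R) * (b : R)) • LinearMap.id) := by
    ext x
    have h1 : ιG (f (σ₁ x)) = (a : R) • f' (s₁ (ιG x)) := by
      have e1 := LinearMap.congr_fun hfι (σ₁ x)
      have e2 := LinearMap.congr_fun ha x
      simp only [LinearMap.coe_comp, Function.comp_apply, LinearMap.coe_restrictScalars,
        LinearMap.smul_apply] at e1 e2
      rw [← e1, e2]
      simp [Submonoid.smul_def]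
    have h2 : ιG (σ₂ (g x)) = (b : R) • s₂ (g' (ιG x)) := by
      have e1 := LinearMap.congr_fun hgι x
      have e2 := LinearMap.congr_fun hb (g x)
      simp only [LinearMap.coe_comp, Function.comp_apply, LinearMap.coe_restrictScalars,
        LinearMap.smul_apply] at e1 e2
      rw [e2, ← e1]
      simp [Submonoid.smul_def]
    have h3 : f' (s₁ (ιG x)) + s₂ (g' (ιG x)) = ιG x := LinearMap.congr_fun hs (ιG x)
    simp only [LinearMap.coe_comp, Function.comp_apply, LinearMap.add_apply,
      LinearMap.smul_apply, map_add, map_smul, LinearMap.id_coe, id_eq]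
    rw [h1, h2, smul_smul, smul_smul, mul_comm (b : R) (a : R), ← smul_add, h3]
  obtain ⟨c, hc⟩ := Module.Finite.exists_smul_of_comp_eq_of_isLocalizedModule S ιG _ _ hcmp
  refine ⟨(a : R) * (b : R) * (c : R), ?_, ((c : R) * (b : R)) • σ₁, ((c : R) * (a : R)) • σ₂, ?_⟩
  · exact (S.mul_mem (S.mul_mem a.2 b.2) c.2)
  · have hc' := hc
    simp only [Submonoid.smul_def, smul_add, smul_smul] at hc'
    rw [LinearMap.comp_smul, LinearMap.smul_comp, hc']
    congr 1
    ring

end prime

end Groth.Agent.Helper9.SplTr1
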