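import Mathlib
import Groth.Prelude.Def_DRing2
import Groth.Agent.Helper3.DRingTor3
import Groth.Agent.Helper3.DRingBC
import Groth.Agent.Helper6.LBCFibre
import Groth.Agent.Helper9.SplTr1

set_option autoImplicit false

/-!
# A complex split at one spot: exactness and projectivity of the next cokernel
-/

namespace Groth.Agent.Helper9.SplTr2
open CategoryTheory Limits TensorProduct
open Groth.Agent.Helper3.DRingLib

universe u

section generic

variable {A : Type u} [CommRing A]

/-- a complex with a contracting pair at `j` is exact at `j` -/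
theorem exactAt_of_split (P : DRing.Cx A) (i j k : ℤ) (hij : i + 1 = j) (hjk : j + 1 = k)
    (s₁ : P.X j →ₗ[A] P.X i) (s₂ : P.X k →ₗ[A] P.X j)
    (hs : ∀ x : P.X j, (P.d i j).hom (s₁ x) + s₂ ((P.d j k).hom x) = x) :
    P.ExactAt j := by
  rw [exactAt_iff_forall P i j k hij hjk]
  intro x hx
  refine ⟨s₁ x, ?_⟩
  have := hs x
  rw [hx, map_zero, add_zero] at this
  exact this

/-- a complex with a contracting pair at `j` has a projective cokernel of `d : P^j → P^k` -/
theorem projective_coker_of_split (P : DRing.Cx A) (i j k : ℤ)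
    (s₁ : P.X j →ₗ[A] P.X i) (s₂ : P.X k →ₗ[A] P.X j)
    (hs : ∀ x : P.X j, (P.d i j).hom (s₁ x) + s₂ ((P.d j k).hom x) = x)
    [Module.Projective A (P.X k)] :
    Module.Projective A (P.X k ⧸ LinearMap.range (P.d j k).hom) := by
  let d : P.X j →ₗ[A] P.X k := (P.d j k).hom
  have hdd : ∀ y : P.X i, d ((P.d i j).hom y) = 0 := by
    intro y
    show (P.d j k).hom ((P.d i j).hom y) = 0
    rw [← LinearMap.comp_apply, ← ModuleCat.hom_comp, P.d_comp_d]
    rfl
  -- `e = d s₂` fixes the range of `d`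
  have he : ∀ x : P.X j, d (s₂ (d x)) = d x := by
    intro x
    have := congrArg d (hs x)
    rw [map_add, hdd, zero_add] at this
    exact this
  let ρ : P.X k →ₗ[A] P.X k := LinearMap.id - d ∘ₗ s₂
  have hρ : LinearMap.range d ≤ LinearMap.ker ρ := by
    rintro _ ⟨x, rfl⟩
    simp [ρ, he x]
  let ι : (P.X k ⧸ LinearMap.range d) →ₗ[A] P.X k := (LinearMap.range d).liftQ ρ hρ
  refine Module.Projective.of_split ι (LinearMap.range d).mkQ ?_
  ext x
  simp only [LinearMap.coe_comp, Function.comp_apply, Submodule.mkQ_apply, LinearMap.id_coe,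
    id_eq, ι, Submodule.liftQ_apply]
  rw [eq_comm, Submodule.Quotient.eq]
  simp only [ρ, LinearMap.sub_apply, LinearMap.id_coe, id_eq, LinearMap.coe_comp,
    Function.comp_apply, sub_sub_cancel]
  exact ⟨s₂ x, rfl⟩

theorem opcycles_finite_projective_of_split (P : DRing.Cx A) (i j k : ℤ) (hjk : j + 1 = k)
    (s₁ : P.X j →ₗ[A] P.X i) (s₂ : P.X k →ₗ[A] P.X j)
    (hs : ∀ x : P.X j, (P.d i j).hom (s₁ x) + s₂ ((P.d j k).hom x) = x)
    [Module.Projective A (P.X k)] [Module.Finite A (P.X k)] :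
    Module.Finite A (P.opcycles k) ∧ Module.Projective A (P.opcycles k) := by
  have h1 := projective_coker_of_split P i j k s₁ s₂ hs
  let e := (opcyclesIsoQuot P j k hjk).toLinearEquiv
  exact ⟨Module.Finite.equiv e.symm, Module.Projective.of_equiv e.symm⟩

end generic

section bc

variable {R : Type u} [CommRing R] (A : Type u) [CommRing A] [Algebra R A]

/-- base change of a splitting up to a scalar which becomes invertible -/
theorem exists_split_bcCx (E : DRing.Cx R) (i j k : ℤ) (r : R) (hr : IsUnit (algebraMap R A r))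
    (σ₁ : E.X j →ₗ[R] E.X i) (σ₂ : E.X k →ₗ[R] E.X j)
    (hσ : (E.d i j).hom ∘ₗ σ₁ + σ₂ ∘ₗ (E.d j k).hom = r • LinearMap.id) :
    ∃ (s₁ : ((bcCx R A).obj E).X j →ₗ[A] ((bcCx R A).obj E).X i)
      (s₂ : ((bcCx R A).obj E).X k →ₗ[A] ((bcCx R A).obj E).X j),
      ∀ x : ((bcCx R A).obj E).X j,
        (((bcCx R A).obj E).d i j).hom (s₁ x) + s₂ ((((bcCx R A).obj E).d j k).hom x) = x := by
  obtain ⟨u, hu⟩ := hr
  let ei : ((bcCx R A).obj E).X i ≃ₗ[A] A ⊗[R] E.X i := extendScalarsEquiv (B := A) (E.X i)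
  let ej : ((bcCx R A).obj E).X j ≃ₗ[A] A ⊗[R] E.X j := extendScalarsEquiv (B := A) (E.X j)
  let ek : ((bcCx R A).obj E).X k ≃ₗ[A] A ⊗[R] E.X k := extendScalarsEquiv (B := A) (E.X k)
  refine ⟨ei.symm.toLinearMap ∘ₗ ((↑u⁻¹ : A) • (σ₁.baseChange A)) ∘ₗ ej.toLinearMap,
    ej.symm.toLinearMap ∘ₗ ((↑u⁻¹ : A) • (σ₂.baseChange A)) ∘ₗ ek.toLinearMap, ?_⟩
  intro x
  apply ej.injective
  have n1 : ∀ z : A ⊗[R] E.X i, ej ((((bcCx R A).obj E).d i j).hom (ei.symm z)) =
      ((E.d i j).hom.baseChange A) z := by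
    intro z
    have := Groth.Agent.Helper6.LBCFibre.extendScalarsEquiv_naturality A (E.d i j) (ei.symm z)
    have h2 : (extendScalarsEquiv (B := A) (E.X i)) (ei.symm z) = z := ei.apply_symm_apply z
    rw [h2] at this
    exact this
  have n2 : ek ((((bcCx R A).obj E).d j k).hom x) = ((E.d j k).hom.baseChange A) (ej x) :=
    Groth.Agent.Helper6.LBCFibre.extendScalarsEquiv_naturality A (E.d j k) x
  have key : ((E.d i j).hom.baseChange A) ((σ₁.baseChange A) (ej x)) +
      (σ₂.baseChange A) (((E.d j k).hom.baseChange A) (ej x)) = (u : A) • ej x := by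
    rw [← LinearMap.comp_apply, ← LinearMap.comp_apply, ← LinearMap.add_apply,
      ← LinearMap.baseChange_comp, ← LinearMap.baseChange_comp, ← LinearMap.baseChange_add, hσ,
      LinearMap.baseChange_smul, LinearMap.baseChange_id, LinearMap.smul_apply,
      LinearMap.id_apply, hu, algebraMap_smul]
  refine (map_add ej _ _).trans ?_
  have h1 : ej ((((bcCx R A).obj E).d i j).hom
      ((ei.symm.toLinearMap ∘ₗ ((↑u⁻¹ : A) • (σ₁.baseChange A)) ∘ₗ ej.toLinearMap) x)) =
      (↑u⁻¹ : A) • ((E.d i j).hom.baseChange A) ((σ₁.baseChange A) (ej x)) := by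
    refine (n1 _).trans ?_
    show ((E.d i j).hom.baseChange A) ((↑u⁻¹ : A) • (σ₁.baseChange A) (ej x)) = _
    rw [map_smul]
  have h2 : ej ((ej.symm.toLinearMap ∘ₗ ((↑u⁻¹ : A) • (σ₂.baseChange A)) ∘ₗ ek.toLinearMap)
      ((((bcCx R A).obj E).d j k).hom x)) =
      (↑u⁻¹ : A) • (σ₂.baseChange A) (((E.d j k).hom.baseChange A) (ej x)) := by
    simp only [LinearMap.coe_comp, LinearEquiv.coe_coe, Function.comp_apply,
      LinearMap.smul_apply, LinearEquiv.apply_symm_apply]
    rw [n2]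
  rw [h1, h2, ← smul_add, key, smul_smul, Units.inv_mul, one_smul]

end bc

end Groth.Agent.Helper9.SplTr2
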