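import Mathlib

set_option autoImplicit false

/-!
# The t-structure truncations of `Q.obj L` are the canonical truncations of `L`
-/

namespace Groth.Agent.Helper9.SplTr3
open CategoryTheory Limits Pretriangulated DerivedCategory Triangulated

universe w v u

variable {C : Type u} [Category.{v} C] [Abelian C] [HasDerivedCategory.{w} C]

theorem nonempty_trunc_iso (L : CochainComplex C ℤ) (n₀ n₁ : ℤ) (h : n₀ + 1 = n₁) :
    Nonempty ((TStructure.t.truncGE n₁).obj (Q.obj L) ≅ Q.obj (L.truncGE n₁)) ∧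
      Nonempty ((TStructure.t.truncLT n₁).obj (Q.obj L) ≅ Q.obj (L.truncLE n₀)) := by
  have hS := L.shortComplexTruncLE_shortExact n₀
  have hT' := triangleOfSES_distinguished hS
  have hT := (TStructure.t (C := C)).triangleLTGE_distinguished n₁ (Q.obj L)
  have hq : IsIso (Q.map (L.shortComplexTruncLEX₃ToTruncGE n₀ n₁ h)) := inferInstance
  let e3 : Q.obj (L.shortComplexTruncLE n₀).X₃ ≅ Q.obj (L.truncGE n₁) :=
    asIso (Q.map (L.shortComplexTruncLEX₃ToTruncGE n₀ n₁ h))
  have h1 : TStructure.t.IsLE ((TStructure.t.triangleLTGE n₁).obj (Q.obj L)).obj₁ n₀ :=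
    TStructure.t.isLE_truncLT_obj _ n₁ n₀ (by omega)
  have h2 : TStructure.t.IsGE ((TStructure.t.triangleLTGE n₁).obj (Q.obj L)).obj₃ n₁ :=
    TStructure.t.isGE_truncGE_obj _ n₁ n₁ (by omega)
  have h3 : TStructure.t.IsLE (triangleOfSES hS).obj₁ n₀ := by
    show (Q.obj (L.truncLE n₀)).IsLE n₀
    infer_instance
  have h4 : TStructure.t.IsGE (triangleOfSES hS).obj₃ n₁ := by
    have : (Q.obj (L.truncGE n₁)).IsGE n₁ := inferInstance
    exact TStructure.t.isGE_of_iso e3.symm n₁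
  obtain ⟨e', _⟩ := TStructure.t.triangle_iso_exists hT hT' (Iso.refl _) n₀ n₁ h1 h2 h3 h4
    (by omega)
  refine ⟨⟨(Triangle.π₃.mapIso e') ≪≫ e3⟩, ⟨Triangle.π₁.mapIso e'⟩⟩

end Groth.Agent.Helper9.SplTr3
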