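import Mathlib

set_option autoImplicit false

/-!
# Splitting of an object along truncations when the connecting morphism vanishes
-/

namespace Groth.Agent.Helper9.SplTr4
open CategoryTheory Limits Pretriangulated Triangulated

universe v u

variable {D : Type u} [Category.{v} D] [Preadditive D] [HasZeroObject D] [HasShift D ℤ]
  [∀ n : ℤ, (shiftFunctor D n).Additive] [Pretriangulated D] (t : TStructure D)

theorem exists_split (X : D) (i : ℤ)
    (ha : t.IsLE ((t.truncLT (i + 1)).obj X) (i - 1))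
    (hb : ∀ g : (t.truncGE (i + 1)).obj X ⟶ ((t.truncLT (i + 1)).obj X)⟦(1 : ℤ)⟧, g = 0)
    [HasBinaryBiproduct ((t.truncGE (i + 1)).obj X) ((t.truncLT i).obj X)] :
    ∃ e : X ≅ (t.truncGE (i + 1)).obj X ⊞ (t.truncLT i).obj X,
      e.hom ≫ biprod.fst = (t.truncGEπ (i + 1)).app X ∧
      (t.truncLTι i).app X ≫ e.hom = biprod.inr := by
  let Y := (t.truncLT (i + 1)).obj X
  let α : (t.truncLT i).obj X ⟶ Y := (t.natTransTruncLTOfLE i (i + 1) (by omega)).app X
  have hα : α ≫ (t.truncLTι (i + 1)).app X = (t.truncLTι i).app X :=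
    t.natTransTruncLTOfLE_ι_app i (i + 1) (by omega) X
  let β : Y ⟶ (t.truncLT i).obj X := t.liftTruncLT ((t.truncLTι (i + 1)).app X) (i - 1) i (by omega)
  have hβ : β ≫ (t.truncLTι i).app X = (t.truncLTι (i + 1)).app X :=
    t.liftTruncLT_ι _ _ _ _
  have hαβ : α ≫ β = 𝟙 _ := by
    have : t.IsLE ((t.truncLT i).obj X) (i - 1) := t.isLE_truncLT_obj X i (i - 1) (by omega)
    apply t.to_truncLT_obj_ext
    rw [Category.assoc, hβ, hα, Category.id_comp]
  have hβα : β ≫ α = 𝟙 _ := by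
    have : t.IsLE Y (i + 1 - 1) := t.isLE_truncLT_obj X (i + 1) (i + 1 - 1) (by omega)
    apply t.to_truncLT_obj_ext
    rw [Category.assoc, hα, hβ, Category.id_comp]
  have hT := t.triangleLTGE_distinguished (i + 1) X
  obtain ⟨e₀, he₁, he₂⟩ : ∃ (e₀ : X ≅ Y ⊞ (t.truncGE (i + 1)).obj X),
      (t.truncLTι (i + 1)).app X ≫ e₀.hom = biprod.inl ∧
      (t.truncGEπ (i + 1)).app X = e₀.hom ≫ biprod.snd :=
    exists_iso_binaryBiproduct_of_distTriang _ hT (hb _)
  let e₁ : Y ⊞ (t.truncGE (i + 1)).obj X ≅ (t.truncGE (i + 1)).obj X ⊞ (t.truncLT i).obj X :=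
    { hom := biprod.lift biprod.snd (biprod.fst ≫ β)
      inv := biprod.lift (biprod.snd ≫ α) biprod.fst
      hom_inv_id := by
        ext <;> simp [hβα]
      inv_hom_id := by
        ext <;> simp [hαβ] }
  refine ⟨e₀ ≪≫ e₁, ?_, ?_⟩
  · rw [he₂]
    simp [e₁]
  · rw [← hα]
    simp only [Iso.trans_hom, Category.assoc]
    rw [reassoc_of% he₁]
    ext
    · simp only [e₁, Category.assoc, biprod.lift_fst, biprod.inr_fst]
      rw [biprod.inl_snd, comp_zero]
    · simp only [e₁, Category.assoc, biprod.lift_snd, biprod.inr_snd]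
      rw [biprod.inl_fst_assoc, hαβ]

end Groth.Agent.Helper9.SplTr4
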