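import Mathlib
import Groth.Prelude.Def_DRing2
import Groth.Agent.Helper3.DRing1
import Groth.Agent.Helper3.DRingFin
import Groth.Agent.Helper9.SplTr3
import Groth.Agent.Helper9.SplTr4

set_option autoImplicit false

/-!
# Truncations of a bounded above complex of finite projective modules which is split at one spot
-/

namespace Groth.Agent.Helper9.SplTr5
open CategoryTheory Limits Pretriangulated DerivedCategory Triangulated
open Groth.Agent.Helper3.DRingLib

attribute [local instance] HasDerivedCategory.standard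

universe u

variable {A : Type u} [CommRing A]

lemma finite_projective_of_iso {M N : ModuleCat.{u} A} (e : M ≅ N)
    (h : Module.Finite A M ∧ Module.Projective A M) :
    Module.Finite A N ∧ Module.Projective A N := by
  obtain ⟨h1, h2⟩ := h
  exact ⟨Module.Finite.equiv e.toLinearEquiv, Module.Projective.of_equiv e.toLinearEquiv⟩

lemma finite_projective_of_isZero {M : ModuleCat.{u} A} (h : IsZero M) :
    Module.Finite A M ∧ Module.Projective A M := by
  have : Subsingleton M := ModuleCat.subsingleton_of_isZero h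
  exact ⟨inferInstance, inferInstance⟩

section

variable (L : DRing.Cx A) (b : ℤ) (hv : DRing.VanishesAbove L b)
  (hfp : DRing.TermwiseFiniteProjective L) (i : ℤ)
  (hop : Module.Finite A (L.opcycles (i + 1)) ∧ Module.Projective A (L.opcycles (i + 1)))

include hv in
lemma truncGE_vanishesOutside :
    DRing.VanishesOutside (L.truncGE (i + 1)) (i + 1) (max b (i + 1)) := by
  intro j hj
  rcases hj with hj | hj
  · exact (L.truncGE (i + 1)).isZero_of_isStrictlyGE (i + 1) j hj
  · have h1 : i + 1 < j := lt_of_le_of_lt (le_max_right _ _) hj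
    have h2 : b < j := lt_of_le_of_lt (le_max_left _ _) hj
    exact (hv j h2).of_iso (L.truncGEXIso (i + 1) j h1)

include hfp hop in
lemma truncGE_termwiseFiniteProjective :
    DRing.TermwiseFiniteProjective (L.truncGE (i + 1)) := by
  intro j
  rcases lt_trichotomy j (i + 1) with hj | hj | hj
  · exact finite_projective_of_isZero ((L.truncGE (i + 1)).isZero_of_isStrictlyGE (i + 1) j hj)
  · subst hj
    exact finite_projective_of_iso (L.truncGEXIsoOpcycles (i + 1)).symm hop
  · exact finite_projective_of_iso (L.truncGEXIso (i + 1) j hj).symm (hfp j)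

lemma truncLE_isLE (hex : L.ExactAt i) : (L.truncLE i).IsLE (i - 1) := by
  rw [CochainComplex.isLE_iff]
  intro j hj
  by_cases hji : j = i
  · subst hji
    have := L.quasiIsoAt_ιTruncLE j j le_rfl
    exact (_root_.exactAt_iff_of_quasiIsoAt (L.ιTruncLE j) j).2 hex
  · exact HomologicalComplex.ExactAt.of_isZero
      ((L.truncLE i).isZero_of_isStrictlyLE i j (by omega))

include hv hfp hop in
theorem main (hex : L.ExactAt i) (X : Dual.D A) (θ : X ≅ DRing.toD L) :
    DRing.IsPerfect A ((TStructure.t.truncGE (i + 1)).obj X) ∧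
      (∃ b' : ℤ, DRing.HasTorAmplitudeIn A (i + 1) b' ((TStructure.t.truncGE (i + 1)).obj X)) ∧
      TStructure.t.IsLE ((TStructure.t.truncLT (i + 1)).obj X) (i - 1) ∧
      ∀ g : (TStructure.t.truncGE (i + 1)).obj X ⟶
        ((TStructure.t.truncLT (i + 1)).obj X)⟦(1 : ℤ)⟧, g = 0 := by
  obtain ⟨⟨e1⟩, ⟨e2⟩⟩ := Groth.Agent.Helper9.SplTr3.nonempty_trunc_iso L i (i + 1) rfl
  let P := L.truncGE (i + 1)
  have hvo := truncGE_vanishesOutside L b hv i
  have hP := truncGE_termwiseFiniteProjective L hfp i hop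
  let eP : DRing.toD P ≅ (TStructure.t.truncGE (i + 1)).obj X :=
    e1.symm ≪≫ ((TStructure.t.truncGE (i + 1)).mapIso θ).symm
  have hLE : TStructure.t.IsLE ((TStructure.t.truncLT (i + 1)).obj X) (i - 1) := by
    have h1 : (L.truncLE i).IsLE (i - 1) := truncLE_isLE L i hex
    have h2 : (DRing.toD (L.truncLE i)).IsLE (i - 1) := by
      rw [DerivedCategory.isLE_Q_obj_iff]
      exact h1
    exact TStructure.t.isLE_of_iso (e2.symm ≪≫ ((TStructure.t.truncLT (i + 1)).mapIso θ).symm) _
  refine ⟨⟨P, i + 1, max b (i + 1), hvo, hP, ⟨eP⟩⟩, ⟨max b (i + 1), P, hvo, ?_, ⟨eP⟩⟩, hLE, ?_⟩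
  · intro j
    have := (hP j).2
    infer_instance
  · intro g
    have hK : P.IsKProjective :=
      isKProjective_of_vanishesAbove P (max b (i + 1)) (fun j hj => hvo j (Or.inr hj))
        (fun j => (hP j).2)
    have : (((TStructure.t.truncLT (i + 1)).obj X)⟦(1 : ℤ)⟧).IsLE (i - 1 - 1) :=
      TStructure.t.isLE_shift _ (i - 1) 1 (i - 1 - 1) (by omega)
    have h0 := hom_eq_zero_of_isLE P (i + 1) (fun j hj => hvo j (Or.inl hj))
      (((TStructure.t.truncLT (i + 1)).obj X)⟦(1 : ℤ)⟧) (i - 1 - 1) (by omega) (eP.hom ≫ g)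
    rw [← cancel_epi eP.hom, h0, comp_zero]

end

end Groth.Agent.Helper9.SplTr5
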