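import Mathlib
import Groth.Agent.Helper3.DRingBC
import Groth.Agent.Helper9.RingProj1

/-! Descent of a bounded complex of finite free modules from a localization: step B, the complex
given by matrices. -/

set_option autoImplicit false
set_option linter.style.haveILetI false
set_option linter.unusedVariables false
set_option linter.unusedSectionVars false
universe u

namespace Groth.Agent.Helper9.Spread1

open CategoryTheory CategoryTheory.Limits TensorProduct
open Groth.Agent.Helper3.DRingLib Groth.Agent.Helper9.RingProj1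

variable {A R : Type u} [CommRing A] [CommRing R] [Algebra A R]

section StepB

variable {ι : ℤ → Type u} [∀ i, Fintype (ι i)] [∀ i, DecidableEq (ι i)]
  (N : ∀ i, Matrix (ι (i + 1)) (ι i) A) (hN : ∀ i, N (i + 1) * N i = 0)

/-- the complex of finite free modules given by a family of matrices -/
noncomputable def cxOfMat : DRing.Cx A :=
  CochainComplex.of (fun i => ModuleCat.of A (ι i → A))
    (fun i => ModuleCat.ofHom (Matrix.toLin' (N i)))
    (fun i => by
      rw [← ModuleCat.ofHom_comp, ← Matrix.toLin'_mul, hN i, map_zero]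
      rfl)

lemma cxOfMat_d (i : ℤ) :
    (cxOfMat N hN).d i (i + 1) = ModuleCat.ofHom (Matrix.toLin' (N i)) := by
  exact CochainComplex.of_d (fun i => ModuleCat.of A (ι i → A))
    (fun i => ModuleCat.ofHom (Matrix.toLin' (N i))) i

lemma termwiseFiniteFree_cxOfMat : DRing.TermwiseFiniteFree (cxOfMat N hN) := by
  intro i
  exact ⟨inferInstanceAs (Module.Finite A (ι i → A)), inferInstanceAs (Module.Free A (ι i → A))⟩

lemma isZero_cxOfMat_X (i : ℤ) [IsEmpty (ι i)] : IsZero ((cxOfMat N hN).X i) := by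
  haveI : Subsingleton (ι i → A) := inferInstance
  exact ModuleCat.isZero_of_subsingleton (ModuleCat.of A (ι i → A))

/-- the comparison in each degree -/
noncomputable def Ψ {ι₀ : Type u} [Fintype ι₀] [DecidableEq ι₀] {M : Type u} [AddCommGroup M]
    [Module R M] (b : Module.Basis ι₀ R M) :
    (ext (algebraMap A R)).obj (ModuleCat.of A (ι₀ → A)) ≃ₗ[R] M :=
  (extendScalarsEquiv (B := R) (ModuleCat.of A (ι₀ → A))).trans
    ((Algebra.TensorProduct.basis R (Pi.basisFun A ι₀)).equiv b (Equiv.refl _))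

lemma Ψ_one_tmul {ι₀ : Type u} [Fintype ι₀] [DecidableEq ι₀] {M : Type u} [AddCommGroup M]
    [Module R M] (b : Module.Basis ι₀ R M) (v : ι₀ → A) :
    Ψ (A := A) b ((1 : R) ⊗ₜ[A] v) = ∑ k, algebraMap A R (v k) • b k := by
  have h1 : extendScalarsEquiv (B := R) (ModuleCat.of A (ι₀ → A)) ((1 : R) ⊗ₜ[A] v) =
      (1 : R) ⊗ₜ[A] v := rfl
  have h2 : v = ∑ k, v k • (Pi.basisFun A ι₀ k) := by
    funext j
    simp [Finset.sum_apply, Pi.single_apply]
  show ((Algebra.TensorProduct.basis R (Pi.basisFun A ι₀)).equiv b (Equiv.refl _))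
    (extendScalarsEquiv (B := R) (ModuleCat.of A (ι₀ → A)) ((1 : R) ⊗ₜ[A] v)) = _
  rw [h1]
  conv_lhs => rw [h2]
  rw [TensorProduct.tmul_sum, map_sum]
  refine Finset.sum_congr rfl (fun k _ => ?_)
  rw [TensorProduct.tmul_smul, ← algebraMap_smul R (v k), map_smul,
    ← Algebra.TensorProduct.basis_apply, Module.Basis.equiv_apply]
  rfl

/-- a complex with bases in which the differentials are given by the images of the matrices is
the base change of the complex of the matrices -/
theorem nonempty_extCx_cxOfMat_iso (E : DRing.Cx R) (b : ∀ i, Module.Basis (ι i) R (E.X i))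
    (hb : ∀ i k, (E.d i (i + 1)).hom (b i k) = ∑ l, algebraMap A R (N i l k) • b (i + 1) l) :
    Nonempty ((extCx (algebraMap A R)).obj (cxOfMat N hN) ≅ E) := by
  refine ⟨HomologicalComplex.Hom.isoOfComponents (fun i => (Ψ (A := A) (b i)).toModuleIso) ?_⟩
  rintro i j (rfl : i + 1 = j)
  apply ModuleCat.ExtendScalars.hom_ext
  intro v
  have hv : (cxOfMat N hN).X i = ModuleCat.of A (ι i → A) := rfl
  let v' : ι i → A := v
  show (E.d i (i + 1)).hom (Ψ (A := A) (b i) ((1 : R) ⊗ₜ[A] v')) =
    Ψ (A := A) (b (i + 1)) ((1 : R) ⊗ₜ[A] ((cxOfMat N hN).d i (i + 1)).hom v')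
  rw [cxOfMat_d, Ψ_one_tmul, map_sum]
  show _ = Ψ (A := A) (b (i + 1)) ((1 : R) ⊗ₜ[A] (Matrix.toLin' (N i) v'))
  rw [Ψ_one_tmul]
  simp only [map_smul, hb, Finset.smul_sum, smul_smul]
  rw [Finset.sum_comm]
  refine Finset.sum_congr rfl (fun l _ => ?_)
  rw [← Finset.sum_smul]
  congr 1
  rw [Matrix.toLin'_apply, Matrix.mulVec, dotProduct, map_sum]
  refine Finset.sum_congr rfl (fun k _ => ?_)
  rw [map_mul, mul_comm]

end StepB

section StepA

variable (S : Submonoid A) [IsLocalization S R]

/-- bases of the terms, indexed by types which are empty outside `[a, b]` -/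
lemma exists_bases (E : DRing.Cx R) (a b : ℤ) (hv : DRing.VanishesOutside E a b)
    (hE : DRing.TermwiseFiniteFree E) :
    ∃ (ι : ℤ → Type u) (_ : ∀ i, Fintype (ι i)) (bs : ∀ i, Module.Basis (ι i) R (E.X i)),
      ∀ i, (i < a ∨ b < i) → IsEmpty (ι i) := by
  have h : ∀ i : ℤ, ∃ (ι₀ : Type u) (_ : Fintype ι₀) (_ : Module.Basis ι₀ R (E.X i)),
      (i < a ∨ b < i) → IsEmpty ι₀ := by
    intro i
    by_cases hi : i < a ∨ b < i
    · haveI : Subsingleton (E.X i) := ModuleCat.subsingleton_of_isZero (hv i hi)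
      exact ⟨PEmpty, inferInstance, Module.Basis.empty _, fun _ => inferInstance⟩
    · haveI := (hE i).1
      haveI := (hE i).2
      exact ⟨Module.Free.ChooseBasisIndex R (E.X i), inferInstance,
        Module.Free.chooseBasis R (E.X i), fun h => absurd h hi⟩
  choose ι hι bs hempty using h
  exact ⟨ι, hι, bs, hempty⟩

include S in
/-- a bounded complex of finite free modules over a localization of `A` is the base change of
a bounded complex of finite free `A`-modules -/
theorem exists_descent (E : DRing.Cx R) (a b : ℤ) (hv : DRing.VanishesOutside E a b)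
    (hE : DRing.TermwiseFiniteFree E) :
    ∃ E₀ : DRing.Cx A, DRing.VanishesOutside E₀ a b ∧ DRing.TermwiseFiniteFree E₀ ∧
      Nonempty ((extCx (algebraMap A R)).obj E₀ ≅ E) := by
  classical
  obtain ⟨ι, hι, bs, hempty⟩ := exists_bases E a b hv hE
  haveI := hι
  -- the matrices of the differentials
  let M : ∀ i, Matrix (ι (i + 1)) (ι i) R :=
    fun i l k => (bs (i + 1)).repr ((E.d i (i + 1)).hom (bs i k)) l
  have hM : ∀ i k, (E.d i (i + 1)).hom (bs i k) = ∑ l, M i l k • bs (i + 1) l := fun i k =>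
    ((bs (i + 1)).sum_repr _).symm
  have hMM : ∀ i m k, ∑ l, M (i + 1) m l * M i l k = 0 := by
    intro i m k
    have h0 : (E.d (i + 1) (i + 1 + 1)).hom ((E.d i (i + 1)).hom (bs i k)) = 0 := by
      have h1 := E.d_comp_d i (i + 1) (i + 1 + 1)
      have h2 := congrArg (fun φ => φ.hom (bs i k)) h1
      exact h2
    rw [hM, map_sum] at h0
    simp only [map_smul, hM, Finset.smul_sum, smul_smul] at h0
    rw [Finset.sum_comm] at h0
    simp only [← Finset.sum_smul] at h0
    have h3 := Fintype.linearIndependent_iff.1 (bs (i + 1 + 1)).linearIndependent _ h0 m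
    rw [← h3]
    exact Finset.sum_congr rfl (fun l _ => mul_comm _ _)
  have hrange : ∀ i, ι i → i ∈ Set.Icc a b := fun i k => by
    by_contra h
    rw [Set.mem_Icc, not_and_or, not_le, not_le] at h
    exact (hempty i h).elim k
  -- a common denominator
  let J := Σ i : Set.Icc a b, ι (i.1 + 1) × ι i.1
  let f : J → R := fun j => M j.1.1 j.2.1 j.2.2
  obtain ⟨s, hs⟩ := IsLocalization.exist_integer_multiples_of_finite S f
  let N₀ : ∀ i, Matrix (ι (i + 1)) (ι i) A := fun i l k =>
    Classical.choose (hs ⟨⟨i, hrange i k⟩, l, k⟩)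
  have hN₀ : ∀ i l k, algebraMap A R (N₀ i l k) = algebraMap A R s * M i l k := fun i l k => by
    have h1 := Classical.choose_spec (hs ⟨⟨i, hrange i k⟩, l, k⟩)
    rw [h1]
    exact Algebra.smul_def _ _
  have hP : ∀ i m k, algebraMap A R ((N₀ (i + 1) * N₀ i) m k) = 0 := by
    intro i m k
    rw [Matrix.mul_apply, map_sum]
    simp only [map_mul, hN₀]
    have h1 : ∀ l, algebraMap A R s * M (i + 1) m l * (algebraMap A R s * M i l k) =
        algebraMap A R s * algebraMap A R s * (M (i + 1) m l * M i l k) := fun l => by ring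
    simp only [h1, ← Finset.mul_sum, hMM, mul_zero]
  let J' := Σ i : Set.Icc a b, ι (i.1 + 1 + 1) × ι i.1
  have ht : ∀ j : J', ∃ t : S, (t : A) * (N₀ (j.1.1 + 1) * N₀ j.1.1) j.2.1 j.2.2 = 0 := fun j =>
    (IsLocalization.map_eq_zero_iff S R _).1 (hP _ _ _)
  choose t ht using ht
  let T : S := ∏ j, t j
  have hT : ∀ i m k, (T : A) * (N₀ (i + 1) * N₀ i) m k = 0 := by
    intro i m k
    let j₀ : J' := ⟨⟨i, hrange i k⟩, m, k⟩
    have h1 : (T : A) = (∏ j ∈ Finset.univ.erase j₀, (t j : A)) * t j₀ := by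
      rw [Finset.prod_erase_mul _ _ (Finset.mem_univ _)]
      simp [T]
    rw [h1, mul_assoc]
    have h2 := ht j₀
    rw [show (t j₀ : A) * (N₀ (i + 1) * N₀ i) m k = 0 from h2, mul_zero]
  let N : ∀ i, Matrix (ι (i + 1)) (ι i) A := fun i => (T : A) • N₀ i
  have hN : ∀ i, N (i + 1) * N i = 0 := by
    intro i
    ext m k
    simp only [N, Matrix.smul_mul, Matrix.mul_smul, Matrix.smul_apply, smul_eq_mul,
      Matrix.zero_apply]
    rw [hT, mul_zero]
  -- the unit
  let uu : Rˣ := IsUnit.unit (IsLocalization.map_units R (T * s))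
  have huu : (uu : R) = algebraMap A R T * algebraMap A R s := by
    show algebraMap A R ((T * s : S) : A) = _
    rw [Submonoid.coe_mul, map_mul]
  let c : ℤ → Rˣ := fun i => uu ^ (-i)
  have hc : ∀ i, ((c i : Rˣ) : R) = (uu : R) * ((c (i + 1) : Rˣ) : R) := by
    intro i
    rw [← Units.val_mul]
    congr 1
    show uu ^ (-i) = uu * uu ^ (-(i + 1))
    rw [← zpow_one_add]
    congr 1
    ring
  let b' : ∀ i, Module.Basis (ι i) R (E.X i) := fun i => (bs i).unitsSMul (fun _ => c i)
  have hb' : ∀ i k, (E.d i (i + 1)).hom (b' i k) =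
      ∑ l, algebraMap A R (N i l k) • b' (i + 1) l := by
    intro i k
    simp only [b', Module.Basis.unitsSMul_apply, Units.smul_def, map_smul, hM, Finset.smul_sum,
      smul_smul]
    refine Finset.sum_congr rfl (fun l _ => ?_)
    congr 1
    simp only [N, Matrix.smul_apply, smul_eq_mul, map_mul, hN₀]
    rw [hc i, huu]
    ring
  refine ⟨cxOfMat N hN, ?_, termwiseFiniteFree_cxOfMat N hN, nonempty_extCx_cxOfMat_iso N hN E b' hb'⟩
  intro i hi
  haveI := hempty i hi
  exact isZero_cxOfMat_X N hN i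

end StepA

end Groth.Agent.Helper9.Spread1
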