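import Mathlib
import Groth.Agent.Helper9.Spread1
import Groth.Agent.Helper9.RelTor2
import Groth.Agent.Helper9.TP3
import Groth.Agent.Helper9.TorT1
import Groth.Agent.Helper9.RLT1

/-! Spreading out a perfect complex over the local ring of a point of a scheme to a perfect
complex on an open neighbourhood. -/

set_option autoImplicit false
set_option linter.style.haveILetI false
set_option linter.unusedVariables false
set_option linter.unusedSectionVars false
universe u

namespace Groth.Agent.Helper9.Spread2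

open CategoryTheory CategoryTheory.Limits AlgebraicGeometry Opposite
open Scheme.Modules Groth.Agent.Lead.PerfLib Groth.Agent.Helper9.TP1 Groth.Agent.Helper9.TP2
  Groth.Agent.Helper3.DRingLib Groth.Agent.Helper9.RingProj1
  Groth.Agent.Helper9.SkyMod4 Groth.Agent.Helper9.StalkTensor9
  Groth.Agent.Helper9.Tilde1 Groth.Agent.Helper9.Tilde2

attribute [local instance] HasDerivedCategory.standard

section Ring

variable {R R' : Type u} [CommRing R] [CommRing R']

/-- extension of scalars along the identity -/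
noncomputable def extCxIdIso (X : DRing.Cx R) : (extCx (RingHom.id R)).obj X ≅ X :=
  (NatIso.mapHomologicalComplex (ModuleCat.extendScalarsId R) (ComplexShape.up ℤ)).app X ≪≫
    (Functor.mapHomologicalComplexIdIso (ModuleCat.{u} R) (ComplexShape.up ℤ)).app X

/-- extension of scalars along a ring isomorphism reflects isomorphisms of complexes -/
theorem nonempty_iso_of_extCx_iso (σ : R →+* R') (hσ : Function.Bijective σ)
    (X₁ X₂ : DRing.Cx R) (e : (extCx σ).obj X₁ ≅ (extCx σ).obj X₂) : Nonempty (X₁ ≅ X₂) := by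
  let σ' : R ≃+* R' := RingEquiv.ofBijective σ hσ
  let τ : R' →+* R := σ'.symm.toRingHom
  have h : RingHom.id R = τ.comp σ := by
    ext r
    exact (σ'.symm_apply_apply r).symm
  exact ⟨(extCxIdIso X₁).symm ≪≫ Groth.Agent.Helper9.RLT1.extCompIso σ τ _ h X₁ ≪≫
    (extCx τ).mapIso e ≪≫ (Groth.Agent.Helper9.RLT1.extCompIso σ τ _ h X₂).symm ≪≫
    extCxIdIso X₂⟩

/-- over a local ring a perfect complex is represented by a bounded complex of finite free
modules -/
theorem exists_free_of_isPerfect [IsLocalRing R] (P : Dual.D R) (hP : DRing.IsPerfect R P) :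
    ∃ (E : DRing.Cx R) (a b : ℤ), DRing.VanishesOutside E a b ∧ DRing.TermwiseFiniteFree E ∧
      Nonempty (DRing.toD E ≅ P) := by
  obtain ⟨E, a, b, hv, hE, he⟩ := hP
  refine ⟨E, a, b, hv, fun i => ?_, he⟩
  haveI := (hE i).1
  haveI := (hE i).2
  exact ⟨inferInstance, Module.free_of_flat_of_isLocalRing⟩

end Ring

variable {X : Scheme.{u}}

lemma ψ_eq_comp {U : X.Opens} (hU : IsAffineOpen U) (p : Spec Γ(X, U))
    (hxU : hU.fromSpec p ∈ U) :
    ψ Γ(X, U) p = (hU.fromSpec.stalkMap p).hom.comp (X.presheaf.germ U (hU.fromSpec p) hxU).hom := by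
  have hp : p ∈ hU.fromSpec ⁻¹ᵁ U := hxU
  have h1 : X.presheaf.germ U (hU.fromSpec p) hxU ≫ hU.fromSpec.stalkMap p =
      hU.fromSpec.app U ≫ (Spec Γ(X, U)).presheaf.germ (hU.fromSpec ⁻¹ᵁ U) p hp :=
    Scheme.Hom.germ_stalkMap hU.fromSpec U p hxU
  have h2 : (Spec Γ(X, U)).presheaf.map (eqToHom hU.fromSpec_preimage_self).op ≫
      (Spec Γ(X, U)).presheaf.germ (hU.fromSpec ⁻¹ᵁ U) p hp =
      (Spec Γ(X, U)).presheaf.germ ⊤ p trivial :=
    TopCat.Presheaf.germ_res _ (eqToHom hU.fromSpec_preimage_self) p hp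
  have h3 : (Spec Γ(X, U)).presheaf.map (⊤ : (Spec Γ(X, U)).Opens).leTop.op ≫
      (Spec Γ(X, U)).presheaf.germ ⊤ p trivial = (Spec Γ(X, U)).presheaf.germ ⊤ p trivial :=
    TopCat.Presheaf.germ_res _ (⊤ : (Spec Γ(X, U)).Opens).leTop p trivial
  rw [← CommRingCat.hom_comp, h1, hU.fromSpec_app_self, Category.assoc, h2]
  unfold ψ
  rw [← CommRingCat.hom_comp, ← CommRingCat.hom_comp, Category.assoc, h3]

/-- restriction of a direct image along an open immersion, on complexes -/
noncomputable def rcPushIso {Z : Scheme.{u}} (j : Z ⟶ X) [IsOpenImmersion j]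
    (G : CochainComplex Z.Modules ℤ) :
    (Rc j).obj (((pushforward j).mapHomologicalComplex (ComplexShape.up ℤ)).obj G) ≅ G :=
  HomologicalComplex.Hom.isoOfComponents (fun i => (restrictFunctorAdjCounitIso j).app (G.X i))
    (fun i k _ => ((restrictFunctorAdjCounitIso j).hom.naturality (G.d i k)).symm)

set_option backward.isDefEq.respectTransparency false in
/-- a perfect complex over the local ring at a point of an affine open `U` spreads out to a complex
on `X` which is perfect over `U` -/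
theorem main {U : X.Opens} (hU : IsAffineOpen U) (p : Spec Γ(X, U))
    (P : Dual.D ((X.presheaf.stalk (hU.fromSpec p)) : Type u))
    (hP : DRing.IsPerfect ((X.presheaf.stalk (hU.fromSpec p)) : Type u) P) :
    ∃ (F' : CochainComplex X.Modules ℤ),
      DCoh.IsPerfect (DerivedCategory.Q.obj ((DCoh.restrictCx U).obj F')) ∧
      Nonempty (DRing.toD ((StCx (hU.fromSpec p)).obj F') ≅ P) := by
  let A : CommRingCat.{u} := Γ(X, U)
  let j : Spec A ⟶ X := hU.fromSpec
  let x : X := j p
  have hxU : x ∈ U := by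
    have hz : x ∈ Set.range j := ⟨p, rfl⟩
    rw [hU.range_fromSpec] at hz
    exact hz
  obtain ⟨E, a, b, hv, hE, ⟨eP⟩⟩ := exists_free_of_isPerfect P hP
  letI alg : Algebra A (X.presheaf.stalk x) := (X.presheaf.germ U x hxU).hom.toAlgebra
  have hloc : IsLocalization.AtPrime (X.presheaf.stalk x)
      (PrimeSpectrum.asIdeal (show PrimeSpectrum A from p)) :=
    hU.isLocalization_stalk' p hxU
  haveI := hloc
  obtain ⟨E₀, hv₀, hE₀, ⟨e₀⟩⟩ := Groth.Agent.Helper9.Spread1.exists_descent
    (PrimeSpectrum.asIdeal (show PrimeSpectrum A from p)).primeCompl E a b hv hE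
  haveI : PreservesFiniteLimits (tilde.functor A) :=
    Groth.Agent.Helper4.TildeExact.preservesFiniteLimits_tilde _
  let G : CochainComplex (Spec A).Modules ℤ := (tCx A).obj E₀
  let F' : CochainComplex X.Modules ℤ :=
    ((pushforward j).mapHomologicalComplex (ComplexShape.up ℤ)).obj G
  have hG : DCoh.IsStrictlyPerfect G := by
    refine isStrictlyPerfect_tCx A E₀ a b hv₀ (fun i => ?_)
    haveI := (hE₀ i).1
    haveI := (hE₀ i).2
    exact ⟨inferInstance, inferInstance⟩
  refine ⟨F', ?_, ?_⟩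
  · rw [isPerfect_iff_locSP _ ((DCoh.restrictCx U).obj F') (Iso.refl _)]
    intro y
    let k : Spec A ⟶ (U : Scheme.{u}) := hU.isoSpec.inv
    have hk : j = k ≫ U.ι := hU.isoSpec_inv_ι.symm
    obtain ⟨z, rfl⟩ : ∃ z, k z = y := ⟨hU.isoSpec.hom y, by
      show (hU.isoSpec.hom ≫ hU.isoSpec.inv) y = y
      rw [Iso.hom_inv_id]
      rfl⟩
    apply LocSP.of_restrict k
    have eG : G ≅ (Rc k).obj ((Rc U.ι).obj F') := (rcPushIso j G).symm ≪≫ rcCompIso U.ι k j hk F'
    refine LocSP.of_iso (DerivedCategory.Q.mapIso eG) ?_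
    exact ⟨Spec A, 𝟙 _, inferInstance, ⟨z, rfl⟩, (Rc (𝟙 _)).obj G,
      isStrictlyPerfect_restrict _ hG, ⟨Iso.refl _⟩⟩
  · let σ : X.presheaf.stalk x →+* (Spec A).presheaf.stalk p := (j.stalkMap p).hom
    have hσ : Function.Bijective σ := ConcreteCategory.bijective_of_isIso (j.stalkMap p)
    have hψ : ψ A p = σ.comp (algebraMap A (X.presheaf.stalk x)) := ψ_eq_comp hU p hxU
    let s1 : (StCx p).obj ((Rc j).obj F') ≅ (extCx σ).obj ((StCx x).obj F') :=
      Groth.Agent.Helper9.RelTor2.stalkRestrictIso j F' p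
    let s2 : (StCx p).obj ((Rc j).obj F') ≅ (StCx p).obj G := (StCx p).mapIso (rcPushIso j G)
    let s3 : (StCx p).obj G ≅ (extCx (ψ A p)).obj E₀ := tildeStalkCxIso A p E₀
    let s4 : (extCx (ψ A p)).obj E₀ ≅
        (extCx σ).obj ((extCx (algebraMap A (X.presheaf.stalk x))).obj E₀) :=
      Groth.Agent.Helper9.RLT1.extCompIso _ σ (ψ A p) hψ E₀
    let s5 : (extCx σ).obj ((extCx (algebraMap A (X.presheaf.stalk x))).obj E₀) ≅
        (extCx σ).obj E := (extCx σ).mapIso e₀
    obtain ⟨e⟩ := nonempty_iso_of_extCx_iso σ hσ ((StCx x).obj F') E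
      (s1.symm ≪≫ s2 ≪≫ s3 ≪≫ s4 ≪≫ s5)
    exact ⟨DerivedCategory.Q.mapIso e ≪≫ eP⟩

end Groth.Agent.Helper9.Spread2
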