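import Mathlib
import Groth.Prelude.Def_EtBase
import Groth.Prelude.Def_EtCore
import Groth.Prelude.Def_SGA4b
import Groth.Agent.Helper9.StalkFinA
import Groth.Agent.Helper9.StalkFinC

/-! The stalk formula for direct images along finite morphisms: sheaves of sets. -/

set_option autoImplicit false
set_option linter.style.haveILetI false
universe u

open CategoryTheory CategoryTheory.Limits Opposite AlgebraicGeometry

namespace Groth.Agent.Helper9.StalkFinD

open Groth.Agent.Helper9.StalkFinA Groth.Agent.Helper9.StalkFinC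

variable {X Y : Scheme.{u}} (f : X ⟶ Y) {Ω : Type u} [Field Ω] [IsSepClosed Ω]
  (η : Spec (CommRingCat.of Ω) ⟶ Y)

/-- the comparison `(f_* F)_η ⟶ F_ξ` as a natural transformation -/
noncomputable def thetaNat (ξ : Spec (CommRingCat.of Ω) ⟶ X) (hξ : ξ ≫ f = η) :
    EtDesc.pushSh f ⋙ (Scheme.pointSmallEtale η).sheafFiber (A := Type (u + 1)) ⟶
      ((Scheme.pointSmallEtale ξ).sheafFiber (A := Type (u + 1)) : EtDesc.Sh X ⥤ Type (u + 1)) where
  app F := theta f η ξ hξ F.obj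
  naturality _ _ φ := theta_naturality f η ξ hξ φ.hom

/-- the fan of comparison maps -/
noncomputable def fan :
    Fan (fun ξ : {ξ : Spec (CommRingCat.of Ω) ⟶ X // ξ ≫ f = η} =>
      ((Scheme.pointSmallEtale ξ.1).sheafFiber (A := Type (u + 1)) :
        EtDesc.Sh X ⥤ Type (u + 1))) :=
  Fan.mk (EtDesc.pushSh f ⋙ (Scheme.pointSmallEtale η).sheafFiber (A := Type (u + 1)))
    (fun ξ => thetaNat f η ξ.1 ξ.2)


theorem nonempty_isLimit_fan [IsFinite f] {Ω : Type u} [Field Ω] [IsAlgClosed Ω]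
    (η : Spec (CommRingCat.of Ω) ⟶ Y) : Nonempty (IsLimit (fan f η)) := by
  refine ⟨evaluationJointlyReflectsLimits _ fun F => ?_⟩
  refine Classical.choice ?_
  rw [Types.isLimit_iff]
  intro t _
  have hP : Presieve.IsSheaf X.smallEtaleTopology (F.obj ⋙ forget (Type (u + 1))) :=
    (isSheaf_iff_isSheaf_of_type _ _).1 F.property
  obtain ⟨x, hx⟩ := germ_exists f η F.obj hP (fun ξ => t ⟨ξ⟩)
  refine ⟨x, ?_, ?_⟩
  · rintro ⟨ξ⟩
    exact hx ξ
  · intro x' hx'
    apply germ_ext f η F.obj hP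
    intro ξ
    exact (hx' ⟨ξ⟩).trans (hx ξ).symm

theorem main [IsFinite f] {Ω : Type u} [Field Ω] [IsAlgClosed Ω]
    (η : Spec (CommRingCat.of Ω) ⟶ Y) :
    Nonempty (EtDesc.pushSh f ⋙ (Scheme.pointSmallEtale η).sheafFiber (A := Type (u + 1)) ≅
      ∏ᶜ fun ξ : {ξ : Spec (CommRingCat.of Ω) ⟶ X // ξ ≫ f = η} =>
        ((Scheme.pointSmallEtale ξ.1).sheafFiber (A := Type (u + 1)) :
          EtDesc.Sh X ⥤ Type (u + 1))) := by
  obtain ⟨h⟩ := nonempty_isLimit_fan f η
  exact ⟨h.conePointUniqueUpToIso (limit.isLimit _)⟩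

end Groth.Agent.Helper9.StalkFinD
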