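import Mathlib

/-! Localisation of a topos of sheaves of sets at a subterminal sheaf `H`, when the objects on which
`H` has a section are the essential image of a fully faithful functor `c` with a continuous right
adjoint `b`: the functor `(A → H) ↦ c^* A` is an equivalence. -/

set_option autoImplicit false
universe w v₁ v₂ u₁ u₂

open CategoryTheory CategoryTheory.Limits Opposite

namespace Groth.Agent.Helper9.SubEquiv

variable {C : Type u₁} [Category.{v₁} C] {D : Type u₂} [Category.{v₂} D]
  (J : GrothendieckTopology C) (K : GrothendieckTopology D)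
  (c : C ⥤ D) (b : D ⥤ C) (adj : c ⊣ b) [c.Full] [c.Faithful]
  [c.IsContinuous J K] [b.IsContinuous K J]
  (H : Sheaf K (Type w))
  (hsub : ∀ V, Subsingleton (H.obj.obj V))
  (hne : ∀ V : D, Nonempty (H.obj.obj (op V)) ↔ ∃ V' : C, Nonempty (c.obj V' ≅ V))

/-- restriction along `c` -/
noncomputable abbrev r : Sheaf K (Type w) ⥤ Sheaf J (Type w) :=
  c.sheafPushforwardContinuous (Type w) J K

/-- the functor of the statement -/
noncomputable abbrev Ψ : Over H ⥤ Sheaf J (Type w) := Over.forget H ⋙ r J K c

include hne in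
theorem exists_lift (A : Over H) {V : D} (s : A.left.obj.obj (op V)) :
    ∃ V' : C, Nonempty (c.obj V' ≅ V) :=
  (hne V).1 ⟨A.hom.hom.app (op V) s⟩

theorem map_iso_injective (P : Dᵒᵖ ⥤ Type w) {V W : D} (e : W ≅ V) :
    Function.Injective (P.map e.hom.op) := by
  intro x y hxy
  have := congrArg (P.map e.inv.op) hxy
  simpa [← Functor.map_comp_apply, ← op_comp] using this

include hne in
theorem faithful : (Ψ J K c H).Faithful := by
  constructor
  intro A B f g hfg
  apply Over.OverMorphism.ext
  apply Sheaf.hom_ext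
  ext ⟨V⟩ s
  obtain ⟨V', ⟨e⟩⟩ := exists_lift K c H hne A s
  have h1 : (f.left.hom.app (op (c.obj V'))) = (g.left.hom.app (op (c.obj V'))) := by
    have := congrArg (fun φ => φ.hom.app (op V')) hfg
    exact this
  have hf := NatTrans.naturality_apply f.left.hom e.hom.op s
  have hg := NatTrans.naturality_apply g.left.hom e.hom.op s
  rw [h1] at hf
  exact map_iso_injective B.left.obj e (hf.symm.trans hg)

section full

variable {H} (A B : Over H) (φ : (Ψ J K c H).obj A ⟶ (Ψ J K c H).obj B)

/-- `y` is the value at `s` of the extension of `φ` -/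
def IsExt {V : D} (s : A.left.obj.obj (op V)) (y : B.left.obj.obj (op V)) : Prop :=
  ∀ (V' : C) (u : c.obj V' ⟶ V),
    B.left.obj.map u.op y = φ.hom.app (op V') (A.left.obj.map u.op s)

variable {J K c A B}

theorem isExt_of_iso {V : D} (s : A.left.obj.obj (op V)) {V' : C} (e : c.obj V' ≅ V) :
    IsExt J K c A B φ s (B.left.obj.map e.inv.op (φ.hom.app (op V') (A.left.obj.map e.hom.op s))) := by
  intro V'' u
  obtain ⟨g, hg⟩ := c.map_surjective (u ≫ e.inv)
  have hnat := NatTrans.naturality_apply φ.hom g.op (A.left.obj.map e.hom.op s)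
  have h1 : B.left.obj.map u.op (B.left.obj.map e.inv.op
      (φ.hom.app (op V') (A.left.obj.map e.hom.op s))) =
      B.left.obj.map (c.map g).op (φ.hom.app (op V') (A.left.obj.map e.hom.op s)) := by
    rw [← Functor.map_comp_apply, ← op_comp, hg]
  have h2 : A.left.obj.map (c.map g).op (A.left.obj.map e.hom.op s) = A.left.obj.map u.op s := by
    rw [← Functor.map_comp_apply, ← op_comp, hg, Category.assoc, e.inv_hom_id, Category.comp_id]
  rw [h1]
  rw [← h2]
  exact hnat.symm

theorem isExt_unique {V : D} (s : A.left.obj.obj (op V)) {V' : C} (e : c.obj V' ≅ V)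
    {y y' : B.left.obj.obj (op V)} (hy : IsExt J K c A B φ s y) (hy' : IsExt J K c A B φ s y') :
    y = y' :=
  map_iso_injective B.left.obj e ((hy V' e.hom).trans (hy' V' e.hom).symm)

include hne in
theorem existsUnique_isExt {V : D} (s : A.left.obj.obj (op V)) :
    ∃! y, IsExt J K c A B φ s y := by
  obtain ⟨V', ⟨e⟩⟩ := exists_lift K c H hne A s
  exact ⟨_, isExt_of_iso φ s e, fun y hy => isExt_unique φ s e hy (isExt_of_iso φ s e)⟩

theorem isExt_map {V W : D} (h : W ⟶ V) (s : A.left.obj.obj (op V)) {y : B.left.obj.obj (op V)}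
    (hy : IsExt J K c A B φ s y) :
    IsExt J K c A B φ (A.left.obj.map h.op s) (B.left.obj.map h.op y) := by
  intro V' u
  have := hy V' (u ≫ h)
  rw [op_comp, Functor.map_comp_apply, Functor.map_comp_apply] at this
  exact this

theorem isExt_self {V' : C} (s : A.left.obj.obj (op (c.obj V'))) {y : B.left.obj.obj (op (c.obj V'))}
    (hy : IsExt J K c A B φ s y) : y = φ.hom.app (op V') s := by
  have := hy V' (𝟙 _)
  simpa using this

include hne hsub in
theorem full : (Ψ J K c H).Full := by
  constructor
  intro A B φ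
  let fV : ∀ V : Dᵒᵖ, A.left.obj.obj V → B.left.obj.obj V := fun V s =>
    Classical.choose (existsUnique_isExt hne φ (V := V.unop) s)
  have hfV : ∀ (V : Dᵒᵖ) (s : A.left.obj.obj V), IsExt J K c A B φ (V := V.unop) s (fV V s) :=
    fun V s => (Classical.choose_spec (existsUnique_isExt hne φ (V := V.unop) s)).1
  let f : A.left ⟶ B.left := ObjectProperty.homMk
    { app := fun V => ↾(fV V)
      naturality := by
        intro V W h
        ext s
        exact (existsUnique_isExt hne φ (V := W.unop) (A.left.obj.map h s)).unique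
          (hfV W _) (isExt_map φ h.unop s (hfV V s)) }
  refine ⟨Over.homMk f ?_, ?_⟩
  · apply Sheaf.hom_ext
    ext V s
    exact (hsub V).elim _ _
  · apply Sheaf.hom_ext
    ext ⟨V'⟩ s
    exact isExt_self φ s (hfV _ s)

end full

section ess

/-- extension along `b` (direct image) -/
noncomputable abbrev bS : Sheaf J (Type w) ⥤ Sheaf K (Type w) :=
  b.sheafPushforwardContinuous (Type w) K J

instance preservesBinaryProducts_r : PreservesLimitsOfShape (Discrete WalkingPair)
    (r J K c : Sheaf K (Type w) ⥤ Sheaf J (Type w)) := by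
  have : PreservesLimitsOfShape (Discrete WalkingPair)
      ((r J K c : Sheaf K (Type w) ⥤ Sheaf J (Type w)) ⋙ sheafToPresheaf J (Type w)) :=
    preservesLimitsOfShape_of_natIso
      (c.sheafPushforwardContinuousCompSheafToPresheafIso (Type w) J K).symm
  exact preservesLimitsOfShape_of_reflects_of_preserves
    (r J K c : Sheaf K (Type w) ⥤ Sheaf J (Type w)) (sheafToPresheaf J (Type w))

include hsub hne in
theorem isTerminal_rH : Nonempty (IsTerminal ((r J K c).obj H)) := by
  have hu : ∀ V' : Cᵒᵖ, Unique (((r J K c).obj H).obj.obj V') := fun V' =>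
    @Unique.mk' _ ⟨((hne (c.obj V'.unop)).2 ⟨V'.unop, ⟨Iso.refl _⟩⟩).some⟩ (hsub _)
  refine ⟨IsTerminal.ofUniqueHom (fun F => ObjectProperty.homMk
    { app := fun V' => ↾(fun _ => (hu V').default)
      naturality := ?_ }) ?_⟩
  · intro V' W' h
    ext s
    exact (hsub _).elim _ _
  · intro F m
    apply Sheaf.hom_ext
    ext V' s
    exact (hsub _).elim _ _

include adj in
theorem nonempty_rb_iso (G : Sheaf J (Type w)) :
    Nonempty ((r J K c).obj ((bS J K b).obj G) ≅ G) := by
  have : IsIso adj.unit := inferInstance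
  refine ⟨(fullyFaithfulSheafToPresheaf J (Type w)).preimageIso
    (NatIso.ofComponents (fun V' => G.obj.mapIso (asIso (adj.unit.app V'.unop)).op) ?_)⟩
  intro V' W' h
  have := adj.unit.naturality h.unop
  dsimp at this
  show G.obj.map (b.map (c.map h.unop)).op ≫ G.obj.map (adj.unit.app W'.unop).op =
    G.obj.map (adj.unit.app V'.unop).op ≫ G.obj.map h
  rw [← Functor.map_comp, ← Functor.map_comp, ← op_comp, ← this]
  rfl

include hsub hne adj in
theorem essSurj : (Ψ J K c H).EssSurj := by
  constructor
  intro G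
  obtain ⟨hT⟩ := isTerminal_rH J K c H hsub hne
  obtain ⟨e0⟩ := nonempty_rb_iso J K c b adj G
  let X := (bS J K b).obj G
  let A : Over H := Over.mk (prod.snd : X ⨯ H ⟶ H)
  have hiso : IsIso (prod.fst (X := (r J K c).obj X) (Y := (r J K c).obj H)) :=
    (BinaryFan.isLimit_iff_isIso_fst hT (BinaryFan.mk prod.fst prod.snd)).1 ⟨prodIsProd _ _⟩
  exact ⟨A, ⟨PreservesLimitPair.iso (r J K c) X H ≪≫ asIso prod.fst ≪≫ e0⟩⟩

include hsub hne adj in
theorem isEquivalence : (Ψ J K c H).IsEquivalence := by
  haveI := faithful J K c H hne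
  haveI := full hsub hne (J := J) (K := K) (c := c) (H := H)
  haveI := essSurj J K c b adj H hsub hne
  exact { }

end ess

end Groth.Agent.Helper9.SubEquiv
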