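import Mathlib
import Groth.Prelude.Def_EtOpen
import Groth.Agent.Lead.SubFinal
import Groth.Agent.Helper9.EtSievePt

/-! Subobjects of the final sheaf of the small étale topos are the Zariski opens. -/

set_option autoImplicit false
universe u

open CategoryTheory CategoryTheory.Limits AlgebraicGeometry Opposite

namespace Groth.Agent.Helper9.SubOpen

open Groth.Agent.Lead.SubFinal (nonempty_hom_iff subsingleton_hom)

variable {X : Scheme.{u}}

/-- the (universe lifted) representable presheaf of an open -/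
noncomputable abbrev hO (W : X.Opens) : X.Etaleᵒᵖ ⥤ Type (u + 1) :=
  yoneda.obj (EtDesc.ofOpen W) ⋙ uliftFunctor.{u + 1, u}

instance subsingleton_hO (W : X.Opens) (V : X.Etaleᵒᵖ) : Subsingleton ((hO W).obj V) := by
  constructor
  rintro ⟨a⟩ ⟨b⟩
  congr 1
  exact (subsingleton_hom X W V.unop).elim a b

theorem nonempty_hO_iff (W : X.Opens) (V : X.Etale) :
    Nonempty ((hO W).obj (op V)) ↔ Set.range V.hom ⊆ (W : Set X) := by
  rw [← nonempty_hom_iff]
  constructor
  · rintro ⟨⟨a⟩⟩
    exact ⟨a⟩
  · rintro ⟨a⟩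
    exact ⟨⟨a⟩⟩

/-- a presheaf of subsingletons is a sheaf as soon as sections exist when they exist locally -/
theorem isSheaf_of_subsingleton (P : X.Etaleᵒᵖ ⥤ Type (u + 1))
    (hsub : ∀ V, Subsingleton (P.obj V))
    (hloc : ∀ (V : X.Etale) (S : Sieve V), S ∈ X.smallEtaleTopology V →
      (∀ ⦃Y : X.Etale⦄ (k : Y ⟶ V), S k → Nonempty (P.obj (op Y))) → Nonempty (P.obj (op V))) :
    Presheaf.IsSheaf X.smallEtaleTopology P := by
  rw [isSheaf_iff_isSheaf_of_type]
  intro V S hS x hx
  obtain ⟨s⟩ := hloc V S hS (fun Y k hk => ⟨x k hk⟩)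
  refine ⟨s, ?_, ?_⟩
  · intro Y k hk
    exact (hsub _).elim _ _
  · intro t _
    exact (hsub _).elim _ _

theorem isSheaf_hO (W : X.Opens) : Presheaf.IsSheaf X.smallEtaleTopology (hO W) := by
  apply isSheaf_of_subsingleton _ (fun V => inferInstance)
  intro V S hS h
  rw [nonempty_hO_iff]
  rintro _ ⟨v, rfl⟩
  obtain ⟨Y, k, hk, y, hy⟩ := Groth.Agent.Helper9.EtSievePt.exists_of_mem V S hS v
  have h1 := (nonempty_hO_iff W Y).1 (h k hk)
  have h2 : k.left ≫ V.hom = Y.hom := MorphismProperty.Over.w k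
  rw [← hy, ← Scheme.Hom.comp_apply, h2]
  exact h1 ⟨y, rfl⟩

/-- the sheaf of an open -/
noncomputable def hSh (W : X.Opens) : EtDesc.Sh X := ⟨hO W, isSheaf_hO W⟩

/-- the sheafified representable is the representable -/
noncomputable def repIso (W : X.Opens) : EtDesc.repSh (EtDesc.ofOpen W) ≅ hSh W :=
  (sheafificationIso (hSh W)).symm

theorem mono_of_subsingleton (F : EtDesc.Sh X) (h : ∀ V, Subsingleton (F.obj.obj V)) :
    Mono (terminal.from F) := by
  constructor
  intro Z g k _
  apply Sheaf.hom_ext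
  ext V z
  exact (h V).elim _ _

theorem subsingleton_of_mono (F : EtDesc.Sh X) [Mono (terminal.from F)] (V : X.Etaleᵒᵖ) :
    Subsingleton (F.obj.obj V) := by
  constructor
  intro s t
  -- the two sections as morphisms from the representable sheaf
  let e := ((sheafificationAdjunction X.smallEtaleTopology (Type (u + 1))).homEquiv
    (yoneda.obj V.unop ⋙ uliftFunctor.{u + 1, u}) F).trans uliftYonedaEquiv
  have h : e.symm s = e.symm t := by
    rw [← cancel_mono (terminal.from F)]
    exact Subsingleton.elim _ _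
  exact e.symm.injective h

end Groth.Agent.Helper9.SubOpen
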