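import Mathlib
import Groth.Prelude.Def_EtOpen
import Groth.Prelude.Def_EtShriek2
import Groth.Agent.Helper9.SubEquivA
import Groth.Agent.Helper9.SubOpenA
import Groth.Agent.Helper9.EtShriekOpen

/-! For an open `U` of `X`: sheaves of sets on `X` over `U~` are the sheaves of sets on `U`. -/

set_option autoImplicit false
universe u

open CategoryTheory CategoryTheory.Limits AlgebraicGeometry Opposite

namespace Groth.Agent.Helper9.SubEquiv

variable (X : Scheme.{u}) (U : X.Opens)

theorem subsingleton_rep (V : X.Etaleᵒᵖ) :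
    Subsingleton ((EtDesc.repSh (EtDesc.ofOpen U)).obj.obj V) := by
  have e : (EtDesc.repSh (EtDesc.ofOpen U)).obj.obj V ≅ (SubOpen.hO U).obj V :=
    ((sheafToPresheaf _ _).mapIso (SubOpen.repIso U)).app V
  exact (e.toEquiv).subsingleton

theorem nonempty_rep_iff (V : X.Etale) :
    Nonempty ((EtDesc.repSh (EtDesc.ofOpen U)).obj.obj (op V)) ↔
      ∃ V' : U.toScheme.Etale, Nonempty ((EtShriek.compEtale U.ι).obj V' ≅ V) := by
  have e : (EtDesc.repSh (EtDesc.ofOpen U)).obj.obj (op V) ≅ (SubOpen.hO U).obj (op V) :=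
    ((sheafToPresheaf _ _).mapIso (SubOpen.repIso U)).app (op V)
  rw [(e.toEquiv).nonempty_congr]
  constructor
  · rintro ⟨⟨a⟩⟩
    have a' : V ⟶ EtDesc.ofOpen U := a
    have hw : a'.left ≫ U.ι = V.hom := MorphismProperty.Over.w a'
    let g : V ⟶ (EtShriek.compEtale U.ι).obj (EtCoh.top U.toScheme) :=
      MorphismProperty.Over.homMk a'.left (by
        show a'.left ≫ (𝟙 _ ≫ U.ι) = V.hom
        rw [Category.id_comp]; exact hw)
    exact ⟨(EtShriek.compEtaleLift U.ι g).1, ⟨(EtShriek.compEtaleLift U.ι g).2⟩⟩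
  · rintro ⟨V', ⟨e'⟩⟩
    let k : (EtShriek.compEtale U.ι).obj V' ⟶ EtDesc.ofOpen U :=
      MorphismProperty.Over.homMk V'.hom rfl
    exact ⟨⟨e'.inv ≫ k⟩⟩

/-- restriction to an open is the inverse image -/
noncomputable def pullIsoR :
    EtDesc.pullSh U.ι ≅ (EtShriek.compEtale U.ι).sheafPushforwardContinuous (Type (u + 1))
      U.toScheme.smallEtaleTopology X.smallEtaleTopology :=
  (EtDesc.adjSh U.ι).leftAdjointUniq
    ((EtShriekOpen.siteAdj U.ι).sheafPushforwardContinuous (E := Type (u + 1))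
      U.toScheme.smallEtaleTopology X.smallEtaleTopology)

theorem main :
    (Over.forget (EtDesc.repSh (EtDesc.ofOpen U)) ⋙ EtDesc.pullSh U.ι).IsEquivalence := by
  haveI := isEquivalence U.toScheme.smallEtaleTopology X.smallEtaleTopology
    (EtShriek.compEtale U.ι) (EtCoh.bc U.ι) (EtShriekOpen.siteAdj U.ι)
    (EtDesc.repSh (EtDesc.ofOpen U)) (subsingleton_rep X U) (nonempty_rep_iff X U)
  exact Functor.isEquivalence_of_iso
    (Functor.isoWhiskerLeft (Over.forget (EtDesc.repSh (EtDesc.ofOpen U))) (pullIsoR X U).symm)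

end Groth.Agent.Helper9.SubEquiv
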