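import Mathlib
import Groth.Prelude.Def_EtOpen
import Groth.Agent.Lead.SubFinal
import Groth.Agent.Helper9.EtSievePt
import Groth.Agent.Helper9.SubOpenA

set_option autoImplicit false
universe u

open CategoryTheory CategoryTheory.Limits AlgebraicGeometry Opposite

namespace Groth.Agent.Helper9.SubOpen

open Groth.Agent.Lead.SubFinal (nonempty_hom_iff subsingleton_hom)

variable {X : Scheme.{u}}

/-- the open subset attached to a presheaf -/
def WO (F : X.Etaleᵒᵖ ⥤ Type (u + 1)) : X.Opens :=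
  ⟨{s | ∃ U : X.Etale, Nonempty (F.obj (op U)) ∧ s ∈ Set.range U.hom}, by
    rw [isOpen_iff_forall_mem_open]
    rintro s ⟨U, hU, hs⟩
    exact ⟨Set.range U.hom, fun t ht => ⟨U, hU, ht⟩, U.hom.isOpenMap.isOpen_range, hs⟩⟩

theorem nonempty_sections_iff (F : EtDesc.Sh X)
    (hF : ∀ U : X.Etaleᵒᵖ, Subsingleton (F.obj.obj U)) (U : X.Etale) :
    Nonempty (F.obj.obj (op U)) ↔ Set.range U.hom ⊆ (WO F.obj : Set X) := by
  constructor
  · intro h s hs
    exact ⟨U, h, hs⟩
  · intro h
    have hsh : Presieve.IsSheaf X.smallEtaleTopology F.obj := (isSheaf_iff_isSheaf_of_type _ _).mp F.cond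
    let S : Sieve U :=
      { arrows := fun Y _ => Nonempty (F.obj.obj (op Y))
        downward_closed := by
          rintro Y Y' k ⟨s⟩ l
          exact ⟨F.obj.map l.op s⟩ }
    have hS : S ∈ X.smallEtaleTopology U := by
      apply Groth.Agent.Helper9.EtSievePt.mem_of_forall_point
      intro x
      obtain ⟨V, hV1, y, hy⟩ := h ⟨x, rfl⟩
      let Z : X.Etale := Scheme.Etale.mk (pullback.fst U.hom V.hom ≫ U.hom)
      let f : Z ⟶ U := MorphismProperty.Over.homMk (pullback.fst U.hom V.hom) rfl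
      let g : Z ⟶ V := MorphismProperty.Over.homMk (pullback.snd U.hom V.hom) pullback.condition.symm
      refine ⟨Z, f, hV1.map (fun s => F.obj.map g.op s), ?_⟩
      obtain ⟨t, ht1, -⟩ := Scheme.Pullback.exists_preimage_pullback (f := U.hom) (g := V.hom) x y hy.symm
      exact ⟨t, ht1⟩
    have hsf : Presieve.IsSheafFor F.obj S.arrows := hsh _ hS
    let fam : Presieve.FamilyOfElements F.obj S.arrows := fun Y k hk => Classical.choice hk
    have hcompat : fam.Compatible := by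
      intro Y₁ Y₂ Y₃ g₁ g₂ f₁ f₂ h₁ h₂ _
      exact (hF (op Y₃)).elim _ _
    obtain ⟨s, -⟩ := hsf fam hcompat
    exact ⟨s⟩

/-- a sheaf of subsingletons is the sheaf of an open -/
theorem nonempty_iso_hSh (F : EtDesc.Sh X) (hF : ∀ U : X.Etaleᵒᵖ, Subsingleton (F.obj.obj U)) :
    Nonempty (F ≅ hSh (WO F.obj)) := by
  have h' : ∀ U : X.Etaleᵒᵖ, Nonempty (F.obj.obj U) ↔ Nonempty ((hO (WO F.obj)).obj U) := by
    intro U
    rw [show U = op U.unop from rfl, nonempty_hO_iff, nonempty_sections_iff F hF]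
  let e : F.obj ≅ hO (WO F.obj) := NatIso.ofComponents (fun U => Equiv.toIso
      { toFun := fun s => Classical.choice ((h' U).mp ⟨s⟩)
        invFun := fun g => Classical.choice ((h' U).mpr ⟨g⟩)
        left_inv := fun s => (hF U).elim _ _
        right_inv := fun g => Subsingleton.elim _ _ }) (by
    intro U V k
    ext s
    exact Subsingleton.elim _ _)
  exact ⟨(fullyFaithfulSheafToPresheaf _ _).preimageIso e⟩

theorem le_iff (U V : X.Opens) :
    U ≤ V ↔ Nonempty (EtDesc.repSh (EtDesc.ofOpen U) ⟶ EtDesc.repSh (EtDesc.ofOpen V)) := by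
  constructor
  · intro h
    have h1 : Nonempty (EtDesc.ofOpen U ⟶ EtDesc.ofOpen V) := by
      rw [nonempty_hom_iff]
      show Set.range U.ι ⊆ _
      rw [Scheme.Opens.range_ι]
      exact h
    obtain ⟨g⟩ := h1
    exact ⟨(presheafToSheaf X.smallEtaleTopology (Type (u + 1))).map
      (Functor.whiskerRight (yoneda.map g) uliftFunctor.{u + 1, u})⟩
  · rintro ⟨φ⟩
    let ψ : hSh U ⟶ hSh V := (repIso U).inv ≫ φ ≫ (repIso V).hom
    have h1 : Nonempty ((hO V).obj (op (EtDesc.ofOpen U))) :=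
      ⟨ψ.hom.app (op (EtDesc.ofOpen U)) ⟨𝟙 _⟩⟩
    rw [nonempty_hO_iff] at h1
    intro x hx
    apply h1
    show x ∈ Set.range U.ι
    rw [Scheme.Opens.range_ι]
    exact hx

theorem main (X : Scheme.{u}) :
    (∀ U : X.Opens, Mono (terminal.from (EtDesc.repSh (EtDesc.ofOpen U)))) ∧
    (∀ U V : X.Opens, U ≤ V ↔ Nonempty (EtDesc.repSh (EtDesc.ofOpen U) ⟶ EtDesc.repSh (EtDesc.ofOpen V))) ∧
    (∀ F : EtDesc.Sh X, Mono (terminal.from F) → ∃ U : X.Opens, Nonempty (F ≅ EtDesc.repSh (EtDesc.ofOpen U))) := by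
  refine ⟨fun U => ?_, le_iff, fun F hF => ?_⟩
  · haveI : Mono (terminal.from (hSh U)) := mono_of_subsingleton _ (fun V => subsingleton_hO U V)
    have h : terminal.from (EtDesc.repSh (EtDesc.ofOpen U)) = (repIso U).hom ≫ terminal.from (hSh U) :=
      Subsingleton.elim _ _
    rw [h]
    infer_instance
  · haveI := hF
    obtain ⟨e⟩ := nonempty_iso_hSh F (fun V => subsingleton_of_mono F V)
    exact ⟨WO F.obj, ⟨e ≪≫ (repIso _).symm⟩⟩

end Groth.Agent.Helper9.SubOpen
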