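import Mathlib

/-! Localisation at a subterminal object: `j_!` is fully faithful (S14026, S14027, S14029). -/

set_option autoImplicit false
universe w v u

open CategoryTheory CategoryTheory.Limits Opposite

namespace Groth.Agent.Helper9.SubTerm

variable {C : Type u} [Category.{v} C] (J : GrothendieckTopology C) (U : C)
  (hU : ∀ V : C, Subsingleton (V ⟶ U))

include hU in
lemma full_forget : (Over.forget U).Full := by
  constructor
  intro x y f
  exact ⟨Over.homMk f ((hU _).elim _ _), rfl⟩

variable (A : Type w) [Category.{max u v} A]
  [∀ (F : (Over U)ᵒᵖ ⥤ A), (Over.forget U).op.HasPointwiseRightKanExtension F]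

include hU in
theorem isIso_counit (F : Sheaf (J.over U) A) :
    IsIso (((Over.forget U).sheafAdjunctionCocontinuous A (J.over U) J).counit.app F) := by
  haveI := full_forget U hU
  haveI : IsIso ((sheafToPresheaf (J.over U) A).map
      (((Over.forget U).sheafAdjunctionCocontinuous A (J.over U) J).counit.app F)) := by
    change IsIso (((Over.forget U).sheafAdjunctionCocontinuous A (J.over U) J).counit.app F).hom
    rw [Functor.sheafAdjunctionCocontinuous_counit_app_hom]
    haveI : (Over.forget U).op.Full := inferInstance
    haveI : (Over.forget U).op.Faithful := inferInstance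
    haveI : IsIso ((Over.forget U).op.ranAdjunction A).counit := Functor.reflective' _
    exact NatIso.isIso_app_of_isIso ((Over.forget U).op.ranAdjunction A).counit F.obj
  exact isIso_of_reflects_iso _ (sheafToPresheaf (J.over U) A)

include hU in
theorem isIso_unit [((Over.forget U).sheafPushforwardContinuous A (J.over U) J).IsRightAdjoint]
    (adj₁ : (Over.forget U).sheafPullback A (J.over U) J ⊣
      (Over.forget U).sheafPushforwardContinuous A (J.over U) J)
    (F : Sheaf (J.over U) A) : IsIso (adj₁.unit.app F) := by
  let t : Adjunction.Triple _ _ _ :=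
    { adj₁ := adj₁, adj₂ := (Over.forget U).sheafAdjunctionCocontinuous A (J.over U) J }
  haveI : IsIso t.adj₂.counit := by
    haveI : ∀ F, IsIso (t.adj₂.counit.app F) := fun F => isIso_counit J U hU A F
    exact NatIso.isIso_of_isIso_app _
  haveI : IsIso t.adj₁.unit := t.isIso_unit_iff_isIso_counit.2 inferInstance
  infer_instance

end Groth.Agent.Helper9.SubTerm
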