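import Mathlib
import Groth.Prelude.Def_SymTen
import Groth.Agent.Helper9.Polarization

/-! Symmetric tensors are spanned by pure powers when `n!` is invertible; linearised norm. -/

set_option autoImplicit false
universe u

namespace Groth.Agent.Helper9.SymNorm

open SymTen PiTensorProduct
open scoped TensorProduct

variable (A : Type u) [CommRing A] (R : Type u) [CommRing R] [Algebra A R] (n : ℕ)

/-- the span of pure powers inside the full tensor power -/
noncomputable def pureSpan : Submodule A (⨂[A] _ : Fin n, R) :=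
  Submodule.span A (Set.range fun r : R => PiTensorProduct.tprod A (fun _ : Fin n => r))

/-- symmetrisation operator -/
noncomputable def symm : (⨂[A] _ : Fin n, R) →ₗ[A] (⨂[A] _ : Fin n, R) :=
  ∑ σ : Equiv.Perm (Fin n), (PiTensorProduct.reindex A (fun _ : Fin n => R) σ).toLinearMap

lemma symm_mem (t : ⨂[A] _ : Fin n, R) : symm A R n t ∈ pureSpan A R n := by
  classical
  induction t using PiTensorProduct.induction_on with
  | smul_tprod r f =>
    rw [map_smul]
    refine Submodule.smul_mem _ _ ?_
    have h1 : symm A R n (PiTensorProduct.tprod A f) =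
        ∑ σ : Equiv.Perm (Fin n), PiTensorProduct.tprod A (fun i => f (σ i)) := by
      unfold symm
      rw [LinearMap.sum_apply]
      refine Fintype.sum_equiv (Equiv.inv _) _ _ fun σ => ?_
      simp only [LinearEquiv.coe_coe, PiTensorProduct.reindex_tprod]
      rfl
    rw [h1, Polarization.polarization n (PiTensorProduct.tprod A) f]
    refine Submodule.sum_mem _ fun S _ => ?_
    refine Submodule.smul_of_tower_mem _ _ ?_
    exact Submodule.subset_span ⟨_, rfl⟩
  | add x y hx hy =>
    rw [map_add]
    exact Submodule.add_mem _ hx hy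

lemma symm_of_mem (t : ⨂[A] _ : Fin n, R) (ht : t ∈ TS A R n) :
    symm A R n t = ((Nat.factorial n : ℕ) : A) • t := by
  unfold symm
  rw [LinearMap.sum_apply]
  have : ∀ σ : Equiv.Perm (Fin n),
      (PiTensorProduct.reindex A (fun _ : Fin n => R) σ).toLinearMap t = t := fun σ => ht σ
  rw [Finset.sum_congr rfl fun σ _ => this σ, Finset.sum_const, Finset.card_univ,
    Fintype.card_perm, Fintype.card_fin, Nat.cast_smul_eq_nsmul]

lemma mem_pureSpan (hfact : IsUnit ((Nat.factorial n : ℕ) : A)) (t : ⨂[A] _ : Fin n, R)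
    (ht : t ∈ TS A R n) : t ∈ pureSpan A R n := by
  obtain ⟨u, hu⟩ := hfact
  have h1 := symm_mem A R n t
  rw [symm_of_mem A R n t ht, ← hu] at h1
  have h2 := Submodule.smul_mem _ (↑u⁻¹ : A) h1
  rwa [smul_smul, Units.inv_mul, one_smul] at h2

lemma span_tpow (hfact : IsUnit ((Nat.factorial n : ℕ) : A)) :
    Submodule.span A (Set.range (tpow A R n)) = ⊤ := by
  rw [eq_top_iff]
  rintro x -
  have hx := mem_pureSpan A R n hfact x.1 x.2
  have hmap : pureSpan A R n =
      Submodule.map (TS A R n).val.toLinearMap (Submodule.span A (Set.range (tpow A R n))) := by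
    rw [Submodule.map_span, ← Set.range_comp]
    rfl
  rw [hmap] at hx
  obtain ⟨y, hy, hyx⟩ := hx
  have : y = x := Subtype.ext hyx
  rwa [← this]

section norm

/-- the multilinear "determinant of multiplication" -/
noncomputable def Dmul (e : Module.Basis (Fin n) A R) : MultilinearMap A (fun _ : Fin n => R) A :=
  (e.det).toMultilinearMap.compLinearMap (fun j => LinearMap.mulRight A (e j))

lemma Dmul_diag (e : Module.Basis (Fin n) A R) (r : R) :
    Dmul A R n e (fun _ => r) = Algebra.norm A r := by
  unfold Dmul
  rw [MultilinearMap.compLinearMap_apply]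
  have : (fun j => (LinearMap.mulRight A (e j)) r) = (Algebra.lmul A R r) ∘ e := by
    ext j; simp
  rw [AlternatingMap.coe_multilinearMap, this, Module.Basis.det_comp, Module.Basis.det_self, mul_one,
    Algebra.norm_apply]

/-- the linearised norm as linear map on the full tensor power -/
noncomputable def psi (e : Module.Basis (Fin n) A R) : (⨂[A] _ : Fin n, R) →ₗ[A] A :=
  PiTensorProduct.lift (Dmul A R n e)

lemma psi_tprod_diag (e : Module.Basis (Fin n) A R) (r : R) :
    psi A R n e (PiTensorProduct.tprod A (fun _ => r)) = Algebra.norm A r := by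
  unfold psi
  rw [PiTensorProduct.lift.tprod, Dmul_diag]

lemma psi_mul (e : Module.Basis (Fin n) A R) (x y : ⨂[A] _ : Fin n, R)
    (hx : x ∈ pureSpan A R n) (hy : y ∈ pureSpan A R n) :
    psi A R n e (x * y) = psi A R n e x * psi A R n e y := by
  unfold pureSpan at hx hy
  induction hx using Submodule.span_induction with
  | mem x hx =>
    obtain ⟨r, rfl⟩ := hx
    induction hy using Submodule.span_induction with
    | mem y hy =>
      obtain ⟨s, rfl⟩ := hy
      simp only [PiTensorProduct.tprod_mul_tprod]
      have : (fun _ : Fin n => r) * (fun _ : Fin n => s) = fun _ => r * s := rfl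
      rw [this, psi_tprod_diag, psi_tprod_diag, psi_tprod_diag, map_mul]
    | zero => simp
    | add y z _ _ hy hz => rw [mul_add, map_add, map_add, hy, hz, mul_add]
    | smul a y _ hy => rw [mul_smul_comm, map_smul, map_smul, hy, smul_eq_mul, smul_eq_mul]; ring
  | zero => simp
  | add x z _ _ hx hz => rw [add_mul, map_add, map_add, hx, hz, add_mul]
  | smul a x _ hx => rw [smul_mul_assoc, map_smul, map_smul, hx, smul_eq_mul, smul_eq_mul]; ring

theorem main [Module.Free A R] [Module.Finite A R] (hn : Module.finrank A R = n) (hfact : IsUnit ((Nat.factorial n : ℕ) : A)) :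
    ∃! φ : SymTen.TS A R n →ₐ[A] A, ∀ r : R, φ (SymTen.tpow A R n r) = Algebra.norm A r := by
  have huniq : ∀ φ φ' : SymTen.TS A R n →ₐ[A] A,
      (∀ r : R, φ (SymTen.tpow A R n r) = Algebra.norm A r) →
      (∀ r : R, φ' (SymTen.tpow A R n r) = Algebra.norm A r) → φ = φ' := by
    intro φ φ' h h'
    have : φ.toLinearMap = φ'.toLinearMap := by
      refine LinearMap.ext_on (span_tpow A R n hfact) ?_
      rintro _ ⟨r, rfl⟩
      simp [h, h']
    ext x
    exact LinearMap.congr_fun this x
  rcases subsingleton_or_nontrivial A with hA | hA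
  · refine ⟨AlgHom.ofLinearMap 0 (Subsingleton.elim _ _) (fun _ _ => Subsingleton.elim _ _),
      fun r => Subsingleton.elim _ _, fun φ' _ => ?_⟩
    ext x
    exact Subsingleton.elim _ _
  · let e : Module.Basis (Fin n) A R := Module.finBasisOfFinrankEq A R hn
    let φ₀ : SymTen.TS A R n →ₗ[A] A := (psi A R n e) ∘ₗ (TS A R n).val.toLinearMap
    have h1 : φ₀ 1 = 1 := by
      have : (1 : TS A R n) = tpow A R n 1 := (map_one _).symm
      rw [this]
      show psi A R n e (PiTensorProduct.tprod A (fun _ => (1 : R))) = 1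
      rw [psi_tprod_diag, map_one]
    have hmul : ∀ x y, φ₀ (x * y) = φ₀ x * φ₀ y := by
      intro x y
      exact psi_mul A R n e x.1 y.1 (mem_pureSpan A R n hfact x.1 x.2)
        (mem_pureSpan A R n hfact y.1 y.2)
    have hφ : ∀ r : R, (AlgHom.ofLinearMap φ₀ h1 hmul) (SymTen.tpow A R n r) = Algebra.norm A r := by
      intro r
      show psi A R n e (PiTensorProduct.tprod A (fun _ => r)) = _
      rw [psi_tprod_diag]
    exact ⟨AlgHom.ofLinearMap φ₀ h1 hmul, hφ, fun φ' h' => huniq _ _ h' hφ⟩

end norm

end Groth.Agent.Helper9.SymNorm
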