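import Mathlib

set_option autoImplicit false

namespace Groth.Agent.Helper9.SymSqF2

open TensorProduct

variable {V : Type*} [AddCommGroup V] [Module (ZMod 2) V]

/-- span of the squares `v ⊗ v` -/
def Na (V : Type*) [AddCommGroup V] [Module (ZMod 2) V] : Submodule (ZMod 2) (V ⊗[ZMod 2] V) :=
  Submodule.span (ZMod 2) (Set.range fun v : V => v ⊗ₜ[ZMod 2] v)

/-- span of the symmetrized tensors `x ⊗ y + y ⊗ x` -/
def Ns (V : Type*) [AddCommGroup V] [Module (ZMod 2) V] : Submodule (ZMod 2) (V ⊗[ZMod 2] V) :=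
  Submodule.span (ZMod 2) (Set.range fun p : V × V => p.1 ⊗ₜ[ZMod 2] p.2 + p.2 ⊗ₜ[ZMod 2] p.1)

theorem Ns_le_Na : Ns V ≤ Na V := by
  refine Submodule.span_le.mpr ?_
  rintro _ ⟨⟨x, y⟩, rfl⟩
  show x ⊗ₜ[ZMod 2] y + y ⊗ₜ[ZMod 2] x ∈ Na V
  have : x ⊗ₜ[ZMod 2] y + y ⊗ₜ[ZMod 2] x =
      (x + y) ⊗ₜ[ZMod 2] (x + y) - x ⊗ₜ[ZMod 2] x - y ⊗ₜ[ZMod 2] y := by
    rw [add_tmul, tmul_add, tmul_add]; abel
  rw [this]
  exact Submodule.sub_mem _ (Submodule.sub_mem _ (Submodule.subset_span ⟨x + y, rfl⟩)
    (Submodule.subset_span ⟨x, rfl⟩)) (Submodule.subset_span ⟨y, rfl⟩)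

theorem add_comm_mem_Ns (u : V ⊗[ZMod 2] V) :
    u + (TensorProduct.comm (ZMod 2) V V) u ∈ Ns V := by
  induction u using TensorProduct.induction_on with
  | zero => simp
  | tmul x y =>
    rw [TensorProduct.comm_tmul]
    exact Submodule.subset_span ⟨(x, y), rfl⟩
  | add u v hu hv =>
    have : u + v + (TensorProduct.comm (ZMod 2) V V) (u + v) =
        (u + (TensorProduct.comm (ZMod 2) V V) u) + (v + (TensorProduct.comm (ZMod 2) V V) v) := by
      rw [map_add]; abel
    rw [this]
    exact Submodule.add_mem _ hu hv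

variable {ι : Type*} (b : Module.Basis ι (ZMod 2) V)

/-- span of the off-diagonal basis tensors -/
def Woff : Submodule (ZMod 2) (V ⊗[ZMod 2] V) :=
  Submodule.span (ZMod 2) ((b.tensorProduct b) '' {p : ι × ι | p.1 ≠ p.2})

theorem mem_Woff_iff (t : V ⊗[ZMod 2] V) :
    t ∈ Woff b ↔ ∀ i, (b.tensorProduct b).repr t (i, i) = 0 := by
  unfold Woff
  rw [Module.Basis.mem_span_image]
  constructor
  · intro h i
    by_contra hne
    have : (i, i) ∈ ((b.tensorProduct b).repr t).support := Finsupp.mem_support_iff.mpr hne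
    exact (h this) rfl
  · intro h p hp
    rcases p with ⟨i, j⟩
    intro hij
    have hij' : i = j := hij
    subst hij'
    exact (Finsupp.mem_support_iff.mp hp) (h i)

theorem Woff_sup_Na : Woff b ⊔ Na V = ⊤ := by
  rw [eq_top_iff, ← (b.tensorProduct b).span_eq]
  refine Submodule.span_le.mpr ?_
  rintro _ ⟨⟨i, j⟩, rfl⟩
  by_cases h : i = j
  · subst h
    rw [Module.Basis.tensorProduct_apply]
    exact Submodule.mem_sup_right (Submodule.subset_span ⟨b i, rfl⟩)
  · exact Submodule.mem_sup_left (Submodule.subset_span ⟨(i, j), h, rfl⟩)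

theorem sym_of_mem_Na (t : V ⊗[ZMod 2] V) (ht : t ∈ Na V) (i j : ι) :
    (b.tensorProduct b).repr t (i, j) = (b.tensorProduct b).repr t (j, i) := by
  unfold Na at ht
  induction ht using Submodule.span_induction with
  | mem x hx =>
    obtain ⟨v, rfl⟩ := hx
    simp only [Module.Basis.tensorProduct_repr_tmul_apply, smul_eq_mul]
    ring
  | zero => simp
  | add x y _ _ hx hy => simp only [map_add, Finsupp.add_apply, hx, hy]
  | smul c x _ hx => simp only [map_smul, Finsupp.smul_apply, hx]

theorem Ns_le_Woff : Ns V ≤ Woff b := by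
  refine Submodule.span_le.mpr ?_
  rintro _ ⟨⟨x, y⟩, rfl⟩
  show x ⊗ₜ[ZMod 2] y + y ⊗ₜ[ZMod 2] x ∈ Woff b
  rw [mem_Woff_iff]
  intro i
  simp only [map_add, Finsupp.add_apply, Module.Basis.tensorProduct_repr_tmul_apply, smul_eq_mul]
  rw [mul_comm (b.repr x i)]
  exact CharTwo.add_self_eq_zero _

theorem Woff_inf_Na : Woff b ⊓ Na V = Ns V := by
  classical
  apply le_antisymm
  · rintro t ⟨htW, htN⟩
    have htW' := (mem_Woff_iff b t).mp htW
    have hsym := sym_of_mem_Na b t htN
    letI : LinearOrder ι := IsWellOrder.linearOrder WellOrderingRel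
    obtain ⟨f, hf⟩ : ∃ f, f = (b.tensorProduct b).repr t := ⟨_, rfl⟩
    obtain ⟨fP, hfP⟩ : ∃ fP, fP = f.filter (fun p : ι × ι => p.1 < p.2) := ⟨_, rfl⟩
    have hsplit : f = fP + Finsupp.mapDomain Prod.swap fP := by
      have h1 := Finsupp.filter_add_filter_not f (fun p : ι × ι => p.1 < p.2)
      have h2 : f.filter (fun p : ι × ι => ¬ p.1 < p.2) = Finsupp.mapDomain Prod.swap fP := by
        ext ⟨i, j⟩
        have h3 : Finsupp.mapDomain Prod.swap fP (i, j) = fP (j, i) :=
          Finsupp.mapDomain_apply Prod.swap_injective fP (j, i)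
        rw [h3, hfP, Finsupp.filter_apply, Finsupp.filter_apply]
        show (if ¬ i < j then f (i, j) else 0) = if j < i then f (j, i) else 0
        rcases lt_trichotomy i j with h | h | h
        · rw [if_neg (not_not.mpr h), if_neg (not_lt.mpr h.le)]
        · subst h
          rw [if_pos (lt_irrefl i), if_neg (lt_irrefl i), hf]
          exact htW' i
        · rw [if_pos (not_lt.mpr h.le), if_pos h, hf]
          exact hsym i j
      rw [← h2, hfP]
      exact h1.symm
    have ht : t = Finsupp.linearCombination (ZMod 2) (b.tensorProduct b) f := by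
      rw [hf, Module.Basis.linearCombination_repr]
    have hswap : (TensorProduct.comm (ZMod 2) V V) ∘ (b.tensorProduct b) =
        (b.tensorProduct b) ∘ Prod.swap := by
      funext ⟨i, j⟩
      simp only [Function.comp_apply, Prod.swap_prod_mk, Module.Basis.tensorProduct_apply]
      exact TensorProduct.comm_tmul _ _ _ _ _
    have : t = Finsupp.linearCombination (ZMod 2) (b.tensorProduct b) fP +
        (TensorProduct.comm (ZMod 2) V V)
          (Finsupp.linearCombination (ZMod 2) (b.tensorProduct b) fP) := by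
      rw [ht]
      conv_lhs => rw [hsplit]
      rw [map_add, Finsupp.linearCombination_mapDomain]
      congr 1
      have := Finsupp.apply_linearCombination (R := ZMod 2)
        (TensorProduct.comm (ZMod 2) V V).toLinearMap (b.tensorProduct b) fP
      rw [← hswap]
      exact this.symm
    rw [this]
    exact add_comm_mem_Ns _
  · exact le_inf (Ns_le_Woff b) Ns_le_Na

end Groth.Agent.Helper9.SymSqF2
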