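import Mathlib
import Groth.Agent.Helper9.SymSqF2

set_option autoImplicit false

namespace Groth.Agent.Helper9.SymSqDim2

open TensorProduct Groth.Agent.Helper9.SymSqF2

variable {V : Type*} [AddCommGroup V] [Module (ZMod 2) V]

/-- `φ ⊗ φ` as a functional on `V ⊗ V`. -/
noncomputable def ff (φ : V →ₗ[ZMod 2] ZMod 2) : V ⊗[ZMod 2] V →ₗ[ZMod 2] ZMod 2 :=
  LinearMap.mul' (ZMod 2) (ZMod 2) ∘ₗ TensorProduct.map φ φ

@[simp] theorem ff_tmul (φ : V →ₗ[ZMod 2] ZMod 2) (x y : V) :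
    ff φ (x ⊗ₜ[ZMod 2] y) = φ x * φ y := by
  simp [ff]

/-- tensors on which all `φ ⊗ φ`, `φ ≠ 0`, agree. -/
def W (V : Type*) [AddCommGroup V] [Module (ZMod 2) V] : Submodule (ZMod 2) (V ⊗[ZMod 2] V) where
  carrier := {t | ∀ φ ψ : V →ₗ[ZMod 2] ZMod 2, φ ≠ 0 → ψ ≠ 0 → ff φ t = ff ψ t}
  add_mem' := by
    intro a b ha hb φ ψ hφ hψ
    rw [map_add, map_add, ha φ ψ hφ hψ, hb φ ψ hφ hψ]
  zero_mem' := by
    intro φ ψ _ _
    simp
  smul_mem' := by
    intro c a ha φ ψ hφ hψ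
    rw [map_smul, map_smul, ha φ ψ hφ hψ]

theorem mem_W (t : V ⊗[ZMod 2] V) :
    t ∈ W V ↔ ∀ φ ψ : V →ₗ[ZMod 2] ZMod 2, φ ≠ 0 → ψ ≠ 0 → ff φ t = ff ψ t := Iff.rfl

theorem ff_map (φ : V →ₗ[ZMod 2] ZMod 2) (g : V →ₗ[ZMod 2] V) (t : V ⊗[ZMod 2] V) :
    ff φ (TensorProduct.map g g t) = ff (φ ∘ₗ g) t := by
  induction t using TensorProduct.induction_on with
  | zero => simp
  | tmul x y => simp
  | add u v hu hv => rw [map_add, map_add, map_add, hu, hv]

theorem map_mem_W (g : V →ₗ[ZMod 2] V) (hg : Function.Surjective g) (t : V ⊗[ZMod 2] V)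
    (ht : t ∈ W V) : TensorProduct.map g g t ∈ W V := by
  intro φ ψ hφ hψ
  rw [ff_map, ff_map]
  apply ht
  · intro h
    apply hφ
    ext v
    obtain ⟨w, rfl⟩ := hg v
    exact LinearMap.congr_fun h w
  · intro h
    apply hψ
    ext v
    obtain ⟨w, rfl⟩ := hg v
    exact LinearMap.congr_fun h w

theorem Ns_le_W : Ns V ≤ W V := by
  refine Submodule.span_le.mpr ?_
  rintro _ ⟨⟨x, y⟩, rfl⟩
  intro φ ψ _ _
  simp only [map_add, ff_tmul]
  rw [mul_comm (φ y), mul_comm (ψ y), CharTwo.add_self_eq_zero, CharTwo.add_self_eq_zero]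

variable (b : Module.Basis (Fin 2) (ZMod 2) V)

theorem ff_eq_sum (φ : V →ₗ[ZMod 2] ZMod 2) (t : V ⊗[ZMod 2] V) :
    ff φ t = ∑ i : Fin 2, ∑ j : Fin 2, (b.tensorProduct b).repr t (i, j) * (φ (b i) * φ (b j)) := by
  conv_lhs => rw [← (b.tensorProduct b).sum_repr t]
  rw [map_sum, Fintype.sum_prod_type]
  refine Finset.sum_congr rfl fun i _ => Finset.sum_congr rfl fun j _ => ?_
  rw [map_smul, Module.Basis.tensorProduct_apply, ff_tmul, smul_eq_mul]

theorem coords_of_mem_W (t : V ⊗[ZMod 2] V) (ht : t ∈ W V) :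
    (b.tensorProduct b).repr t (0, 0) = (b.tensorProduct b).repr t (1, 1) ∧
    (b.tensorProduct b).repr t (0, 0) =
      (b.tensorProduct b).repr t (0, 0) + (b.tensorProduct b).repr t (0, 1) +
      (b.tensorProduct b).repr t (1, 0) + (b.tensorProduct b).repr t (1, 1) := by
  have h0 : b.coord 0 ≠ 0 := fun h => by
    have := LinearMap.congr_fun h (b 0)
    simp at this
  have h1 : b.coord 1 ≠ 0 := fun h => by
    have := LinearMap.congr_fun h (b 1)
    simp at this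
  have h01 : b.coord 0 + b.coord 1 ≠ 0 := fun h => by
    have := LinearMap.congr_fun h (b 0)
    simp at this
  constructor
  · have := ht _ _ h0 h1
    rw [ff_eq_sum b, ff_eq_sum b] at this
    simpa [Fin.sum_univ_two, Module.Basis.coord_apply] using this
  · have := ht _ _ h0 h01
    rw [ff_eq_sum b, ff_eq_sum b] at this
    simp [Fin.sum_univ_two, Module.Basis.coord_apply] at this
    exact this.trans (by ring)

include b in
theorem W_inf_Na : W V ⊓ Na V = Ns V := by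
  apply le_antisymm
  · rintro t ⟨htW, htN⟩
    obtain ⟨h1, h2⟩ := coords_of_mem_W b t htW
    have hs := sym_of_mem_Na b t htN 0 1
    rw [← Woff_inf_Na b]
    refine ⟨?_, htN⟩
    show t ∈ Woff b
    rw [mem_Woff_iff]
    have h11 : (b.tensorProduct b).repr t (1, 1) = 0 := by
      rw [hs] at h2
      have : (b.tensorProduct b).repr t (1, 0) + (b.tensorProduct b).repr t (1, 0) = 0 :=
        CharTwo.add_self_eq_zero _
      linear_combination (-1 : ZMod 2) * h2 - this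
    intro i
    fin_cases i
    · exact h1.trans h11
    · exact h11
  · exact le_inf Ns_le_W Ns_le_Na

theorem q_mem_W (i j : Fin 2) (hij : i ≠ j) :
    b i ⊗ₜ[ZMod 2] b i + b i ⊗ₜ[ZMod 2] b j + b j ⊗ₜ[ZMod 2] b j ∈ W V := by
  have key : ∀ φ : V →ₗ[ZMod 2] ZMod 2, φ ≠ 0 →
      ff φ (b i ⊗ₜ[ZMod 2] b i + b i ⊗ₜ[ZMod 2] b j + b j ⊗ₜ[ZMod 2] b j) = 1 := by
    intro φ hφ
    simp only [map_add, ff_tmul]
    have hne : ¬ (φ (b i) = 0 ∧ φ (b j) = 0) := by
      rintro ⟨hi, hj⟩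
      apply hφ
      apply b.ext
      intro l
      have : l = i ∨ l = j := by
        fin_cases i <;> fin_cases j <;> fin_cases l <;> simp_all
      rcases this with rfl | rfl
      · simpa using hi
      · simpa using hj
    generalize φ (b i) = x at hne ⊢
    generalize φ (b j) = y at hne ⊢
    revert x y
    decide
  intro φ ψ hφ hψ
  rw [key φ hφ, key ψ hψ]

include b in
theorem W_sup_Na : W V ⊔ Na V = ⊤ := by
  rw [eq_top_iff, ← Woff_sup_Na b]
  refine sup_le ?_ le_sup_right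
  refine Submodule.span_le.mpr ?_
  rintro _ ⟨⟨i, j⟩, hij, rfl⟩
  have hij' : i ≠ j := hij
  rw [Module.Basis.tensorProduct_apply]
  have : b i ⊗ₜ[ZMod 2] b j =
      (b i ⊗ₜ[ZMod 2] b i + b i ⊗ₜ[ZMod 2] b j + b j ⊗ₜ[ZMod 2] b j) -
      (b i ⊗ₜ[ZMod 2] b i + b j ⊗ₜ[ZMod 2] b j) := by abel
  rw [this]
  refine Submodule.sub_mem _ (Submodule.mem_sup_left (q_mem_W b i j hij')) (Submodule.mem_sup_right ?_)
  exact Submodule.add_mem _ (Submodule.subset_span ⟨b i, rfl⟩) (Submodule.subset_span ⟨b j, rfl⟩)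

end Groth.Agent.Helper9.SymSqDim2
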