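import Mathlib
import Groth.Agent.Helper9.SymSqDim2

set_option autoImplicit false

namespace Groth.Agent.Helper9.SymSqDim3

open TensorProduct Groth.Agent.Helper9.SymSqF2 Groth.Agent.Helper9.SymSqDim2

variable {V : Type*} [AddCommGroup V] [Module (ZMod 2) V]

theorem ff_eq_sum' {ι : Type*} [Fintype ι] (b : Module.Basis ι (ZMod 2) V)
    (φ : V →ₗ[ZMod 2] ZMod 2) (t : V ⊗[ZMod 2] V) :
    ff φ t = ∑ i : ι, ∑ j : ι, (b.tensorProduct b).repr t (i, j) * (φ (b i) * φ (b j)) := by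
  classical
  conv_lhs => rw [← (b.tensorProduct b).sum_repr t]
  rw [map_sum, Fintype.sum_prod_type]
  refine Finset.sum_congr rfl fun i _ => Finset.sum_congr rfl fun j _ => ?_
  rw [map_smul, Module.Basis.tensorProduct_apply, ff_tmul, smul_eq_mul]

theorem ff_add_of_mem_Na (n : V ⊗[ZMod 2] V) (hn : n ∈ Na V) (φ ψ : V →ₗ[ZMod 2] ZMod 2) :
    ff (φ + ψ) n = ff φ n + ff ψ n := by
  unfold Na at hn
  induction hn using Submodule.span_induction with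
  | mem x hx =>
    obtain ⟨v, rfl⟩ := hx
    simp only [ff_tmul, LinearMap.add_apply]
    generalize φ v = a
    generalize ψ v = c
    revert a c
    decide
  | zero => simp
  | add x y _ _ hx hy => simp only [map_add, hx, hy]; abel
  | smul c x _ hx => simp only [map_smul, hx, smul_add]

/-- the alternating form in coordinates -/
def Bf (p q r x0 x1 x2 y0 y1 y2 : ZMod 2) : ZMod 2 :=
  p * (x0 * y1 + x1 * y0) + q * (x0 * y2 + x2 * y0) + r * (x1 * y2 + x2 * y1)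

/-- indicator of the complement of the radical -/
def ind (p q r x0 x1 x2 : ZMod 2) : ZMod 2 :=
  if (∀ z0 z1 z2 : ZMod 2, Bf p q r x0 x1 x2 z0 z1 z2 = 0) then 0 else 1

theorem ind_eq_zero_iff (p q r x0 x1 x2 : ZMod 2) :
    ind p q r x0 x1 x2 = 0 ↔ ∀ z0 z1 z2 : ZMod 2, Bf p q r x0 x1 x2 z0 z1 z2 = 0 := by
  unfold ind
  split_ifs with h
  · simp [h]
  · simp [h]

set_option maxRecDepth 100000 in
theorem ind_add : ∀ p q r x0 x1 x2 y0 y1 y2 : ZMod 2,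
    ind p q r (x0 + y0) (x1 + y1) (x2 + y2) + ind p q r x0 x1 x2 + ind p q r y0 y1 y2 =
      Bf p q r x0 x1 x2 y0 y1 y2 := by
  unfold ind Bf
  decide

theorem eq_of_zero_iff : ∀ a c : ZMod 2, (a = 0 ↔ c = 0) → a = c := by decide

/-- the quadratic function in coordinates -/
def F (c : Fin 3 → Fin 3 → ZMod 2) (x : Fin 3 → ZMod 2) : ZMod 2 :=
  ∑ i : Fin 3, ∑ j : Fin 3, c i j * (x i * x j)

theorem F_polar (c : Fin 3 → Fin 3 → ZMod 2) (x y : Fin 3 → ZMod 2) :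
    F c (x + y) + F c x + F c y =
      Bf (c 0 1 + c 1 0) (c 0 2 + c 2 0) (c 1 2 + c 2 1) (x 0) (x 1) (x 2) (y 0) (y 1) (y 2) := by
  have h2 : (2 : ZMod 2) = 0 := by decide
  unfold F Bf
  simp only [Fin.sum_univ_three, Pi.add_apply]
  linear_combination (c 0 0 * (x 0 * x 0) + c 0 1 * (x 0 * x 1) + c 0 2 * (x 0 * x 2) +
    c 1 0 * (x 1 * x 0) + c 1 1 * (x 1 * x 1) + c 1 2 * (x 1 * x 2) +
    c 2 0 * (x 2 * x 0) + c 2 1 * (x 2 * x 1) + c 2 2 * (x 2 * x 2) +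
    (c 0 0 * (y 0 * y 0) + c 0 1 * (y 0 * y 1) + c 0 2 * (y 0 * y 2) +
    c 1 0 * (y 1 * y 0) + c 1 1 * (y 1 * y 1) + c 1 2 * (y 1 * y 2) +
    c 2 0 * (y 2 * y 0) + c 2 1 * (y 2 * y 1) + c 2 2 * (y 2 * y 2)) +
    (c 0 0 * (x 0 * y 0) + c 1 1 * (x 1 * y 1) + c 2 2 * (x 2 * y 2))) * h2

variable (b : Module.Basis (Fin 3) (ZMod 2) V)

theorem ff_eq_F (φ : V →ₗ[ZMod 2] ZMod 2) (t : V ⊗[ZMod 2] V) :
    ff φ t = F (fun i j => (b.tensorProduct b).repr t (i, j)) (fun i => φ (b i)) :=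
  ff_eq_sum' b φ t

include b in
/-- a tensor killed by all `φ ⊗ φ` lies in `Ns` (dimension 3). -/
theorem mem_Ns_of_ff_eq_zero (t : V ⊗[ZMod 2] V) (h : ∀ φ : V →ₗ[ZMod 2] ZMod 2, ff φ t = 0) :
    t ∈ Ns V := by
  classical
  set c : Fin 3 → Fin 3 → ZMod 2 := fun i j => (b.tensorProduct b).repr t (i, j) with hc
  have hdiag : ∀ i, c i i = 0 := by
    intro i
    have := h (b.coord i)
    rw [ff_eq_F b] at this
    unfold F at this
    fin_cases i <;> simpa [Fin.sum_univ_three, Module.Basis.coord_apply] using this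
  have hsym : ∀ i j, i < j → c i j + c j i = 0 := by
    intro i j hij
    have := h (b.coord i + b.coord j)
    rw [ff_eq_F b] at this
    unfold F at this
    have h0 := hdiag 0
    have h1 := hdiag 1
    have h2 := hdiag 2
    fin_cases i <;> fin_cases j <;>
      simp_all [Fin.sum_univ_three, Module.Basis.coord_apply, Finsupp.single_apply]
  have hexp : t = ∑ i : Fin 3, ∑ j : Fin 3, c i j • (b i ⊗ₜ[ZMod 2] b j) := by
    conv_lhs => rw [← (b.tensorProduct b).sum_repr t]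
    rw [Fintype.sum_prod_type]
    refine Finset.sum_congr rfl fun i _ => Finset.sum_congr rfl fun j _ => ?_
    rw [Module.Basis.tensorProduct_apply]
  have e10 : c 1 0 = c 0 1 := by
    have := hsym 0 1 (by decide)
    have h' : c 0 1 + c 0 1 = 0 := CharTwo.add_self_eq_zero _
    linear_combination this - h'
  have e20 : c 2 0 = c 0 2 := by
    have := hsym 0 2 (by decide)
    have h' : c 0 2 + c 0 2 = 0 := CharTwo.add_self_eq_zero _
    linear_combination this - h'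
  have e21 : c 2 1 = c 1 2 := by
    have := hsym 1 2 (by decide)
    have h' : c 1 2 + c 1 2 = 0 := CharTwo.add_self_eq_zero _
    linear_combination this - h'
  rw [hexp]
  simp only [Fin.sum_univ_three, hdiag, zero_smul, e10, e20, e21, zero_add, add_zero]
  have key : c 0 1 • (b 0 ⊗ₜ[ZMod 2] b 1) + c 0 2 • (b 0 ⊗ₜ[ZMod 2] b 2) +
      (c 0 1 • (b 1 ⊗ₜ[ZMod 2] b 0) + c 1 2 • (b 1 ⊗ₜ[ZMod 2] b 2)) +
      (c 0 2 • (b 2 ⊗ₜ[ZMod 2] b 0) + c 1 2 • (b 2 ⊗ₜ[ZMod 2] b 1)) =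
      c 0 1 • (b 0 ⊗ₜ[ZMod 2] b 1 + b 1 ⊗ₜ[ZMod 2] b 0) +
      c 0 2 • (b 0 ⊗ₜ[ZMod 2] b 2 + b 2 ⊗ₜ[ZMod 2] b 0) +
      c 1 2 • (b 1 ⊗ₜ[ZMod 2] b 2 + b 2 ⊗ₜ[ZMod 2] b 1) := by
    simp only [smul_add]; abel
  rw [key]
  refine Submodule.add_mem _ (Submodule.add_mem _ ?_ ?_) ?_
  · exact Submodule.smul_mem _ _ (Submodule.subset_span ⟨(b 0, b 1), rfl⟩)
  · exact Submodule.smul_mem _ _ (Submodule.subset_span ⟨(b 0, b 2), rfl⟩)
  · exact Submodule.smul_mem _ _ (Submodule.subset_span ⟨(b 1, b 2), rfl⟩)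


include b in
theorem exists_lift {G : Type*} [Group G] (ρ : Representation (ZMod 2) G V) (t : V ⊗[ZMod 2] V)
    (ht : ∀ g : G, TensorProduct.map (ρ g) (ρ g) t - t ∈ Na V) :
    ∃ t' : V ⊗[ZMod 2] V, t' - t ∈ Na V ∧
      ∀ g : G, TensorProduct.map (ρ g) (ρ g) t' - t' ∈ Ns V := by
  classical
  set c : Fin 3 → Fin 3 → ZMod 2 := fun i j => (b.tensorProduct b).repr t (i, j) with hc
  set p := c 0 1 + c 1 0 with hp
  set q := c 0 2 + c 2 0 with hq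
  set r := c 1 2 + c 2 1 with hr
  -- the functions f, β, f'
  let f : (V →ₗ[ZMod 2] ZMod 2) → ZMod 2 := fun φ => ff φ t
  let β : (V →ₗ[ZMod 2] ZMod 2) → (V →ₗ[ZMod 2] ZMod 2) → ZMod 2 :=
    fun φ ψ => f (φ + ψ) + f φ + f ψ
  let f' : (V →ₗ[ZMod 2] ZMod 2) → ZMod 2 := fun φ => ind p q r (φ (b 0)) (φ (b 1)) (φ (b 2))
  have hβ : ∀ φ ψ, β φ ψ = Bf p q r (φ (b 0)) (φ (b 1)) (φ (b 2)) (ψ (b 0)) (ψ (b 1)) (ψ (b 2)) := by
    intro φ ψ
    show ff (φ + ψ) t + ff φ t + ff ψ t = _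
    rw [ff_eq_F b, ff_eq_F b, ff_eq_F b]
    exact F_polar c (fun i => φ (b i)) (fun i => ψ (b i))
  have hf'0 : ∀ φ, f' φ = 0 ↔ ∀ ψ, β φ ψ = 0 := by
    intro φ
    show ind p q r (φ (b 0)) (φ (b 1)) (φ (b 2)) = 0 ↔ _
    rw [ind_eq_zero_iff]
    constructor
    · intro h ψ
      rw [hβ]
      exact h _ _ _
    · intro h z0 z1 z2
      have := h (z0 • b.coord 0 + z1 • b.coord 1 + z2 • b.coord 2)
      rw [hβ] at this
      simpa [Module.Basis.coord_apply, Finsupp.single_apply] using this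
  -- invariance
  have hfg : ∀ (g : G) φ, f (φ ∘ₗ ρ g) = f φ + ff φ (TensorProduct.map (ρ g) (ρ g) t - t) := by
    intro g φ
    show ff (φ ∘ₗ ρ g) t = ff φ t + _
    rw [← ff_map, map_sub]
    abel
  have hβg : ∀ (g : G) φ ψ, β (φ ∘ₗ ρ g) (ψ ∘ₗ ρ g) = β φ ψ := by
    intro g φ ψ
    show f (φ ∘ₗ ρ g + ψ ∘ₗ ρ g) + f (φ ∘ₗ ρ g) + f (ψ ∘ₗ ρ g) = f (φ + ψ) + f φ + f ψ
    rw [← LinearMap.add_comp, hfg, hfg, hfg, ff_add_of_mem_Na _ (ht g)]
    have h2 : ∀ a : ZMod 2, a + a = 0 := CharTwo.add_self_eq_zero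
    linear_combination h2 (ff φ (TensorProduct.map (ρ g) (ρ g) t - t)) +
      h2 (ff ψ (TensorProduct.map (ρ g) (ρ g) t - t))
  have hcomp : ∀ (g : G) (ψ : V →ₗ[ZMod 2] ZMod 2), (ψ ∘ₗ ρ g⁻¹) ∘ₗ ρ g = ψ := by
    intro g ψ
    rw [LinearMap.comp_assoc, ← Module.End.mul_eq_comp, ← map_mul, inv_mul_cancel, map_one]
    rfl
  have hf'g : ∀ (g : G) φ, f' (φ ∘ₗ ρ g) = f' φ := by
    intro g φ
    apply eq_of_zero_iff
    rw [hf'0, hf'0]
    constructor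
    · intro h ψ
      rw [← hβg g]
      exact h _
    · intro h ψ
      rw [← hcomp g ψ, hβg]
      exact h _
  -- additivity of f + f'
  have hadd : ∀ φ ψ, f (φ + ψ) + f' (φ + ψ) = (f φ + f' φ) + (f ψ + f' ψ) := by
    intro φ ψ
    have h1 := hβ φ ψ
    have h2 := ind_add p q r (φ (b 0)) (φ (b 1)) (φ (b 2)) (ψ (b 0)) (ψ (b 1)) (ψ (b 2))
    have h3 : ∀ a : ZMod 2, a + a = 0 := CharTwo.add_self_eq_zero
    show f (φ + ψ) + ind p q r ((φ + ψ) (b 0)) ((φ + ψ) (b 1)) ((φ + ψ) (b 2)) =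
      (f φ + ind p q r (φ (b 0)) (φ (b 1)) (φ (b 2))) + (f ψ + ind p q r (ψ (b 0)) (ψ (b 1)) (ψ (b 2)))
    simp only [LinearMap.add_apply]
    have h1' : f (φ + ψ) + f φ + f ψ = Bf p q r (φ (b 0)) (φ (b 1)) (φ (b 2)) (ψ (b 0)) (ψ (b 1)) (ψ (b 2)) := h1
    linear_combination h1' + h2 - h3 (f φ) - h3 (f ψ) - h3 (ind p q r (φ (b 0)) (φ (b 1)) (φ (b 2))) -
      h3 (ind p q r (ψ (b 0)) (ψ (b 1)) (ψ (b 2))) +
      h3 (Bf p q r (φ (b 0)) (φ (b 1)) (φ (b 2)) (ψ (b 0)) (ψ (b 1)) (ψ (b 2)))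
  have h0 : f 0 + f' 0 = 0 := by
    have := hadd 0 0
    rw [add_zero] at this
    have h3 : ∀ a : ZMod 2, a + a = 0 := CharTwo.add_self_eq_zero
    linear_combination -this
  let hA : (V →ₗ[ZMod 2] ZMod 2) →+ ZMod 2 :=
    { toFun := fun φ => f φ + f' φ
      map_zero' := h0
      map_add' := hadd }
  let hL : (V →ₗ[ZMod 2] ZMod 2) →ₗ[ZMod 2] ZMod 2 := hA.toZModLinearMap 2
  have hL_apply : ∀ φ, hL φ = f φ + f' φ := fun φ => rfl
  let v : V := ∑ i : Fin 3, hL (b.coord i) • b i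
  have hv : ∀ φ : V →ₗ[ZMod 2] ZMod 2, φ v = f φ + f' φ := by
    intro φ
    rw [← hL_apply]
    conv_rhs => rw [← b.sum_dual_apply_smul_coord φ]
    simp only [v, map_sum, map_smul, smul_eq_mul]
    refine Finset.sum_congr rfl fun i _ => mul_comm _ _
  have hff' : ∀ φ : V →ₗ[ZMod 2] ZMod 2, ff φ (t + v ⊗ₜ[ZMod 2] v) = f' φ := by
    intro φ
    rw [map_add, ff_tmul, hv]
    show f φ + (f φ + f' φ) * (f φ + f' φ) = f' φ
    generalize f φ = x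
    generalize f' φ = y
    revert x y
    decide
  refine ⟨t + v ⊗ₜ[ZMod 2] v, ?_, ?_⟩
  · rw [add_sub_cancel_left]
    exact Submodule.subset_span ⟨v, rfl⟩
  · intro g
    apply mem_Ns_of_ff_eq_zero b
    intro φ
    rw [map_sub, ff_map, hff', hff', hf'g, sub_self]

end Groth.Agent.Helper9.SymSqDim3
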