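import Mathlib
import Groth.Prelude.Def_RegImm
import Groth.Agent.Helper9.SyntRoot

set_option autoImplicit false
universe u

namespace Groth.Agent.Helper9.SyntCover

open AlgebraicGeometry CategoryTheory

variable {X : Scheme.{u}} {U : X.Opens} (hU : IsAffineOpen U) {S : CommRingCat.{u}}
  (ψ : Γ(X, U) ⟶ S)

theorem top_le_preimage : (⊤ : (Spec S).Opens) ≤ (Spec.map ψ ≫ hU.fromSpec) ⁻¹ᵁ U := by
  intro y _
  show (Spec.map ψ ≫ hU.fromSpec) y ∈ U
  rw [Scheme.Hom.comp_apply]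
  have : hU.fromSpec (Spec.map ψ y) ∈ Set.range hU.fromSpec := ⟨_, rfl⟩
  rw [hU.range_fromSpec] at this
  exact this

theorem appLE_eq (e : (⊤ : (Spec S).Opens) ≤ (Spec.map ψ ≫ hU.fromSpec) ⁻¹ᵁ U) :
    (Spec.map ψ ≫ hU.fromSpec).appLE U ⊤ e = ψ ≫ (Scheme.ΓSpecIso S).inv := by
  apply Spec.map_injective
  have h1 := IsAffineOpen.SpecMap_appLE_fromSpec (Spec.map ψ ≫ hU.fromSpec) hU
    (isAffineOpen_top (Spec S)) e
  rw [IsAffineOpen.fromSpec_top, Scheme.isoSpec_Spec_inv, ← Category.assoc,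
    cancel_mono] at h1
  rw [h1, Spec.map_comp]

theorem appTop_eq (a : Γ(X, ⊤)) :
    (Spec.map ψ ≫ hU.fromSpec).appTop a =
      (Scheme.ΓSpecIso S).inv.hom (ψ.hom ((X.presheaf.map (homOfLE le_top).op).hom a)) := by
  have e := top_le_preimage hU ψ
  have h1 : (Spec.map ψ ≫ hU.fromSpec).appTop =
      X.presheaf.map (homOfLE (le_top : U ≤ ⊤)).op ≫ (Spec.map ψ ≫ hU.fromSpec).appLE U ⊤ e := by
    rw [Scheme.Hom.map_appLE]
    exact Scheme.Hom.app_eq_appLE _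
  rw [h1, appLE_eq hU ψ e]
  rfl

theorem mem_range_of_surjective (hψ : Function.Surjective (Spec.map ψ)) {x : X} (hx : x ∈ U) :
    ∃ y, (Spec.map ψ ≫ hU.fromSpec) y = x := by
  have : x ∈ Set.range hU.fromSpec := by rw [hU.range_fromSpec]; exact hx
  obtain ⟨z, rfl⟩ := this
  obtain ⟨y, rfl⟩ := hψ z
  exact ⟨y, by rw [Scheme.Hom.comp_apply]⟩

section Mor

variable {X : Scheme.{u}} {U : X.Opens} (hU : IsAffineOpen U)
  (T : Type u) [CommRing T] [Algebra Γ(X, U) T] [Module.Finite Γ(X, U) T] [Module.Flat Γ(X, U) T]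
  (n : ℕ) (P : Algebra.Presentation Γ(X, U) T (Fin n) (Fin n))

include P in
theorem isSyntomicMor_of_presentation :
    Synt.IsSyntomicMor (Spec.map (CommRingCat.ofHom (algebraMap Γ(X, U) T)) ≫ hU.fromSpec) := by
  intro y
  refine ⟨⟨⊤, isAffineOpen_top _⟩, ⟨U, hU⟩, top_le_preimage hU _, trivial, ?_⟩
  have happ := appLE_eq hU (CommRingCat.ofHom (algebraMap Γ(X, U) T)) (top_le_preimage hU _)
  letI alg : Algebra Γ(X, U) Γ(Spec (CommRingCat.of T), ⊤) :=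
    ((Spec.map (CommRingCat.ofHom (algebraMap Γ(X, U) T)) ≫ hU.fromSpec).appLE U ⊤
      (top_le_preimage hU _)).hom.toAlgebra
  show Synt.IsSyntomic Γ(X, U) Γ(Spec (CommRingCat.of T), ⊤)
  let eR : T ≃+* Γ(Spec (CommRingCat.of T), ⊤) :=
    (Scheme.ΓSpecIso (CommRingCat.of T)).symm.commRingCatIsoToRingEquiv
  have hcomm : ∀ r : Γ(X, U), eR (algebraMap Γ(X, U) T r) =
      algebraMap Γ(X, U) Γ(Spec (CommRingCat.of T), ⊤) r := by
    intro r
    show _ = ((Spec.map (CommRingCat.ofHom (algebraMap Γ(X, U) T)) ≫ hU.fromSpec).appLE U ⊤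
      (top_le_preimage hU _)).hom r
    rw [happ]
    rfl
  let eA : T ≃ₐ[Γ(X, U)] Γ(Spec (CommRingCat.of T), ⊤) := AlgEquiv.ofRingEquiv hcomm
  haveI : Module.Finite Γ(X, U) Γ(Spec (CommRingCat.of T), ⊤) :=
    Module.Finite.equiv eA.toLinearEquiv
  haveI : Module.Flat Γ(X, U) Γ(Spec (CommRingCat.of T), ⊤) :=
    Module.Flat.of_linearEquiv eA.toLinearEquiv.symm
  exact Groth.Agent.Helper9.SyntFin.isSyntomic_of_free_presentation n (P.ofAlgEquiv eA)

end Mor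

end Groth.Agent.Helper9.SyntCover
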