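import Mathlib
import Groth.Prelude.Def_RegImm
import Groth.Agent.Helper9.SyntRoot

set_option autoImplicit false
universe u

namespace Groth.Agent.Helper9.SyntPow

open MvPolynomial

variable {A : Type u} [CommRing A] (m p : ℕ) (hp : 0 < p)
  {S : Type u} [CommRing S] [Algebra A S] [Algebra (MvPolynomial (Fin m) A) S]
  [IsScalarTower A (MvPolynomial (Fin m) A) S]
  (eS : MvPolynomial (Fin m) A ≃ₐ[A] S)
  (h : ∀ i, algebraMap (MvPolynomial (Fin m) A) S (X i) = eS (X i) ^ p)

omit [IsScalarTower A (MvPolynomial (Fin m) A) S] in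
include h in
theorem algebraMap_monomial (n : Fin m →₀ ℕ) :
    algebraMap (MvPolynomial (Fin m) A) S (monomial n 1) = eS (monomial (p • n) 1) := by
  rw [monomial_eq, monomial_eq, map_one, one_mul, one_mul,
    Finsupp.prod_fintype _ _ (fun i => pow_zero _), Finsupp.prod_fintype _ _ (fun i => pow_zero _),
    map_prod, map_prod]
  refine Finset.prod_congr rfl fun i _ => ?_
  rw [map_pow, map_pow, h, ← pow_mul, Finsupp.smul_apply, smul_eq_mul]

/-- the exponent bijection `(e, n) ↦ p n + e` -/
noncomputable def expEquiv : (Σ _ : Fin m → Fin p, (Fin m →₀ ℕ)) ≃ (Fin m →₀ ℕ) where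
  toFun x := Finsupp.equivFunOnFinite.symm (fun i => p * x.2 i + (x.1 i : ℕ))
  invFun k := ⟨fun i => ⟨k i % p, Nat.mod_lt _ hp⟩,
    Finsupp.equivFunOnFinite.symm (fun i => k i / p)⟩
  left_inv := by
    rintro ⟨e, n⟩
    refine Sigma.ext ?_ (heq_of_eq ?_)
    · funext i
      apply Fin.ext
      simp only [Finsupp.equivFunOnFinite_symm_apply_apply]
      rw [Nat.mul_add_mod, Nat.mod_eq_of_lt (e i).2]
    · ext i
      simp only [Finsupp.equivFunOnFinite_symm_apply_apply]
      rw [Nat.mul_add_div hp, Nat.div_eq_of_lt (e i).2, add_zero]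
  right_inv := by
    intro k
    ext i
    simp only [Finsupp.equivFunOnFinite_symm_apply_apply]
    exact Nat.div_add_mod (k i) p

theorem expEquiv_apply (x : Σ _ : Fin m → Fin p, (Fin m →₀ ℕ)) :
    expEquiv m p hp x = p • x.2 + Finsupp.equivFunOnFinite.symm (fun i => (x.1 i : ℕ)) := by
  ext i
  simp [expEquiv]

/-- the monomials with exponents `< p` -/
noncomputable def vfam (e : Fin m → Fin p) : S :=
  eS (monomial (Finsupp.equivFunOnFinite.symm (fun i => (e i : ℕ))) 1)

include hp h in
/-- `S` is free over `A[T]` on the monomials with exponents `< p` -/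
theorem exists_basis : Nonempty (Module.Basis (Fin m → Fin p) (MvPolynomial (Fin m) A) S) := by
  classical
  let R := MvPolynomial (Fin m) A
  let E := Fin m → Fin p
  let Λ : (E →₀ R) →ₗ[R] S := Finsupp.linearCombination R (vfam m p eS)
  let bR : Module.Basis (Σ _ : E, (Fin m →₀ ℕ)) A (E →₀ R) :=
    Finsupp.basis (fun _ : E => MvPolynomial.basisMonomials (Fin m) A)
  let bS : Module.Basis (Fin m →₀ ℕ) A S :=
    (MvPolynomial.basisMonomials (Fin m) A).map eS.toLinearEquiv
  have hΛ : ∀ x, (Λ.restrictScalars A) (bR x) = bS (expEquiv m p hp x) := by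
    rintro ⟨e, n⟩
    have h1 : bR ⟨e, n⟩ = Finsupp.single e (monomial n (1 : A)) := by
      simp only [bR, Finsupp.coe_basis]
      rw [MvPolynomial.coe_basisMonomials]
    rw [h1, LinearMap.restrictScalars_apply]
    show Finsupp.linearCombination R (vfam m p eS) (Finsupp.single e (monomial n (1 : A))) = _
    rw [Finsupp.linearCombination_single, Algebra.smul_def, algebraMap_monomial m p eS h n]
    show _ = eS (monomial (expEquiv m p hp ⟨e, n⟩) 1)
    rw [expEquiv_apply]
    unfold vfam
    rw [← map_mul, monomial_mul, one_mul]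
  have heq : Λ.restrictScalars A = (bR.equiv bS (expEquiv m p hp)).toLinearMap := by
    apply bR.ext
    intro x
    rw [hΛ, LinearEquiv.coe_coe, Module.Basis.equiv_apply]
  have hbij : Function.Bijective Λ := by
    have : (Λ : (E →₀ R) → S) = (bR.equiv bS (expEquiv m p hp)) := by
      funext x
      exact LinearMap.congr_fun heq x
    rw [this]
    exact (bR.equiv bS (expEquiv m p hp)).bijective
  exact ⟨⟨(LinearEquiv.ofBijective Λ hbij).symm⟩⟩

include h in
/-- the presentation of `S` over `A[T]` by `m` generators and `m` relations -/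
theorem exists_presentation :
    Nonempty (Algebra.Presentation (MvPolynomial (Fin m) A) S (Fin m) (Fin m)) := by
  classical
  let R := MvPolynomial (Fin m) A
  let val : Fin m → S := fun i => eS (X i)
  let rel : Fin m → MvPolynomial (Fin m) R := fun i => X i ^ p - C (X i)
  let I : Ideal (MvPolynomial (Fin m) R) := Ideal.span (Set.range rel)
  have hsurj : Function.Surjective (aeval (R := R) val) := by
    intro x
    obtain ⟨g₀, rfl⟩ := eS.surjective x
    refine ⟨MvPolynomial.map (algebraMap A R) g₀, ?_⟩
    rw [aeval_map_algebraMap]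
    have : (aeval val : MvPolynomial (Fin m) A →ₐ[A] S) = eS.toAlgHom := by
      apply MvPolynomial.algHom_ext
      intro i
      rw [aeval_X]
      rfl
    exact DFunLike.congr_fun this g₀
  have hrel : ∀ i, aeval (R := R) val (rel i) = 0 := by
    intro i
    show aeval (R := R) val (X i ^ p - C (X i)) = 0
    rw [map_sub, map_pow, aeval_X, aeval_C, h, sub_self]
  let Ψ : S →ₐ[A] (MvPolynomial (Fin m) R ⧸ I) :=
    (aeval (fun i => Ideal.Quotient.mk I (X i))).comp eS.symm.toAlgHom
  have hΨ : ∀ i, Ψ (eS (X i)) = Ideal.Quotient.mk I (X i) := by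
    intro i
    show aeval (fun i => Ideal.Quotient.mk I (X i)) (eS.symm (eS (X i))) = _
    rw [AlgEquiv.symm_apply_apply, aeval_X]
  have hmk : ∀ j, Ideal.Quotient.mk I (C (X j)) = Ideal.Quotient.mk I (X j ^ p) := by
    intro j
    symm
    rw [Ideal.Quotient.eq]
    exact Ideal.subset_span ⟨j, rfl⟩
  have hcomp : (Ψ.toRingHom.comp (aeval (R := R) val).toRingHom) = Ideal.Quotient.mk I := by
    apply MvPolynomial.ringHom_ext
    · intro r
      have : (Ψ.toRingHom.comp (aeval (R := R) val).toRingHom).comp (C : R →+* MvPolynomial (Fin m) R)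
          = (Ideal.Quotient.mk I).comp (C : R →+* MvPolynomial (Fin m) R) := by
        apply MvPolynomial.ringHom_ext
        · intro a
          simp only [RingHom.comp_apply, AlgHom.toRingHom_eq_coe, RingHom.coe_coe]
          rw [aeval_C]
          have e1 : algebraMap R S (C a) = algebraMap A S a := by
            rw [← MvPolynomial.algebraMap_eq, ← IsScalarTower.algebraMap_apply]
          rw [e1, AlgHom.commutes]
          have e2 : (C (C a) : MvPolynomial (Fin m) R) = algebraMap A (MvPolynomial (Fin m) R) a := by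
            rw [IsScalarTower.algebraMap_apply A R (MvPolynomial (Fin m) R)]
            rfl
          rw [e2]
          rfl
        · intro j
          simp only [RingHom.comp_apply, AlgHom.toRingHom_eq_coe, RingHom.coe_coe]
          rw [aeval_C, h, map_pow, hΨ, hmk, map_pow]
      exact RingHom.congr_fun this r
    · intro i
      simp only [RingHom.comp_apply, AlgHom.toRingHom_eq_coe, RingHom.coe_coe]
      rw [aeval_X]
      exact hΨ i
  refine ⟨{ toGenerators := Algebra.Generators.ofSurjective val hsurj
            relation := rel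
            span_range_relation_eq_ker := ?_ }⟩
  rw [Algebra.Generators.ker_eq_ker_aeval_val]
  apply le_antisymm
  · apply Ideal.span_le.mpr
    rintro _ ⟨i, rfl⟩
    exact hrel i
  · intro g hg
    have hg' : aeval (R := R) val g = 0 := hg
    have := RingHom.congr_fun hcomp g
    simp only [RingHom.comp_apply, AlgHom.toRingHom_eq_coe, RingHom.coe_coe] at this
    rw [hg', map_zero] at this
    exact Ideal.Quotient.eq_zero_iff_mem.mp this.symm

include hp h in
theorem main : Synt.IsSyntomic (MvPolynomial (Fin m) A) S ∧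
    Module.FaithfullyFlat (MvPolynomial (Fin m) A) S := by
  obtain ⟨b⟩ := exists_basis m p hp eS h
  obtain ⟨P⟩ := exists_presentation m p eS h
  haveI : Module.Free (MvPolynomial (Fin m) A) S := Module.Free.of_basis b
  haveI : Module.Finite (MvPolynomial (Fin m) A) S := Module.Finite.of_basis b
  haveI : Nonempty (Fin m → Fin p) := ⟨fun _ => ⟨0, hp⟩⟩
  exact ⟨Groth.Agent.Helper9.SyntFin.isSyntomic_of_free_presentation m P,
    Groth.Agent.Helper9.SyntRoot.faithfullyFlat_of_basis b⟩

end Groth.Agent.Helper9.SyntPow
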