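import Mathlib
import Groth.Prelude.Def_DDual2
import Groth.Agent.Helper9.FlatPC1
import Groth.Agent.Helper9.LCB3
import Groth.Agent.Helper9.GL0

/-!
# Restriction of scalars commutes with flat base change in a cocartesian square (derived level)
-/

set_option autoImplicit false
set_option linter.style.haveILetI false
set_option linter.unusedSectionVars false

universe u
open CategoryTheory CategoryTheory.Limits DerivedCategory
attribute [local instance] HasDerivedCategory.standard

namespace Groth.Agent.Helper9.TAL1

variable {R A R' A' : Type u} [CommRing R] [CommRing A] [CommRing R'] [CommRing A']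
  [Algebra R A] [Algebra R R'] [Algebra R' A'] [Algebra A A'] [Algebra R A']
  [IsScalarTower R R' A'] [IsScalarTower R A A'] [Algebra.IsPushout R R' A A']

variable (R A R' A') in
/-- the base change isomorphism of functors on module categories -/
noncomputable def bcNatIso :
    ModuleCat.restrictScalars.{u} (algebraMap R A) ⋙
        ModuleCat.extendScalars.{u, u, u} (algebraMap R R') ≅
      ModuleCat.extendScalars.{u, u, u} (algebraMap A A') ⋙
        ModuleCat.restrictScalars.{u} (algebraMap R' A') :=
  NatIso.ofComponents
    (fun X => (Groth.Agent.Helper9.FlatPC1.bcEquiv (R := R) (R' := R') (A' := A') X).toModuleIso)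
    (fun {X Y} f => by
      ext t
      exact Groth.Agent.Helper9.FlatPC1.bcEquiv_naturality (R := R) (R' := R') (A' := A') f t)

/-- restriction commutes with flat base change in a cocartesian square -/
theorem nonempty_comm [Module.Flat R R'] [Module.Flat A A']
    [DRing.HasLBaseChange (algebraMap R R')] [DRing.HasLBaseChange (algebraMap A A')]
    (K : Dual.D A) :
    Nonempty ((DRing.LBaseChange (algebraMap R R')).obj
        ((DRing.restrictD (algebraMap R A)).obj K) ≅
      (DRing.restrictD (algebraMap R' A')).obj
        ((DRing.LBaseChange (algebraMap A A')).obj K)) := by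
  haveI := Groth.Agent.Helper9.LCB3.preservesFiniteColimits_ext (algebraMap R R')
  haveI := Groth.Agent.Helper9.LCB3.preservesFiniteColimits_ext (algebraMap A A')
  haveI := Groth.Agent.Helper9.LCB3.preservesFiniteLimits_ext (algebraMap R R')
    (RingHom.flat_algebraMap_iff.mpr inferInstance)
  haveI := Groth.Agent.Helper9.LCB3.preservesFiniteLimits_ext (algebraMap A A')
    (RingHom.flat_algebraMap_iff.mpr inferInstance)
  have e1 := Groth.Agent.Helper9.LCB3.lbcIsoExtD (algebraMap R R')
  have e2 := Groth.Agent.Helper9.LCB3.lbcIsoExtD (algebraMap A A')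
  have e3 : DRing.restrictD (algebraMap R A) ⋙ Groth.Agent.Helper9.LCB2.extD (algebraMap R R') ≅
      Groth.Agent.Helper9.LCB2.extD (algebraMap A A') ⋙ DRing.restrictD (algebraMap R' A') :=
    (GL0.mapDCComp _ _).symm ≪≫ GL0.mapDCIso (bcNatIso R A R' A') ≪≫ GL0.mapDCComp _ _
  exact ⟨e1.app _ ≪≫ e3.app K ≪≫ (DRing.restrictD (algebraMap R' A')).mapIso (e2.app K).symm⟩

end Groth.Agent.Helper9.TAL1
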