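import Mathlib
import Groth.Prelude.Def_EGA4b
import Groth.Agent.Helper2.NormalPt

/-!
# The fibre local rings of a polynomial ring over any ring: regular of dimension at most `n`
-/

set_option autoImplicit false
set_option linter.style.haveILetI false
set_option linter.unusedSectionVars false

universe u
open TensorProduct

namespace Groth.Agent.Helper9.TAL2

section Fib

variable (A B : Type u) [CommRing A] [CommRing B] [Algebra A B]

/-- the fibre local ring is a localization of the fibre ring -/
theorem exists_fibLocRing_equiv (Q : Ideal B) [hQ : Q.IsPrime] :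
    ∃ (q : Ideal ((Q.comap (algebraMap A B)).Fiber B)) (_ : q.IsPrime),
      Nonempty (Localization.AtPrime q ≃+* EGA4.FibLocRing A B Q) := by
  set p := Q.comap (algebraMap A B) with hp
  haveI : p.IsPrime := Ideal.comap_isPrime _ _
  let q := PrimeSpectrum.preimageEquivFiber A B ⟨p, inferInstance⟩ ⟨⟨Q, hQ⟩, rfl⟩
  have hq : q.asIdeal.comap (Algebra.TensorProduct.includeRight : B →ₐ[A] p.Fiber B) = Q := by
    have := (PrimeSpectrum.preimageEquivFiber A B ⟨p, inferInstance⟩).left_inv ⟨⟨Q, hQ⟩, rfl⟩
    exact congrArg (fun x => x.1.asIdeal) this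
  letI := Localization.AtPrime.algebraOfLiesOver p
    (q.asIdeal.comap (Algebra.TensorProduct.includeRight : B →ₐ[A] p.Fiber B))
  have e := Ideal.Fiber.localizationAlgEquivQuotient p q.asIdeal
  have key : ∀ (r : Ideal B) [r.IsPrime], r = Q →
      Nonempty (Localization.AtPrime q.asIdeal ≃+*
        (Localization.AtPrime r ⧸ p.map (algebraMap A (Localization.AtPrime r)))) →
      Nonempty (Localization.AtPrime q.asIdeal ≃+*
        (Localization.AtPrime Q ⧸ p.map (algebraMap A (Localization.AtPrime Q)))) := by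
    rintro r _ rfl h
    exact h
  exact ⟨q.asIdeal, q.isPrime, key _ hq ⟨e.toRingEquiv⟩⟩

end Fib

variable (R : Type u) [CommRing R] (n : ℕ)

/-- the fibre local rings of a polynomial ring are regular -/
theorem regular_fibLocRing (q : Ideal (MvPolynomial (Fin n) R)) [q.IsPrime] :
    IsRegularLocalRing (EGA4.FibLocRing R (MvPolynomial (Fin n) R) q) := by
  apply Groth.Agent.Helper2.NormalPt.fibLocRing_regular
  set p := q.comap (algebraMap R (MvPolynomial (Fin n) R)) with hp
  have e : p.ResidueField ⊗[R] MvPolynomial (Fin n) R ≃ₐ[p.ResidueField]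
      MvPolynomial (Fin n) p.ResidueField :=
    MvPolynomial.algebraTensorAlgEquiv R p.ResidueField
  haveI : IsRegularRing (MvPolynomial (Fin n) p.ResidueField) := inferInstance
  exact IsRegularRing.of_ringEquiv e.symm.toRingEquiv

/-- the fibre local rings of a polynomial ring in `n` variables have dimension at most `n` -/
theorem dim_le (q : Ideal (MvPolynomial (Fin n) R)) [q.IsPrime] :
    ∃ k : ℕ, ringKrullDim (EGA4.FibLocRing R (MvPolynomial (Fin n) R) q) = k ∧ k ≤ n := by
  obtain ⟨q', hq', ⟨e⟩⟩ := exists_fibLocRing_equiv R (MvPolynomial (Fin n) R) q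
  haveI := hq'
  set p := q.comap (algebraMap R (MvPolynomial (Fin n) R)) with hp
  have e1 : p.ResidueField ⊗[R] MvPolynomial (Fin n) R ≃ₐ[p.ResidueField]
      MvPolynomial (Fin n) p.ResidueField :=
    MvPolynomial.algebraTensorAlgEquiv R p.ResidueField
  have h1 : ringKrullDim (p.Fiber (MvPolynomial (Fin n) R)) = n := by
    rw [ringKrullDim_eq_of_ringEquiv e1.toRingEquiv,
      MvPolynomial.ringKrullDim_of_isNoetherianRing, ringKrullDim_eq_zero_of_field]
    simp
  have h2 : ringKrullDim (Localization.AtPrime q') = q'.height :=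
    IsLocalization.AtPrime.ringKrullDim_eq_height q' (Localization.AtPrime q')
  have h3 : (q'.height : WithBot ℕ∞) ≤ ringKrullDim (p.Fiber (MvPolynomial (Fin n) R)) :=
    Ideal.height_le_ringKrullDim_of_ne_top Ideal.IsPrime.ne_top'
  rw [h1] at h3
  have h4 : q'.height ≤ (n : ℕ∞) := by exact_mod_cast h3
  obtain ⟨k, hk⟩ := ENat.ne_top_iff_exists.mp (ne_top_of_le_ne_top (ENat.coe_ne_top n) h4)
  refine ⟨k, ?_, ?_⟩
  · rw [← ringKrullDim_eq_of_ringEquiv e, h2, ← hk]
    rfl
  · rw [← hk] at h4
    exact_mod_cast h4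

end Groth.Agent.Helper9.TAL2
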