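import Mathlib
import Groth.Prelude.Def_DualSh
import Groth.Prelude.Def_EGA4b
import Groth.Agent.S6977
import Groth.Agent.S6947
import Groth.Agent.S6946
import Groth.Agent.Helper9.FC1x
import Groth.Agent.Helper6.LBCFlatCx
import Groth.Agent.Helper6.HasLBC

/-!
# Tor amplitude over the base of a pseudo-coherent complex over a localization with regular
fibre local ring, from vanishing of the fibre cohomology
-/

set_option autoImplicit false
set_option linter.style.haveILetI false
set_option linter.unusedSectionVars false

universe u
open CategoryTheory CategoryTheory.Limits DerivedCategory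
attribute [local instance] HasDerivedCategory.standard

namespace Groth.Agent.Helper9.TAL3

open Groth.Agent.Helper3.DRingLib Groth.Agent.Helper6.LBCCompute

theorem main (R B : Type u) [CommRing R] [CommRing B] [Algebra R B] [Module.Flat R B]
    (p : Ideal R) [p.IsPrime] (Q : Ideal B) [Q.IsPrime] (hp : p = Q.comap (algebraMap R B))
    (k : ℕ) (hreg : IsRegularLocalRing (EGA4.FibLocRing R B Q))
    (hk : ringKrullDim (EGA4.FibLocRing R B Q) = k)
    (K₀ : Dual.D (Localization.AtPrime Q))
    (hK₀ : DRing.IsPseudoCoherent' (Localization.AtPrime Q) K₀) (a b : ℤ)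
    [DRing.HasLTensor (Localization.AtPrime p)
      (ModuleCat.of (Localization.AtPrime p) p.ResidueField)]
    (hfib : ∀ i : ℤ, i < a ∨ b < i → Subsingleton (Dual.HD (Localization.AtPrime p)
      ((DRing.LTensor (Localization.AtPrime p)
        (ModuleCat.of (Localization.AtPrime p) p.ResidueField)).obj
        ((DRing.restrictD (Localization.localRingHom p Q (algebraMap R B) hp)).obj K₀)) i)) :
    DRing.HasTorAmplitudeIn R (a - k) b
      ((DRing.restrictD (algebraMap R (Localization.AtPrime Q))).obj K₀) := by
  subst hp
  set p := Q.comap (algebraMap R B) with hp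
  haveI : Q.LiesOver p := ⟨rfl⟩
  letI alg := Localization.AtPrime.algebraOfLiesOver p Q
  haveI hloc : IsLocalHom (algebraMap (Localization.AtPrime p) (Localization.AtPrime Q)) :=
    Localization.isLocalHom_localRingHom _ _ _ Ideal.LiesOver.over
  -- flatness
  haveI hflR : Module.Flat R (Localization.AtPrime Q) :=
    Module.Flat.trans R B (Localization.AtPrime Q)
  haveI hfl : Module.Flat (Localization.AtPrime p) (Localization.AtPrime Q) := by
    rw [Module.flat_iff_of_isLocalization (Localization.AtPrime p) p.primeCompl]
    exact hflR
  -- the fibre ring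
  have hI : EGA4.mB (Localization.AtPrime p) (Localization.AtPrime Q) =
      p.map (algebraMap R (Localization.AtPrime Q)) := by
    show (IsLocalRing.maximalIdeal (Localization.AtPrime p)).map
      (algebraMap (Localization.AtPrime p) (Localization.AtPrime Q)) = _
    rw [← Localization.AtPrime.map_eq_maximalIdeal, Ideal.map_map, ← IsScalarTower.algebraMap_eq]
  let e : EGA4.FibLocRing R B Q ≃+*
      EGA4.FibRing (Localization.AtPrime p) (Localization.AtPrime Q) :=
    Ideal.quotEquivOfEq hI.symm
  haveI : IsRegularLocalRing (EGA4.FibRing (Localization.AtPrime p) (Localization.AtPrime Q)) :=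
    IsRegularLocalRing.of_ringEquiv e
  have hk' : ringKrullDim (EGA4.FibRing (Localization.AtPrime p) (Localization.AtPrime Q)) = k :=
    (ringKrullDim_eq_of_ringEquiv e).symm.trans hk
  haveI : DRing.HasLBaseChange (IsLocalRing.residue (Localization.AtPrime p)) :=
    Groth.Agent.Helper6.HasLBC.hasLBaseChange _
  -- the representative
  obtain ⟨E, b₀, hv, hff, ⟨eE⟩⟩ := hK₀
  have hf : DRing.TermwiseFlat E := fun i => by
    have := (hff i).2
    infer_instance
  set E₀ := (rCx (algebraMap (Localization.AtPrime p) (Localization.AtPrime Q))).obj E with hE₀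
  have hv' : DRing.VanishesAbove E₀ b₀ := fun i hi =>
    (rF (algebraMap (Localization.AtPrime p) (Localization.AtPrime Q))).map_isZero (hv i hi)
  have hf' : DRing.TermwiseFlat E₀ := fun i => by
    letI : Module (Localization.AtPrime p) (E.X i) :=
      Module.compHom (E.X i) (algebraMap (Localization.AtPrime p) (Localization.AtPrime Q))
    haveI : IsScalarTower (Localization.AtPrime p) (Localization.AtPrime Q) (E.X i) :=
      IsScalarTower.of_algebraMap_smul (fun r m => rfl)
    haveI : Module.Flat (Localization.AtPrime Q) (E.X i) := hf i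
    exact Module.Flat.trans (Localization.AtPrime p) (Localization.AtPrime Q) (E.X i)
  let eX : DRing.toD E₀ ≅
      (DRing.restrictD (algebraMap (Localization.AtPrime p) (Localization.AtPrime Q))).obj K₀ :=
    (rDToD (algebraMap (Localization.AtPrime p) (Localization.AtPrime Q)) E).symm ≪≫
      (DRing.restrictD (algebraMap (Localization.AtPrime p) (Localization.AtPrime Q))).mapIso eE
  obtain ⟨i0⟩ := Groth.Agent.Helper6.LBCFlatCx.nonempty_lbcIso_of_flat
    (IsLocalRing.residue (Localization.AtPrime p)) E₀ b₀ hv' hf'
  have h : ∀ i : ℤ, (i < a ∨ b < i) →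
      Subsingleton (Dual.HD (IsLocalRing.ResidueField (Localization.AtPrime p))
        ((DRing.LBaseChange (IsLocalRing.residue (Localization.AtPrime p))).obj
          ((DRing.restrictD (algebraMap (Localization.AtPrime p) (Localization.AtPrime Q))).obj
            K₀)) i) := by
    intro i hi
    have h1 : Subsingleton (Dual.HD (Localization.AtPrime p)
        ((DRing.LTensor (Localization.AtPrime p)
          (ModuleCat.of (Localization.AtPrime p) p.ResidueField)).obj
          ((DRing.restrictD (algebraMap (Localization.AtPrime p) (Localization.AtPrime Q))).obj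
            K₀)) i) := hfib i hi
    have h2 := (Groth.Agent.Helper9.FC1.subsingleton_HD_iff_of_flat
      (ModuleCat.of (Localization.AtPrime p) p.ResidueField) E₀ b₀ hv' hf' eX i).mp h1
    have h3 := Groth.Agent.Helper6.LBCJac.exactAt_bcCx_of_exactAt_tensorCx
      (A := Localization.AtPrime p) p.ResidueField E₀ i h2
    have h4 : IsZero ((DerivedCategory.homologyFunctor
        (ModuleCat.{u} (IsLocalRing.ResidueField (Localization.AtPrime p))) i).obj
        ((DRing.LBaseChange (IsLocalRing.residue (Localization.AtPrime p))).obj
          ((DRing.restrictD (algebraMap (Localization.AtPrime p) (Localization.AtPrime Q))).obj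
            K₀))) := by
      have h5 : IsZero ((DerivedCategory.homologyFunctor
          (ModuleCat.{u} (IsLocalRing.ResidueField (Localization.AtPrime p))) i).obj
          (DRing.toD ((bcCxF (IsLocalRing.residue (Localization.AtPrime p))).obj E₀))) :=
        (h3.isZero_homology).of_iso ((DerivedCategory.homologyFunctorFactors _ i).app _)
      exact h5.of_iso ((DerivedCategory.homologyFunctor _ i).mapIso
        ((DRing.LBaseChange (IsLocalRing.residue (Localization.AtPrime p))).mapIso eX.symm ≪≫ i0))
    exact ModuleCat.subsingleton_of_isZero h4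
  have hS := (Groth.Agent.S6977.result (A := Localization.AtPrime p)
    (B := Localization.AtPrime Q) k hk' a b K₀ ⟨E, b₀, hv, hff, ⟨eE⟩⟩ h).2
  -- descent to `R`
  have hB : DRing.HasTorAmplitudeIn R (-((0 : ℕ) : ℤ)) 0 (Dual.inD R (Localization.AtPrime Q)) :=
    ((Groth.Agent.S6946.result R (Localization.AtPrime Q) 0).1).mp
      (((Groth.Agent.S6946.result R (Localization.AtPrime Q) 0).2).mpr hflR)
  have hS2 := Groth.Agent.S6947.result (A := R) (B := Localization.AtPrime Q) 0 hB K₀ (a - k) b hS
  simpa using hS2

end Groth.Agent.Helper9.TAL3
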