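import Mathlib
import Groth.Prelude.Def_DualSh
import Groth.Agent.Helper9.TAL1
import Groth.Agent.Helper9.TAL2
import Groth.Agent.Helper9.TAL3
import Groth.Agent.Helper9.SV1
import Groth.Agent.S7100
import Groth.Agent.Helper6.LocExt5
import Groth.Agent.Helper3.DRingBC3
import Groth.Agent.Helper3.DRingCone

/-!
# Tor amplitude over the base of the localization of a pseudo-coherent complex at a prime,
from vanishing of the cohomology of the fibre
-/

set_option autoImplicit false
set_option linter.style.haveILetI false
set_option linter.unusedSectionVars false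

universe u
open CategoryTheory CategoryTheory.Limits DerivedCategory
attribute [local instance] HasDerivedCategory.standard

namespace Groth.Agent.Helper9.TAL4

open Groth.Agent.Helper3.DRingLib

/-- `localRingHom` only depends on the ring homomorphism -/
lemma localRingHom_congr {R S : Type u} [CommRing R] [CommRing S] (I : Ideal R) [I.IsPrime]
    (J : Ideal S) [J.IsPrime] (f g : R →+* S) (h : f = g) (hf : I = J.comap f)
    (hg : I = J.comap g) :
    Localization.localRingHom I J f hf = Localization.localRingHom I J g hg := by
  subst h
  rfl

set_option maxHeartbeats 1000000 in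
theorem main (R A : Type u) [CommRing R] [CommRing A] [Algebra R A]
    [Module.Flat R A] [Algebra.FinitePresentation R A] (d : ℕ)
    (ψ : MvPolynomial (Fin d) R →ₐ[R] A) (hψ : Function.Surjective ψ)
    (q : Ideal A) [q.IsPrime] (p : Ideal R) [p.IsPrime] (hpq : p = Ideal.comap (algebraMap R A) q)
    [DRing.HasLBaseChange (algebraMap A (Localization.AtPrime q))]
    [DRing.HasLTensor (Localization.AtPrime p) (ModuleCat.of (Localization.AtPrime p) p.ResidueField)]
    (K : Dual.D A) (hK : DRing.IsPseudoCoherent' A K) (a b : ℤ)
    (hfib : ∀ i : ℤ, i < a ∨ b < i → Subsingleton (Dual.HD (Localization.AtPrime p)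
      ((DRing.LTensor (Localization.AtPrime p) (ModuleCat.of (Localization.AtPrime p) p.ResidueField)).obj
        ((DRing.restrictD (Localization.localRingHom p q (algebraMap R A) hpq)).obj
          ((DRing.LBaseChange (algebraMap A (Localization.AtPrime q))).obj K))) i)) :
    DRing.HasTorAmplitudeIn R (a - d) b
      ((DRing.restrictD (algebraMap R (Localization.AtPrime q))).obj
        ((DRing.LBaseChange (algebraMap A (Localization.AtPrime q))).obj K)) := by
  letI algBA : Algebra (MvPolynomial (Fin d) R) A := ψ.toRingHom.toAlgebra
  haveI : IsScalarTower R (MvPolynomial (Fin d) R) A :=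
    IsScalarTower.of_algebraMap_eq (fun r => (ψ.commutes r).symm)
  have hφ : Function.Surjective (algebraMap (MvPolynomial (Fin d) R) A) := hψ
  set q' : Ideal (MvPolynomial (Fin d) R) := q.comap (algebraMap (MvPolynomial (Fin d) R) A)
    with hq'
  haveI : q'.IsPrime := Ideal.comap_isPrime _ _
  have hp' : p = q'.comap (algebraMap R (MvPolynomial (Fin d) R)) := by
    rw [hpq, hq', Ideal.comap_comap, ← IsScalarTower.algebraMap_eq]
  haveI : q.LiesOver q' := ⟨rfl⟩
  letI algBqAq := Localization.AtPrime.algebraOfLiesOver q' q
  -- the cocartesian square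
  haveI hloc : IsLocalization (Algebra.algebraMapSubmonoid A q'.primeCompl)
      (Localization.AtPrime q) := by
    rw [Ideal.algebraMapSubmonoid_primeCompl_of_liesOver_surjective q q' hφ]
    infer_instance
  haveI hpo : Algebra.IsPushout (MvPolynomial (Fin d) R) (Localization.AtPrime q') A
      (Localization.AtPrime q) :=
    (Algebra.isPushout_of_isLocalization q'.primeCompl (Localization.AtPrime q') A
      (Localization.AtPrime q)).symm
  haveI : DRing.HasLBaseChange (algebraMap (MvPolynomial (Fin d) R) (Localization.AtPrime q')) :=
    Groth.Agent.Helper6.HasLBC.hasLBaseChange _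
  obtain ⟨c⟩ := TAL1.nonempty_comm (R := MvPolynomial (Fin d) R) (A := A)
    (R' := Localization.AtPrime q') (A' := Localization.AtPrime q) K
  set Kq := (DRing.LBaseChange (algebraMap A (Localization.AtPrime q))).obj K with hKq
  set K₀ := (DRing.restrictD (algebraMap (Localization.AtPrime q') (Localization.AtPrime q))).obj Kq
    with hK₀
  -- pseudo-coherence of `K₀`
  have hpcB := ((Groth.Agent.S7100.result R (MvPolynomial (Fin d) R) A hφ K).1).mp hK
  have hpc1 := bcD_isPseudoCoherent' (Localization.AtPrime q') hpcB
  have hpc2 := isPseudoCoherent'_of_iso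
    (Groth.Agent.Helper6.LocExt.lbcIsoBcD (MvPolynomial (Fin d) R) (Localization.AtPrime q') _).symm
    hpc1
  have hpc3 : DRing.IsPseudoCoherent' (Localization.AtPrime q') K₀ :=
    isPseudoCoherent'_of_iso c hpc2
  -- the fibre local ring
  have hreg := TAL2.regular_fibLocRing R d q'
  obtain ⟨k, hk, hkd⟩ := TAL2.dim_le R d q'
  -- the fibre hypothesis
  have hcomp : Localization.localRingHom p q (algebraMap R A) hpq =
      (algebraMap (Localization.AtPrime q') (Localization.AtPrime q)).comp
        (Localization.localRingHom p q' (algebraMap R (MvPolynomial (Fin d) R)) hp') := by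
    rw [localRingHom_congr p q (algebraMap R A)
      ((algebraMap (MvPolynomial (Fin d) R) A).comp (algebraMap R (MvPolynomial (Fin d) R)))
      (IsScalarTower.algebraMap_eq R (MvPolynomial (Fin d) R) A) hpq
      (by rw [hp', hq', Ideal.comap_comap])]
    exact Localization.localRingHom_comp p q' q (algebraMap R (MvPolynomial (Fin d) R)) hp'
      (algebraMap (MvPolynomial (Fin d) R) A) rfl
  let ι := (SV1.restrictDComp
    (Localization.localRingHom p q' (algebraMap R (MvPolynomial (Fin d) R)) hp')
    (algebraMap (Localization.AtPrime q') (Localization.AtPrime q))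
    (Localization.localRingHom p q (algebraMap R A) hpq) hcomp).app Kq
  have hfib' : ∀ i : ℤ, i < a ∨ b < i → Subsingleton (Dual.HD (Localization.AtPrime p)
      ((DRing.LTensor (Localization.AtPrime p)
        (ModuleCat.of (Localization.AtPrime p) p.ResidueField)).obj
        ((DRing.restrictD (Localization.localRingHom p q'
          (algebraMap R (MvPolynomial (Fin d) R)) hp')).obj K₀)) i) := by
    intro i hi
    haveI := hfib i hi
    exact (((DerivedCategory.homologyFunctor _ i).mapIso
      ((DRing.LTensor (Localization.AtPrime p)
        (ModuleCat.of (Localization.AtPrime p) p.ResidueField)).mapIso ι)).toLinearEquiv.toEquiv).symm.subsingleton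
  have hT := TAL3.main R (MvPolynomial (Fin d) R) p q' hp' k hreg hk K₀ hpc3 a b hfib'
  have hT' : DRing.HasTorAmplitudeIn R (a - d) b
      ((DRing.restrictD (algebraMap R (Localization.AtPrime q'))).obj K₀) :=
    hasTorAmplitudeIn_mono (by omega) le_rfl hT
  let ι' := (SV1.restrictDComp (algebraMap R (Localization.AtPrime q'))
    (algebraMap (Localization.AtPrime q') (Localization.AtPrime q))
    (algebraMap R (Localization.AtPrime q))
    (IsScalarTower.algebraMap_eq R (Localization.AtPrime q') (Localization.AtPrime q))).app Kq
  exact hasTorAmplitudeIn_of_iso ι'.symm _ _ hT'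

end Groth.Agent.Helper9.TAL4
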