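import Mathlib

/-!
# Minimal homological δ-functors on modules, and the basic "pro-zero" step
-/

set_option autoImplicit false

namespace Groth.Agent.Helper9.TU1

open CategoryTheory CategoryTheory.Limits

universe u

/-- A homological `δ`-functor `(T_k)` on `A`-modules (only the parts of the long exact sequence
which are needed), with `T_k(A) = 0` for `k > 0`. -/
structure HD (A : Type u) [CommRing A] where
  /-- the functors -/
  T : ℕ → ModuleCat.{u} A ⥤ ModuleCat.{u} A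
  add : ∀ k, (T k).Additive
  smul : ∀ (k : ℕ) (N : ModuleCat.{u} A) (a : A) (x : (T k).obj N),
    (T k).map (a • 𝟙 N) x = a • x
  /-- the connecting morphisms -/
  δ : ∀ {S : ShortComplex (ModuleCat.{u} A)} (_ : S.ShortExact) (k : ℕ),
    (T (k + 1)).obj S.X₃ ⟶ (T k).obj S.X₁
  δ_nat : ∀ {S S' : ShortComplex (ModuleCat.{u} A)} (hS : S.ShortExact) (hS' : S'.ShortExact)
    (φ : S ⟶ S') (k : ℕ), δ hS k ≫ (T k).map φ.τ₁ = (T (k + 1)).map φ.τ₃ ≫ δ hS' k
  ex₁ : ∀ {S : ShortComplex (ModuleCat.{u} A)} (hS : S.ShortExact) (k : ℕ) (x : (T k).obj S.X₁),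
    (T k).map S.f x = 0 → ∃ z, δ hS k z = x
  ex₃ : ∀ {S : ShortComplex (ModuleCat.{u} A)} (hS : S.ShortExact) (k : ℕ)
    (z : (T (k + 1)).obj S.X₃), δ hS k z = 0 → ∃ y, (T (k + 1)).map S.g y = z
  zero : ∀ k, IsZero ((T (k + 1)).obj (ModuleCat.of A A))

attribute [instance] HD.add

variable {A : Type u} [CommRing A] (H : HD A)

/-- The basic step: if `T_k` kills `X₁ → X₁'` and `T_{k+1}` kills `X₂' → X₂''` then `T_{k+1}` kills
`X₃ → X₃' → X₃''`. -/
theorem step {S S' S'' : ShortComplex (ModuleCat.{u} A)} (hS : S.ShortExact) (hS' : S'.ShortExact)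
    (φ : S ⟶ S') (ψ : S' ⟶ S'') (k : ℕ) (h1 : (H.T k).map φ.τ₁ = 0)
    (h2 : (H.T (k + 1)).map ψ.τ₂ = 0) : (H.T (k + 1)).map (φ.τ₃ ≫ ψ.τ₃) = 0 := by
  apply ModuleCat.hom_ext
  apply LinearMap.ext
  intro z
  have e1 : H.δ hS' k ((H.T (k + 1)).map φ.τ₃ z) = 0 := by
    have := congrArg (fun g => g.hom z) (H.δ_nat hS hS' φ k)
    simp only [ModuleCat.hom_comp, LinearMap.comp_apply] at this
    rw [← this, h1]
    rfl
  obtain ⟨y, hy⟩ := H.ex₃ hS' k _ e1
  have e2 : (H.T (k + 1)).map ψ.τ₃ ((H.T (k + 1)).map S'.g y) =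
      (H.T (k + 1)).map S''.g ((H.T (k + 1)).map ψ.τ₂ y) := by
    have := congrArg (fun g => g.hom y) (congrArg (H.T (k + 1)).map ψ.comm₂₃)
    simpa only [Functor.map_comp, ModuleCat.hom_comp, LinearMap.comp_apply] using this.symm
  rw [Functor.map_comp]
  show (H.T (k + 1)).map ψ.τ₃ ((H.T (k + 1)).map φ.τ₃ z) = 0
  rw [← hy, e2, h2]
  simp

/-- `T_k` of a module killed by `a` is killed by `a`. -/
theorem smul_eq_zero_of_smul_id (k : ℕ) (N : ModuleCat.{u} A) (a : A) (h : a • 𝟙 N = 0)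
    (x : (H.T k).obj N) : a • x = 0 := by
  rw [← H.smul k N a x, h, Functor.map_zero]
  rfl

/-- If `T_{k+1}` kills `X₂ → X₃` and `a` kills `X₁` then `a` kills `T_{k+1}(X₃)`. -/
theorem smul_eq_zero_of_map_eq_zero {S : ShortComplex (ModuleCat.{u} A)} (hS : S.ShortExact)
    (k : ℕ) (h0 : (H.T (k + 1)).map S.g = 0) (a : A) (ha : a • 𝟙 S.X₁ = 0)
    (z : (H.T (k + 1)).obj S.X₃) : a • z = 0 := by
  have e1 : H.δ hS k (a • z) = 0 := by
    rw [map_smul]
    exact smul_eq_zero_of_smul_id H k S.X₁ a ha _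
  obtain ⟨y, hy⟩ := H.ex₃ hS k _ e1
  rw [← hy, h0]
  rfl

/-- If `a` kills `T_{k+1}(X₃)` and `T_k(X₂) = 0` then `a` kills `T_k(X₁)`. -/
theorem smul_eq_zero_of_isZero {S : ShortComplex (ModuleCat.{u} A)} (hS : S.ShortExact)
    (k : ℕ) (h0 : IsZero ((H.T k).obj S.X₂)) (a : A)
    (ha : ∀ z : (H.T (k + 1)).obj S.X₃, a • z = 0) (x : (H.T k).obj S.X₁) : a • x = 0 := by
  obtain ⟨z, rfl⟩ := H.ex₁ hS k x (by
    have : (H.T k).map S.f = 0 := h0.eq_of_tgt _ _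
    rw [this]
    rfl)
  rw [← map_smul, ha, map_zero]

end Groth.Agent.Helper9.TU1
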