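import Mathlib

/-!
# Powers of the ideal `𝔞 A[X] + (X)` in a polynomial ring
-/

set_option autoImplicit false

namespace Groth.Agent.Helper9.TU2

open Polynomial

universe u

variable {A : Type u} [CommRing A]

/-- The ideal `𝔞 A[X] + (X)` of `A[X]`. -/
noncomputable def bb (𝔞 : Ideal A) : Ideal A[X] := Ideal.map C 𝔞 ⊔ Ideal.span {X}

/-- The ideal of polynomials whose `k`-th coefficient lies in `𝔞 ^ (n - k)`. -/
noncomputable def cc (𝔞 : Ideal A) (n : ℕ) : Ideal A[X] where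
  carrier := {p | ∀ k, p.coeff k ∈ 𝔞 ^ (n - k)}
  add_mem' {p q} hp hq k := by
    rw [coeff_add]
    exact Ideal.add_mem _ (hp k) (hq k)
  zero_mem' k := by simp
  smul_mem' r p hp k := by
    rw [smul_eq_mul, coeff_mul]
    refine Ideal.sum_mem _ fun x hx => ?_
    have hx2 : x.2 ≤ k := Finset.HasAntidiagonal.antidiagonal.snd_le hx
    exact Ideal.mul_mem_left _ _ (Ideal.pow_le_pow_right (by omega) (hp x.2))

lemma mem_cc (𝔞 : Ideal A) (n : ℕ) (p : A[X]) : p ∈ cc 𝔞 n ↔ ∀ k, p.coeff k ∈ 𝔞 ^ (n - k) :=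
  Iff.rfl

lemma bb_pow_le_cc (𝔞 : Ideal A) (n : ℕ) : bb 𝔞 ^ n ≤ cc 𝔞 n := by
  induction n with
  | zero =>
    intro p _ k
    simp
  | succ n ih =>
    rw [pow_succ, Ideal.mul_le]
    intro p hp r hr
    have hp' := ih hp
    obtain ⟨r₁, hr₁, r₂, hr₂, rfl⟩ := Submodule.mem_sup.mp hr
    rw [mul_add]
    refine Ideal.add_mem _ ?_ ?_
    · intro k
      rw [coeff_mul]
      refine Ideal.sum_mem _ fun x hx => ?_
      have hx1 : x.1 ≤ k := Finset.HasAntidiagonal.antidiagonal.fst_le hx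
      have h1 : p.coeff x.1 ∈ 𝔞 ^ (n - x.1) := hp' x.1
      have h2 : r₁.coeff x.2 ∈ 𝔞 := Ideal.mem_map_C_iff.mp hr₁ x.2
      have h3 : p.coeff x.1 * r₁.coeff x.2 ∈ 𝔞 ^ (n - x.1 + 1) := by
        rw [pow_succ]
        exact Ideal.mul_mem_mul h1 h2
      exact Ideal.pow_le_pow_right (by omega) h3
    · obtain ⟨r', rfl⟩ := Ideal.mem_span_singleton'.mp hr₂
      have h4 : p * r' ∈ cc 𝔞 n := by
        rw [mul_comm]
        exact Ideal.mul_mem_left _ _ hp'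
      rw [← mul_assoc]
      intro k
      cases k with
      | zero => simp
      | succ k =>
        rw [coeff_mul_X]
        have := h4 k
        rwa [Nat.succ_sub_succ]

lemma monomial_mem_bb_pow (𝔞 : Ideal A) {n m k : ℕ} (h : n ≤ m + k) {a : A} (ha : a ∈ 𝔞 ^ m) :
    monomial k a ∈ bb 𝔞 ^ n := by
  have h1 : C a ∈ bb 𝔞 ^ m := by
    have : C a ∈ (Ideal.map C 𝔞) ^ m := by
      rw [← Ideal.map_pow]
      exact Ideal.mem_map_of_mem _ ha
    have hle : Ideal.map C 𝔞 ≤ bb 𝔞 := le_sup_left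
    exact Ideal.pow_right_mono hle m this
  have hX : (X : A[X]) ∈ bb 𝔞 := by
    have hle : Ideal.span {(X : A[X])} ≤ bb 𝔞 := le_sup_right
    exact hle (Ideal.subset_span rfl)
  have h2 : (X : A[X]) ^ k ∈ bb 𝔞 ^ k := Ideal.pow_mem_pow hX k
  have h3 : C a * X ^ k ∈ bb 𝔞 ^ (m + k) := by
    rw [pow_add]
    exact Ideal.mul_mem_mul h1 h2
  rw [← C_mul_X_pow_eq_monomial]
  exact Ideal.pow_le_pow_right h h3

/-- Membership in `(𝔞 A[X] + (X)) ^ n` is tested on coefficients. -/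
theorem mem_bb_pow_iff (𝔞 : Ideal A) (n : ℕ) (p : A[X]) :
    p ∈ bb 𝔞 ^ n ↔ ∀ k, p.coeff k ∈ 𝔞 ^ (n - k) := by
  refine ⟨fun h => bb_pow_le_cc 𝔞 n h, fun h => ?_⟩
  rw [p.as_sum_support]
  refine Ideal.sum_mem _ fun k _ => ?_
  exact monomial_mem_bb_pow 𝔞 (by omega) (h k)

lemma coeff_mem_of_mem_bb_pow (𝔞 : Ideal A) {n m k : ℕ} (h : m ≤ n - k) {p : A[X]}
    (hp : p ∈ bb 𝔞 ^ n) : p.coeff k ∈ 𝔞 ^ m :=
  Ideal.pow_le_pow_right h ((mem_bb_pow_iff 𝔞 n p).mp hp k)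

/-- A polynomial is congruent modulo `(𝔞 A[X] + (X)) ^ n` to its truncation below degree `n`. -/
lemma sub_sum_monomial_mem (𝔞 : Ideal A) (n : ℕ) (p : A[X]) :
    p - ∑ k ∈ Finset.range n, monomial k (p.coeff k) ∈ bb 𝔞 ^ n := by
  rw [mem_bb_pow_iff]
  intro j
  rw [coeff_sub, finsetSum_coeff]
  by_cases hj : j < n
  · rw [Finset.sum_eq_single j]
    · simp
    · intro b _ hb
      rw [coeff_monomial, if_neg hb]
    · intro hj'
      exact absurd (Finset.mem_range.mpr hj) hj'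
  · have : n - j = 0 := by omega
    rw [this, pow_zero, Ideal.one_eq_top]
    exact Submodule.mem_top

lemma sup_pow_le (J K : Ideal A[X]) (n : ℕ) : (J ⊔ K) ^ n ≤ J ^ n ⊔ K := by
  induction n with
  | zero => simp
  | succ n ih =>
    rw [pow_succ]
    refine (Ideal.mul_mono_left ih).trans ?_
    rw [Ideal.sup_mul, Ideal.mul_sup, Ideal.mul_sup, ← pow_succ]
    refine sup_le (sup_le le_sup_left (le_sup_of_le_right Ideal.mul_le_right)) ?_
    exact sup_le (le_sup_of_le_right Ideal.mul_le_left) (le_sup_of_le_right Ideal.mul_le_left)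

/-- evaluation at `f` maps `(𝔞 A[X] + (X)) ^ n` into `(𝔞 + (f)) ^ n`. -/
lemma eval_mem_of_mem_bb_pow (𝔞 : Ideal A) (f : A) {n : ℕ} {p : A[X]} (hp : p ∈ bb 𝔞 ^ n) :
    p.eval f ∈ (𝔞 ⊔ Ideal.span {f}) ^ n := by
  rw [eval_eq_sum]
  refine Ideal.sum_mem _ fun k _ => ?_
  have hle : 𝔞 ≤ 𝔞 ⊔ Ideal.span {f} := le_sup_left
  have h1 : p.coeff k ∈ (𝔞 ⊔ Ideal.span {f}) ^ (n - k) :=
    Ideal.pow_right_mono hle _ ((mem_bb_pow_iff 𝔞 n p).mp hp k)
  have hf : f ∈ 𝔞 ⊔ Ideal.span {f} := by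
    have hle' : Ideal.span {f} ≤ 𝔞 ⊔ Ideal.span {f} := le_sup_right
    exact hle' (Ideal.subset_span rfl)
  have h2 : f ^ k ∈ (𝔞 ⊔ Ideal.span {f}) ^ k := Ideal.pow_mem_pow hf k
  have h3 : p.coeff k * f ^ k ∈ (𝔞 ⊔ Ideal.span {f}) ^ (n - k + k) := by
    rw [pow_add]
    exact Ideal.mul_mem_mul h1 h2
  exact Ideal.pow_le_pow_right (by omega) h3

/-- the kernel of evaluation at `f` modulo `(𝔞 + (f)) ^ n`. -/
lemma exists_of_eval_mem (𝔞 : Ideal A) (f : A) {n : ℕ} {p : A[X]}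
    (hp : p.eval f ∈ (𝔞 ⊔ Ideal.span {f}) ^ n) :
    ∃ r ∈ bb 𝔞 ^ n, ∃ p' : A[X], p = r + (X - C f) * p' := by
  have h1 : Ideal.map C (𝔞 ⊔ Ideal.span {f}) ≤ bb 𝔞 ⊔ Ideal.span {X - C f} := by
    rw [Ideal.map_sup, Ideal.map_span, Set.image_singleton]
    refine sup_le (le_sup_of_le_left le_sup_left) ?_
    rw [Ideal.span_singleton_le_iff_mem]
    have hX : (X : A[X]) ∈ bb 𝔞 ⊔ Ideal.span {X - C f} := by
      have hle1 : Ideal.span {(X : A[X])} ≤ bb 𝔞 := le_sup_right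
      have hle2 : bb 𝔞 ≤ bb 𝔞 ⊔ Ideal.span {X - C f} := le_sup_left
      exact hle2 (hle1 (Ideal.subset_span rfl))
    have hXf : (X - C f : A[X]) ∈ bb 𝔞 ⊔ Ideal.span {X - C f} := by
      have hle2 : Ideal.span {X - C f} ≤ bb 𝔞 ⊔ Ideal.span {X - C f} := le_sup_right
      exact hle2 (Ideal.subset_span rfl)
    have := Ideal.sub_mem _ hX hXf
    rwa [sub_sub_cancel] at this
  have h2 : C (p.eval f) ∈ bb 𝔞 ^ n ⊔ Ideal.span {X - C f} := by
    refine sup_pow_le _ _ n ?_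
    refine Ideal.pow_right_mono h1 n ?_
    rw [← Ideal.map_pow]
    exact Ideal.mem_map_of_mem _ hp
  obtain ⟨r, hr, s, hs, hrs⟩ := Submodule.mem_sup.mp h2
  obtain ⟨s', rfl⟩ := Ideal.mem_span_singleton'.mp hs
  refine ⟨r, hr, s' + p /ₘ (X - C f), ?_⟩
  have h3 := modByMonic_add_div p (X - C f)
  rw [modByMonic_X_sub_C_eq_C_eval] at h3
  rw [mul_add, ← add_assoc, mul_comm (X - C f) s', hrs]
  exact h3.symm

/-- Artin–Rees for the principal ideal `(X - f)`: uniform bound for the colon ideals. -/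
theorem exists_shift [IsNoetherianRing A] (𝔞 : Ideal A) (f : A) :
    ∃ c : ℕ, ∀ (n : ℕ) (p : A[X]), (X - C f) * p ∈ bb 𝔞 ^ n → p ∈ bb 𝔞 ^ (n - c) := by
  obtain ⟨c, hc⟩ := Ideal.exists_pow_inf_eq_pow_smul (bb 𝔞)
    (Ideal.span {X - C f} : Submodule A[X] A[X])
  refine ⟨c, fun n p hp => ?_⟩
  by_cases hn : c ≤ n
  · have h1 : (X - C f) * p ∈ (bb 𝔞 ^ n • ⊤ ⊓ Ideal.span {X - C f} : Submodule A[X] A[X]) := by
      refine ⟨?_, ?_⟩
      · rw [Ideal.smul_top_eq_map]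
        simpa using hp
      · exact Ideal.mul_mem_right _ _ (Ideal.subset_span rfl)
    rw [hc n hn] at h1
    have hmono : bb 𝔞 ^ (n - c) • (bb 𝔞 ^ c • ⊤ ⊓ Ideal.span {X - C f} : Submodule A[X] A[X]) ≤
        bb 𝔞 ^ (n - c) • (Ideal.span {X - C f} : Submodule A[X] A[X]) :=
      smul_mono_right _ inf_le_right
    have h2 : (X - C f) * p ∈ bb 𝔞 ^ (n - c) • (Ideal.span {X - C f} : Submodule A[X] A[X]) :=
      hmono h1
    rw [smul_eq_mul, Ideal.mul_comm, Ideal.mem_span_singleton_mul] at h2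
    obtain ⟨p', hp', h3⟩ := h2
    have h4 : p' = p := (monic_X_sub_C f).isRegular.left h3
    rwa [← h4]
  · have : n - c = 0 := by omega
    rw [this, pow_zero, Ideal.one_eq_top]
    exact Submodule.mem_top

end Groth.Agent.Helper9.TU2
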