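import Mathlib
import Groth.Agent.Helper9.TU1
import Groth.Agent.Helper9.TU2

/-!
# Uniform vanishing of `T_j(A/I^n → A/I^{n-c})`: induction on the number of generators
-/

set_option autoImplicit false

namespace Groth.Agent.Helper9.TU3

open CategoryTheory CategoryTheory.Limits Polynomial
open Groth.Agent.Helper9.TU1 Groth.Agent.Helper9.TU2

universe u

variable {A : Type u} [CommRing A]

/-- transition maps between quotients by ideals -/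
noncomputable def q {J J' : Ideal A} (h : J ≤ J') :
    ModuleCat.of A (A ⧸ J) ⟶ ModuleCat.of A (A ⧸ J') :=
  ModuleCat.ofHom (Submodule.mapQ J J' LinearMap.id h)

lemma q_comp {J J' J'' : Ideal A} (h : J ≤ J') (h' : J' ≤ J'') :
    q h ≫ q h' = q (h.trans h') := by
  apply ModuleCat.hom_ext
  apply Submodule.linearMap_qext
  rfl

/-- `T_j` kills `A/𝔞^m → A/𝔞^m'` whenever `m' ≤ m - c`. -/
def Zc (H : HD A) (𝔞 : Ideal A) (j c : ℕ) : Prop :=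
  ∀ (m m' : ℕ) (h : m' ≤ m - c),
    (H.T j).map (q (Ideal.pow_le_pow_right (I := 𝔞) (h.trans (Nat.sub_le m c)))) = 0

section System

variable (𝔞 : Ideal A) (f : A)

/-- the `A`-submodule `(𝔞 A[X] + (X)) ^ n` of `A[X]` -/
noncomputable def NN (n : ℕ) : Submodule A A[X] := (bb 𝔞 ^ n).restrictScalars A

lemma mem_NN (n : ℕ) (p : A[X]) : p ∈ NN 𝔞 n ↔ p ∈ bb 𝔞 ^ n := Iff.rfl

lemma NN_anti {m n : ℕ} (h : m ≤ n) : NN 𝔞 n ≤ NN 𝔞 m :=
  fun _ hp => Ideal.pow_le_pow_right h hp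

/-- `X_n = A[X] / (𝔞 A[X] + (X)) ^ n` as an `A`-module -/
noncomputable abbrev XX (n : ℕ) : ModuleCat.{u} A := ModuleCat.of A (A[X] ⧸ NN 𝔞 n)

/-- the transition maps of `X` -/
noncomputable def trX {m n : ℕ} (h : m ≤ n) : XX 𝔞 n ⟶ XX 𝔞 m :=
  ModuleCat.ofHom (Submodule.mapQ (NN 𝔞 n) (NN 𝔞 m) LinearMap.id (NN_anti 𝔞 h))

lemma trX_mk {m n : ℕ} (h : m ≤ n) (p : A[X]) :
    (trX 𝔞 h).hom (Submodule.Quotient.mk p) = Submodule.Quotient.mk p := rfl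

/-- multiplication by `X - f` on `X_n` -/
noncomputable def gg (n : ℕ) : (A[X] ⧸ NN 𝔞 n) →ₗ[A] (A[X] ⧸ NN 𝔞 n) :=
  Submodule.mapQ (NN 𝔞 n) (NN 𝔞 n) (LinearMap.mulLeft A (X - C f))
    (fun _ hp => Ideal.mul_mem_left _ _ hp)

lemma gg_mk (n : ℕ) (p : A[X]) :
    gg 𝔞 f n (Submodule.Quotient.mk p) = Submodule.Quotient.mk ((X - C f) * p) := rfl

/-- evaluation at `f`: `X_n → A / (𝔞 + (f)) ^ n` -/
noncomputable def ππ (n : ℕ) : (A[X] ⧸ NN 𝔞 n) →ₗ[A] (A ⧸ (𝔞 ⊔ Ideal.span {f}) ^ n) :=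
  Submodule.liftQ (NN 𝔞 n) (((𝔞 ⊔ Ideal.span {f}) ^ n).mkQ ∘ₗ Polynomial.leval f) (fun p hp => by
    rw [LinearMap.mem_ker, LinearMap.comp_apply, Submodule.mkQ_apply,
      Submodule.Quotient.mk_eq_zero]
    exact eval_mem_of_mem_bb_pow 𝔞 f hp)

lemma ππ_mk (n : ℕ) (p : A[X]) :
    ππ 𝔞 f n (Submodule.Quotient.mk p) = Submodule.Quotient.mk (p.eval f) := rfl

lemma ππ_gg (n : ℕ) (x : A[X] ⧸ NN 𝔞 n) : ππ 𝔞 f n (gg 𝔞 f n x) = 0 := by
  obtain ⟨p, rfl⟩ := Submodule.Quotient.mk_surjective _ x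
  rw [gg_mk, ππ_mk]
  simp

lemma ππ_surjective (n : ℕ) : Function.Surjective (ππ 𝔞 f n) := by
  intro y
  obtain ⟨a, rfl⟩ := Submodule.Quotient.mk_surjective _ y
  refine ⟨Submodule.Quotient.mk (C a), ?_⟩
  rw [ππ_mk, eval_C]

lemma ππ_exact (n : ℕ) (x : A[X] ⧸ NN 𝔞 n) (hx : ππ 𝔞 f n x = 0) :
    x ∈ LinearMap.range (gg 𝔞 f n) := by
  obtain ⟨p, rfl⟩ := Submodule.Quotient.mk_surjective _ x
  rw [ππ_mk, Submodule.Quotient.mk_eq_zero] at hx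
  obtain ⟨r, hr, p', rfl⟩ := exists_of_eval_mem 𝔞 f hx
  refine ⟨Submodule.Quotient.mk p', ?_⟩
  rw [gg_mk]
  symm
  rw [Submodule.Quotient.eq]
  simpa [mem_NN] using hr

/-- the kernel system -/
noncomputable abbrev WW (n : ℕ) : ModuleCat.{u} A := ModuleCat.of A (LinearMap.ker (gg 𝔞 f n))

/-- the image system -/
noncomputable abbrev YY (n : ℕ) : ModuleCat.{u} A := ModuleCat.of A (LinearMap.range (gg 𝔞 f n))

/-- `0 → W_n → X_n → Y_n → 0` -/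
noncomputable def S1 (n : ℕ) : ShortComplex (ModuleCat.{u} A) :=
  ShortComplex.mk (X₁ := WW 𝔞 f n) (X₂ := XX 𝔞 n) (X₃ := YY 𝔞 f n)
    (ModuleCat.ofHom (LinearMap.ker (gg 𝔞 f n)).subtype)
    (ModuleCat.ofHom (gg 𝔞 f n).rangeRestrict) (by
      apply ModuleCat.hom_ext
      apply LinearMap.ext
      intro x
      exact Subtype.ext x.2)

lemma S1_shortExact (n : ℕ) : (S1 𝔞 f n).ShortExact := by
  refine ShortComplex.ShortExact.mk' ?_ ?_ ?_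
  · rw [ShortComplex.ShortExact.moduleCat_exact_iff_function_exact]
    intro (y : A[X] ⧸ NN 𝔞 n)
    constructor
    · intro hy
      have hy' : gg 𝔞 f n y = 0 := congrArg Subtype.val hy
      exact ⟨⟨y, hy'⟩, rfl⟩
    · rintro ⟨x, rfl⟩
      exact Subtype.ext x.2
  · show Mono (ModuleCat.ofHom (LinearMap.ker (gg 𝔞 f n)).subtype)
    exact (ModuleCat.mono_iff_injective _).mpr (Submodule.injective_subtype _)
  · show Epi (ModuleCat.ofHom (gg 𝔞 f n).rangeRestrict)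
    exact (ModuleCat.epi_iff_surjective _).mpr (LinearMap.surjective_rangeRestrict _)

/-- `0 → Y_n → X_n → A/I^n → 0` -/
noncomputable def S2 (n : ℕ) : ShortComplex (ModuleCat.{u} A) :=
  ShortComplex.mk (X₁ := YY 𝔞 f n) (X₂ := XX 𝔞 n)
    (X₃ := ModuleCat.of A (A ⧸ (𝔞 ⊔ Ideal.span {f}) ^ n))
    (ModuleCat.ofHom (LinearMap.range (gg 𝔞 f n)).subtype)
    (ModuleCat.ofHom (ππ 𝔞 f n)) (by
      apply ModuleCat.hom_ext
      apply LinearMap.ext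
      rintro ⟨_, x, rfl⟩
      exact ππ_gg 𝔞 f n x)

lemma S2_shortExact (n : ℕ) : (S2 𝔞 f n).ShortExact := by
  refine ShortComplex.ShortExact.mk' ?_ ?_ ?_
  · rw [ShortComplex.ShortExact.moduleCat_exact_iff_function_exact]
    intro (y : A[X] ⧸ NN 𝔞 n)
    constructor
    · intro hy
      exact ⟨⟨y, ππ_exact 𝔞 f n y hy⟩, rfl⟩
    · rintro ⟨⟨_, x, rfl⟩, rfl⟩
      exact ππ_gg 𝔞 f n x
  · show Mono (ModuleCat.ofHom (LinearMap.range (gg 𝔞 f n)).subtype)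
    exact (ModuleCat.mono_iff_injective _).mpr (Submodule.injective_subtype _)
  · show Epi (ModuleCat.ofHom (ππ 𝔞 f n))
    exact (ModuleCat.epi_iff_surjective _).mpr (ππ_surjective 𝔞 f n)

lemma gg_trX {m n : ℕ} (h : m ≤ n) (x : A[X] ⧸ NN 𝔞 n) :
    gg 𝔞 f m ((trX 𝔞 h).hom x) = (trX 𝔞 h).hom (gg 𝔞 f n x) := by
  obtain ⟨p, rfl⟩ := Submodule.Quotient.mk_surjective _ x
  rfl

/-- transition maps of `W` -/
noncomputable def trW {m n : ℕ} (h : m ≤ n) : WW 𝔞 f n ⟶ WW 𝔞 f m :=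
  ModuleCat.ofHom (LinearMap.restrict (trX 𝔞 h).hom (fun x hx => by
    rw [LinearMap.mem_ker] at hx ⊢
    rw [gg_trX, hx, map_zero]))

/-- transition maps of `Y` -/
noncomputable def trY {m n : ℕ} (h : m ≤ n) : YY 𝔞 f n ⟶ YY 𝔞 f m :=
  ModuleCat.ofHom (LinearMap.restrict (trX 𝔞 h).hom (fun x hx => by
    obtain ⟨y, rfl⟩ := hx
    exact ⟨(trX 𝔞 h).hom y, gg_trX 𝔞 f h y⟩))

lemma trY_comp {l m n : ℕ} (h : m ≤ n) (h' : l ≤ m) :
    trY 𝔞 f h ≫ trY 𝔞 f h' = trY 𝔞 f (h'.trans h) := by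
  apply ModuleCat.hom_ext
  apply LinearMap.ext
  rintro ⟨_, x, rfl⟩
  apply Subtype.ext
  obtain ⟨p, rfl⟩ := Submodule.Quotient.mk_surjective _ x
  rfl

/-- the morphism `S1 n ⟶ S1 m` -/
noncomputable def m1 {m n : ℕ} (h : m ≤ n) : S1 𝔞 f n ⟶ S1 𝔞 f m where
  τ₁ := trW 𝔞 f h
  τ₂ := trX 𝔞 h
  τ₃ := trY 𝔞 f h
  comm₁₂ := rfl
  comm₂₃ := by
    apply ModuleCat.hom_ext
    apply LinearMap.ext
    intro x
    apply Subtype.ext
    exact gg_trX 𝔞 f h x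

/-- the morphism `S2 n ⟶ S2 m` -/
noncomputable def m2 {m n : ℕ} (h : m ≤ n) : S2 𝔞 f n ⟶ S2 𝔞 f m where
  τ₁ := trY 𝔞 f h
  τ₂ := trX 𝔞 h
  τ₃ := q (Ideal.pow_le_pow_right h)
  comm₁₂ := rfl
  comm₂₃ := by
    apply ModuleCat.hom_ext
    apply Submodule.linearMap_qext
    rfl

lemma trW_eq_zero {c : ℕ}
    (hc : ∀ (n : ℕ) (p : A[X]), (X - C f) * p ∈ bb 𝔞 ^ n → p ∈ bb 𝔞 ^ (n - c))
    {m n : ℕ} (h : m ≤ n - c) : trW 𝔞 f (h.trans (Nat.sub_le n c)) = 0 := by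
  apply ModuleCat.hom_ext
  apply LinearMap.ext
  rintro ⟨x, hx⟩
  apply Subtype.ext
  obtain ⟨p, rfl⟩ := Submodule.Quotient.mk_surjective _ x
  rw [LinearMap.mem_ker, gg_mk, Submodule.Quotient.mk_eq_zero] at hx
  have h1 : p ∈ bb 𝔞 ^ (n - c) := hc n p hx
  have h2 : p ∈ NN 𝔞 m := Ideal.pow_le_pow_right h h1
  exact (Submodule.Quotient.mk_eq_zero _).mpr h2

/-- coefficient maps -/
noncomputable def rr (n k m : ℕ) (h : m ≤ n - k) : XX 𝔞 n ⟶ ModuleCat.of A (A ⧸ 𝔞 ^ m) :=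
  ModuleCat.ofHom (Submodule.mapQ (NN 𝔞 n) (𝔞 ^ m) (Polynomial.lcoeff A k)
    (fun _ hp => coeff_mem_of_mem_bb_pow 𝔞 h hp))

/-- monomial maps -/
noncomputable def ii (n k m : ℕ) (h : n ≤ m + k) : ModuleCat.of A (A ⧸ 𝔞 ^ m) ⟶ XX 𝔞 n :=
  ModuleCat.ofHom (Submodule.mapQ (𝔞 ^ m) (NN 𝔞 n) (Polynomial.monomial k)
    (fun _ ha => monomial_mem_bb_pow 𝔞 h ha))

lemma sum_rr_ii (n : ℕ) :
    ∑ k ∈ Finset.range n, rr 𝔞 n k (n - k) le_rfl ≫ ii 𝔞 n k (n - k) (by omega) = 𝟙 (XX 𝔞 n) := by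
  apply ModuleCat.hom_ext
  apply Submodule.linearMap_qext
  apply LinearMap.ext
  intro p
  rw [ModuleCat.hom_sum]
  simp only [LinearMap.comp_apply, LinearMap.sum_apply, ModuleCat.hom_comp, Submodule.mkQ_apply]
  have h1 : ∀ k ∈ Finset.range n,
      (ii 𝔞 n k (n - k) (by omega)).hom ((rr 𝔞 n k (n - k) le_rfl).hom (Submodule.Quotient.mk p)) =
        (Submodule.Quotient.mk (monomial k (p.coeff k)) : A[X] ⧸ NN 𝔞 n) := fun k _ => rfl
  have h2 : (∑ x ∈ Finset.range n,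
      (Submodule.Quotient.mk (monomial x (p.coeff x)) : A[X] ⧸ NN 𝔞 n)) =
      Submodule.Quotient.mk (∑ x ∈ Finset.range n, monomial x (p.coeff x)) :=
    (map_sum (NN 𝔞 n).mkQ _ _).symm
  rw [Finset.sum_congr rfl h1, h2]
  symm
  exact (Submodule.Quotient.eq _).mpr (sub_sum_monomial_mem 𝔞 n p)

lemma ii_trX {n m k l l' : ℕ} (h : m ≤ n) (h1 : n ≤ l + k) (h2 : m ≤ l' + k) (h3 : l' ≤ l) :
    ii 𝔞 n k l h1 ≫ trX 𝔞 h = q (Ideal.pow_le_pow_right h3) ≫ ii 𝔞 m k l' h2 := by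
  apply ModuleCat.hom_ext
  apply Submodule.linearMap_qext
  rfl

/-- the system `X` inherits uniform vanishing from `(A/𝔞^n)`. -/
lemma ZX (H : HD A) (j c₀ : ℕ) (hZ : Zc H 𝔞 j c₀) {m n : ℕ} (h : m ≤ n - c₀) :
    (H.T j).map (trX 𝔞 (h.trans (Nat.sub_le n c₀))) = 0 := by
  have h0 : trX 𝔞 (h.trans (Nat.sub_le n c₀)) =
      ∑ k ∈ Finset.range n, rr 𝔞 n k (n - k) le_rfl ≫
        (q (Ideal.pow_le_pow_right (I := 𝔞) (show m - k ≤ n - k by omega)) ≫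
          ii 𝔞 m k (m - k) (by omega)) := by
    rw [← Category.id_comp (trX 𝔞 (h.trans (Nat.sub_le n c₀))), ← sum_rr_ii, Preadditive.sum_comp]
    refine Finset.sum_congr rfl fun k _ => ?_
    rw [Category.assoc, ii_trX 𝔞 (l' := m - k) _ _ (by omega) (by omega)]
  rw [h0, Functor.map_sum]
  refine Finset.sum_eq_zero fun k _ => ?_
  rw [Functor.map_comp, Functor.map_comp]
  have := hZ (n - k) (m - k) (by omega)
  rw [this, Limits.zero_comp, Limits.comp_zero]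

end System

/-- The inductive step: adding one generator. -/
theorem ind_step [IsNoetherianRing A] (𝔞 : Ideal A) (f : A) :
    ∃ c : ℕ, ∀ (H : HD A) (s c₀ : ℕ), (∀ j, s < j → Zc H 𝔞 j c₀) →
      ∀ j, s + 1 < j → Zc H (𝔞 ⊔ Ideal.span {f}) j (c + 2 * c₀) := by
  obtain ⟨c, hc⟩ := exists_shift 𝔞 f
  refine ⟨c, fun H s c₀ hZ => ?_⟩
  -- the image system
  have ZY : ∀ j, s < j + 1 → ∀ (m n : ℕ) (h : m ≤ n - (c + c₀)),
      (H.T (j + 1)).map (trY 𝔞 f (h.trans (Nat.sub_le n (c + c₀)))) = 0 := by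
    intro j hj m n h
    have hm : m ≤ n - c := by omega
    have hm' : m ≤ (n - c) - c₀ := by omega
    have := step H (S1_shortExact 𝔞 f n) (S1_shortExact 𝔞 f (n - c))
      (m1 𝔞 f (Nat.sub_le n c)) (m1 𝔞 f (hm'.trans (Nat.sub_le _ c₀))) j
      (by
        show (H.T j).map (trW 𝔞 f _) = 0
        rw [trW_eq_zero 𝔞 f hc le_rfl, Functor.map_zero])
      (ZX 𝔞 H (j + 1) c₀ (hZ _ hj) hm')
    have e : (m1 𝔞 f (Nat.sub_le n c)).τ₃ ≫ (m1 𝔞 f (hm'.trans (Nat.sub_le _ c₀))).τ₃ =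
        trY 𝔞 f (h.trans (Nat.sub_le n (c + c₀))) := trY_comp 𝔞 f _ _
    rwa [e] at this
  intro j hj m m' h
  obtain ⟨j, rfl⟩ : ∃ j', j = j' + 1 := ⟨j - 1, by omega⟩
  obtain ⟨j, rfl⟩ : ∃ j', j = j' + 1 := ⟨j - 1, by omega⟩
  have hm1 : m' ≤ (m - (c + c₀)) - c₀ := by omega
  have := step H (S2_shortExact 𝔞 f m) (S2_shortExact 𝔞 f (m - (c + c₀)))
    (m2 𝔞 f (Nat.sub_le m (c + c₀))) (m2 𝔞 f (hm1.trans (Nat.sub_le _ c₀))) (j + 1)
    (ZY j (by omega) _ _ le_rfl)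
    (ZX 𝔞 H (j + 1 + 1) c₀ (hZ _ (by omega)) hm1)
  have e : (m2 𝔞 f (Nat.sub_le m (c + c₀))).τ₃ ≫ (m2 𝔞 f (hm1.trans (Nat.sub_le _ c₀))).τ₃ =
      q (Ideal.pow_le_pow_right (h.trans (Nat.sub_le m (c + 2 * c₀)))) := q_comp _ _
  rwa [e] at this

/-- the base case: the zero ideal -/
theorem base (H : HD A) (j : ℕ) : Zc H (⊥ : Ideal A) (j + 1) 0 := by
  intro m m' h
  rcases Nat.eq_zero_or_pos m with hm | hm
  · subst hm
    have hz : IsZero (ModuleCat.of A (A ⧸ (⊥ : Ideal A) ^ 0)) := by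
      have : Subsingleton (A ⧸ (⊥ : Ideal A) ^ 0) := by
        rw [Ideal.Quotient.subsingleton_iff, pow_zero, Ideal.one_eq_top]
      exact ModuleCat.isZero_of_subsingleton _
    rw [hz.eq_of_src (q _) 0, Functor.map_zero]
  · have hb : (⊥ : Ideal A) ^ m = ⊥ := by
      rw [Ideal.bot_pow (by omega)]
    have hz : IsZero ((H.T (j + 1)).obj (ModuleCat.of A (A ⧸ (⊥ : Ideal A) ^ m))) :=
      (H.zero j).of_iso ((H.T (j + 1)).mapIso
        (Submodule.quotEquivOfEqBot ((⊥ : Ideal A) ^ m) hb).toModuleIso)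
    exact hz.eq_of_src _ _

/-- **Uniform vanishing.** For an ideal generated by a finite set `s`, there is `c` such that for
every homological `δ`-functor `T` with `T_k(A) = 0` (`k > 0`), every `j > #s` and all `m' ≤ m - c`
the map `T_j(A/I^m) → T_j(A/I^m')` vanishes. -/
theorem main [IsNoetherianRing A] (s : Finset A) :
    ∃ c : ℕ, ∀ (H : HD A) (j : ℕ), s.card < j → Zc H (Ideal.span (s : Set A)) j c := by
  classical
  induction s using Finset.induction_on with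
  | empty =>
    refine ⟨0, fun H j hj => ?_⟩
    obtain ⟨j, rfl⟩ : ∃ j', j = j' + 1 := ⟨j - 1, by simp at hj; omega⟩
    rw [Finset.coe_empty, Ideal.span_empty]
    exact base H j
  | insert f s hf ih =>
    obtain ⟨c₀, h₀⟩ := ih
    obtain ⟨c, hc⟩ := ind_step (Ideal.span (s : Set A)) f
    refine ⟨c + 2 * c₀, fun H j hj => ?_⟩
    rw [Finset.card_insert_of_notMem hf] at hj
    rw [Finset.coe_insert, Ideal.span_insert, sup_comm]
    exact hc H s.card c₀ (fun j' hj' => h₀ H j' hj') j hj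

end Groth.Agent.Helper9.TU3
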