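import Mathlib
import Groth.Agent.Helper9.TU3

/-!
# Uniform annihilation of `T_j(A/I^q)` by a power of `I`
-/

set_option autoImplicit false

namespace Groth.Agent.Helper9.TU4

open CategoryTheory CategoryTheory.Limits
open Groth.Agent.Helper9.TU1 Groth.Agent.Helper9.TU3

universe u

variable {A : Type u} [CommRing A]

/-- the kernel short complex of a linear map -/
noncomputable def kerSC {N₂ N₃ : Type u} [AddCommGroup N₂] [Module A N₂] [AddCommGroup N₃]
    [Module A N₃] (g : N₂ →ₗ[A] N₃) : ShortComplex (ModuleCat.{u} A) :=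
  ShortComplex.mk (X₁ := ModuleCat.of A (LinearMap.ker g)) (X₂ := ModuleCat.of A N₂)
    (X₃ := ModuleCat.of A N₃) (ModuleCat.ofHom (LinearMap.ker g).subtype) (ModuleCat.ofHom g) (by
      apply ModuleCat.hom_ext
      apply LinearMap.ext
      intro x
      exact x.2)

lemma kerSC_shortExact {N₂ N₃ : Type u} [AddCommGroup N₂] [Module A N₂] [AddCommGroup N₃]
    [Module A N₃] (g : N₂ →ₗ[A] N₃) (hg : Function.Surjective g) : (kerSC g).ShortExact := by
  refine ShortComplex.ShortExact.mk' ?_ ?_ ?_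
  · rw [ShortComplex.ShortExact.moduleCat_exact_iff_function_exact]
    intro (y : N₂)
    constructor
    · intro hy
      exact ⟨⟨y, hy⟩, rfl⟩
    · rintro ⟨x, rfl⟩
      exact x.2
  · show Mono (ModuleCat.ofHom (LinearMap.ker g).subtype)
    exact (ModuleCat.mono_iff_injective _).mpr (Submodule.injective_subtype _)
  · show Epi (ModuleCat.ofHom g)
    exact (ModuleCat.epi_iff_surjective _).mpr hg

/-- **Uniform annihilation.** -/
theorem main_smul [IsNoetherianRing A] (s : Finset A) :
    ∃ c : ℕ, ∀ (H : HD A) (j : ℕ), s.card < j → ∀ (n : ℕ) (a : A),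
      a ∈ Ideal.span (s : Set A) ^ c →
        ∀ x : (H.T j).obj (ModuleCat.of A (A ⧸ Ideal.span (s : Set A) ^ n)), a • x = 0 := by
  obtain ⟨c, hc⟩ := TU3.main s
  refine ⟨c, fun H j hj n a ha => ?_⟩
  obtain ⟨j, rfl⟩ : ∃ j', j = j' + 1 := ⟨j - 1, by omega⟩
  generalize Ideal.span (s : Set A) = I at hc ha ⊢
  intro x
  have hle : I ^ (n + c) ≤ I ^ n := Ideal.pow_le_pow_right (Nat.le_add_right n c)
  have hsurj : Function.Surjective (Submodule.mapQ (I ^ (n + c)) (I ^ n) LinearMap.id hle) := by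
    intro y
    obtain ⟨b, rfl⟩ := Submodule.Quotient.mk_surjective _ y
    exact ⟨Submodule.Quotient.mk b, rfl⟩
  have hS := kerSC_shortExact _ hsurj
  refine smul_eq_zero_of_map_eq_zero H hS j ?_ a ?_ x
  · exact hc H (j + 1) hj (n + c) n (by omega)
  · apply ModuleCat.hom_ext
    apply LinearMap.ext
    rintro ⟨w, hw⟩
    apply Subtype.ext
    obtain ⟨b, rfl⟩ := Submodule.Quotient.mk_surjective _ w
    have hb : b ∈ I ^ n := by
      have := LinearMap.mem_ker.mp hw
      exact (Submodule.Quotient.mk_eq_zero _).mp this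
    have hab : a * b ∈ I ^ (n + c) := by
      rw [add_comm, pow_add]
      exact Ideal.mul_mem_mul ha hb
    show a • (Submodule.Quotient.mk b : A ⧸ I ^ (n + c)) = 0
    rw [← Submodule.Quotient.mk_smul, smul_eq_mul]
    exact (Submodule.Quotient.mk_eq_zero _).mpr hab

end Groth.Agent.Helper9.TU4
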