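import Mathlib
import Groth.Agent.Helper9.TU4
import Groth.Agent.Helper1.TorBalanceNat2
import Groth.Agent.Helper1.FlatCxLinear
import Groth.Agent.Helper1.TorFlat

/-!
# The `δ`-functor of a complex of flat modules; uniform vanishing for `Tor`
-/

set_option autoImplicit false

namespace Groth.Agent.Helper9.TU5

open CategoryTheory CategoryTheory.Limits
open Groth.Agent.Helper9.TU1 Groth.Agent.Helper9.TU3 Groth.Agent.Helper9.TU4
open Groth.Agent.Helper1.FlatCx Groth.Agent.Helper1.TorLib

universe u

variable {A : Type u} [CommRing A]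

/-- The `δ`-functor `T_k = H_k(P ⊗ -)` of a flat resolution `P`. -/
noncomputable def hdOf (P : ChainComplex (ModuleCat.{u} A) ℕ) (hP : ∀ i, Module.Flat A (P.X i))
    (hex : ∀ n, P.ExactAt (n + 1)) : HD A where
  T k := CohIII.TFun P k
  add k := inferInstance
  smul k N a x := by
    rw [Functor.map_smul, CategoryTheory.Functor.map_id]
    rfl
  δ hS k := δ P hP hS (k + 1) k (by simp)
  δ_nat hS hS' φ k := δ_natS P hP hS hS' φ (k + 1) k (by simp)
  ex₁ hS k x hx :=
    (ShortComplex.moduleCat_exact_iff _).mp (exact₁ P hP hS (k + 1) k (by simp)) x hx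
  ex₃ hS k z hz :=
    (ShortComplex.moduleCat_exact_iff _).mp (exact₃ P hP hS (k + 1) k (by simp)) z hz
  zero k := isZero_T_of_flat P (k + 1) (hex k) (ModuleCat.of A A)

/-- The `δ`-functor `Tor_k(M, -)`, via the standard flat resolution of `M`. -/
noncomputable def hdTor₂ (M : ModuleCat.{u} A) : HD A :=
  hdOf (stdFlatRes M).complex (stdFlatRes M).flat (stdFlatRes M).exact

/-- The `δ`-functor `Tor_k(-, N)`, via the standard projective resolution of `N`. -/
noncomputable def hdTor₁ (N : ModuleCat.{u} A) : HD A :=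
  hdOf (ProjectiveResolution.of N).complex (flat_of_projectiveResolution _)
    (ProjectiveResolution.of N).complex_exactAt_succ

/-- `Tor` version of uniform vanishing (second variable). -/
theorem tor_map_eq_zero [IsNoetherianRing A] (s : Finset A) :
    ∃ c : ℕ, ∀ (M : ModuleCat.{u} A) (j : ℕ), s.card < j → ∀ (m m' : ℕ) (h : m' ≤ m - c),
      ((Tor (ModuleCat.{u} A) j).obj M).map
        (q (Ideal.pow_le_pow_right (I := Ideal.span (s : Set A)) (h.trans (Nat.sub_le m c)))) =
        0 := by
  obtain ⟨c, hc⟩ := TU3.main s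
  refine ⟨c, fun M j hj m m' h => ?_⟩
  have h0 := hc (hdTor₂ M) j hj m m' h
  have h1 := torIsoT₂_naturality M j
    (q (Ideal.pow_le_pow_right (I := Ideal.span (s : Set A)) (h.trans (Nat.sub_le m c))))
  rw [← cancel_mono (torIsoT₂ M j _).hom, h1, zero_comp]
  have h2 : (CohIII.TFun (stdFlatRes M).complex j).map
      (q (Ideal.pow_le_pow_right (I := Ideal.span (s : Set A)) (h.trans (Nat.sub_le m c)))) = 0 :=
    h0
  rw [h2, comp_zero]

/-- `Tor` version of uniform annihilation (second variable). -/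
theorem tor_smul_eq_zero₂ [IsNoetherianRing A] (s : Finset A) :
    ∃ c : ℕ, ∀ (M : ModuleCat.{u} A) (j : ℕ), s.card < j → ∀ (n : ℕ) (a : A),
      a ∈ Ideal.span (s : Set A) ^ c →
        ∀ x : ((Tor (ModuleCat.{u} A) j).obj M).obj
          (ModuleCat.of A (A ⧸ Ideal.span (s : Set A) ^ n)), a • x = 0 := by
  obtain ⟨c, hc⟩ := main_smul s
  refine ⟨c, fun M j hj n a ha x => ?_⟩
  have h0 := hc (hdTor₂ M) j hj n a ha ((torIsoT₂ M j _).hom x)
  have hinj : Function.Injective (torIsoT₂ M j
      (ModuleCat.of A (A ⧸ Ideal.span (s : Set A) ^ n))).hom :=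
    (ModuleCat.mono_iff_injective _).mp inferInstance
  apply hinj
  rw [map_smul, map_zero]
  exact h0

/-- `Tor` version of uniform annihilation (first variable). -/
theorem tor_smul_eq_zero₁ [IsNoetherianRing A] (s : Finset A) :
    ∃ c : ℕ, ∀ (N : ModuleCat.{u} A) (j : ℕ), s.card < j → ∀ (n : ℕ) (a : A),
      a ∈ Ideal.span (s : Set A) ^ c →
        ∀ x : ((Tor (ModuleCat.{u} A) j).obj
          (ModuleCat.of A (A ⧸ Ideal.span (s : Set A) ^ n))).obj N, a • x = 0 := by
  obtain ⟨c, hc⟩ := main_smul s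
  refine ⟨c, fun N j hj n a ha x => ?_⟩
  have h0 := hc (hdTor₁ N) j hj n a ha ((torIsoT (ProjectiveResolution.of N) j _).hom x)
  have hinj : Function.Injective (torIsoT (ProjectiveResolution.of N) j
      (ModuleCat.of A (A ⧸ Ideal.span (s : Set A) ^ n))).hom :=
    (ModuleCat.mono_iff_injective _).mp inferInstance
  apply hinj
  rw [map_smul, map_zero]
  exact h0

end Groth.Agent.Helper9.TU5
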