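import Mathlib
import Groth.Prelude.Def_BlowUp2

/-!
# The affine blow-up algebra `A[I/a₀]` as the colimit of `I^n` along multiplication by `a₀`
-/

set_option autoImplicit false

namespace Groth.Agent.Helper9.TU6

open CategoryTheory CategoryTheory.Limits

universe u

variable {A : Type u} [CommRing A] (I : Ideal A) (a₀ : A)

/-- `1 / a₀` in the localization -/
noncomputable def uu : Localization.Away a₀ := IsLocalization.Away.invSelf a₀

lemma alg_mul_uu : algebraMap A (Localization.Away a₀) a₀ * uu a₀ = 1 :=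
  IsLocalization.Away.mul_invSelf a₀

lemma uu_pow_mul (n : ℕ) : uu a₀ ^ n * algebraMap A (Localization.Away a₀) (a₀ ^ n) = 1 := by
  rw [map_pow, ← mul_pow, mul_comm, alg_mul_uu, one_pow]

lemma mk'_eq (x : A) :
    IsLocalization.mk' (Localization.Away a₀) x
      (⟨a₀, Submonoid.mem_powers a₀⟩ : Submonoid.powers a₀) =
      uu a₀ * algebraMap A (Localization.Away a₀) x := by
  rw [uu, IsLocalization.Away.invSelf, mul_comm]
  exact IsLocalization.mk'_eq_mul_mk'_one x _

/-- `x / a₀^n ∈ A[I/a₀]` for `x ∈ I^n`. -/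
lemma mem_affineAlgebra (n : ℕ) : ∀ (x : A), x ∈ I ^ n →
    uu a₀ ^ n * algebraMap A (Localization.Away a₀) x ∈ BlowUp.affineAlgebra A I a₀ := by
  induction n with
  | zero =>
    intro x _
    rw [pow_zero, one_mul]
    exact Subalgebra.algebraMap_mem _ x
  | succ n ih =>
    intro x hx
    rw [pow_succ'] at hx
    refine Submodule.smul_induction_on hx ?_ ?_
    · intro y hy z hz
      have h1 : uu a₀ * algebraMap A (Localization.Away a₀) y ∈ BlowUp.affineAlgebra A I a₀ :=
        Algebra.subset_adjoin ⟨y, hy, (mk'_eq a₀ y).symm⟩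
      have h2 := ih z hz
      have h3 := Subalgebra.mul_mem _ h1 h2
      have e : uu a₀ ^ (n + 1) * algebraMap A (Localization.Away a₀) (y • z) =
          uu a₀ * algebraMap A (Localization.Away a₀) y *
            (uu a₀ ^ n * algebraMap A (Localization.Away a₀) z) := by
        rw [smul_eq_mul, map_mul]
        ring
      rw [e]
      exact h3
    · intro y z hy hz
      rw [map_add, mul_add]
      exact Subalgebra.add_mem _ hy hz

/-- every element of `A[I/a₀]` is of the form `x / a₀^n` with `x ∈ I^n`. -/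
lemma exists_of_mem (h₀ : a₀ ∈ I) (b : Localization.Away a₀)
    (hb : b ∈ BlowUp.affineAlgebra A I a₀) :
    ∃ n : ℕ, ∃ x ∈ I ^ n, b = uu a₀ ^ n * algebraMap A (Localization.Away a₀) x := by
  unfold BlowUp.affineAlgebra at hb
  induction hb using Algebra.adjoin_induction with
  | mem q hq =>
    obtain ⟨x, hx, rfl⟩ := hq
    exact ⟨1, x, by simpa using hx, by rw [pow_one, mk'_eq]⟩
  | algebraMap r => exact ⟨0, r, by simp, by simp⟩
  | add b b' _ _ hb hb' =>
    obtain ⟨n, x, hx, rfl⟩ := hb
    obtain ⟨m, y, hy, rfl⟩ := hb'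
    refine ⟨n + m, a₀ ^ m * x + a₀ ^ n * y, ?_, ?_⟩
    · refine Ideal.add_mem _ ?_ ?_
      · rw [add_comm, pow_add]
        exact Ideal.mul_mem_mul (Ideal.pow_mem_pow h₀ m) hx
      · rw [pow_add]
        exact Ideal.mul_mem_mul (Ideal.pow_mem_pow h₀ n) hy
    · have h1 := uu_pow_mul a₀ m
      have h2 := uu_pow_mul a₀ n
      rw [map_add, map_mul, map_mul, pow_add]
      linear_combination (-(uu a₀ ^ n * algebraMap A (Localization.Away a₀) x)) * h1 +
        (-(uu a₀ ^ m * algebraMap A (Localization.Away a₀) y)) * h2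
  | mul b b' _ _ hb hb' =>
    obtain ⟨n, x, hx, rfl⟩ := hb
    obtain ⟨m, y, hy, rfl⟩ := hb'
    refine ⟨n + m, x * y, ?_, ?_⟩
    · rw [pow_add]
      exact Ideal.mul_mem_mul hx hy
    · rw [map_mul, pow_add]
      ring

/-- multiplication by `a₀^k : I^m → I^n` for `k + m = n` -/
noncomputable def mulPow (h₀ : a₀ ∈ I) (k m n : ℕ) (h : k + m = n) : ↥(I ^ m) →ₗ[A] ↥(I ^ n) :=
  LinearMap.restrict (LinearMap.mulLeft A (a₀ ^ k)) (fun x hx => by
    subst h
    rw [pow_add]
    exact Ideal.mul_mem_mul (Ideal.pow_mem_pow h₀ k) hx)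

lemma mulPow_coe (h₀ : a₀ ∈ I) (k m n : ℕ) (h : k + m = n) (x : ↥(I ^ m)) :
    ((mulPow I a₀ h₀ k m n h x : ↥(I ^ n)) : A) = a₀ ^ k * (x : A) := rfl

lemma down_le {m n : ULift.{u} ℕ} (f : m ⟶ n) : m.down ≤ n.down := (leOfHom f : m ≤ n)

/-- the system `I^n` with transition maps multiplication by `a₀` -/
noncomputable def FF (h₀ : a₀ ∈ I) : ULift.{u} ℕ ⥤ ModuleCat.{u} A where
  obj n := ModuleCat.of A ↥(I ^ n.down)
  map {m n} f := ModuleCat.ofHom (mulPow I a₀ h₀ (n.down - m.down) m.down n.down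
    (Nat.sub_add_cancel (down_le f)))
  map_id n := by
    apply ModuleCat.hom_ext
    apply LinearMap.ext
    intro x
    apply Subtype.ext
    show a₀ ^ (n.down - n.down) * (x : A) = x
    rw [Nat.sub_self, pow_zero, one_mul]
  map_comp {l m n} f g := by
    apply ModuleCat.hom_ext
    apply LinearMap.ext
    intro x
    apply Subtype.ext
    show a₀ ^ (n.down - l.down) * (x : A) = a₀ ^ (n.down - m.down) * (a₀ ^ (m.down - l.down) * x)
    have h1 : l.down ≤ m.down := down_le f
    have h2 : m.down ≤ n.down := down_le g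
    rw [← mul_assoc, ← pow_add]
    congr 2
    omega

/-- the maps `I^n → A[I/a₀]`, `x ↦ x / a₀^n` -/
noncomputable def leg (n : ℕ) : ↥(I ^ n) →ₗ[A] ↥(BlowUp.affineAlgebra A I a₀) where
  toFun x := ⟨uu a₀ ^ n * algebraMap A (Localization.Away a₀) (x : A),
    mem_affineAlgebra I a₀ n x x.2⟩
  map_add' x y := by
    apply Subtype.ext
    show uu a₀ ^ n * algebraMap A (Localization.Away a₀) ((x : A) + (y : A)) =
      uu a₀ ^ n * algebraMap A (Localization.Away a₀) (x : A) +
        uu a₀ ^ n * algebraMap A (Localization.Away a₀) (y : A)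
    rw [map_add, mul_add]
  map_smul' r x := by
    apply Subtype.ext
    show uu a₀ ^ n * algebraMap A (Localization.Away a₀) (r • (x : A)) =
      r • (uu a₀ ^ n * algebraMap A (Localization.Away a₀) (x : A))
    rw [smul_eq_mul, map_mul, Algebra.smul_def]
    ring

lemma leg_coe (n : ℕ) (x : ↥(I ^ n)) :
    ((leg I a₀ n x : ↥(BlowUp.affineAlgebra A I a₀)) : Localization.Away a₀) =
      uu a₀ ^ n * algebraMap A (Localization.Away a₀) (x : A) := rfl

/-- the cocone -/
noncomputable def cc (h₀ : a₀ ∈ I) : Cocone (FF I a₀ h₀) where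
  pt := ModuleCat.of A ↥(BlowUp.affineAlgebra A I a₀)
  ι :=
    { app := fun n => ModuleCat.ofHom (leg I a₀ n.down)
      naturality := by
        intro m n f
        apply ModuleCat.hom_ext
        apply LinearMap.ext
        intro (x : ↥(I ^ m.down))
        apply Subtype.ext
        have h1 : m.down ≤ n.down := down_le f
        show uu a₀ ^ n.down * algebraMap A (Localization.Away a₀)
            (a₀ ^ (n.down - m.down) * (x : A)) =
          uu a₀ ^ m.down * algebraMap A (Localization.Away a₀) (x : A)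
        have h2 := uu_pow_mul a₀ (n.down - m.down)
        have h3 : uu a₀ ^ n.down = uu a₀ ^ (n.down - m.down) * uu a₀ ^ m.down := by
          rw [← pow_add, Nat.sub_add_cancel h1]
        rw [map_mul, h3]
        linear_combination (uu a₀ ^ m.down * algebraMap A (Localization.Away a₀) (x : A)) * h2 }

lemma cc_ι_app (h₀ : a₀ ∈ I) (n : ULift.{u} ℕ) :
    (cc I a₀ h₀).ι.app n = ModuleCat.ofHom (leg I a₀ n.down) := rfl

lemma surj (h₀ : a₀ ∈ I) (b : ↥(BlowUp.affineAlgebra A I a₀)) :
    ∃ (n : ℕ) (x : ↥(I ^ n)), leg I a₀ n x = b := by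
  obtain ⟨n, x, hx, h⟩ := exists_of_mem I a₀ h₀ b.1 b.2
  exact ⟨n, ⟨x, hx⟩, Subtype.ext h.symm⟩

lemma inj (n m : ℕ) (x : ↥(I ^ n)) (y : ↥(I ^ m))
    (h : leg I a₀ n x = leg I a₀ m y) :
    ∃ k : ℕ, a₀ ^ (m + k) * (x : A) = a₀ ^ (n + k) * (y : A) := by
  have h1 : uu a₀ ^ n * algebraMap A (Localization.Away a₀) (x : A) =
      uu a₀ ^ m * algebraMap A (Localization.Away a₀) (y : A) := congrArg Subtype.val h
  have h2 : algebraMap A (Localization.Away a₀) (a₀ ^ m * (x : A)) =
      algebraMap A (Localization.Away a₀) (a₀ ^ n * (y : A)) := by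
    have e1 := uu_pow_mul a₀ n
    have e2 := uu_pow_mul a₀ m
    rw [map_mul, map_mul]
    linear_combination (algebraMap A (Localization.Away a₀) (a₀ ^ n) *
      algebraMap A (Localization.Away a₀) (a₀ ^ m)) * h1 -
      (algebraMap A (Localization.Away a₀) (a₀ ^ m) * algebraMap A (Localization.Away a₀) (x : A))
        * e1 + (algebraMap A (Localization.Away a₀) (a₀ ^ n) *
          algebraMap A (Localization.Away a₀) (y : A)) * e2
  obtain ⟨⟨_, k, rfl⟩, hk⟩ := (IsLocalization.eq_iff_exists (Submonoid.powers a₀)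
    (Localization.Away a₀)).mp h2
  refine ⟨k, ?_⟩
  simp only at hk
  rw [pow_add, pow_add]
  linear_combination hk

/-- `A[I/a₀]` is the colimit of the system `(I^n, a₀)`. -/
noncomputable def isColimitCc (h₀ : a₀ ∈ I) : IsColimit (cc I a₀ h₀) := by
  haveI : ReflectsColimitsOfShape (ULift.{u} ℕ) (forget (ModuleCat.{u} A)) :=
    reflectsColimitsOfShape_of_reflectsIsomorphisms
  apply isColimitOfReflects (forget (ModuleCat.{u} A))
  apply Types.FilteredColimit.isColimitOf
  · intro b
    obtain ⟨n, x, hx⟩ := surj I a₀ h₀ b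
    exact ⟨ULift.up n, x, hx.symm⟩
  · intro i j (xi : ↥(I ^ i.down)) (xj : ↥(I ^ j.down)) h
    obtain ⟨k, hk⟩ := inj I a₀ i.down j.down xi xj h
    refine ⟨ULift.up (i.down + j.down + k), homOfLE (by
      show i.down ≤ i.down + j.down + k
      omega), homOfLE (by
      show j.down ≤ i.down + j.down + k
      omega), ?_⟩
    apply Subtype.ext
    show a₀ ^ (i.down + j.down + k - i.down) * (xi : A) =
      a₀ ^ (i.down + j.down + k - j.down) * (xj : A)
    have e1 : i.down + j.down + k - i.down = j.down + k := by omega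
    have e2 : i.down + j.down + k - j.down = i.down + k := by omega
    rw [e1, e2]
    exact hk

end Groth.Agent.Helper9.TU6
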