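import Mathlib
import Groth.Agent.Helper9.TU5
import Groth.Agent.Helper9.TU6
import Groth.Agent.Helper1.TorColim

/-!
# `Tor_i(A[I/a₀], M)` is killed by a power of `I` for `i ≥ #generators`
-/

set_option autoImplicit false

namespace Groth.Agent.Helper9.TU7

open CategoryTheory CategoryTheory.Limits
open Groth.Agent.Helper9.TU1 Groth.Agent.Helper9.TU3 Groth.Agent.Helper9.TU4
open Groth.Agent.Helper9.TU5 Groth.Agent.Helper9.TU6
open Groth.Agent.Helper1.FlatCx Groth.Agent.Helper1.TorLib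

universe u

variable {A : Type u} [CommRing A]

/-- `0 → J → A → A/J → 0` -/
noncomputable def idealSC (J : Ideal A) : ShortComplex (ModuleCat.{u} A) :=
  ShortComplex.mk (X₁ := ModuleCat.of A ↥J) (X₂ := ModuleCat.of A A)
    (X₃ := ModuleCat.of A (A ⧸ J)) (ModuleCat.ofHom J.subtype) (ModuleCat.ofHom J.mkQ) (by
      apply ModuleCat.hom_ext
      apply LinearMap.ext
      intro x
      exact (Submodule.Quotient.mk_eq_zero J).mpr x.2)

lemma idealSC_shortExact (J : Ideal A) : (idealSC J).ShortExact := by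
  refine ShortComplex.ShortExact.mk' ?_ ?_ ?_
  · rw [ShortComplex.ShortExact.moduleCat_exact_iff_function_exact]
    intro (y : A)
    constructor
    · intro hy
      exact ⟨⟨y, (Submodule.Quotient.mk_eq_zero J).mp hy⟩, rfl⟩
    · rintro ⟨x, rfl⟩
      exact (Submodule.Quotient.mk_eq_zero J).mpr x.2
  · show Mono (ModuleCat.ofHom J.subtype)
    exact (ModuleCat.mono_iff_injective _).mpr (Submodule.injective_subtype _)
  · show Epi (ModuleCat.ofHom J.mkQ)
    exact (ModuleCat.epi_iff_surjective _).mpr (Submodule.mkQ_surjective _)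

/-- `I^c` kills `T_j(I^n)` uniformly in `n`, for `j ≥ #s` and `j ≥ 1`. -/
theorem smul_pow_eq_zero [IsNoetherianRing A] (s : Finset A) :
    ∃ c : ℕ, ∀ (H : HD A) (j : ℕ), s.card ≤ j + 1 → ∀ (n : ℕ) (a : A),
      a ∈ Ideal.span (s : Set A) ^ c →
        ∀ x : (H.T (j + 1)).obj (ModuleCat.of A ↥(Ideal.span (s : Set A) ^ n)), a • x = 0 := by
  obtain ⟨c, hc⟩ := main_smul s
  refine ⟨c, fun H j hj n a ha x => ?_⟩
  exact smul_eq_zero_of_isZero H (idealSC_shortExact (Ideal.span (s : Set A) ^ n)) (j + 1)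
    (H.zero j) a (hc H (j + 1 + 1) (by omega) n a ha) x

/-- **`Tor_i(A[I/a₀], M)` is annihilated by a power of `I`, for `i ≥ #s ≥ 1`.** -/
theorem tor_affineAlgebra_smul [IsNoetherianRing A] (s : Finset A) (a₀ : A)
    (h₀ : a₀ ∈ Ideal.span (s : Set A)) :
    ∃ c : ℕ, ∀ (M : ModuleCat.{u} A) (i : ℕ), s.card ≤ i → 1 ≤ i → ∀ (a : A),
      a ∈ Ideal.span (s : Set A) ^ c →
        ∀ y : ((Tor (ModuleCat.{u} A) i).obj
          (ModuleCat.of A ↥(BlowUp.affineAlgebra A (Ideal.span (s : Set A)) a₀))).obj M,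
          a • y = 0 := by
  obtain ⟨c, hc⟩ := smul_pow_eq_zero s
  refine ⟨c, fun M i hi hi1 a ha y => ?_⟩
  obtain ⟨j, rfl⟩ : ∃ j, i = j + 1 := ⟨i - 1, by omega⟩
  -- `Tor_i(I^n, M)` is killed by `a`
  have key : ∀ (n : ℕ) (w : ((Tor (ModuleCat.{u} A) (j + 1)).obj
      (ModuleCat.of A ↥(Ideal.span (s : Set A) ^ n))).obj M), a • w = 0 := by
    intro n w
    have h0 := hc (hdTor₁ M) j hi n a ha
      ((torIsoT (ProjectiveResolution.of M) (j + 1) _).hom w)
    have hinj : Function.Injective (torIsoT (ProjectiveResolution.of M) (j + 1)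
        (ModuleCat.of A ↥(Ideal.span (s : Set A) ^ n))).hom :=
      (ModuleCat.mono_iff_injective _).mp inferInstance
    apply hinj
    rw [map_smul, map_zero]
    exact h0
  -- pass to the colimit
  have := preservesColimitsOfShape_tor_flip M (j + 1) (ULift.{u} ℕ)
  have hcol := isColimitOfPreserves ((Tor (ModuleCat.{u} A) (j + 1)).flip.obj M)
    (isColimitCc (Ideal.span (s : Set A)) a₀ h₀)
  obtain ⟨n, w, hw⟩ := Concrete.isColimit_exists_rep _ hcol y
  let φ : ((Tor (ModuleCat.{u} A) (j + 1)).obj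
      (ModuleCat.of A ↥(Ideal.span (s : Set A) ^ n.down))).obj M ⟶
      ((Tor (ModuleCat.{u} A) (j + 1)).obj
        (ModuleCat.of A ↥(BlowUp.affineAlgebra A (Ideal.span (s : Set A)) a₀))).obj M :=
    ((Tor (ModuleCat.{u} A) (j + 1)).map
      (ModuleCat.ofHom (leg (Ideal.span (s : Set A)) a₀ n.down))).app M
  let w' : ((Tor (ModuleCat.{u} A) (j + 1)).obj
      (ModuleCat.of A ↥(Ideal.span (s : Set A) ^ n.down))).obj M := w
  have hw' : φ.hom w' = y := hw
  rw [← hw', ← map_smul, key n.down w', map_zero]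

end Groth.Agent.Helper9.TU7
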