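import Mathlib

/-! Direct summands of a f.g. projective module are determined by the image of their tensor powers. -/

set_option autoImplicit false
universe u v

namespace Groth.Agent.Helper9.TensorSummand

open scoped TensorProduct

variable {R : Type u} [CommRing R] {M : Type v} [AddCommGroup M] [Module R M]

/-- the product-of-functionals linear form on a tensor power -/
noncomputable def prodForm (k : ℕ) (Φ : Fin k → (M →ₗ[R] R)) : (⨂[R] _ : Fin k, M) →ₗ[R] R :=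
  PiTensorProduct.lift ((MultilinearMap.mkPiAlgebra R (Fin k) R).compLinearMap Φ)

lemma prodForm_tprod (k : ℕ) (Φ : Fin k → (M →ₗ[R] R)) (m : Fin k → M) :
    prodForm k Φ (PiTensorProduct.tprod R m) = ∏ i, Φ i (m i) := by
  unfold prodForm
  rw [PiTensorProduct.lift.tprod, MultilinearMap.compLinearMap_apply, MultilinearMap.mkPiAlgebra_apply]

lemma prodForm_range_eq_zero (k : ℕ) (Φ : Fin k → (M →ₗ[R] R)) (F : Submodule R M) (i₀ : Fin k)
    (h0 : ∀ y ∈ F, Φ i₀ y = 0) (t : ⨂[R] _ : Fin k, M)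
    (ht : t ∈ LinearMap.range (PiTensorProduct.map (R := R) (fun _ : Fin k => F.subtype))) :
    prodForm k Φ t = 0 := by
  obtain ⟨s, rfl⟩ := ht
  induction s using PiTensorProduct.induction_on with
  | smul_tprod r y =>
    rw [map_smul, map_smul, PiTensorProduct.map_tprod, prodForm_tprod]
    rw [Finset.prod_eq_zero (Finset.mem_univ i₀) (h0 _ (y i₀).2), smul_zero]
  | add a b ha hb => rw [map_add, map_add, ha, hb, add_zero]

/-- key vanishing statement -/
lemma key (k : ℕ) (F₁ F₂ : Submodule R M)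
    (hle : LinearMap.range (PiTensorProduct.map (R := R) (fun _ : Fin (k + 1) => F₁.subtype)) ≤
      LinearMap.range (PiTensorProduct.map (R := R) (fun _ : Fin (k + 1) => F₂.subtype)))
    (ψ : M →ₗ[R] R) (hψ : ∀ y ∈ F₂, ψ y = 0) (Φ : Fin k → (M →ₗ[R] R)) (x : Fin k → M)
    (hx : ∀ i, x i ∈ F₁) (x₀ : M) (hx₀ : x₀ ∈ F₁) :
    (∏ i, Φ i (x i)) * ψ x₀ = 0 := by
  have h1 : PiTensorProduct.tprod R (Fin.cons x₀ x : Fin (k + 1) → M) ∈
      LinearMap.range (PiTensorProduct.map (R := R) (fun _ : Fin (k + 1) => F₁.subtype)) := by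
    refine ⟨PiTensorProduct.tprod R (fun i => ⟨(Fin.cons x₀ x : Fin (k + 1) → M) i, ?_⟩), ?_⟩
    · refine Fin.cases ?_ ?_ i
      · simpa using hx₀
      · intro j; simpa using hx j
    · rw [PiTensorProduct.map_tprod]
      rfl
  have h2 := prodForm_range_eq_zero (k + 1) (Fin.cons ψ Φ : Fin (k + 1) → (M →ₗ[R] R)) F₂ 0
    (by simpa using hψ) _ (hle h1)
  rw [prodForm_tprod, Fin.prod_univ_succ] at h2
  simp only [Fin.cons_zero, Fin.cons_succ] at h2
  rw [mul_comm]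
  exact h2

variable [Module.Finite R M] [Module.Projective R M]

lemma eq_zero_of_forall_dual (m : M) (h : ∀ ψ : M →ₗ[R] R, ψ m = 0) : m = 0 := by
  obtain ⟨n, f, g, -, -, hfg⟩ := Module.Finite.exists_comp_eq_id_of_projective R M
  have h1 : g m = 0 := by
    ext a
    exact h ((LinearMap.proj a).comp g)
  have h2 : f (g m) = m := LinearMap.congr_fun hfg m
  rw [← h2, h1, map_zero]

lemma le_of_range_le (k : ℕ) (F₁ F₂ C₁ C₂ : Submodule R M) (h₁ : IsCompl F₁ C₁) (h₂ : IsCompl F₂ C₂)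
    (hle : LinearMap.range (PiTensorProduct.map (R := R) (fun _ : Fin (k + 1) => F₁.subtype)) ≤
      LinearMap.range (PiTensorProduct.map (R := R) (fun _ : Fin (k + 1) => F₂.subtype))) :
    F₁ ≤ F₂ := by
  obtain ⟨n, f, g, -, -, hfg⟩ := Module.Finite.exists_comp_eq_id_of_projective R M
  -- projection onto F₁
  let p₁ : M →ₗ[R] M := F₁.subtype ∘ₗ Submodule.projectionOnto F₁ C₁ h₁
  have hp₁ : ∀ x ∈ F₁, p₁ x = x := by
    intro x hx
    show ((Submodule.projectionOnto F₁ C₁ h₁ x : F₁) : M) = x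
    rw [Submodule.projectionOnto_apply_of_mem_left h₁ hx]
  have hp₁mem : ∀ x, p₁ x ∈ F₁ := fun x => (Submodule.projectionOnto F₁ C₁ h₁ x).2
  let u : Fin n → M := fun a => p₁ (f (Pi.single a 1))
  let γ : Fin n → (M →ₗ[R] R) := fun a => (LinearMap.proj a).comp g
  have hexp : ∀ x ∈ F₁, x = ∑ a, γ a x • u a := by
    intro x hx
    have h2 : f (g x) = x := LinearMap.congr_fun hfg x
    have h3 : g x = ∑ a, (g x a) • (Pi.single a 1 : Fin n → R) := by
      ext b
      simp [Finset.sum_apply, Pi.single_apply]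
    conv_lhs => rw [← hp₁ x hx, ← h2, h3]
    rw [map_sum, map_sum]
    refine Finset.sum_congr rfl fun a _ => ?_
    rw [map_smul, map_smul]
    rfl
  -- downward induction
  have step : ∀ j : ℕ,
      (∀ (ψ : M →ₗ[R] R), (∀ y ∈ F₂, ψ y = 0) → ∀ (Φ : Fin (j + 1) → (M →ₗ[R] R)) (x : Fin (j + 1) → M),
        (∀ i, x i ∈ F₁) → ∀ x₀ ∈ F₁, (∏ i, Φ i (x i)) * ψ x₀ = 0) →
      (∀ (ψ : M →ₗ[R] R), (∀ y ∈ F₂, ψ y = 0) → ∀ (Φ : Fin j → (M →ₗ[R] R)) (x : Fin j → M),
        (∀ i, x i ∈ F₁) → ∀ x₀ ∈ F₁, (∏ i, Φ i (x i)) * ψ x₀ = 0) := by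
    intro j H ψ hψ Φ x hx x₀ hx₀
    conv_lhs => rw [hexp x₀ hx₀]
    rw [map_sum, Finset.mul_sum]
    refine Finset.sum_eq_zero fun a _ => ?_
    have := H ψ hψ (Fin.snoc Φ (γ a) : Fin (j + 1) → (M →ₗ[R] R)) (Fin.snoc x x₀ : Fin (j + 1) → M)
      (by
        intro i
        refine Fin.lastCases ?_ ?_ i
        · simpa using hx₀
        · intro i; simpa using hx i)
      (u a) (hp₁mem _)
    rw [Fin.prod_univ_castSucc] at this
    simp only [Fin.snoc_castSucc, Fin.snoc_last] at this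
    rw [map_smul, smul_eq_mul, ← mul_assoc]
    exact this
  have all : ∀ j : ℕ,
      (∀ (ψ : M →ₗ[R] R), (∀ y ∈ F₂, ψ y = 0) → ∀ (Φ : Fin j → (M →ₗ[R] R)) (x : Fin j → M),
        (∀ i, x i ∈ F₁) → ∀ x₀ ∈ F₁, (∏ i, Φ i (x i)) * ψ x₀ = 0) →
      (∀ (ψ : M →ₗ[R] R), (∀ y ∈ F₂, ψ y = 0) → ∀ x₀ ∈ F₁, ψ x₀ = 0) := by
    intro j
    induction j with
    | zero =>
      intro H ψ hψ x₀ hx₀
      have := H ψ hψ Fin.elim0 Fin.elim0 (fun i => i.elim0) x₀ hx₀
      simpa using this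
    | succ j ih => exact fun H => ih (step j H)
  have hfin := all k (fun ψ hψ Φ x hx x₀ hx₀ => key k F₁ F₂ hle ψ hψ Φ x hx x₀ hx₀)
  -- conclude
  intro x hx
  let q : M →ₗ[R] M := C₂.subtype ∘ₗ Submodule.projectionOnto C₂ F₂ h₂.symm
  have hq : ∀ y ∈ F₂, q y = 0 := by
    intro y hy
    show ((Submodule.projectionOnto C₂ F₂ h₂.symm y : C₂) : M) = 0
    rw [(Submodule.projectionOnto_apply_eq_zero_iff h₂.symm).mpr hy]
    rfl
  have hqx : q x = 0 := by
    refine eq_zero_of_forall_dual (R := R) _ fun ψ => ?_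
    exact hfin (ψ.comp q) (fun y hy => by rw [LinearMap.comp_apply, hq y hy, map_zero]) x hx
  have : Submodule.projectionOnto C₂ F₂ h₂.symm x = 0 := Subtype.ext hqx
  exact (Submodule.projectionOnto_apply_eq_zero_iff h₂.symm).mp this

end Groth.Agent.Helper9.TensorSummand
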