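import Mathlib

set_option autoImplicit false

/-!
# The third isomorphism theorem as a short exact sequence of cokernels
-/

namespace Groth.Agent.Helper9.ThirdIso

open CategoryTheory Limits

variable {C : Type*} [Category C] [Abelian C]

theorem shortExact {A B D : C} (a : A ⟶ B) (b : B ⟶ D) [Mono b] (c : A ⟶ D) (p : A ⟶ A)
    (q : A ⟶ B) (r : D ⟶ D) (h1 : a ≫ b = p ≫ c) (h2 : c ≫ r = q ≫ b) (hp : p = 𝟙 A)
    (hr : r = 𝟙 D) :
    ∃ w : cokernel.map a c p b h1 ≫ cokernel.map c b q r h2 = 0,
      (ShortComplex.mk _ _ w).ShortExact := by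
  subst hp hr
  have hc : c = a ≫ b := by rw [h1, Category.id_comp]
  subst hc
  have hq : q = a := by
    rw [Category.comp_id] at h2
    exact ((cancel_mono b).1 h2).symm
  subst hq
  have w : cokernel.map q (q ≫ b) (𝟙 A) b h1 ≫ cokernel.map (q ≫ b) b q (𝟙 D) h2 = 0 := by
    apply coequalizer.hom_ext
    simp
  refine ⟨w, ?_⟩
  have hmono : Mono (cokernel.map q (q ≫ b) (𝟙 A) b h1) := by
    rw [Preadditive.mono_iff_cancel_zero]
    intro K x hx
    obtain ⟨K', π, hπ, y, hy⟩ := surjective_up_to_refinements_of_epi (cokernel.π q) x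
    have h3 : (y ≫ b) ≫ cokernel.π (q ≫ b) = 0 := by
      have : y ≫ cokernel.π q ≫ cokernel.map q (q ≫ b) (𝟙 A) b h1 = 0 := by
        rw [← Category.assoc, ← hy, Category.assoc, hx, comp_zero]
      rw [cokernel.π_desc] at this
      rw [Category.assoc]
      exact this
    have hex : (ShortComplex.mk (q ≫ b) (cokernel.π (q ≫ b)) (cokernel.condition _)).Exact :=
      ShortComplex.exact_of_g_is_cokernel _ (cokernelIsCokernel _)
    obtain ⟨K'', π', hπ', z, hz⟩ := hex.exact_up_to_refinements (y ≫ b) h3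
    have h4 : π' ≫ y = z ≫ q := by
      apply (cancel_mono b).1
      rw [Category.assoc, Category.assoc]
      exact hz
    have h5 : (π' ≫ π) ≫ x = 0 := by
      rw [Category.assoc, hy, ← Category.assoc, h4, Category.assoc, cokernel.condition, comp_zero]
    haveI : Epi (π' ≫ π) := epi_comp _ _
    rw [← cancel_epi (π' ≫ π), h5, comp_zero]
  have hepi : Epi (cokernel.map (q ≫ b) b q (𝟙 D) h2) := by
    have : cokernel.π (q ≫ b) ≫ cokernel.map (q ≫ b) b q (𝟙 D) h2 = cokernel.π b := by
      rw [cokernel.π_desc, Category.id_comp]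
    exact epi_of_epi_fac this
  refine { exact := ?_, mono_f := hmono, epi_g := hepi }
  rw [ShortComplex.exact_iff_exact_up_to_refinements]
  intro K x hx
  dsimp at x hx ⊢
  obtain ⟨K', π, hπ, y, hy⟩ := surjective_up_to_refinements_of_epi (cokernel.π (q ≫ b)) x
  have h3 : y ≫ cokernel.π b = 0 := by
    have : y ≫ cokernel.π (q ≫ b) ≫ cokernel.map (q ≫ b) b q (𝟙 D) h2 = 0 := by
      rw [← Category.assoc, ← hy, Category.assoc, hx, comp_zero]
    rw [cokernel.π_desc, Category.id_comp] at this
    exact this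
  have hex : (ShortComplex.mk b (cokernel.π b) (cokernel.condition _)).Exact :=
    ShortComplex.exact_of_g_is_cokernel _ (cokernelIsCokernel _)
  obtain ⟨K'', π', hπ', z, hz⟩ := hex.exact_up_to_refinements y h3
  refine ⟨K'', π' ≫ π, epi_comp _ _, z ≫ cokernel.π q, ?_⟩
  rw [Category.assoc, hy, ← Category.assoc, hz, Category.assoc, Category.assoc, cokernel.π_desc]

end Groth.Agent.Helper9.ThirdIso
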