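import Mathlib

open Complex MeasureTheory intervalIntegral

namespace Groth.Agent.Helper9.Toep

/-- the character -/
noncomputable def E (n : ℤ) (y : ℝ) : ℂ := Complex.exp (Complex.I * (n : ℂ) * (y : ℂ))

theorem E_add (a b : ℤ) (y : ℝ) : E (a + b) y = E a y * E b y := by
  unfold E
  rw [← Complex.exp_add]
  congr 1
  push_cast
  ring

theorem E_zero (y : ℝ) : E 0 y = 1 := by simp [E]

theorem E_conj (n : ℤ) (y : ℝ) : (starRingEnd ℂ) (E n y) = E (-n) y := by
  unfold E
  rw [← Complex.exp_conj]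
  congr 1
  simp only [map_mul, Complex.conj_I, Complex.conj_ofReal, Int.cast_neg]
  have : (starRingEnd ℂ) (n : ℂ) = (n : ℂ) := by
    have h := Complex.conj_ofReal (n : ℝ)
    simpa using h
  rw [this]; ring

theorem E_continuous (n : ℤ) : Continuous (E n) := by
  unfold E
  fun_prop

theorem integral_E (n : ℤ) :
    ∫ y in (0 : ℝ)..(2 * Real.pi), E n y = if n = 0 then (2 * Real.pi : ℂ) else 0 := by
  by_cases hn : n = 0
  · subst hn
    simp [E_zero]
  · rw [if_neg hn]
    unfold E
    have hc : Complex.I * (n : ℂ) ≠ 0 := mul_ne_zero Complex.I_ne_zero (by exact_mod_cast hn)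
    rw [integral_exp_mul_complex hc]
    have : Complex.exp (Complex.I * (n : ℂ) * ((2 * Real.pi : ℝ) : ℂ)) = 1 := by
      have := Complex.exp_int_mul_two_pi_mul_I n
      rw [← this]
      congr 1
      push_cast
      ring
    rw [this]
    simp

theorem key (m : ℕ) (x : Fin m → ℂ) (c : ℤ → ℂ) (S : Finset ℤ) :
    ∫ y in (0:ℝ)..(2 * Real.pi),
      (∑ k ∈ S, c k * E k y) *
        ((∑ i, star (x i) * E (i : ℤ) y) * (∑ j, x j * E (-(j : ℤ)) y))
    = (2 * Real.pi : ℂ) * ∑ i : Fin m, ∑ j : Fin m,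
        if ((j : ℤ) - (i : ℤ)) ∈ S then c ((j : ℤ) - (i : ℤ)) * star (x i) * x j else 0 := by
  classical
  have h1 : ∀ y : ℝ, (∑ k ∈ S, c k * E k y) *
        ((∑ i, star (x i) * E (i : ℤ) y) * (∑ j, x j * E (-(j : ℤ)) y))
      = ∑ k ∈ S, ∑ i : Fin m, ∑ j : Fin m,
          (c k * star (x i) * x j) * E (k + (i : ℤ) - (j : ℤ)) y := by
    intro y
    rw [Finset.sum_mul_sum, Finset.sum_mul]
    refine Finset.sum_congr rfl fun k _ => ?_
    rw [Finset.mul_sum]
    refine Finset.sum_congr rfl fun i _ => ?_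
    rw [Finset.mul_sum]
    refine Finset.sum_congr rfl fun j _ => ?_
    rw [show k + (i:ℤ) - (j:ℤ) = k + ((i:ℤ) + (-(j:ℤ))) by ring, E_add, E_add]
    ring
  have hcont : ∀ (a : ℂ) (n : ℤ), Continuous fun y => a * E n y :=
    fun a n => continuous_const.mul (E_continuous n)
  have hint : ∀ (k : ℤ) (i j : Fin m),
      ∫ y in (0:ℝ)..(2 * Real.pi), (c k * star (x i) * x j) * E (k + (i : ℤ) - (j : ℤ)) y
        = if k = (j : ℤ) - (i : ℤ) then (2 * Real.pi : ℂ) * (c k * star (x i) * x j) else 0 := by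
    intro k i j
    rw [intervalIntegral.integral_const_mul, integral_E]
    by_cases h : k = (j : ℤ) - (i : ℤ)
    · rw [if_pos h, if_pos (by omega)]; ring
    · rw [if_neg h, if_neg (by omega)]; ring
  simp_rw [h1]
  rw [intervalIntegral.integral_finsetSum]
  swap
  · intro k _
    refine Continuous.intervalIntegrable ?_ _ _
    exact continuous_finsetSum _ fun i _ => continuous_finsetSum _ fun j _ => hcont _ _
  have h2 : ∀ k ∈ S, ∫ y in (0:ℝ)..(2 * Real.pi), ∑ i : Fin m, ∑ j : Fin m,
          (c k * star (x i) * x j) * E (k + (i : ℤ) - (j : ℤ)) y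
        = ∑ i : Fin m, ∑ j : Fin m,
          if k = (j : ℤ) - (i : ℤ) then (2 * Real.pi : ℂ) * (c k * star (x i) * x j) else 0 := by
    intro k _
    rw [intervalIntegral.integral_finsetSum]
    swap
    · intro i _
      refine Continuous.intervalIntegrable ?_ _ _
      exact continuous_finsetSum _ fun j _ => hcont _ _
    refine Finset.sum_congr rfl fun i _ => ?_
    rw [intervalIntegral.integral_finsetSum]
    swap
    · intro j _
      exact (hcont _ _).intervalIntegrable _ _
    exact Finset.sum_congr rfl fun j _ => hint k i j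
  rw [Finset.sum_congr rfl h2, Finset.sum_comm, Finset.mul_sum]
  refine Finset.sum_congr rfl fun i _ => ?_
  rw [Finset.sum_comm, Finset.mul_sum]
  refine Finset.sum_congr rfl fun j _ => ?_
  rw [Finset.sum_ite_eq']
  by_cases h : ((j : ℤ) - (i : ℤ)) ∈ S
  · rw [if_pos h, if_pos h]
  · rw [if_neg h, if_neg h, mul_zero]

end Groth.Agent.Helper9.Toep
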