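import Mathlib
import Groth.Prelude.Def_CohTop
import Groth.Prelude.Def_CohPull
import Groth.Agent.Helper9.ExtRetr

/-! Cohomology of `T` is a retract of the cohomology of `T'` when `T' → T` has a continuous
section (abelian sheaves on topological spaces). -/

set_option autoImplicit false
set_option linter.style.haveILetI false
universe u

namespace Groth.Agent.Helper9.TopRetr

open CategoryTheory CategoryTheory.Limits TopologicalSpace Opposite Abelian
open Groth.Agent.Helper9

variable {T T' : TopCat.{u}} (g : T' ⟶ T) (t : T ⟶ T') (h : t ≫ g = 𝟙 T)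

/-- `t_* g_*` is the identity -/
noncomputable def pushPushId : CohTop.push t ⋙ CohTop.push g ≅ 𝟭 (CohTop.Ab T) :=
  Functor.sheafPushforwardContinuousComp' (F := Opens.map g) (G := Opens.map t) (FG := 𝟭 (Opens T))
    ((Opens.mapComp t g).symm ≪≫ Opens.mapIso _ _ h ≪≫ Opens.mapId T) AddCommGrpCat.{u}
    (Opens.grothendieckTopology T) (Opens.grothendieckTopology T') (Opens.grothendieckTopology T) ≪≫
  Functor.sheafPushforwardContinuousId _ _

/-- `g⁻¹` followed by `t⁻¹` is the identity -/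
noncomputable def α : CohPull.inv g ⋙ CohPull.inv t ≅ 𝟭 (CohTop.Ab T) :=
  Adjunction.leftAdjointUniq ((CohPull.invPushAdj g).comp (CohPull.invPushAdj t))
    (Adjunction.id.ofNatIsoRight (pushPushId g t h).symm)

/-- global sections of a direct image -/
noncomputable def pushGsecIso :
    CohTop.push g ⋙ (sheafSections (Opens.grothendieckTopology T) AddCommGrpCat.{u}).obj (op ⊤) ≅
      (sheafSections (Opens.grothendieckTopology T') AddCommGrpCat.{u}).obj (op ⊤) :=
  NatIso.ofComponents (fun _ => Iso.refl _)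

/-- the inverse image of a constant sheaf is constant -/
noncomputable def pullConstIso :
    constantSheaf (Opens.grothendieckTopology T) AddCommGrpCat.{u} ⋙ CohPull.inv g ≅
      constantSheaf (Opens.grothendieckTopology T') AddCommGrpCat.{u} :=
  Adjunction.leftAdjointUniq
    (((CohPull.adjZ T).comp (CohPull.invPushAdj g)).ofNatIsoRight (pushGsecIso g)) (CohPull.adjZ T')

include h in
theorem exists_retract' (G : CohTop.Ab T) (G' : CohTop.Ab T') (e : G' ≅ (CohPull.inv g).obj G)
    (q : ℕ) :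
    ∃ (ι : AddCommGrpCat.of (CohTop.H G q) ⟶ AddCommGrpCat.of (CohTop.H G' q))
      (ρ : AddCommGrpCat.of (CohTop.H G' q) ⟶ AddCommGrpCat.of (CohTop.H G q)),
      ι ≫ ρ = 𝟙 _ := by
  let c : CohTop.const T' (ULift.{u} ℤ) ≅ (CohPull.inv g).obj (CohTop.const T (ULift.{u} ℤ)) :=
    ((pullConstIso g).app (AddCommGrpCat.of (ULift.{u} ℤ))).symm
  let ι₀ := ExtRetr.ι (CohPull.inv g) c G q
  let ρ₀ := ExtRetr.ρ (CohPull.inv g) (CohPull.inv t) (α g t h) c G q
  let a : CohTop.H ((CohPull.inv g).obj G) q →+ CohTop.H G' q := Sheaf.H.map e.inv q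
  let b : CohTop.H G' q →+ CohTop.H ((CohPull.inv g).obj G) q := Sheaf.H.map e.hom q
  refine ⟨AddCommGrpCat.ofHom (a.comp ι₀), AddCommGrpCat.ofHom (ρ₀.comp b), ?_⟩
  ext x
  show ρ₀ (b (a (ι₀ x))) = x
  have hba : b (a (ι₀ x)) = ι₀ x := by
    show Sheaf.H.map e.hom q (Sheaf.H.map e.inv q (ι₀ x)) = ι₀ x
    simp only [Sheaf.H.map_apply]
    rw [Ext.comp_assoc_of_third_deg_zero, Ext.mk₀_comp_mk₀, Iso.inv_hom_id, Ext.comp_mk₀_id]
  rw [hba]
  exact ExtRetr.ρ_ι (CohPull.inv g) (CohPull.inv t) (α g t h) c G q x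

include h in
theorem exists_retract (G : CohTop.Ab T) (G' : CohTop.Ab T') (e : G' ≅ (CohTop.pull g).obj G)
    (q : ℕ) :
    ∃ (ι : AddCommGrpCat.of (CohTop.H G q) ⟶ AddCommGrpCat.of (CohTop.H G' q))
      (ρ : AddCommGrpCat.of (CohTop.H G' q) ⟶ AddCommGrpCat.of (CohTop.H G q)),
      ι ≫ ρ = 𝟙 _ :=
  exists_retract' g t h G G' e q

end Groth.Agent.Helper9.TopRetr
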