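import Mathlib
import Groth.Prelude.Def_CohTop
import Groth.Prelude.Def_SpSeq
import Groth.Agent.Helper9.TopRetr
import Groth.Agent.Helper9.SpOne3

/-! The descent spectral sequence of a continuous map with a section. -/

set_option autoImplicit false
set_option linter.style.haveILetI false
universe u

namespace Groth.Agent.Helper9.TopDescSect

open CategoryTheory CategoryTheory.Limits TopologicalSpace Opposite
open Groth.Agent.Helper9

section PullComp

variable {T' T S : TopCat.{u}} (g : T' ⟶ T) (a : T ⟶ S)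

noncomputable def pushComp : CohTop.push g ⋙ CohTop.push a ≅ CohTop.push (g ≫ a) :=
  Functor.sheafPushforwardContinuousComp' (F := Opens.map a) (G := Opens.map g)
    (FG := Opens.map (g ≫ a)) (Opens.mapComp g a).symm AddCommGrpCat.{u}
    (Opens.grothendieckTopology S) (Opens.grothendieckTopology T) (Opens.grothendieckTopology T')

noncomputable def pullComp : CohTop.pull (g ≫ a) ≅ CohTop.pull a ⋙ CohTop.pull g :=
  Adjunction.leftAdjointUniq (CohPull.invPushAdj (g ≫ a))
    (((CohPull.invPushAdj a).comp (CohPull.invPushAdj g)).ofNatIsoRight (pushComp g a))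

noncomputable def pullCompOfEq (a' : T' ⟶ S) (w : g ≫ a = a') :
    CohTop.pull a' ≅ CohTop.pull a ⋙ CohTop.pull g := by
  subst w
  exact pullComp g a

end PullComp

variable {X S : TopCat.{u}} (f : X ⟶ S) (s : S ⟶ X) (hs : s ≫ f = 𝟙 S)

/-- the `(n+1)`-fold fibre product -/
noncomputable abbrev W (n : ℕ) : TopCat.{u} :=
  widePullback S (fun _ : Fin (n + 1) => X) (fun _ => f)

noncomputable abbrev a (n : ℕ) : W f n ⟶ S := WidePullback.base (fun _ : Fin (n + 1) => f)

/-- forget the last factor -/
noncomputable def g (n : ℕ) : W f (n + 1) ⟶ W f n :=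
  WidePullback.lift (a f (n + 1)) (fun i : Fin (n + 1) => WidePullback.π _ (Fin.castSucc i))
    (fun _ => WidePullback.π_arrow _ _)

lemma g_a (n : ℕ) : g f n ≫ a f n = a f (n + 1) :=
  WidePullback.lift_base _ _ _ _

include hs in
/-- add the section as last factor -/
noncomputable def t (n : ℕ) : W f n ⟶ W f (n + 1) :=
  WidePullback.lift (a f n)
    (fun j : Fin (n + 1 + 1) => Fin.lastCases (a f n ≫ s) (fun i => WidePullback.π _ i) j)
    (fun j => by
      refine Fin.lastCases ?_ (fun i => ?_) j
      · rw [Fin.lastCases_last, Category.assoc, hs, Category.comp_id]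
      · rw [Fin.lastCases_castSucc]
        exact WidePullback.π_arrow _ _)

lemma t_g (n : ℕ) : t f s hs n ≫ g f n = 𝟙 _ := by
  apply WidePullback.hom_ext
  · intro i
    rw [Category.assoc, Category.id_comp]
    dsimp only [g, t]
    rw [WidePullback.lift_π, WidePullback.lift_π, Fin.lastCases_castSucc]
  · rw [Category.assoc, Category.id_comp]
    dsimp only [g, t]
    rw [WidePullback.lift_base, WidePullback.lift_base]

include hs in
noncomputable def t₀ : S ⟶ W f 0 :=
  WidePullback.lift (𝟙 S) (fun _ => s) (fun _ => hs)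

lemma t₀_a : t₀ f s hs ≫ a f 0 = 𝟙 S :=
  WidePullback.lift_base _ _ _ _

variable (F : CohTop.Ab S) (q : ℕ)

/-- the groups -/
noncomputable def A : ℕ → AddCommGrpCat.{u}
  | 0 => AddCommGrpCat.of (CohTop.H F q)
  | n + 1 => AddCommGrpCat.of (CohTop.H ((CohTop.pull (a f n)).obj F) q)

include hs in
lemma exists_retract : ∀ n : ℕ, ∃ (ι : A f F q n ⟶ A f F q (n + 1))
    (ρ : A f F q (n + 1) ⟶ A f F q n), ι ≫ ρ = 𝟙 _
  | 0 => TopRetr.exists_retract (a f 0) (t₀ f s hs) (t₀_a f s hs) F _ (Iso.refl _) q
  | n + 1 => TopRetr.exists_retract (g f n) (t f s hs n) (t_g f s hs n)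
      ((CohTop.pull (a f n)).obj F) ((CohTop.pull (a f (n + 1))).obj F)
      ((pullCompOfEq (g f n) (a f n) (a f (n + 1)) (g_a f n)).app F) q

/-- the tower of split monomorphisms -/
noncomputable def sys : SpRetr1.RetrSys AddCommGrpCat.{u} where
  A := A f F q
  ι n := (exists_retract f s hs F q n).choose
  ρ n := (exists_retract f s hs F q n).choose_spec.choose
  ι_ρ n := (exists_retract f s hs F q n).choose_spec.choose_spec

include hs in
theorem main :
    ∃ (E : CohomologicalSpectralSequence AddCommGrpCat.{u} 1)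
      (ab : SpSeq.Abutment E (fun n : ℤ =>
        if 0 ≤ n then AddCommGrpCat.of (CohTop.H F n.toNat) else AddCommGrpCat.of PUnit.{u + 1})),
      (∀ n, ab.IsFinite n) ∧ SpSeq.IsBounded E ∧
      ∀ p q : ℤ, Nonempty ((E.page 1 le_rfl).X (p, q) ≅
        (if 0 ≤ p ∧ 0 ≤ q then
          AddCommGrpCat.of (CohTop.H ((CohTop.pull
            (WidePullback.base (fun _ : Fin (p.toNat + 1) => f) :
              widePullback S (fun _ : Fin (p.toNat + 1) => X) (fun _ => f) ⟶ S)).obj F) q.toNat)
         else AddCommGrpCat.of PUnit.{u + 1})) :=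
  SpOne3.main (fun q => sys f s hs F q) (AddCommGrpCat.of PUnit.{u + 1})
    (AddCommGrpCat.of PUnit.{u + 1}) (AddCommGrpCat.isZero_of_subsingleton _)
    (AddCommGrpCat.isZero_of_subsingleton _)

end Groth.Agent.Helper9.TopDescSect
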