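import Mathlib
import Groth.Agent.Helper9.TopQuot

set_option autoImplicit false
set_option linter.unusedSectionVars false

namespace Groth.Agent.Helper9.TopQuot

open CategoryTheory CategoryTheory.Limits MonoidalCategory CartesianMonoidalCategory MonObj

universe v u

variable {𝒯 : Type u} [Category.{v} 𝒯] [CartesianMonoidalCategory 𝒯]

theorem act_pt {G X T : 𝒯} [MonObj G] (v : X ⟶ G) (a : T ⟶ G) (h : T ⟶ X) :
    lift a h ≫ (G ◁ v) ≫ μ[G] = a * (h ≫ v) := by
  rw [lift_whiskerLeft_assoc, ← Hom.mul_def]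

section SecondIso

variable {G H L Q : 𝒯} [GrpObj G] [GrpObj H] [GrpObj L] (u : H ⟶ G) [IsMonHom u] [Mono u]
  (l : L ⟶ G) [IsMonHom l] [Mono l] [HasPullbacks 𝒯] (q : G ⟶ Q)
  (hfib : ∀ ⦃T : 𝒯⦄ (a b : T ⟶ G), a ≫ q = b ≫ q ↔ ∃ h : T ⟶ H, b = a * (h ≫ u))

include hfib in
theorem exists_inter {T : 𝒯} (a b : T ⟶ L) (hab : a ≫ l ≫ q = b ≫ l ≫ q) :
    ∃ n : T ⟶ pullback u l, b = a * (n ≫ pullback.snd u l) := by
  rw [← Category.assoc, ← Category.assoc] at hab
  obtain ⟨h, hh⟩ := (hfib (a ≫ l) (b ≫ l)).mp hab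
  have h1 : h ≫ u = (a⁻¹ * b) ≫ l := by
    rw [MonObj.mul_comp, GrpObj.inv_comp, hh, inv_mul_cancel_left]
  refine ⟨pullback.lift h (a⁻¹ * b) h1, ?_⟩
  rw [pullback.lift_snd, mul_inv_cancel_left]

include hfib in
/-- the kernel pair of `L ⟶ G ⟶ G/H` is `L × (H ∩ L)` -/
theorem kerPair_second :
    IsKernelPair (l ≫ q) (fst L (pullback u l)) ((L ◁ pullback.snd u l) ≫ μ[L]) := by
  have hw : fst L (pullback u l) ≫ l ≫ q = ((L ◁ pullback.snd u l) ≫ μ[L]) ≫ l ≫ q := by
    apply hom_ext_lift₂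
    intro T a n
    have e1 : lift a n ≫ ((L ◁ pullback.snd u l) ≫ μ[L]) ≫ l ≫ q =
        ((a * (n ≫ pullback.snd u l)) ≫ l) ≫ q := by
      rw [← act_pt]
      simp only [Category.assoc]
    rw [lift_fst_assoc, e1, ← Category.assoc, MonObj.mul_comp]
    apply (hfib _ _).mpr
    refine ⟨n ≫ pullback.fst u l, ?_⟩
    rw [Category.assoc, Category.assoc, pullback.condition]
  refine ⟨⟨hw⟩, ⟨PullbackCone.IsLimit.mk _
    (fun s => lift s.fst (exists_inter u l q hfib s.fst s.snd s.condition).choose) ?_ ?_ ?_⟩⟩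
  · intro s
    rw [lift_fst]
  · intro s
    rw [act_pt]
    exact (exists_inter u l q hfib s.fst s.snd s.condition).choose_spec.symm
  · intro s m hm1 hm2
    rw [dec m, hm1]
    congr 1
    have h1 := (exists_inter u l q hfib s.fst s.snd s.condition).choose_spec
    rw [dec m, act_pt, hm1] at hm2
    have h2 : (m ≫ snd L (pullback u l)) ≫ pullback.snd u l =
        (exists_inter u l q hfib s.fst s.snd s.condition).choose ≫ pullback.snd u l := by
      apply mul_left_cancel (a := s.fst)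
      rw [hm2, ← h1]
    apply pullback.hom_ext
    · rw [← cancel_mono u, Category.assoc, Category.assoc, pullback.condition, ← Category.assoc,
        ← Category.assoc, h2]
      simp only [Category.assoc, pullback.condition]
    · exact h2

end SecondIso

end Groth.Agent.Helper9.TopQuot
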