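import Mathlib
import Groth.Agent.Helper9.TopQuot

set_option autoImplicit false
set_option linter.unusedSectionVars false

namespace Groth.Agent.Helper9.TopQuot

open CategoryTheory CategoryTheory.Limits MonoidalCategory CartesianMonoidalCategory MonObj

universe v u

variable {𝒯 : Type u} [Category.{v} 𝒯] [CartesianMonoidalCategory 𝒯]

section QuotAct

variable (hU : EpiUE 𝒯)
variable {G H Q : 𝒯} [GrpObj G] [GrpObj H] (u : H ⟶ G) [IsMonHom u]
  (p : G ⟶ Q) [Epi p]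
  (hfib : ∀ ⦃T : 𝒯⦄ (a b : T ⟶ G), a ≫ p = b ≫ p ↔ ∃ h : T ⟶ H, b = a * (h ≫ u))

include hU hfib in
theorem exists_act : ∃ act : G ⊗ Q ⟶ Q, (G ◁ p) ≫ act = μ[G] ≫ p := by
  haveI := epi_whiskerLeft hU p G
  apply desc_q hU (G ◁ p) (μ[G] ≫ p)
  intro T e₁ e₂ h12
  rw [dec e₁, dec e₂] at h12 ⊢
  set a₁ := e₁ ≫ fst G G
  set b₁ := e₁ ≫ snd G G
  set a₂ := e₂ ≫ fst G G
  set b₂ := e₂ ≫ snd G G
  rw [lift_whiskerLeft, lift_whiskerLeft] at h12
  have ha : a₁ = a₂ := by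
    have := congrArg (fun e => e ≫ fst G Q) h12
    simpa using this
  have hb : b₁ ≫ p = b₂ ≫ p := by
    have := congrArg (fun e => e ≫ snd G Q) h12
    simpa using this
  obtain ⟨k, hk⟩ := (hfib b₁ b₂).mp hb
  rw [← Category.assoc, ← Category.assoc, ← Hom.mul_def, ← Hom.mul_def]
  apply (hfib _ _).mpr
  refine ⟨k, ?_⟩
  rw [← ha, hk, _root_.mul_assoc]

section Build

variable (act : G ⊗ Q ⟶ Q) (hact : (G ◁ p) ≫ act = μ[G] ≫ p)

include hact in
theorem actq_pt {T : 𝒯} (a b : T ⟶ G) : lift a (b ≫ p) ≫ act = (a * b) ≫ p := by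
  rw [← lift_whiskerLeft, Category.assoc, hact, ← Category.assoc, ← Hom.mul_def]

include hU hact in
theorem act_one : (η[G] ▷ Q) ≫ act = (λ_ Q).hom := by
  haveI := epi_whiskerLeft hU p (𝟙_ 𝒯)
  rw [← cancel_epi (𝟙_ 𝒯 ◁ p)]
  apply hom_ext_lift₂
  intro T t g
  rw [← Category.assoc, lift_whiskerLeft, ← Category.assoc, lift_whiskerRight,
    actq_pt p act hact, toUnit_unique t (toUnit T), ← Hom.one_def,
    _root_.one_mul, ← Category.assoc, lift_whiskerLeft, leftUnitor_hom, lift_snd]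

include hU hact in
theorem act_mul : (μ[G] ▷ Q) ≫ act = (α_ G G Q).hom ≫ (G ◁ act) ≫ act := by
  haveI := epi_whiskerLeft hU p (G ⊗ G)
  rw [← cancel_epi ((G ⊗ G) ◁ p)]
  apply hom_ext_lift₂
  intro T ab c
  rw [dec ab]
  set a := ab ≫ fst G G
  set b := ab ≫ snd G G
  rw [← Category.assoc, lift_whiskerLeft, ← Category.assoc, lift_whiskerRight, ← Hom.mul_def,
    actq_pt p act hact, ← Category.assoc, lift_whiskerLeft, lift_lift_associator_hom_assoc,
    ← Category.assoc, lift_whiskerLeft, actq_pt p act hact, actq_pt p act hact, _root_.mul_assoc]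

end Build

include hU hfib in
theorem existsUnique_act : ∃! act : G ⊗ Q ⟶ Q, (η[G] ▷ Q) ≫ act = (λ_ Q).hom ∧
    (μ[G] ▷ Q) ≫ act = (α_ G G Q).hom ≫ (G ◁ act) ≫ act ∧ μ[G] ≫ p = (G ◁ p) ≫ act := by
  obtain ⟨act, hact⟩ := exists_act hU u p hfib
  refine ⟨act, ⟨act_one hU p act hact, act_mul hU p act hact, hact.symm⟩, ?_⟩
  rintro act' ⟨-, -, h3⟩
  haveI := epi_whiskerLeft hU p G
  rw [← cancel_epi (G ◁ p), hact, ← h3]

end QuotAct

end Groth.Agent.Helper9.TopQuot
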