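import Mathlib
import Groth.Agent.Helper9.TopQuot

set_option autoImplicit false
set_option linter.unusedSectionVars false

namespace Groth.Agent.Helper9.TopQuot

open CategoryTheory CategoryTheory.Limits MonoidalCategory CartesianMonoidalCategory MonObj

universe v u

variable {𝒯 : Type u} [Category.{v} 𝒯] [CartesianMonoidalCategory 𝒯]

section ThirdIso

variable (hU : EpiUE 𝒯) [HasPullbacks 𝒯]
variable {G K H QH QKH QK : 𝒯} [GrpObj G] [GrpObj K] [GrpObj H]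
  (h : H ⟶ K) (k : K ⟶ G) [IsMonHom h] [IsMonHom k] [Mono k]
  (pH : G ⟶ QH) (pKH : K ⟶ QKH) (pK : G ⟶ QK) [Epi pH] [Epi pKH] [Epi pK]
  (fibH : ∀ ⦃T : 𝒯⦄ (a b : T ⟶ G), a ≫ pH = b ≫ pH ↔ ∃ y : T ⟶ H, b = a * (y ≫ h ≫ k))
  (fibKH : ∀ ⦃T : 𝒯⦄ (a b : T ⟶ K), a ≫ pKH = b ≫ pKH ↔ ∃ y : T ⟶ H, b = a * (y ≫ h))
  (fibK : ∀ ⦃T : 𝒯⦄ (a b : T ⟶ G), a ≫ pK = b ≫ pK ↔ ∃ x : T ⟶ K, b = a * (x ≫ k))
  (act : QH ⊗ QKH ⟶ QH) (hact : (pH ⊗ₘ pKH) ≫ act = (G ◁ k) ≫ μ[G] ≫ pH)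
  (qbar : QH ⟶ QK) (hq : pH ≫ qbar = pK)

include hact in
theorem act3_pt {T : 𝒯} (g : T ⟶ G) (x : T ⟶ K) :
    lift (g ≫ pH) (x ≫ pKH) ≫ act = (g * (x ≫ k)) ≫ pH := by
  rw [← lift_map, Category.assoc, hact, lift_whiskerLeft_assoc, ← Category.assoc, ← Hom.mul_def]

include hU fibH fibKH hact in
theorem mono_third : Mono (lift act (fst QH QKH)) := by
  refine ⟨fun {T} z₁ z₂ h12 => ?_⟩
  have e1 : z₁ ≫ act = z₂ ≫ act := by
    have := congrArg (fun m => m ≫ fst QH QH) h12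
    simpa using this
  have e2 : z₁ ≫ fst QH QKH = z₂ ≫ fst QH QKH := by
    have := congrArg (fun m => m ≫ snd QH QH) h12
    simpa using this
  rw [dec z₁, dec z₂] at e1 ⊢
  rw [e2] at e1 ⊢
  set x := z₂ ≫ fst QH QKH
  set c₁ := z₁ ≫ snd QH QKH
  set c₂ := z₂ ≫ snd QH QKH
  congr 1
  haveI := epi_tensor hU pKH pKH
  haveI := epi_tensor hU pH (pKH ⊗ₘ pKH)
  obtain ⟨E, e, gam, sqE⟩ : ∃ (E : 𝒯) (e : E ⟶ T) (gam : E ⟶ G ⊗ (K ⊗ K)),
      IsPullback e gam (lift x (lift c₁ c₂)) (pH ⊗ₘ (pKH ⊗ₘ pKH)) :=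
    ⟨_, _, _, IsPullback.of_hasPullback _ _⟩
  haveI : Epi e := epi_of_isPullback hU sqE
  rw [← cancel_epi e]
  set g := gam ≫ fst _ _
  set k₁ := gam ≫ snd _ _ ≫ fst K K
  set k₂ := gam ≫ snd _ _ ≫ snd K K
  have hg : e ≫ x = g ≫ pH := by
    have := congrArg (fun m => m ≫ fst _ _) sqE.w
    simpa [g, Category.assoc] using this
  have hk₁ : e ≫ c₁ = k₁ ≫ pKH := by
    have := congrArg (fun m => m ≫ snd _ _ ≫ fst _ _) sqE.w
    simpa [k₁, Category.assoc] using this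
  have hk₂ : e ≫ c₂ = k₂ ≫ pKH := by
    have := congrArg (fun m => m ≫ snd _ _ ≫ snd _ _) sqE.w
    simpa [k₂, Category.assoc] using this
  have e3 := congrArg (fun m => e ≫ m) e1
  simp only [← Category.assoc, comp_lift] at e3
  rw [hg, hk₁, hk₂, act3_pt k pH pKH act hact, act3_pt k pH pKH act hact] at e3
  obtain ⟨y, hy⟩ := (fibH _ _).mp e3
  rw [hk₁, hk₂]
  apply (fibKH _ _).mpr
  refine ⟨y, ?_⟩
  rw [← cancel_mono k, MonObj.mul_comp]
  rw [_root_.mul_assoc] at hy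
  have := mul_left_cancel hy
  rw [this]
  simp only [Category.assoc]

include hU fibK hact hq in
theorem wq_third : fst QH QKH ≫ qbar = act ≫ qbar := by
  haveI := epi_tensor hU pH pKH
  rw [← cancel_epi (pH ⊗ₘ pKH)]
  apply hom_ext_lift₂
  intro T g x
  have e1 : lift g x ≫ (pH ⊗ₘ pKH) ≫ act ≫ qbar = ((g * (x ≫ k)) ≫ pH) ≫ qbar := by
    rw [← act3_pt k pH pKH act hact, ← lift_map]
    simp only [Category.assoc]
  rw [e1, lift_map_assoc, lift_fst_assoc, Category.assoc, Category.assoc, hq]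
  exact (fibK _ _).mpr ⟨x, rfl⟩

include hU fibK hact hq in
theorem isColimit_third (wq : fst QH QKH ≫ qbar = act ≫ qbar) :
    Nonempty (IsColimit (Cofork.ofπ qbar wq)) := by
  haveI : Epi qbar := by
    haveI : Epi (pH ≫ qbar) := by rw [hq]; infer_instance
    exact epi_of_epi pH qbar
  have key : ∀ s : Cofork (fst QH QKH) act, ∃ f' : QK ⟶ s.pt, pK ≫ f' = pH ≫ s.π := by
    intro s
    have hs : fst QH QKH ≫ s.π = act ≫ s.π := s.condition
    apply desc_q hU pK (pH ≫ s.π)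
    intro T a b hab
    obtain ⟨x, hx⟩ := (fibK a b).mp hab
    have e1 : b ≫ pH ≫ s.π = lift (a ≫ pH) (x ≫ pKH) ≫ act ≫ s.π := by
      rw [hx, ← Category.assoc, ← act3_pt k pH pKH act hact, Category.assoc]
    rw [e1, ← hs, lift_fst_assoc, Category.assoc]
  have h1 : ∀ s : Cofork (fst QH QKH) act, qbar ≫ (key s).choose = s.π := by
    intro s
    rw [← cancel_epi pH, ← Category.assoc, hq, (key s).choose_spec]
  refine ⟨Cofork.IsColimit.mk' _ (fun s => ⟨(key s).choose, h1 s, ?_⟩)⟩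
  intro m hm
  change qbar ≫ m = s.π at hm
  rw [← cancel_epi qbar, hm, h1]

end ThirdIso

end Groth.Agent.Helper9.TopQuot
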