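import Mathlib
import Groth.Agent.Helper9.TopQuot5

set_option autoImplicit false
set_option linter.unusedSectionVars false

namespace Groth.Agent.Helper9.TopQuot

open CategoryTheory CategoryTheory.Limits MonoidalCategory CartesianMonoidalCategory MonObj

universe v u

variable {𝒯 : Type u} [Category.{v} 𝒯] [CartesianMonoidalCategory 𝒯]

section Corr

variable (hU : EpiUE 𝒯) (hE : EqEff 𝒯) [HasPullbacks 𝒯] [HasCoequalizers 𝒯]
variable {G H Q : 𝒯} [GrpObj G] [GrpObj H] [GrpObj Q] (u : H ⟶ G) [IsMonHom u] [Mono u]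
  (π : G ⟶ Q) [IsMonHom π] [Epi π]
  (hfib : ∀ ⦃T : 𝒯⦄ (a b : T ⟶ G), a ≫ π = b ≫ π ↔ ∃ h : T ⟶ H, b = a * (h ≫ u))

include hU in
theorem le_of_pullback_le (K₁ K₂ : Subobject Q)
    (h : (Subobject.pullback π).obj K₁ ≤ (Subobject.pullback π).obj K₂) : K₁ ≤ K₂ := by
  have sq₁ := Subobject.isPullback π K₁
  have sq₂ := Subobject.isPullback π K₂
  haveI : Epi (Subobject.pullbackπ π K₁) := epi_of_isPullback hU sq₁
  obtain ⟨g, hg⟩ := factor_of_epi hU K₂.arrow (Subobject.pullbackπ π K₁) K₁.arrow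
    (Subobject.ofLE _ _ h ≫ Subobject.pullbackπ π K₂) (by
      rw [Category.assoc, sq₂.w, ← Category.assoc, Subobject.ofLE_arrow, sq₁.w])
  exact Subobject.le_of_comm g hg

include hfib in
theorem u_π : u ≫ π = toUnit H ≫ η[Q] := by
  have h1 : (1 : H ⟶ G) ≫ π = u ≫ π :=
    (hfib _ _).mpr ⟨𝟙 H, by rw [_root_.one_mul, Category.id_comp]⟩
  rw [← h1, MonObj.one_comp, Hom.one_def]

include hfib in
theorem mapsTo_corr (K' : Subobject Q) (str' : GrpObj (K' : 𝒯))
    (hK' : @IsMonHom _ _ _ _ Q str'.toMonObj _ K'.arrow) :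
    Subobject.mk u ≤ (Subobject.pullback π).obj K' ∧
    ∃ str : GrpObj (((Subobject.pullback π).obj K' : Subobject G) : 𝒯),
      @IsMonHom _ _ _ _ G str.toMonObj _ ((Subobject.pullback π).obj K').arrow := by
  have sq := Subobject.isPullback π K'
  constructor
  · refine Subobject.mk_le_of_comm (sq.lift (toUnit H ≫ η[(K' : 𝒯)]) u ?_) (sq.lift_snd _ _ _)
    rw [Category.assoc, IsMonHom.one_hom, u_π u π hfib]
  · exact exists_preGrp π K'.arrow _ _ sq

theorem isMonHom_of_comp_mono {X Y Z : 𝒯} [MonObj X] [MonObj Y] [MonObj Z] (f : X ⟶ Y)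
    (g : Y ⟶ Z) [Mono g] [IsMonHom g] (hfg : IsMonHom (f ≫ g)) : IsMonHom f := by
  refine ⟨?_, ?_⟩
  · rw [← cancel_mono g, Category.assoc, IsMonHom.one_hom, IsMonHom.one_hom]
  · rw [← cancel_mono g, Category.assoc, IsMonHom.mul_hom, Category.assoc, IsMonHom.mul_hom,
      ← Category.assoc, MonoidalCategory.tensorHom_comp_tensorHom]

include hU hE hfib in
theorem surjOn_corr (K : Subobject G) (hle : Subobject.mk u ≤ K) [str : GrpObj (K : 𝒯)]
    [hK : IsMonHom K.arrow] :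
    ∃ K' : Subobject Q, (∃ str' : GrpObj (K' : 𝒯), @IsMonHom _ _ _ _ Q str'.toMonObj _ K'.arrow) ∧
      (Subobject.pullback π).obj K' = K := by
  let h : H ⟶ (K : 𝒯) := Subobject.ofMkLE u K hle
  have hh : h ≫ K.arrow = u := Subobject.ofMkLE_arrow hle
  haveI : Mono h := mono_of_mono_fac hh
  haveI : IsMonHom h := isMonHom_of_comp_mono h K.arrow (by rw [hh]; infer_instance)
  have fibKH := fib_of_isColimit h hE (coequalizer.π (fst (K : 𝒯) H) (((K : 𝒯) ◁ h) ≫ μ[(K : 𝒯)]))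
    (coequalizer.condition _ _) (coequalizerIsCoequalizer _ _)
  set pKH := coequalizer.π (fst (K : 𝒯) H) (((K : 𝒯) ◁ h) ≫ μ[(K : 𝒯)]) with hpKH
  have key : ∀ {T : 𝒯} (a b : T ⟶ (K : 𝒯)),
      (a ≫ K.arrow) ≫ π = (b ≫ K.arrow) ≫ π ↔ a ≫ pKH = b ≫ pKH := by
    intro T a b
    rw [hfib, fibKH]
    constructor
    · rintro ⟨y, hy⟩
      refine ⟨y, ?_⟩
      rw [← cancel_mono K.arrow, hy, MonObj.mul_comp, Category.assoc, hh]
    · rintro ⟨y, hy⟩
      refine ⟨y, ?_⟩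
      rw [hy, MonObj.mul_comp, Category.assoc, hh]
  have w' : fst (K : 𝒯) H ≫ K.arrow ≫ π = (((K : 𝒯) ◁ h) ≫ μ[(K : 𝒯)]) ≫ K.arrow ≫ π := by
    apply hom_ext_lift₂
    intro T a y
    have e1 : lift a y ≫ (((K : 𝒯) ◁ h) ≫ μ[(K : 𝒯)]) ≫ K.arrow ≫ π =
        ((a * (y ≫ h)) ≫ K.arrow) ≫ π := by
      rw [← p₂_pt]
      simp only [Category.assoc]
    rw [e1, lift_fst_assoc, ← Category.assoc, key]
    exact (fibKH _ _).mpr ⟨y, rfl⟩
  let m := coequalizer.desc (K.arrow ≫ π) w'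
  have hm : pKH ≫ m = K.arrow ≫ π := coequalizer.π_desc _ _
  haveI : Epi pKH := by rw [hpKH]; infer_instance
  haveI : Mono m := by
    refine ⟨fun {T} x y hxy => ?_⟩
    haveI := epi_tensor hU pKH pKH
    obtain ⟨E, e, gam, sqE⟩ : ∃ (E : 𝒯) (e : E ⟶ T) (gam : E ⟶ (K : 𝒯) ⊗ (K : 𝒯)),
        IsPullback e gam (lift x y) (pKH ⊗ₘ pKH) := ⟨_, _, _, IsPullback.of_hasPullback _ _⟩
    haveI : Epi e := epi_of_isPullback hU sqE
    rw [← cancel_epi e]
    have hx : e ≫ x = (gam ≫ fst _ _) ≫ pKH := by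
      have := congrArg (fun w => w ≫ fst _ _) sqE.w
      simpa using this
    have hy : e ≫ y = (gam ≫ snd _ _) ≫ pKH := by
      have := congrArg (fun w => w ≫ snd _ _) sqE.w
      simpa using this
    have e1 : ∀ z : E ⟶ (K : 𝒯), (z ≫ K.arrow) ≫ π = (z ≫ pKH) ≫ m := by
      intro z
      rw [Category.assoc, ← hm, Category.assoc]
    rw [hx, hy, ← key, e1, e1, ← hx, ← hy, Category.assoc, Category.assoc, hxy]
  refine ⟨Subobject.mk m, ?_, ?_⟩
  · haveI : IsMonHom (K.arrow ≫ π) := inferInstance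
    haveI : Epi (pKH ≫ (Subobject.underlyingIso m).inv) := epi_comp _ _
    exact exists_imgGrp hU (K.arrow ≫ π) (pKH ≫ (Subobject.underlyingIso m).inv)
      (Subobject.mk m).arrow (by rw [Category.assoc, Subobject.underlyingIso_arrow, hm])
  · have sq := Subobject.isPullback π (Subobject.mk m)
    apply le_antisymm
    · haveI : Epi (pKH ≫ (Subobject.underlyingIso m).inv) := epi_comp _ _
      obtain ⟨E, e, gam, sqE⟩ : ∃ (E : 𝒯) (e : E ⟶ _) (gam : E ⟶ (K : 𝒯)),
          IsPullback e gam (Subobject.pullbackπ π (Subobject.mk m))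
            (pKH ≫ (Subobject.underlyingIso m).inv) := ⟨_, _, _, IsPullback.of_hasPullback _ _⟩
      haveI : Epi e := epi_of_isPullback hU sqE
      have h1 : (e ≫ ((Subobject.pullback π).obj (Subobject.mk m)).arrow) ≫ π =
          (gam ≫ K.arrow) ≫ π := by
        rw [Category.assoc, ← sq.w, ← Category.assoc, sqE.w, Category.assoc, Category.assoc,
          Subobject.underlyingIso_arrow, hm, Category.assoc]
      obtain ⟨y, hy⟩ := (hfib _ _).mp h1.symm
      obtain ⟨g, hg⟩ := factor_of_epi hU K.arrow e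
        ((Subobject.pullback π).obj (Subobject.mk m)).arrow (gam * (y ≫ h)) (by
          rw [hy, MonObj.mul_comp, Category.assoc, hh])
      exact Subobject.le_of_comm g hg
    · refine Subobject.le_of_comm (sq.lift (pKH ≫ (Subobject.underlyingIso m).inv) K.arrow ?_)
        (sq.lift_snd _ _ _)
      rw [Category.assoc, Subobject.underlyingIso_arrow, hm]

include hU in
theorem normal_iff (K' : Subobject Q) :
    (∀ (Y : 𝒯) (g : Y ⟶ Q) (k : Y ⟶ (K' : 𝒯)),
      ∃ k' : Y ⟶ (K' : 𝒯), g * (k ≫ K'.arrow) * g⁻¹ = k' ≫ K'.arrow) ↔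
    (∀ (Y : 𝒯) (g : Y ⟶ G) (k : Y ⟶ ((Subobject.pullback π).obj K' : 𝒯)),
      ∃ k' : Y ⟶ ((Subobject.pullback π).obj K' : 𝒯),
        g * (k ≫ ((Subobject.pullback π).obj K').arrow) * g⁻¹ =
          k' ≫ ((Subobject.pullback π).obj K').arrow) := by
  have sq := Subobject.isPullback π K'
  constructor
  · intro hn Y g k
    obtain ⟨k'', hk''⟩ := hn Y (g ≫ π) (k ≫ Subobject.pullbackπ π K')
    refine ⟨sq.lift k'' (g * (k ≫ ((Subobject.pullback π).obj K').arrow) * g⁻¹) ?_, ?_⟩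
    · rw [← hk'', MonObj.mul_comp, MonObj.mul_comp, GrpObj.inv_comp, Category.assoc, Category.assoc,
        sq.w]
    · rw [sq.lift_snd]
  · intro hn Y g k
    haveI : Epi (Subobject.pullbackπ π K') := epi_of_isPullback hU sq
    haveI := epi_tensor hU π (Subobject.pullbackπ π K')
    obtain ⟨E, e, gam, sqE⟩ : ∃ (E : 𝒯) (e : E ⟶ Y)
        (gam : E ⟶ G ⊗ ((Subobject.pullback π).obj K' : 𝒯)),
        IsPullback e gam (lift g k) (π ⊗ₘ Subobject.pullbackπ π K') :=
      ⟨_, _, _, IsPullback.of_hasPullback _ _⟩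
    haveI : Epi e := epi_of_isPullback hU sqE
    have hg : e ≫ g = (gam ≫ fst _ _) ≫ π := by
      have := congrArg (fun w => w ≫ fst _ _) sqE.w
      simpa using this
    have hk : e ≫ k = (gam ≫ snd _ _) ≫ Subobject.pullbackπ π K' := by
      have := congrArg (fun w => w ≫ snd _ _) sqE.w
      simpa using this
    obtain ⟨k', hk'⟩ := hn E (gam ≫ fst _ _) (gam ≫ snd _ _)
    have hfac : (k' ≫ Subobject.pullbackπ π K') ≫ K'.arrow = e ≫ (g * (k ≫ K'.arrow) * g⁻¹) := by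
      rw [Category.assoc, sq.w, ← Category.assoc, ← hk', MonObj.mul_comp, MonObj.mul_comp,
        GrpObj.inv_comp, ← hg, Category.assoc _ _ π, ← sq.w, ← Category.assoc, ← hk, comp_mul,
        comp_mul, GrpObj.comp_inv]
      simp only [Category.assoc]
    obtain ⟨y', hy'⟩ := factor_of_epi hU K'.arrow e (g * (k ≫ K'.arrow) * g⁻¹)
      (k' ≫ Subobject.pullbackπ π K') hfac
    exact ⟨y', hy'.symm⟩

end Corr

end Groth.Agent.Helper9.TopQuot
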