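import Mathlib
import Groth.Agent.Helper9.TopQuot5

set_option autoImplicit false
set_option linter.unusedSectionVars false

namespace Groth.Agent.Helper9.TopQuot

open CategoryTheory CategoryTheory.Limits MonoidalCategory CartesianMonoidalCategory MonObj

universe v u

variable {𝒯 : Type u} [Category.{v} 𝒯] [CartesianMonoidalCategory 𝒯]

section QuotPts

variable (hU : EpiUE 𝒯) [HasPullbacks 𝒯]
variable {R X B : 𝒯} {p₁ p₂ : R ⟶ X} (π : X ⟶ B) (hk : IsKernelPair π p₁ p₂) [Epi π] (Y : 𝒯)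

include hU hk in
theorem pts_of_stable (Z : 𝒯) (i : Z ⟶ X ⊗ Y) [Mono i]
    (hst : ∀ (W : 𝒯) (r : W ⟶ R) (y : W ⟶ Y),
      (∃ z : W ⟶ Z, z ≫ i = lift (r ≫ p₁) y) ↔ (∃ z : W ⟶ Z, z ≫ i = lift (r ≫ p₂) y))
    (hcov : Epi (i ≫ snd X Y))
    (hrel : ∀ (W : 𝒯) (z₁ z₂ : W ⟶ Z), z₁ ≫ i ≫ snd X Y = z₂ ≫ i ≫ snd X Y →
      ∃ r : W ⟶ R, r ≫ p₁ = z₁ ≫ i ≫ fst X Y ∧ r ≫ p₂ = z₂ ≫ i ≫ fst X Y) :
    ∃! f : Y ⟶ B, IsPullback (i ≫ fst X Y) (i ≫ snd X Y) π f := by
  haveI := hcov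
  obtain ⟨f, hf⟩ := desc_q hU (i ≫ snd X Y) ((i ≫ fst X Y) ≫ π) (by
    intro T z₁ z₂ h12
    obtain ⟨r, hr1, hr2⟩ := hrel T z₁ z₂ (by simpa only [Category.assoc] using h12)
    have e1 : z₁ ≫ (i ≫ fst X Y) ≫ π = (r ≫ p₁) ≫ π := by
      rw [hr1]
      simp only [Category.assoc]
    have e2 : z₂ ≫ (i ≫ fst X Y) ≫ π = (r ≫ p₂) ≫ π := by
      rw [hr2]
      simp only [Category.assoc]
    rw [e1, e2, Category.assoc, Category.assoc, hk.w])
  have hpb : IsPullback (i ≫ fst X Y) (i ≫ snd X Y) π f := by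
    have key : ∀ s : PullbackCone π f, ∃ z : s.pt ⟶ Z, z ≫ i = lift s.fst s.snd := by
      intro s
      obtain ⟨E, e', z', sqE⟩ : ∃ (E : 𝒯) (e' : E ⟶ s.pt) (z' : E ⟶ Z),
          IsPullback e' z' s.snd (i ≫ snd X Y) := ⟨_, _, _, IsPullback.of_hasPullback _ _⟩
      haveI : Epi e' := epi_of_isPullback hU sqE
      have e1 : (z' ≫ i ≫ fst X Y) ≫ π = (e' ≫ s.fst) ≫ π := by
        have e0 : (e' ≫ s.fst) ≫ π = (e' ≫ s.snd) ≫ f := by
          rw [Category.assoc, s.condition, Category.assoc]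
        have hf' : i ≫ snd X Y ≫ f = i ≫ fst X Y ≫ π := by
          simpa only [Category.assoc] using hf
        rw [e0, sqE.w]
        simp only [Category.assoc]
        rw [hf']
      obtain ⟨z'', hz''⟩ := (hst E (hk.lift _ _ e1) (e' ≫ s.snd)).mp ⟨z', by
        rw [hk.lift_fst]
        apply CartesianMonoidalCategory.hom_ext
        · rw [lift_fst, Category.assoc]
        · rw [lift_snd, sqE.w, Category.assoc]⟩
      rw [hk.lift_snd, ← comp_lift] at hz''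
      exact factor_of_epi hU i e' (lift s.fst s.snd) z'' hz''
    refine ⟨⟨hf.symm⟩, ⟨PullbackCone.IsLimit.mk _ (fun s => (key s).choose) ?_ ?_ ?_⟩⟩
    · intro s
      rw [← Category.assoc, (key s).choose_spec, lift_fst]
    · intro s
      rw [← Category.assoc, (key s).choose_spec, lift_snd]
    · intro s m hm1 hm2
      rw [← cancel_mono i, (key s).choose_spec]
      apply CartesianMonoidalCategory.hom_ext
      · rw [lift_fst, Category.assoc, hm1]
      · rw [lift_snd, Category.assoc, hm2]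
  refine ⟨f, hpb, ?_⟩
  intro f' hf'
  rw [← cancel_epi (i ≫ snd X Y), ← hf'.w, hpb.w]

include hU hk in
theorem stable_of_pts (f : Y ⟶ B) :
    ∃ (Z : 𝒯) (i : Z ⟶ X ⊗ Y), Mono i ∧
      (∀ (W : 𝒯) (r : W ⟶ R) (y : W ⟶ Y),
        (∃ z : W ⟶ Z, z ≫ i = lift (r ≫ p₁) y) ↔ (∃ z : W ⟶ Z, z ≫ i = lift (r ≫ p₂) y)) ∧
      Epi (i ≫ snd X Y) ∧
      (∀ (W : 𝒯) (z₁ z₂ : W ⟶ Z), z₁ ≫ i ≫ snd X Y = z₂ ≫ i ≫ snd X Y →
        ∃ r : W ⟶ R, r ≫ p₁ = z₁ ≫ i ≫ fst X Y ∧ r ≫ p₂ = z₂ ≫ i ≫ fst X Y) ∧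
      IsPullback (i ≫ fst X Y) (i ≫ snd X Y) π f := by
  have sq : IsPullback (pullback.fst π f) (pullback.snd π f) π f := IsPullback.of_hasPullback _ _
  have h1 : lift (pullback.fst π f) (pullback.snd π f) ≫ fst X Y = pullback.fst π f := lift_fst _ _
  have h2 : lift (pullback.fst π f) (pullback.snd π f) ≫ snd X Y = pullback.snd π f := lift_snd _ _
  have hfac : ∀ (W : 𝒯) (x : W ⟶ X) (y : W ⟶ Y),
      (∃ z : W ⟶ pullback π f, z ≫ lift (pullback.fst π f) (pullback.snd π f) = lift x y) ↔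
        x ≫ π = y ≫ f := by
    intro W x y
    constructor
    · rintro ⟨z, hz⟩
      have e1 := congrArg (fun w => w ≫ fst X Y) hz
      have e2 := congrArg (fun w => w ≫ snd X Y) hz
      simp only [Category.assoc, h1, h2, lift_fst, lift_snd] at e1 e2
      rw [← e1, ← e2, Category.assoc, Category.assoc, pullback.condition]
    · intro h
      refine ⟨pullback.lift x y h, ?_⟩
      rw [comp_lift, pullback.lift_fst, pullback.lift_snd]
  refine ⟨pullback π f, lift (pullback.fst π f) (pullback.snd π f), ?_, ?_, ?_, ?_, ?_⟩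
  · refine ⟨fun {T} a b hab => ?_⟩
    have e1 := congrArg (fun w => w ≫ fst X Y) hab
    have e2 := congrArg (fun w => w ≫ snd X Y) hab
    simp only [Category.assoc, h1, h2] at e1 e2
    exact pullback.hom_ext e1 e2
  · intro W r y
    rw [hfac, hfac, Category.assoc, Category.assoc, hk.w]
  · rw [h2]
    exact epi_of_isPullback hU sq.flip
  · intro W z₁ z₂ h12
    rw [h2] at h12
    rw [h1]
    have e1 : (z₁ ≫ pullback.fst π f) ≫ π = (z₂ ≫ pullback.fst π f) ≫ π := by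
      rw [Category.assoc, Category.assoc, pullback.condition, ← Category.assoc, h12,
        Category.assoc]
    exact ⟨hk.lift _ _ e1, hk.lift_fst _ _ _, hk.lift_snd _ _ _⟩
  · rw [h1, h2]
    exact sq

end QuotPts

end Groth.Agent.Helper9.TopQuot
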