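import Mathlib
import Groth.Prelude.Def_CohCx
import Groth.Prelude.Def_FreeSh
import Groth.Agent.Helper9.TopShriek
import Groth.Agent.Helper9.FreeOnIso
import Groth.Agent.Helper9.DerivedAdjHom

/-! `j_! ℤ_⊤ ≅ ℤ_U` and cohomology of the restriction to an open. -/

set_option autoImplicit false
universe u

open CategoryTheory CategoryTheory.Limits Opposite TopologicalSpace

namespace Groth.Agent.Helper9.TopShriekFree

open Groth.Agent.Helper9.TopShriek

variable {X : TopCat.{u}} (U : Opens X)

lemma jF_top : (jF U).obj ⊤ = U := by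
  apply le_antisymm
  · rintro _ ⟨y, -, rfl⟩
    exact y.2
  · intro x hx
    exact ⟨⟨x, hx⟩, trivial, rfl⟩

/-- sections of the restriction over `⊤` are sections over `U` -/
noncomputable def sectEquiv (F : CohTop.Ab X) :
    ((CohTop.restrFunctor U).obj F).obj.obj (op ⊤) ≃ F.obj.obj (op U) :=
  (F.obj.mapIso (eqToIso (congrArg op (jF_top U)))).addCommGroupIsoToAddEquiv.toEquiv

/-- `Hom(j_! ℤ_⊤, F) ≃ Hom(ℤ_U, F)` -/
noncomputable def freeEquiv (F : CohTop.Ab X) :
    ((jshriek U).obj (CohCx.freeSheaf (Opens.grothendieckTopology (TopCat.of U)) ⊤) ⟶ F) ≃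
      (CohCx.freeSheaf (Opens.grothendieckTopology X) U ⟶ F) :=
  (((jadj U).homEquiv _ F).trans
    (CohFree.homEquivSect (Opens.grothendieckTopology (TopCat.of U)) ⊤
      ((CohTop.restrFunctor U).obj F)).toEquiv).trans
    ((sectEquiv U F).trans (CohFree.homEquivSect (Opens.grothendieckTopology X) U F).toEquiv.symm)

lemma freeEquiv_nat {F F' : CohTop.Ab X}
    (h : (jshriek U).obj (CohCx.freeSheaf (Opens.grothendieckTopology (TopCat.of U)) ⊤) ⟶ F)
    (φ : F ⟶ F') : freeEquiv U F' (h ≫ φ) = freeEquiv U F h ≫ φ := by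
  apply (CohFree.homEquivSect (Opens.grothendieckTopology X) U F').injective
  have h1 : CohFree.homEquivSect (Opens.grothendieckTopology X) U F' (freeEquiv U F' (h ≫ φ)) =
      sectEquiv U F' (CohFree.evalGen _ ⊤ _ ((jadj U).homEquiv _ F' (h ≫ φ))) :=
    (CohFree.homEquivSect (Opens.grothendieckTopology X) U F').apply_symm_apply _
  have h2 : CohFree.homEquivSect (Opens.grothendieckTopology X) U F (freeEquiv U F h) =
      sectEquiv U F (CohFree.evalGen _ ⊤ _ ((jadj U).homEquiv _ F h)) :=
    (CohFree.homEquivSect (Opens.grothendieckTopology X) U F).apply_symm_apply _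
  have h3 : CohFree.homEquivSect (Opens.grothendieckTopology X) U F' (freeEquiv U F h ≫ φ) =
      φ.hom.app (op U) (CohFree.homEquivSect (Opens.grothendieckTopology X) U F (freeEquiv U F h)) :=
    rfl
  rw [h1, h3, h2, Adjunction.homEquiv_naturality_right]
  have h4 := NatTrans.naturality_apply φ.hom (eqToHom (congrArg op (jF_top U)))
    (CohFree.evalGen _ ⊤ _ ((jadj U).homEquiv _ F h))
  exact h4.symm

/-- `j_! ℤ_⊤ ≅ ℤ_U` -/
noncomputable def shriekFreeIso :
    (jshriek U).obj (CohCx.freeSheaf (Opens.grothendieckTopology (TopCat.of U)) ⊤) ≅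
      CohCx.freeSheaf (Opens.grothendieckTopology X) U :=
  Groth.Agent.Helper9.FreeOnIso.isoOfNatEquiv (freeEquiv U) (freeEquiv_nat U)

end Groth.Agent.Helper9.TopShriekFree
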