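import Mathlib
import Groth.Prelude.Def_MoreMor
import Groth.Agent.Helper9.TorOpen2
import Groth.Agent.Helper9.SmTor5
import Groth.Agent.Helper3.PerfMorA
import Groth.Agent.Helper3.TorDimA

/-! A pseudo-coherent morphism is perfect if and only if its local rings have finite tor dimension
over the local rings of the base. -/

set_option autoImplicit false
set_option linter.style.haveILetI false
set_option linter.unusedVariables false
set_option linter.unusedSectionVars false
set_option linter.unusedSimpArgs false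
universe u

namespace Groth.Agent.Helper9.TorOpen3

open CategoryTheory CategoryTheory.Limits AlgebraicGeometry Opposite TopologicalSpace TensorProduct
open Groth.Agent.Helper3.DRingLib Groth.Agent.Helper3.PcHom Groth.Agent.Helper3.TorDim
  DerivedCategory

attribute [local instance] HasDerivedCategory.standard

section Ring

variable {A A' B' : Type u} [CommRing A] [CommRing A'] [CommRing B']

/-- finite tor dimension descends along a flat epimorphism of the base -/
theorem R_of_comp_epi (l : A →+* A') (hl : l.Flat)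
    (hepi : letI := l.toAlgebra; ∀ c : A', (1 : A') ⊗ₜ[A] c = c ⊗ₜ[A] (1 : A'))
    (φ' : A' →+* B') (h : R (φ'.comp l)) : R φ' := by
  letI algAB : Algebra A B' := (φ'.comp l).toAlgebra
  letI algA'B' : Algebra A' B' := φ'.toAlgebra
  have h' : DRing.HasFiniteTorDim A B' := h
  obtain ⟨d, hd⟩ := (hasFiniteTorDim_iff B').1 h'
  show DRing.HasFiniteTorDim A' B'
  refine hasFiniteTorDim_of_amp B' (-(d : ℤ)) 0 ?_
  let K : DRing.Cx A' :=
    (CochainComplex.singleFunctor (ModuleCat.{u} A') 0).obj (ModuleCat.of A' B')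
  have e : DRing.toD K ≅ Dual.inD A' B' :=
    ((singleFunctorIsoCompQ (ModuleCat.{u} A') 0).app (ModuleCat.of A' B')).symm
  refine hasTorAmplitudeIn_of_iso e _ _ ?_
  refine Groth.Agent.Helper9.SmTor4.epi_step l hl hepi K _ _ ?_
  let eM : ((rF l).obj (ModuleCat.of A' B')) ≃ₗ[A] B' :=
    { toFun := fun m => m
      invFun := fun m => m
      map_add' := fun _ _ => rfl
      map_smul' := fun c m => rfl
      left_inv := fun _ => rfl
      right_inv := fun _ => rfl }
  have e1 : DRing.toD ((rCx l).obj K) ≅ Dual.inD A B' :=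
    (rDToD l K).symm ≪≫ (DRing.restrictD l).mapIso e ≪≫
      rDSingle l 0 (ModuleCat.of A' B') ≪≫
      (singleFunctor (ModuleCat.{u} A) 0).mapIso eM.toModuleIso
  exact hasTorAmplitudeIn_of_iso e1.symm _ _ hd

end Ring

section Sch

variable {X S : Scheme.{u}}

lemma germ_stalkMap_sq (f : X ⟶ S) (x : X) {V : S.Opens} {U : X.Opens} (hxU : x ∈ U)
    (hUV : U ≤ f ⁻¹ᵁ V) (hyV : f.base x ∈ V) :
    (f.stalkMap x).hom.comp (S.presheaf.germ V (f.base x) hyV).hom =
      (X.presheaf.germ U x hxU).hom.comp (f.appLE V U hUV).hom := by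
  rw [← CommRingCat.hom_comp, ← CommRingCat.hom_comp, Scheme.Hom.germ_stalkMap,
    Scheme.Hom.appLE, Category.assoc, TopCat.Presheaf.germ_res]

lemma epi_germ {V : S.Opens} (hV : IsAffineOpen V) (y : S) (hy : y ∈ V) :
    letI := (S.presheaf.germ V y hy).hom.toAlgebra
    ∀ c : S.presheaf.stalk y, (1 : S.presheaf.stalk y) ⊗ₜ[Γ(S, V)] c = c ⊗ₜ[Γ(S, V)] 1 := by
  letI : Algebra Γ(S, V) (S.presheaf.stalk y) := (S.presheaf.germ V y hy).hom.toAlgebra
  haveI : IsLocalization.AtPrime (S.presheaf.stalk y) (hV.primeIdealOf ⟨y, hy⟩).asIdeal :=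
    hV.isLocalization_stalk ⟨y, hy⟩
  exact Groth.Agent.Helper9.SmTor4.one_tmul_eq_of_isLocalization
    (hV.primeIdealOf ⟨y, hy⟩).asIdeal.primeCompl

/-- **perfect = pseudo-coherent with local rings of finite tor dimension** -/
theorem s7174 (f : X ⟶ S) (hf : MoreMor.IsPseudoCoherentMor f) :
    MoreMor.IsPerfectMor f ↔ ∀ x : X,
      (letI := (f.stalkMap x).hom.toAlgebra
       DRing.HasFiniteTorDim ↑(S.presheaf.stalk (f x)) ↑(X.presheaf.stalk x)) := by
  constructor
  · intro h x
    obtain ⟨_, ⟨V, hV, rfl⟩, hyV, -⟩ :=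
      S.isBasis_affineOpens.exists_subset_of_mem_open (Set.mem_univ (f.base x)) isOpen_univ
    obtain ⟨_, ⟨U, hU, rfl⟩, hxU, hUV0⟩ :=
      X.isBasis_affineOpens.exists_subset_of_mem_open (show x ∈ f ⁻¹ᵁ V from hyV) (f ⁻¹ᵁ V).2
    have hUV : U ≤ f ⁻¹ᵁ V := hUV0
    have h1 : R (f.appLE V U hUV).hom := (h U V hU hV hUV).2
    show R (f.stalkMap x).hom
    have h2 : R ((X.presheaf.germ U x hxU).hom.comp (f.appLE V U hUV).hom) :=
      R_comp _ _ h1 (R_of_flat _ (Groth.Agent.Helper9.SmTor5.flat_germ hU x hxU))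
    rw [← germ_stalkMap_sq f x hxU hUV hyV] at h2
    exact R_of_comp_epi (S.presheaf.germ V (f.base x) hyV).hom
      (Groth.Agent.Helper9.SmTor5.flat_germ hV _ hyV) (epi_germ hV _ hyV) _ h2
  · intro h U V hU hV hUV
    refine ⟨hf U V hU hV hUV, ?_⟩
    letI algAB : Algebra Γ(S, V) Γ(X, U) := (f.appLE V U hUV).hom.toAlgebra
    apply Groth.Agent.Helper9.TorOpen2.hasFiniteTorDim_of_local (hf U V hU hV hUV)
    intro 𝔮 _
    let y : Spec Γ(X, U) := (⟨𝔮, inferInstance⟩ : PrimeSpectrum Γ(X, U))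
    let x : X := hU.fromSpec.base y
    have hxU : x ∈ U := by
      have hz : x ∈ Set.range hU.fromSpec.base := ⟨y, rfl⟩
      rw [hU.range_fromSpec] at hz
      exact hz
    have hq : hU.primeIdealOf ⟨x, hxU⟩ = y := by
      apply hU.fromSpec.isOpenEmbedding.injective
      exact hU.fromSpec_primeIdealOf ⟨x, hxU⟩
    have hyV : f.base x ∈ V := hUV hxU
    have h1 : R (f.stalkMap x).hom := h x
    have h2 : R ((f.stalkMap x).hom.comp (S.presheaf.germ V (f.base x) hyV).hom) :=
      R_comp _ _ (R_of_flat _ (Groth.Agent.Helper9.SmTor5.flat_germ hV _ hyV)) h1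
    rw [germ_stalkMap_sq f x hxU hUV hyV] at h2
    -- the stalk is the localization at `𝔮`
    letI algBL : Algebra Γ(X, U) (X.presheaf.stalk x) := (X.presheaf.germ U x hxU).hom.toAlgebra
    letI algAL : Algebra Γ(S, V) (X.presheaf.stalk x) :=
      ((X.presheaf.germ U x hxU).hom.comp (f.appLE V U hUV).hom).toAlgebra
    haveI : IsScalarTower Γ(S, V) Γ(X, U) (X.presheaf.stalk x) :=
      IsScalarTower.of_algebraMap_eq (fun _ => rfl)
    have hloc : IsLocalization.AtPrime (X.presheaf.stalk x) 𝔮 := by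
      have := hU.isLocalization_stalk ⟨x, hxU⟩
      rw [hq] at this
      exact this
    haveI := hloc
    let e : X.presheaf.stalk x ≃ₐ[Γ(X, U)] Localization.AtPrime 𝔮 :=
      IsLocalization.algEquiv 𝔮.primeCompl _ _
    have h3 : DRing.HasFiniteTorDim Γ(S, V) (X.presheaf.stalk x) := h2
    exact hasFiniteTorDim_of_linearEquiv (e.toLinearEquiv.restrictScalars Γ(S, V)) h3

end Sch

end Groth.Agent.Helper9.TorOpen3
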