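import Mathlib
import Groth.Prelude.Def_DTor2
import Groth.Agent.Helper9.SkyMod4
import Groth.Agent.Helper4.QcohGlue

/-! A quasi-coherent module with prescribed stalk at a point of a quasi-separated scheme. -/

set_option autoImplicit false
set_option linter.style.haveILetI false
set_option linter.unusedVariables false
set_option linter.unusedSectionVars false
universe u

namespace Groth.Agent.Helper9.TorQc2

open CategoryTheory CategoryTheory.Limits AlgebraicGeometry Opposite TopologicalSpace
open Groth.Agent.Helper9.SkyMod2 Groth.Agent.Helper9.SkyMod4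

variable {X : Scheme.{u}} (x : X)

/-- if all restriction maps from `⊤` to neighbourhoods of `x` are bijective, so is the germ map -/
theorem germ_top_bijective (M : X.Modules)
    (h : ∀ U : X.Opens, x ∈ U →
      Function.Bijective (M.presheaf.map (homOfLE (le_top : U ≤ ⊤)).op)) :
    Function.Bijective (M.presheaf.germ ⊤ x (Opens.mem_top _)) := by
  constructor
  · intro s t hst
    obtain ⟨W, hxW, iU, iV, e⟩ := TopCat.Presheaf.germ_eq M.presheaf x (Opens.mem_top _)
      (Opens.mem_top _) s t hst
    have h1 : iU = homOfLE le_top := Subsingleton.elim _ _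
    have h2 : iV = homOfLE le_top := Subsingleton.elim _ _
    rw [h1, h2] at e
    exact (h W hxW).1 e
  · intro m
    obtain ⟨U, hxU, s, rfl⟩ := M.presheaf.exists_germ_eq (x := x) m
    obtain ⟨t, rfl⟩ := (h U hxU).2 s
    exact ⟨t, (TopCat.Presheaf.germ_res_apply M.presheaf (homOfLE (le_top : U ≤ ⊤)) x hxU t).symm⟩

/-- every open neighbourhood of `x` contains the image of `Spec O_{X,x}` -/
theorem preimage_eq_top (U : X.Opens) (hx : x ∈ U) : (X.fromSpecStalk x) ⁻¹ᵁ U = ⊤ := by
  ext z
  simp only [TopologicalSpace.Opens.coe_top, Set.mem_univ, iff_true]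
  have h1 : (X.fromSpecStalk x) z ∈ Set.range (X.fromSpecStalk x) := Set.mem_range_self z
  rw [Scheme.range_fromSpecStalk] at h1
  exact h1.mem_open U.isOpen hx

variable (N : ModuleCat.{u} (X.presheaf.stalk x))

/-- the quasi-coherent module with stalk `N` at `x` -/
noncomputable def testMod : X.Modules :=
  (Scheme.Modules.pushforward (X.fromSpecStalk x)).obj (tilde N)

theorem isQCoh_testMod [QuasiSeparatedSpace X] : Coh.IsQCoh (testMod x N) :=
  Groth.Agent.Helper4.QcohGlue.isQuasicoherent_pushforward (X.fromSpecStalk x) (tilde N)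


/-- the section of the test module defined by an element of `N` -/
noncomputable def sec (n : N) (U : X.Opens) : Γ(testMod x N, U) :=
  (tilde.toOpen N ((X.fromSpecStalk x) ⁻¹ᵁ U)).hom n

lemma sec_res (n : N) (U : X.Opens) :
    (testMod x N).presheaf.map (homOfLE (le_top : U ≤ ⊤)).op (sec x N n ⊤) = sec x N n U := rfl

lemma sec_add (n n' : N) (U : X.Opens) : sec x N (n + n') U = sec x N n U + sec x N n' U :=
  map_add (tilde.toOpen N ((X.fromSpecStalk x) ⁻¹ᵁ U)).hom n n'

lemma smul_sec (U : X.Opens) (hx : x ∈ U) (r : Γ(X, U)) (n : N) :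
    r • sec x N n U = sec x N ((X.presheaf.germ U x hx r : X.presheaf.stalk x) • n) U := by
  have h1 : sec x N ((X.presheaf.germ U x hx r : X.presheaf.stalk x) • n) U =
      (X.presheaf.germ U x hx r : X.presheaf.stalk x) •
        (tilde.toOpen N ((X.fromSpecStalk x) ⁻¹ᵁ U)).hom n :=
    map_smul (tilde.toOpen N ((X.fromSpecStalk x) ⁻¹ᵁ U)).hom _ n
  rw [h1]
  have h2 : (X.fromSpecStalk x).app U r =
      ((Spec (X.presheaf.stalk x)).presheaf.map (homOfLE le_top).op)
        ((Scheme.ΓSpecIso (X.presheaf.stalk x)).inv (X.presheaf.germ U x hx r)) := by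
    rw [Scheme.fromSpecStalk_app hx]
    rfl
  show ((X.fromSpecStalk x).app U r) • (show Γ(tilde N, (X.fromSpecStalk x) ⁻¹ᵁ U) from
    (tilde.toOpen N ((X.fromSpecStalk x) ⁻¹ᵁ U)).hom n) = _
  rw [h2]
  rfl


/-- the restriction maps of the test module to neighbourhoods of `x` are bijective -/
lemma bijective_res (U : X.Opens) (hx : x ∈ U) :
    Function.Bijective ((testMod x N).presheaf.map (homOfLE (le_top : U ≤ ⊤)).op) := by
  have hV : (X.fromSpecStalk x) ⁻¹ᵁ U = (X.fromSpecStalk x) ⁻¹ᵁ ⊤ :=
    (preimage_eq_top x U hx).trans (preimage_eq_top x ⊤ (Opens.mem_top _)).symm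
  let i : (X.fromSpecStalk x) ⁻¹ᵁ U ⟶ (X.fromSpecStalk x) ⁻¹ᵁ ⊤ :=
    (Opens.map (X.fromSpecStalk x).base).map (homOfLE (le_top : U ≤ ⊤))
  haveI : IsIso i := ⟨⟨eqToHom hV.symm, Subsingleton.elim _ _, Subsingleton.elim _ _⟩⟩
  haveI : IsIso ((tilde N).presheaf.map i.op) := inferInstance
  exact ConcreteCategory.bijective_of_isIso ((tilde N).presheaf.map i.op)

/-- `n ↦` the germ at `x` of the section defined by `n` -/
noncomputable def Φ : N →ₗ[X.presheaf.stalk x] (St x).obj (testMod x N) where
  toFun n := (testMod x N).presheaf.germ ⊤ x (Opens.mem_top _) (sec x N n ⊤)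
  map_add' n n' := by
    rw [sec_add]
    exact map_add _ _ _
  map_smul' a n := by
    obtain ⟨U, hxU, r, rfl⟩ := X.presheaf.exists_germ_eq (x := x) a
    have h1 : ∀ m : N, (testMod x N).presheaf.germ ⊤ x (Opens.mem_top _) (sec x N m ⊤) =
        (testMod x N).presheaf.germ U x hxU (sec x N m U) := fun m =>
      (TopCat.Presheaf.germ_res_apply (testMod x N).presheaf (homOfLE (le_top : U ≤ ⊤)) x hxU
        (sec x N m ⊤)).symm
    simp only [RingHom.id_apply]
    rw [h1, h1, ← smul_sec x N U hxU r n]
    exact germ_smul x (testMod x N) U hxU r (sec x N n U)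

lemma Φ_bijective : Function.Bijective (Φ x N) := by
  have h1 : Function.Bijective ((testMod x N).presheaf.germ ⊤ x (Opens.mem_top _)) :=
    germ_top_bijective x (testMod x N) (bijective_res x N)
  have h2 : Function.Bijective (tilde.toOpen N ⊤).hom :=
    ConcreteCategory.bijective_of_isIso (tilde.toOpen N ⊤)
  exact h1.comp h2

/-- the stalk of the test module at `x` is `N` -/
noncomputable def stalkTestModIso : N ≅ (St x).obj (testMod x N) :=
  (LinearEquiv.ofBijective (Φ x N) (Φ_bijective x N)).toModuleIso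

end Groth.Agent.Helper9.TorQc2
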