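import Mathlib

set_option autoImplicit false
set_option linter.unusedSectionVars false
universe w v u v' u'
open CategoryTheory CategoryTheory.Limits CategoryTheory.Pretriangulated CategoryTheory.Triangulated

namespace Groth.Agent.Helper9.TorsVerdier

variable {A : Type w} [CommRing A] (S : Submonoid A)
    {T : Type u} [Category.{v} T] [Preadditive T] [Linear A T] [HasZeroObject T] [HasShift T ℤ]
    [∀ n : ℤ, (shiftFunctor T n).Additive] [∀ n : ℤ, (shiftFunctor T n).Linear A]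
    [Pretriangulated T]

/-- Objects whose identity is killed by some element of `S`. -/
def Tors : ObjectProperty T := fun Z => ∃ s ∈ S, s • 𝟙 Z = 0

lemma tors_iff (Z : T) : Tors S Z ↔ ∃ s ∈ S, s • 𝟙 Z = 0 := Iff.rfl

omit [HasShift T ℤ] [∀ n : ℤ, (shiftFunctor T n).Additive]
  [∀ n : ℤ, (shiftFunctor T n).Linear A] [Pretriangulated T] in
lemma smul_comp_eq_zero_of_smul_id {Z W : T} {s : A} (h : s • 𝟙 Z = 0) (f : Z ⟶ W) :
    s • f = 0 := by
  have : s • f = (s • 𝟙 Z) ≫ f := by rw [Linear.smul_comp, Category.id_comp]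
  rw [this, h, zero_comp]

omit [HasShift T ℤ] [∀ n : ℤ, (shiftFunctor T n).Additive]
  [∀ n : ℤ, (shiftFunctor T n).Linear A] [Pretriangulated T] in
lemma smul_comp_eq_zero_of_smul_id' {Z W : T} {s : A} (h : s • 𝟙 Z = 0) (f : W ⟶ Z) :
    s • f = 0 := by
  have : s • f = f ≫ (s • 𝟙 Z) := by rw [Linear.comp_smul, Category.comp_id]
  rw [this, h, comp_zero]

instance tors_containsZero : (Tors S (T := T)).ContainsZero where
  exists_zero := by
    obtain ⟨Z, hZ⟩ := HasZeroObject.zero (C := T)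
    exact ⟨Z, hZ, 1, S.one_mem, hZ.eq_of_src _ _⟩

instance tors_closedUnderIso : (Tors S (T := T)).IsClosedUnderIsomorphisms where
  of_iso := by
    rintro X Y e ⟨s, hs, h⟩
    refine ⟨s, hs, ?_⟩
    have : 𝟙 Y = e.inv ≫ 𝟙 X ≫ e.hom := by simp
    rw [this, ← Linear.comp_smul, ← Linear.smul_comp, h, zero_comp, comp_zero]

instance tors_retracts : (Tors S (T := T)).IsStableUnderRetracts where
  of_retract := by
    rintro X Y r ⟨s, hs, h⟩
    refine ⟨s, hs, ?_⟩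
    have : 𝟙 X = r.i ≫ 𝟙 Y ≫ r.r := by simp
    rw [this, ← Linear.comp_smul, ← Linear.smul_comp, h, zero_comp, comp_zero]

instance tors_shift : (Tors S (T := T)).IsStableUnderShift ℤ where
  isStableUnderShiftBy n :=
    { le_shift := by
        rintro X ⟨s, hs, h⟩
        refine ⟨s, hs, ?_⟩
        have : 𝟙 ((shiftFunctor T n).obj X) = (shiftFunctor T n).map (𝟙 X) := by simp
        rw [this, ← Functor.map_smul, h, Functor.map_zero] }

instance tors_closed₂ : (Tors S (T := T)).IsTriangulatedClosed₂ :=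
  ObjectProperty.IsTriangulatedClosed₂.mk' (by
    rintro Tr hTr ⟨s₁, hs₁, h₁⟩ ⟨s₃, hs₃, h₃⟩
    refine ⟨s₁ * s₃, S.mul_mem hs₁ hs₃, ?_⟩
    -- s₃ • 𝟙 ≫ mor₂ = 0, so s₃ • 𝟙 factors through mor₁
    have e : (s₃ • 𝟙 Tr.obj₂) ≫ Tr.mor₂ = 0 := by
      rw [Linear.smul_comp, Category.id_comp]
      exact smul_comp_eq_zero_of_smul_id' h₃ _
    obtain ⟨q, hq⟩ := Triangle.coyoneda_exact₂ _ hTr _ e
    rw [mul_smul, hq, ← Linear.smul_comp]
    rw [smul_comp_eq_zero_of_smul_id' h₁ q, zero_comp])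

instance tors_isTriangulated : (Tors S (T := T)).IsTriangulated where

/-- The cone of `f • 𝟙 X` is killed by `f ^ 2`. -/
lemma tors_cone (X : T) (f : A) (hf : f ∈ S) (Z : T) (g : X ⟶ Z) (h : Z ⟶ X⟦(1 : ℤ)⟧)
    (hT : Triangle.mk (f • 𝟙 X) g h ∈ distTriang T) : Tors S Z := by
  refine ⟨f * f, S.mul_mem hf hf, ?_⟩
  -- (f • 𝟙 Z) ≫ h = h ≫ (f • 𝟙 X)⟦1⟧ = 0
  have e₁ : (f • 𝟙 Z) ≫ h = 0 := by
    have := comp_distTriang_mor_zero₃₁ _ hT
    change h ≫ (shiftFunctor T (1 : ℤ)).map (f • 𝟙 X) = 0 at this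
    rw [Functor.map_smul, CategoryTheory.Functor.map_id, Linear.comp_smul, Category.comp_id] at this
    rw [Linear.smul_comp, Category.id_comp]
    exact this
  obtain ⟨q, hq⟩ := Triangle.coyoneda_exact₃ _ hT _ e₁
  change (Z ⟶ X) at q
  change f • 𝟙 Z = q ≫ g at hq
  -- f • 𝟙 Z = q ≫ g, and f • g = (f • 𝟙 X) ≫ g = 0
  have e₂ : f • g = 0 := by
    have := comp_distTriang_mor_zero₁₂ _ hT
    change (f • 𝟙 X) ≫ g = 0 at this
    rw [Linear.smul_comp, Category.id_comp] at this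
    exact this
  rw [mul_smul, hq, ← Linear.comp_smul, e₂, comp_zero]


/-- A morphism whose cone is `S`-torsion admits a "left inverse up to an element of `S`". -/
lemma exists_comp_eq_smul_id {Y Y' : T} (t : Y ⟶ Y') (ht : (Tors S).trW t) :
    ∃ s ∈ S, ∃ u' : Y' ⟶ Y, t ≫ u' = s • 𝟙 Y := by
  obtain ⟨Z, g, h, hT, s, hs, hZ⟩ := ht
  refine ⟨s, hs, ?_⟩
  have hT' := inv_rot_of_distTriang _ hT
  have hZ' : s • 𝟙 ((shiftFunctor T (-1 : ℤ)).obj Z) = 0 := by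
    have : 𝟙 ((shiftFunctor T (-1 : ℤ)).obj Z) = (shiftFunctor T (-1 : ℤ)).map (𝟙 Z) := by simp
    rw [this, ← Functor.map_smul, hZ, Functor.map_zero]
  have e : ∀ (m : (shiftFunctor T (-1 : ℤ)).obj Z ⟶ Y), m ≫ (s • 𝟙 Y) = 0 := by
    intro m
    rw [Linear.comp_smul, Category.comp_id]
    exact smul_comp_eq_zero_of_smul_id hZ' _
  obtain ⟨q, hq⟩ := Triangle.yoneda_exact₂ _ hT' (s • 𝟙 Y) (e _)
  exact ⟨q, hq.symm⟩

theorem isLocalizedModule_of_le_tors [IsTriangulated T]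
    (U : ObjectProperty T) [U.IsTriangulated] [U.IsClosedUnderIsomorphisms]
    (hU : ∀ (X : T) (f : A), f ∈ S → ∀ (Z : T) (g : X ⟶ Z) (h : Z ⟶ X⟦(1 : ℤ)⟧),
      Triangle.mk (f • 𝟙 X) g h ∈ distTriang T → U Z)
    (hle : U ≤ Tors S)
    {E : Type u'} [Category.{v'} E] [Preadditive E] [Linear A E]
    (Q : T ⥤ E) [Q.Additive] [Q.Linear A] [Q.IsLocalization U.trW] (X Y : T) :
    IsLocalizedModule S (Q.mapLinearMap A : (X ⟶ Y) →ₗ[A] (Q.obj X ⟶ Q.obj Y)) := by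
  have hinv : ∀ (s : A) (_ : s ∈ S) (W : T), IsIso (Q.map (s • 𝟙 W)) := by
    intro s hs W
    obtain ⟨Z, g, h, hT⟩ := distinguished_cocone_triangle (s • 𝟙 W)
    exact Localization.inverts Q U.trW _ ⟨Z, g, h, hT, hU W s hs Z g h hT⟩
  have hW : ∀ {Y Y' : T} (t : Y ⟶ Y'), U.trW t →
      ∃ s ∈ S, ∃ u' : Y' ⟶ Y, t ≫ u' = s • 𝟙 Y :=
    fun t ht => exists_comp_eq_smul_id S t (ObjectProperty.trW_monotone hle _ ht)
  have hmap : ∀ (s : A) (W : T), Q.map (s • 𝟙 W) = s • 𝟙 (Q.obj W) := by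
    intro s W
    rw [Functor.map_smul, CategoryTheory.Functor.map_id]
  refine ⟨?_, ?_, ?_⟩
  · rintro ⟨s, hs⟩
    rw [Module.End.isUnit_iff]
    have := hinv s hs Y
    constructor
    · intro φ₁ φ₂ h
      have h' : s • φ₁ = s • φ₂ := h
      have : φ₁ ≫ Q.map (s • 𝟙 Y) = φ₂ ≫ Q.map (s • 𝟙 Y) := by
        rw [hmap, Linear.comp_smul, Linear.comp_smul, Category.comp_id, Category.comp_id, h']
      exact (cancel_mono _).1 this
    · intro φ
      refine ⟨φ ≫ inv (Q.map (s • 𝟙 Y)), ?_⟩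
      change s • (φ ≫ inv (Q.map (s • 𝟙 Y))) = φ
      have key : ∀ (χ : Q.obj X ⟶ Q.obj Y), s • χ = χ ≫ Q.map (s • 𝟙 Y) := by
        intro χ
        rw [hmap, Linear.comp_smul, Category.comp_id]
      rw [key, Category.assoc, IsIso.inv_hom_id, Category.comp_id]
  · intro φ
    obtain ⟨ψ, hψ⟩ := Localization.exists_leftFraction Q U.trW φ
    obtain ⟨s, hs, u', hu'⟩ := hW ψ.s ψ.hs
    refine ⟨(ψ.f ≫ u', ⟨s, hs⟩), ?_⟩
    change s • φ = Q.map (ψ.f ≫ u')
    have h1 : φ ≫ Q.map ψ.s = Q.map ψ.f := by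
      rw [hψ, MorphismProperty.LeftFraction.map_comp_map_s]
    rw [Q.map_comp, ← h1, Category.assoc, ← Q.map_comp, hu', hmap, Linear.comp_smul,
      Category.comp_id]
  · intro f₁ f₂ h
    have h' : Q.map f₁ = Q.map f₂ := h
    rw [MorphismProperty.map_eq_iff_postcomp Q U.trW] at h'
    obtain ⟨Z, t, ht, fac⟩ := h'
    obtain ⟨s, hs, u', hu'⟩ := hW t ht
    refine ⟨⟨s, hs⟩, ?_⟩
    change s • f₁ = s • f₂
    have e₁ : s • f₁ = (f₁ ≫ t) ≫ u' := by
      rw [Category.assoc, hu', Linear.comp_smul, Category.comp_id]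
    have e₂ : s • f₂ = (f₂ ≫ t) ≫ u' := by
      rw [Category.assoc, hu', Linear.comp_smul, Category.comp_id]
    rw [e₁, e₂, fac]

end Groth.Agent.Helper9.TorsVerdier
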