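import Mathlib
import Groth.Prelude.Def_NonAbH2
import Groth.Prelude.Def_ChGrp

set_option autoImplicit false

namespace Groth.Agent.Helper9.TorsorIso

open CategoryTheory CategoryTheory.Limits MonoidalCategory CartesianMonoidalCategory MonObj GrpObj
  AlgebraicGeometry

universe u

/-- a monomorphism of schemes admitting sections locally for the fpqc topology is an isomorphism -/
theorem isIso_of_mono_of_local_sections {X X' : Scheme.{u}} (f : X ⟶ X') [Mono f]
    (R : Presieve X') (hR : R ∈ Scheme.fpqcPrecoverage X')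
    (hlift : ∀ ⦃Y : Scheme.{u}⦄ (t : Y ⟶ X'), R t → ∃ x : Y ⟶ X, x ≫ f = t) : IsIso f := by
  have hgen : Sieve.generate R ∈ Scheme.fpqcTopology X' := Precoverage.generate_mem_toGrothendieck hR
  have hsh : Presieve.IsSheafFor (yoneda.obj X) R := by
    rw [Presieve.isSheafFor_iff_generate]
    exact (GrothendieckTopology.Subcanonical.isSheaf_of_isRepresentable (yoneda.obj X)) _ hgen
  have hsep : Presieve.IsSeparatedFor (yoneda.obj X') R := by
    have h1 : Presieve.IsSheafFor (yoneda.obj X') R := by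
      rw [Presieve.isSheafFor_iff_generate]
      exact (GrothendieckTopology.Subcanonical.isSheaf_of_isRepresentable (yoneda.obj X')) _ hgen
    exact h1.isSeparatedFor
  let x : Presieve.FamilyOfElements (yoneda.obj X) R := fun Y t ht => (hlift t ht).choose
  have hx : ∀ ⦃Y : Scheme.{u}⦄ (t : Y ⟶ X') (ht : R t), x t ht ≫ f = t :=
    fun Y t ht => (hlift t ht).choose_spec
  have hcomp : x.Compatible := by
    intro Y₁ Y₂ Z g₁ g₂ f₁ f₂ h₁ h₂ hc
    change g₁ ≫ x f₁ h₁ = g₂ ≫ x f₂ h₂
    rw [← cancel_mono f, Category.assoc, Category.assoc, hx f₁ h₁, hx f₂ h₂, hc]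
  obtain ⟨g, hg, -⟩ := hsh x hcomp
  have hg' : ∀ ⦃Y : Scheme.{u}⦄ (t : Y ⟶ X') (ht : R t), t ≫ g = x t ht := fun Y t ht => hg t ht
  have h1 : g ≫ f = 𝟙 X' := by
    refine hsep (fun Y t _ => t) (g ≫ f) (𝟙 X') ?_ ?_
    · intro Y t ht
      change t ≫ g ≫ f = t
      rw [← Category.assoc, hg' t ht, hx t ht]
    · intro Y t ht
      change t ≫ 𝟙 X' = t
      exact Category.comp_id _
  have h2 : f ≫ g = 𝟙 X := by
    rw [← cancel_mono f, Category.assoc, h1, Category.comp_id, Category.id_comp]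
  exact ⟨g, h2, h1⟩

section Alg

variable {S : Scheme.{u}} {G X X' : Over S} [GrpObj G]

theorem one_act_point (a : AlgGrp.Action G X) {T : Over S} (x : T ⟶ X) :
    lift (toUnit T ≫ η[G]) x ≫ a.act = x := by
  have h1 : lift (toUnit T ≫ η[G]) x = lift (toUnit T) x ≫ (η[G] ▷ X) := by
    simp
  rw [h1, Category.assoc, a.one_act]
  simp

theorem exists_lift_of_point (a : AlgGrp.Action G X) (a' : AlgGrp.Action G X')
    (hps' : NonAbH1.IsPseudoTorsorSch a') (f : X ⟶ X') (hf : AlgGrp.Action.IsEquivariant a a' f)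
    {T : Over S} (y : T ⟶ X) (x' : T ⟶ X') : ∃ x : T ⟶ X, x ≫ f = x' := by
  haveI : IsIso (lift a'.act (snd G X')) := hps'
  let w : T ⟶ G ⊗ X' := lift x' (y ≫ f) ≫ inv (lift a'.act (snd G X'))
  have hw : w ≫ lift a'.act (snd G X') = lift x' (y ≫ f) := by
    change (_ ≫ inv _) ≫ _ = _
    rw [Category.assoc, IsIso.inv_hom_id, Category.comp_id]
  have hw1 : w ≫ a'.act = x' := by
    have := congrArg (fun t => t ≫ fst X' X') hw
    simpa using this
  have hw2 : w ≫ snd G X' = y ≫ f := by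
    have := congrArg (fun t => t ≫ snd X' X') hw
    simpa using this
  refine ⟨lift (w ≫ fst G X') y ≫ a.act, ?_⟩
  have hf' : a.act ≫ f = (G ◁ f) ≫ a'.act := hf
  rw [Category.assoc, hf', ← Category.assoc]
  have h3 : lift (w ≫ fst G X') y ≫ (G ◁ f) = w := by
    apply CartesianMonoidalCategory.hom_ext
    · simp
    · simp [hw2]
  rw [h3, hw1]

theorem mono_of_pseudoTorsor (a : AlgGrp.Action G X) (a' : AlgGrp.Action G X')
    (hps : NonAbH1.IsPseudoTorsorSch a) (hps' : NonAbH1.IsPseudoTorsorSch a')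
    (f : X ⟶ X') (hf : AlgGrp.Action.IsEquivariant a a' f) : Mono f := by
  haveI : IsIso (lift a.act (snd G X)) := hps
  haveI : IsIso (lift a'.act (snd G X')) := hps'
  refine ⟨fun {T} x₂ x₁ h => ?_⟩
  let w : T ⟶ G ⊗ X := lift x₂ x₁ ≫ inv (lift a.act (snd G X))
  have hw : w ≫ lift a.act (snd G X) = lift x₂ x₁ := by
    change (_ ≫ inv _) ≫ _ = _
    rw [Category.assoc, IsIso.inv_hom_id, Category.comp_id]
  have hw1 : w ≫ a.act = x₂ := by
    have := congrArg (fun t => t ≫ fst X X) hw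
    simpa using this
  have hw2 : w ≫ snd G X = x₁ := by
    have := congrArg (fun t => t ≫ snd X X) hw
    simpa using this
  have hf' : a.act ≫ f = (G ◁ f) ≫ a'.act := hf
  -- the group element is trivial
  have h4 : lift (w ≫ fst G X) (x₁ ≫ f) ≫ a'.act = x₁ ≫ f := by
    have hw2' : w ≫ snd G X ≫ f = x₁ ≫ f := by rw [← Category.assoc, hw2]
    have h5 : lift (w ≫ fst G X) (x₁ ≫ f) = w ≫ (G ◁ f) := by
      apply CartesianMonoidalCategory.hom_ext
      · simp
      · simp [hw2']
    rw [h5, Category.assoc, ← hf', ← Category.assoc, hw1, h]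
  have h6 : lift (w ≫ fst G X) (x₁ ≫ f) ≫ lift a'.act (snd G X') =
      lift (toUnit T ≫ η[G]) (x₁ ≫ f) ≫ lift a'.act (snd G X') := by
    apply CartesianMonoidalCategory.hom_ext
    · simp only [Category.assoc, lift_fst]
      rw [h4, one_act_point]
    · simp
  have h7 : lift (w ≫ fst G X) (x₁ ≫ f) = lift (toUnit T ≫ η[G]) (x₁ ≫ f) :=
    (cancel_mono (lift a'.act (snd G X'))).mp h6
  have h8 : w ≫ fst G X = toUnit T ≫ η[G] := by
    have := congrArg (fun t => t ≫ fst G X') h7
    simpa using this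
  have h9 : w = lift (toUnit T ≫ η[G]) x₁ := by
    apply CartesianMonoidalCategory.hom_ext
    · simp [h8]
    · simp [hw2]
  rw [← hw1, h9, one_act_point]

theorem isIso_of_equivariant (a : AlgGrp.Action G X) (a' : AlgGrp.Action G X')
    (ha : NonAbH1.IsTorsorFor Scheme.fpqcPrecoverage a)
    (ha' : NonAbH1.IsTorsorFor Scheme.fpqcPrecoverage a')
    (f : X ⟶ X') (hf : AlgGrp.Action.IsEquivariant a a' f) : IsIso f := by
  obtain ⟨hps, R, hR, hsec⟩ := ha
  obtain ⟨hps', -⟩ := ha'
  haveI : Mono f := mono_of_pseudoTorsor a a' hps hps' f hf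
  haveI : Mono f.left := inferInstance
  have hR' : R.pullbackArrows X'.hom ∈ Scheme.fpqcPrecoverage X'.left :=
    Precoverage.pullbackArrows_mem X'.hom hR
  haveI : IsIso f.left := by
    refine isIso_of_mono_of_local_sections f.left (R.pullbackArrows X'.hom) hR' ?_
    rintro Y t ⟨Z, h, hh⟩
    obtain ⟨σ, hσ⟩ := hsec h hh
    let T : Over S := Over.mk (pullback.snd h X'.hom ≫ X'.hom)
    let y : T ⟶ X := Over.homMk (pullback.fst h X'.hom ≫ σ) (by
      change (pullback.fst h X'.hom ≫ σ) ≫ X.hom = pullback.snd h X'.hom ≫ X'.hom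
      rw [Category.assoc, hσ, pullback.condition])
    let x' : T ⟶ X' := Over.homMk (pullback.snd h X'.hom) rfl
    obtain ⟨x, hx⟩ := exists_lift_of_point a a' hps' f hf y x'
    exact ⟨x.left, congrArg CommaMorphism.left hx⟩
  haveI : IsIso ((Over.forget S).map f) := by
    change IsIso f.left; infer_instance
  exact isIso_of_reflects_iso f (Over.forget S)

end Alg

end Groth.Agent.Helper9.TorsorIso
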