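import Mathlib
import Groth.Prelude.Def_NonAbH2
import Groth.Prelude.Def_ChGrp
import Groth.Prelude.Def_BigSite2
import Groth.Agent.Helper9.TorsorIso

set_option autoImplicit false

namespace Groth.Agent.Helper9.TorsorFun

open CategoryTheory CategoryTheory.Limits MonoidalCategory CartesianMonoidalCategory MonObj GrpObj
  AlgebraicGeometry Opposite

universe u w

section

variable {S : Scheme.{u}} {G X : Over S} [GrpObj G]

/-- two points of a pseudo-torsor differ by a point of the group -/
theorem exists_translate (a : AlgGrp.Action G X) (hps : NonAbH1.IsPseudoTorsorSch a)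
    {T : Over S} (x₁ x₂ : T ⟶ X) : ∃ g : T ⟶ G, lift g x₁ ≫ a.act = x₂ := by
  haveI : IsIso (lift a.act (snd G X)) := hps
  let w : T ⟶ G ⊗ X := lift x₂ x₁ ≫ inv (lift a.act (snd G X))
  have hw : w ≫ lift a.act (snd G X) = lift x₂ x₁ := by
    change (_ ≫ inv _) ≫ _ = _
    rw [Category.assoc, IsIso.inv_hom_id, Category.comp_id]
  have hw1 : w ≫ a.act = x₂ := by
    have := congrArg (fun t => t ≫ fst X X) hw
    simpa using this
  have hw2 : w ≫ snd G X = x₁ := by
    have := congrArg (fun t => t ≫ snd X X) hw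
    simpa using this
  refine ⟨w ≫ fst G X, ?_⟩
  have h3 : lift (w ≫ fst G X) x₁ = w := by
    apply CartesianMonoidalCategory.hom_ext
    · simp
    · simp [hw2]
  rw [h3, hw1]

variable (P : Scheme.{u}ᵒᵖ ⥤ Type w)

/-- an invariant section takes the same value at any two points over the same base -/
theorem invariant_point (a : AlgGrp.Action G X) (hps : NonAbH1.IsPseudoTorsorSch a)
    (s : P.obj (op X.left)) (hs : P.map a.act.left.op s = P.map (snd G X).left.op s)
    {T : Over S} (x₁ x₂ : T ⟶ X) : P.map x₁.left.op s = P.map x₂.left.op s := by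
  obtain ⟨g, hg⟩ := exists_translate a hps x₁ x₂
  have h1 : x₂.left = (lift g x₁).left ≫ a.act.left := by
    rw [← hg]; rfl
  have h2 : x₁.left = (lift g x₁).left ≫ (snd G X).left := by
    rw [← Over.comp_left, lift_snd]
  rw [h1]
  conv_lhs => rw [h2]
  rw [op_comp, op_comp, P.map_comp, P.map_comp]
  change P.map (lift g x₁).left.op (P.map (snd G X).left.op s) =
    P.map (lift g x₁).left.op (P.map a.act.left.op s)
  rw [hs]

theorem descent (hP : Presieve.IsSheaf Scheme.fpqcTopology P) (a : AlgGrp.Action G X)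
    (ha : NonAbH1.IsTorsorFor Scheme.fpqcPrecoverage a) :
    Function.Injective (P.map X.hom.op) ∧
      ∀ s : P.obj (op X.left), (∃ r, P.map X.hom.op r = s) ↔
        P.map a.act.left.op s = P.map (snd G X).left.op s := by
  obtain ⟨hps, R, hR, hsec⟩ := ha
  have hgen : Sieve.generate R ∈ Scheme.fpqcTopology S := Precoverage.generate_mem_toGrothendieck hR
  have hshS : Presieve.IsSheafFor P R := by
    rw [Presieve.isSheafFor_iff_generate]
    exact hP _ hgen
  have hR' : R.pullbackArrows X.hom ∈ Scheme.fpqcPrecoverage X.left :=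
    Precoverage.pullbackArrows_mem X.hom hR
  have hshX : Presieve.IsSheafFor P (R.pullbackArrows X.hom) := by
    rw [Presieve.isSheafFor_iff_generate]
    exact hP _ (Precoverage.generate_mem_toGrothendieck hR')
  -- chosen sections
  let σ : ∀ ⦃Y : Scheme.{u}⦄ (h : Y ⟶ S), R h → (Y ⟶ X.left) := fun Y h hh => (hsec h hh).choose
  have hσ : ∀ ⦃Y : Scheme.{u}⦄ (h : Y ⟶ S) (hh : R h), σ h hh ≫ X.hom = h :=
    fun Y h hh => (hsec h hh).choose_spec
  refine ⟨?_, ?_⟩
  · intro r₁ r₂ h12
    refine hshS.isSeparatedFor.ext ?_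
    intro Y h hh
    have h1 : h = σ h hh ≫ X.hom := (hσ h hh).symm
    rw [h1, op_comp, P.map_comp]
    change P.map (σ h hh).op (P.map X.hom.op r₁) = P.map (σ h hh).op (P.map X.hom.op r₂)
    rw [h12]
  · intro s
    constructor
    · rintro ⟨r, rfl⟩
      have h1 : a.act.left ≫ X.hom = (snd G X).left ≫ X.hom := by
        rw [Over.w a.act, Over.w (snd G X)]
      change (P.map X.hom.op ≫ P.map a.act.left.op) r = (P.map X.hom.op ≫ P.map (snd G X).left.op) r
      rw [← P.map_comp, ← P.map_comp, ← op_comp, ← op_comp, h1]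
    · intro hs
      -- the family on S
      let x : Presieve.FamilyOfElements P R := fun Y h hh => P.map (σ h hh).op s
      have hcomp : x.Compatible := by
        intro Y₁ Y₂ Z g₁ g₂ f₁ f₂ h₁ h₂ hc
        change P.map g₁.op (P.map (σ f₁ h₁).op s) = P.map g₂.op (P.map (σ f₂ h₂).op s)
        let T : Over S := Over.mk (g₁ ≫ f₁)
        let x₁ : T ⟶ X := Over.homMk (g₁ ≫ σ f₁ h₁) (by
          change (g₁ ≫ σ f₁ h₁) ≫ X.hom = g₁ ≫ f₁
          rw [Category.assoc, hσ f₁ h₁])
        let x₂ : T ⟶ X := Over.homMk (g₂ ≫ σ f₂ h₂) (by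
          change (g₂ ≫ σ f₂ h₂) ≫ X.hom = g₁ ≫ f₁
          rw [Category.assoc, hσ f₂ h₂, hc])
        have := invariant_point P a hps s hs x₁ x₂
        change P.map (g₁ ≫ σ f₁ h₁).op s = P.map (g₂ ≫ σ f₂ h₂).op s at this
        rw [op_comp, op_comp, P.map_comp, P.map_comp] at this
        exact this
      obtain ⟨r, hr, -⟩ := hshS x hcomp
      have hr' : ∀ ⦃Y : Scheme.{u}⦄ (h : Y ⟶ S) (hh : R h), P.map h.op r = P.map (σ h hh).op s :=
        fun Y h hh => hr h hh
      refine ⟨r, ?_⟩
      refine hshX.isSeparatedFor.ext ?_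
      rintro Y t ⟨Z, h, hh⟩
      -- t = pullback.snd h X.hom
      let T : Over S := Over.mk (pullback.snd h X.hom ≫ X.hom)
      let x₁ : T ⟶ X := Over.homMk (pullback.fst h X.hom ≫ σ h hh) (by
        change (pullback.fst h X.hom ≫ σ h hh) ≫ X.hom = pullback.snd h X.hom ≫ X.hom
        rw [Category.assoc, hσ h hh, pullback.condition])
      let x₂ : T ⟶ X := Over.homMk (pullback.snd h X.hom) rfl
      have h1 := invariant_point P a hps s hs x₁ x₂
      change P.map (pullback.fst h X.hom ≫ σ h hh).op s = P.map (pullback.snd h X.hom).op s at h1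
      rw [← h1]
      change (P.map X.hom.op ≫ P.map (pullback.snd h X.hom).op) r = _
      rw [← P.map_comp, ← op_comp, ← pullback.condition, op_comp, P.map_comp, op_comp, P.map_comp]
      change P.map (pullback.fst h X.hom).op (P.map h.op r) = P.map (pullback.fst h X.hom).op (P.map (σ h hh).op s)
      rw [hr' h hh]

end

end Groth.Agent.Helper9.TorsorFun
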