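import Mathlib
set_option autoImplicit false

namespace Groth.Agent.Helper9.TorusInv

open MvPolynomial

universe u

variable {k : Type u} [Field k] {n : ℕ}

/-- the rescaling endomorphism -/
noncomputable def sc (σ : Fin (n + 1) → k) : MvPolynomial (Fin (n + 1)) k →ₐ[k] MvPolynomial (Fin (n + 1)) k :=
  aeval (fun i => C (σ i) * X i)

lemma sc_monomial (σ : Fin (n + 1) → k) (m : Fin (n + 1) →₀ ℕ) (c : k) :
    sc σ (monomial m c) = monomial m (c * ∏ i, σ i ^ m i) := by
  rw [sc, aeval_monomial, Finsupp.prod_fintype _ _ (by simp)]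
  simp only [mul_pow, Finset.prod_mul_distrib]
  rw [monomial_eq, Finsupp.prod_fintype _ _ (by simp)]
  simp only [← map_pow, ← map_prod, algebraMap_eq, map_mul]
  ring

lemma coeff_sc (σ : Fin (n + 1) → k) (f : MvPolynomial (Fin (n + 1)) k) (m : Fin (n + 1) →₀ ℕ) :
    coeff m (sc σ f) = coeff m f * ∏ i, σ i ^ m i := by
  induction f using MvPolynomial.induction_on' with
  | monomial u a =>
    rw [sc_monomial, coeff_monomial, coeff_monomial]
    split_ifs with h
    · rw [h]
    · rw [zero_mul]
  | add p q hp hq => rw [map_add, coeff_add, coeff_add, hp, hq, add_mul]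

theorem main [IsAlgClosed k] (f : MvPolynomial (Fin (n + 1)) k) :
    (∀ σ : Fin (n + 1) → kˣ, ∏ i, (σ i : k) = 1 →
        MvPolynomial.aeval (fun i => MvPolynomial.C (σ i : k) * MvPolynomial.X i) f = f) ↔
      f ∈ Algebra.adjoin k ({∏ i : Fin (n + 1), MvPolynomial.X i} :
        Set (MvPolynomial (Fin (n + 1)) k)) := by
  classical
  constructor
  · intro h
    have hconst : ∀ m ∈ f.support, ∀ i j : Fin (n + 1), m i = m j := by
      intro m hm i j
      by_contra hne
      have hij : i ≠ j := fun hij => hne (by rw [hij])
      have hcm : coeff m f ≠ 0 := mem_support_iff.mp hm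
      -- all nonzero t satisfy t ^ m i = t ^ m j
      have hroot : ∀ t : kˣ, (t : k) ^ m i = (t : k) ^ m j := by
        intro t
        let σ : Fin (n + 1) → kˣ := Function.update (Function.update (fun _ => 1) i t) j t⁻¹
        have hσi : σ i = t := by
          simp only [σ]
          rw [Function.update_of_ne hij, Function.update_self]
        have hσj : σ j = t⁻¹ := by simp only [σ]; rw [Function.update_self]
        have hσl : ∀ l, l ≠ i → l ≠ j → σ l = 1 := by
          intro l hli hlj
          simp only [σ]
          rw [Function.update_of_ne hlj, Function.update_of_ne hli]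
        have hprod : ∀ g : Fin (n + 1) → ℕ, ∏ l, ((σ l : kˣ) : k) ^ g l = (t : k) ^ g i * ((t⁻¹ : kˣ) : k) ^ g j := by
          intro g
          rw [← Finset.mul_prod_erase Finset.univ _ (Finset.mem_univ i),
            ← Finset.mul_prod_erase (Finset.univ.erase i) _ (Finset.mem_erase.mpr ⟨hij.symm, Finset.mem_univ j⟩),
            hσi, hσj, Finset.prod_eq_one, mul_one]
          intro l hl
          rw [Finset.mem_erase, Finset.mem_erase] at hl
          rw [hσl l hl.2.1 hl.1, Units.val_one, one_pow]
        have h1 : ∏ l, ((σ l : kˣ) : k) = 1 := by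
          have := hprod (fun _ => 1)
          simp only [pow_one] at this
          rw [this, ← Units.val_mul, mul_inv_cancel, Units.val_one]
        have h2 := congrArg (coeff m) (h σ h1)
        have h3 : coeff m (sc (fun l => ((σ l : kˣ) : k)) f) = coeff m f := h2
        rw [coeff_sc, hprod (fun l => m l)] at h3
        have h4 : (t : k) ^ m i * ((t⁻¹ : kˣ) : k) ^ m j = 1 := by
          have := mul_left_cancel₀ hcm (h3.trans (mul_one _).symm)
          exact this
        have h5 : ((t⁻¹ : kˣ) : k) ^ m j * (t : k) ^ m j = 1 := by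
          rw [← mul_pow, ← Units.val_mul, inv_mul_cancel, Units.val_one, one_pow]
        calc (t : k) ^ m i = (t : k) ^ m i * (((t⁻¹ : kˣ) : k) ^ m j * (t : k) ^ m j) := by
              rw [h5, mul_one]
          _ = ((t : k) ^ m i * ((t⁻¹ : kˣ) : k) ^ m j) * (t : k) ^ m j := by ring
          _ = (t : k) ^ m j := by rw [h4, one_mul]
      let P : Polynomial k := Polynomial.X ^ m i - Polynomial.X ^ m j
      have hP0 : P ≠ 0 := by
        intro hP
        have := congrArg (fun q => Polynomial.coeff q (m i)) hP
        simp only [P, Polynomial.coeff_sub, Polynomial.coeff_X_pow, Polynomial.coeff_zero] at this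
        rw [if_pos trivial, if_neg hne, sub_zero] at this
        exact one_ne_zero this
      have hinf : Set.Infinite {x : k | Polynomial.IsRoot P x} := by
        refine Set.Infinite.mono ?_ (Set.Finite.infinite_compl (Set.finite_singleton (0 : k)))
        intro t ht
        have ht0 : t ≠ 0 := ht
        show Polynomial.IsRoot P t
        simp only [P, Polynomial.IsRoot.def, Polynomial.eval_sub, Polynomial.eval_pow, Polynomial.eval_X]
        rw [sub_eq_zero]
        exact hroot (Units.mk0 t ht0)
      exact hP0 (Polynomial.eq_zero_of_infinite_isRoot P hinf)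
    rw [f.as_sum]
    refine Subalgebra.sum_mem _ fun m hm => ?_
    have hmon : monomial m (coeff m f) = C (coeff m f) * (∏ i : Fin (n + 1), X i) ^ (m 0) := by
      rw [monomial_eq, Finsupp.prod_fintype _ _ (by simp), ← Finset.prod_pow]
      have : ∀ l : Fin (n + 1), (X l : MvPolynomial (Fin (n + 1)) k) ^ m l = X l ^ m 0 := by
        intro l; rw [hconst m hm l 0]
      rw [Finset.prod_congr rfl (fun l _ => this l)]
    rw [hmon, ← algebraMap_eq]
    refine Subalgebra.mul_mem _ (Subalgebra.algebraMap_mem _ _) ?_
    refine Subalgebra.pow_mem _ ?_ _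
    exact Algebra.subset_adjoin (Set.mem_singleton _)
  · intro hf σ hσ
    have hle : Algebra.adjoin k ({∏ i : Fin (n + 1), MvPolynomial.X i} :
        Set (MvPolynomial (Fin (n + 1)) k)) ≤
        AlgHom.equalizer (sc (fun i => (σ i : k))) (AlgHom.id k _) := by
      rw [Algebra.adjoin_le_iff, Set.singleton_subset_iff]
      show sc (fun i => (σ i : k)) (∏ i, X i) = ∏ i, X i
      rw [map_prod]
      simp only [sc, aeval_X, Finset.prod_mul_distrib, ← map_prod, hσ, map_one, one_mul]
    exact hle hf

end Groth.Agent.Helper9.TorusInv
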