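import Mathlib
import Groth.Prelude.Def_Red
import Groth.Agent.Helper9.FpqcLocal
import Groth.Agent.Helper9.QuotGrp
import Groth.Agent.Helper5.FlatCodescent
import Groth.Agent.Lead.SchDescent2

set_option autoImplicit false

namespace Groth.Agent.Helper9.TorusProps

open CategoryTheory CategoryTheory.Limits MonoidalCategory CartesianMonoidalCategory MonObj GrpObj
  AlgebraicGeometry

universe u

theorem diag_flat (R : Type u) [CommRing R] (M : Type) [AddCommGroup M] :
    Flat (Red.diag R M).hom := by
  change Flat (Spec.map (CommRingCat.ofHom (algebraMap R (MonoidAlgebra R (Multiplicative M)))))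
  rw [HasRingHomProperty.Spec_iff (P := @Flat)]
  rw [CommRingCat.hom_ofHom, RingHom.flat_algebraMap_iff]
  infer_instance

theorem diag_lfp (R : Type u) [CommRing R] [IsNoetherianRing R] (M : Type) [AddCommGroup M]
    [Monoid.FG (Multiplicative M)] :
    LocallyOfFinitePresentation (Red.diag R M).hom := by
  change LocallyOfFinitePresentation
    (Spec.map (CommRingCat.ofHom (algebraMap R (MonoidAlgebra R (Multiplicative M)))))
  rw [HasRingHomProperty.Spec_iff (P := @LocallyOfFinitePresentation)]
  rw [CommRingCat.hom_ofHom, RingHom.finitePresentation_algebraMap]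
  exact Algebra.FinitePresentation.of_finiteType.mp MonoidAlgebra.finiteType_of_fg

theorem DS_flat (S : Scheme.{u}) (M : Type) [AddCommGroup M] : Flat (Red.DS S M).hom := by
  haveI := diag_flat (ULift.{u} ℤ) M
  change Flat (pullback.snd (Red.diag (ULift.{u} ℤ) M).hom _)
  infer_instance

theorem DS_lfp (S : Scheme.{u}) (M : Type) [AddCommGroup M] [Monoid.FG (Multiplicative M)] :
    LocallyOfFinitePresentation (Red.DS S M).hom := by
  haveI : IsNoetherianRing (ULift.{u} ℤ) := isNoetherianRing_of_ringEquiv ℤ ULift.ringEquiv.symm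
  haveI := diag_lfp (ULift.{u} ℤ) M
  change LocallyOfFinitePresentation (pullback.snd (Red.diag (ULift.{u} ℤ) M).hom _)
  infer_instance

theorem splitTorus_prop (P : MorphismProperty Scheme.{u}) [P.RespectsIso] {S : Scheme.{u}}
    {T : Over S} [GrpObj T] (M : Type) [AddCommGroup M] (h : Red.IsSplitTorusWith M T)
    (hP : P (Red.DS S M).hom) : P T.hom := by
  obtain ⟨e⟩ := h
  have e' : T ≅ Red.DS S M := (Grp.forget _).mapIso e
  have h1 : T.hom = ((Over.forget S).mapIso e').hom ≫ (Red.DS S M).hom := (Over.w e'.hom).symm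
  rw [h1]
  exact (P.cancel_left_of_respectsIso ((Over.forget S).mapIso e').hom (Red.DS S M).hom).mpr hP


theorem paste_iff (P : MorphismProperty Scheme.{u}) [P.RespectsIso]
    {X S U W : Scheme.{u}} (g : X ⟶ S) (t : U ⟶ S) (s : W ⟶ U) :
    P (pullback.snd (pullback.snd g t) s) ↔ P (pullback.snd g (s ≫ t)) := by
  have sq1 : IsPullback (pullback.fst g t) (pullback.snd g t) g t := IsPullback.of_hasPullback _ _
  have sq2 : IsPullback (pullback.fst (pullback.snd g t) s) (pullback.snd (pullback.snd g t) s)
      (pullback.snd g t) s := IsPullback.of_hasPullback _ _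
  have sq3 := sq2.paste_horiz sq1
  rw [← sq3.isoPullback_hom_snd, P.cancel_left_of_respectsIso]

/-- a property of morphisms which is Zariski local on the target, descends along fpqc covers and
holds for all split tori `D_S(ℤ^r)` holds for the structure morphism of every torus -/
theorem torus_prop (P : MorphismProperty Scheme.{u}) [IsZariskiLocalAtTarget P]
    [P.DescendsAlong (@Surjective ⊓ @Flat ⊓ @QuasiCompact)]
    (hP : ∀ (S' : Scheme.{u}) (r : ℕ), P (Red.DS S' (Fin r → ℤ)).hom)
    {S : Scheme.{u}} {T : Over S} [GrpObj T] (hT : Red.IsTorus T) : P T.hom := by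
  obtain ⟨S', f, hf, hs, hqc, hloc⟩ := hT
  apply Groth.Agent.Helper9.FpqcLocal.of_fpqc_cover P T.hom (Presieve.singleton f)
    (Groth.Agent.Helper9.QuotGrp.singleton_mem_fpqc f hs hf hqc)
  rintro V t ⟨⟩
  choose U hU r hr using hloc
  have hcov : iSup U = ⊤ := by
    rw [eq_top_iff]
    intro x _
    exact TopologicalSpace.Opens.mem_iSup.mpr ⟨x, hU x⟩
  apply IsZariskiLocalAtTarget.of_iSup_eq_top (P := P) U hcov
  intro i
  rw [← P.cancel_left_of_respectsIso (pullbackRestrictIsoRestrict (pullback.snd T.hom f) (U i)).hom,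
    pullbackRestrictIsoRestrict_hom_morphismRestrict, paste_iff P]
  exact splitTorus_prop P (T := Red.bc ((U i).ι ≫ f) T) (Fin (r i) → ℤ) (hr i) (hP _ _)

set_option backward.isDefEq.respectTransparency false in
theorem torus_flat {S : Scheme.{u}} {T : Over S} [GrpObj T] (hT : Red.IsTorus T) : Flat T.hom :=
  torus_prop @Flat (fun S' _ => DS_flat S' _) hT

set_option backward.isDefEq.respectTransparency false in
theorem torus_lfp {S : Scheme.{u}} {T : Over S} [GrpObj T] (hT : Red.IsTorus T) :
    LocallyOfFinitePresentation T.hom :=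
  torus_prop @LocallyOfFinitePresentation (fun S' _ => DS_lfp S' _) hT


set_option backward.isDefEq.respectTransparency false in
theorem DS_affine (S : Scheme.{u}) (M : Type) [AddCommGroup M] : IsAffineHom (Red.DS S M).hom := by
  haveI : IsAffineHom (Red.diag (ULift.{u} ℤ) M).hom := by
    change IsAffineHom (Spec.map (CommRingCat.ofHom
      (algebraMap (ULift.{u} ℤ) (MonoidAlgebra (ULift.{u} ℤ) (Multiplicative M)))))
    infer_instance
  change IsAffineHom (pullback.snd (Red.diag (ULift.{u} ℤ) M).hom _)
  exact MorphismProperty.pullback_snd (P := @IsAffineHom) _ _ this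

set_option backward.isDefEq.respectTransparency false in
theorem torus_affine {S : Scheme.{u}} {T : Over S} [GrpObj T] (hT : Red.IsTorus T) :
    IsAffineHom T.hom :=
  torus_prop @IsAffineHom (fun S' _ => DS_affine S' _) hT

end Groth.Agent.Helper9.TorusProps
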