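import Groth.Agent.Helper9.BinaryForms

/-!
# Trisecant lines of a rational quintic in P³ (binary forms version)
-/

set_option linter.unusedSimpArgs false

namespace Groth.Agent.Helper9.BinaryForms

open MvPolynomial Module

variable {K : Type*} [Field K]

section
variable (V : Submodule K (MvPolynomial (Fin 2) K)) (hV : V ≤ S K 5) (hdim : finrank K V = 4)
  (hsep : ∀ e ∈ S K 2, e ≠ 0 → ∀ F ∈ S K 5, ∃ v ∈ V, ∃ h ∈ S K 3, F = v + e * h)

/-- the linear series as a subspace of the quintics -/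
noncomputable abbrev V' : Submodule K (S K 5) := V.comap (S K 5).subtype

include hV hdim in
lemma finrank_V' : finrank K (V' V) = 4 := by
  rw [← hdim]
  exact LinearEquiv.finrank_eq (Submodule.comapSubtypeEquivOfLe hV)

include hV hdim in
lemma finrank_Q : finrank K (S K 5 ⧸ V' V) = 2 := by
  have := Submodule.finrank_quotient_add_finrank (V' V)
  rw [finrank_V' V hV hdim, finrank_S] at this
  omega

include hV hdim hsep in
/-- no cubic `g` has `g · S₂ ⊆ V` -/
theorem no_plane [IsAlgClosed K] (g : S K 3) (hg : g ≠ 0) (h : ∀ e : S K 2, g.1 * e.1 ∈ V) : False := by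
  obtain ⟨l, e, hle⟩ := exists_factor K g
  have he0 : e ≠ 0 := by
    rintro rfl
    apply hg
    apply Subtype.ext
    rw [hle]
    simp
  have hl0 : l.1 ≠ 0 := by
    intro hl
    apply hg
    apply Subtype.ext
    rw [hle, hl]
    simp
  -- the map `h ↦ e h mod V`
  let T : S K 3 →ₗ[K] (S K 5 ⧸ V' V) := (V' V).mkQ ∘ₗ (mulB K 2 3 e)
  have hTsurj : Function.Surjective T := by
    intro q
    obtain ⟨F, rfl⟩ := Submodule.mkQ_surjective _ q
    obtain ⟨v, hv, h', hh', hF⟩ := hsep e.1 e.2 (fun h0 => he0 (Subtype.ext h0)) F.1 F.2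
    refine ⟨⟨h', hh'⟩, ?_⟩
    simp only [T, LinearMap.comp_apply]
    rw [← sub_eq_zero, ← map_sub, Submodule.mkQ_apply, Submodule.Quotient.mk_eq_zero,
      Submodule.mem_comap]
    have : ((S K 5).subtype (mulB K 2 3 e ⟨h', hh'⟩ - F)) = -v := by
      simp only [map_sub, Submodule.subtype_apply, mulB_coe]
      rw [hF]; ring
    rw [this]
    exact V.neg_mem hv
  -- the kernel contains `l · S₂`
  let J : S K 2 →ₗ[K] S K 3 := mulB K 1 2 l
  have hJinj : Function.Injective J := by
    rw [← LinearMap.ker_eq_bot, LinearMap.ker_eq_bot']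
    intro x hx
    have : l.1 * x.1 = 0 := congrArg Subtype.val hx
    exact Subtype.ext ((mul_eq_zero.mp this).resolve_left hl0)
  have hJker : LinearMap.range J ≤ LinearMap.ker T := by
    rintro _ ⟨x, rfl⟩
    rw [LinearMap.mem_ker]
    simp only [T, J, LinearMap.comp_apply]
    rw [Submodule.mkQ_apply, Submodule.Quotient.mk_eq_zero, Submodule.mem_comap]
    simp only [Submodule.subtype_apply, mulB_coe]
    have := h x
    rw [hle] at this
    have e1 : ((mulB K 2 3 e (mulB K 1 2 l x) : S K (2 + 3)) : MvPolynomial (Fin 2) K) =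
        l.1 * e.1 * x.1 := by
      show e.1 * (l.1 * x.1) = _
      ring
    rw [e1]
    exact this
  have h1 : finrank K (LinearMap.range J) = 3 := by
    rw [LinearMap.finrank_range_of_inj hJinj, finrank_S]
  have h2 : 3 ≤ finrank K (LinearMap.ker T) := by
    have := Submodule.finrank_mono hJker
    omega
  have h3 := LinearMap.finrank_range_add_finrank_ker T
  rw [LinearMap.range_eq_top.mpr hTsurj, finrank_top, finrank_Q V hV hdim, finrank_S] at h3
  omega

include hV hdim hsep in
theorem trisecant [IsAlgClosed K] (F : Finset (MvPolynomial (Fin 2) K)) :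
    ∃ g ∈ S K 3, g ≠ 0 ∧
      2 ≤ finrank K ↥(V ⊓ (S K 2).map (LinearMap.mulLeft K g)) ∧
      ∀ g' ∈ F, ∀ c : K, g ≠ c • g' := by
  have : Infinite K := IsAlgClosed.instInfinite
  have hQ := finrank_Q V hV hdim
  have : Module.Finite K (S K 5 ⧸ V' V) := Module.finite_of_finrank_pos (by rw [hQ]; norm_num)
  have : Module.Finite K V := Module.finite_of_finrank_pos (by rw [hdim]; norm_num)
  let b : Basis (Fin 2) K (S K 5 ⧸ V' V) := Module.finBasisOfFinrankEq K _ hQ
  let ψ : K → ((S K 5 ⧸ V' V) →ₗ[K] K) := fun μ =>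
    (LinearMap.proj 0 + μ • LinearMap.proj 1) ∘ₗ b.equivFun.toLinearMap
  have hψ : ∀ μ q, ψ μ q = b.equivFun q 0 + μ * b.equivFun q 1 := by
    intro μ q
    simp [ψ]
  let Lam : K → (S K 3 →ₗ[K] S K 2 →ₗ[K] K) := fun μ =>
    (mulB K 3 2).compr₂ (ψ μ ∘ₗ (V' V).mkQ)
  have hLam : ∀ μ (g : S K 3) (e : S K 2), Lam μ g e = ψ μ ((V' V).mkQ (mulB K 3 2 g e)) := by
    intro μ g e
    rfl
  -- the bad parameters
  have hbad : ∀ g' : MvPolynomial (Fin 2) K,
      {μ : K | ∃ hg' : g' ∈ S K 3, g' ≠ 0 ∧ Lam μ ⟨g', hg'⟩ = 0}.Subsingleton := by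
    intro g' μ₁ h₁ μ₂ h₂
    obtain ⟨hg', hne, hL₁⟩ := h₁
    obtain ⟨hg'₂, _, hL₂⟩ := h₂
    by_contra hμ
    refine no_plane V hV hdim hsep ⟨g', hg'⟩ (fun h0 => hne (congrArg Subtype.val h0)) ?_
    intro e
    have e1 := LinearMap.congr_fun hL₁ e
    have e2 := LinearMap.congr_fun hL₂ e
    rw [hLam, hψ] at e1 e2
    simp only [LinearMap.zero_apply] at e1 e2
    have hx1 : b.equivFun ((V' V).mkQ (mulB K 3 2 ⟨g', hg'⟩ e)) 1 = 0 := by
      have : (μ₁ - μ₂) * b.equivFun ((V' V).mkQ (mulB K 3 2 ⟨g', hg'⟩ e)) 1 = 0 := by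
        linear_combination e1 - e2
      exact (mul_eq_zero.mp this).resolve_left (sub_ne_zero.mpr hμ)
    have hx0 : b.equivFun ((V' V).mkQ (mulB K 3 2 ⟨g', hg'⟩ e)) 0 = 0 := by
      rw [hx1] at e1
      linear_combination e1
    have hq : (V' V).mkQ (mulB K 3 2 ⟨g', hg'⟩ e) = 0 := by
      apply b.equivFun.injective
      rw [map_zero]
      funext i
      fin_cases i
      · exact hx0
      · exact hx1
    rw [Submodule.mkQ_apply, Submodule.Quotient.mk_eq_zero, Submodule.mem_comap] at hq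
    exact hq
  have hfin : (⋃ g' ∈ F, {μ : K | ∃ hg' : g' ∈ S K 3, g' ≠ 0 ∧ Lam μ ⟨g', hg'⟩ = 0}).Finite :=
    Set.Finite.biUnion F.finite_toSet (fun g' _ => (hbad g').finite)
  obtain ⟨μ, hμ⟩ := hfin.infinite_compl.nonempty
  -- a cubic for the parameter `μ`
  have hker : LinearMap.ker (Lam μ) ≠ ⊥ := by
    apply LinearMap.ker_ne_bot_of_finrank_lt
    rw [finrank_S, Module.finrank_linearMap, finrank_S, Module.finrank_self]
    norm_num
  obtain ⟨g, hgker, hg0⟩ := Submodule.exists_mem_ne_zero_of_ne_bot hker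
  rw [LinearMap.mem_ker] at hgker
  refine ⟨g.1, g.2, fun h0 => hg0 (Subtype.ext h0), ?_, ?_⟩
  · -- the dimension estimate
    let T : S K 2 →ₗ[K] (S K 5 ⧸ V' V) := (V' V).mkQ ∘ₗ (mulB K 3 2 g)
    have hrange : LinearMap.range T ≤ LinearMap.ker (ψ μ) := by
      rintro _ ⟨e, rfl⟩
      rw [LinearMap.mem_ker]
      have := LinearMap.congr_fun hgker e
      rw [hLam] at this
      exact this
    have hψsurj : Function.Surjective (ψ μ) := by
      intro a
      refine ⟨a • b 0, ?_⟩
      rw [hψ]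
      simp
    have hkerψ : finrank K (LinearMap.ker (ψ μ)) = 1 := by
      have := LinearMap.finrank_range_add_finrank_ker (ψ μ)
      rw [LinearMap.range_eq_top.mpr hψsurj, finrank_top, Module.finrank_self, hQ] at this
      omega
    have hrk : finrank K (LinearMap.range T) ≤ 1 := by
      rw [← hkerψ]; exact Submodule.finrank_mono hrange
    have hkerT : 2 ≤ finrank K (LinearMap.ker T) := by
      have := LinearMap.finrank_range_add_finrank_ker T
      rw [finrank_S] at this
      omega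
    -- transport along `e ↦ g e`
    let J : S K 2 →ₗ[K] MvPolynomial (Fin 2) K := (LinearMap.mulLeft K g.1) ∘ₗ (S K 2).subtype
    have hJinj : Function.Injective J := by
      rw [← LinearMap.ker_eq_bot, LinearMap.ker_eq_bot']
      intro x hx
      have hx' : g.1 * x.1 = 0 := hx
      have hg1 : g.1 ≠ 0 := fun h0 => hg0 (Subtype.ext h0)
      exact Subtype.ext ((mul_eq_zero.mp hx').resolve_left hg1)
    have hle : (LinearMap.ker T).map J ≤ V ⊓ (S K 2).map (LinearMap.mulLeft K g.1) := by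
      rintro _ ⟨e, he, rfl⟩
      refine ⟨?_, ?_⟩
      · rw [SetLike.mem_coe, LinearMap.mem_ker] at he
        simp only [T, LinearMap.comp_apply] at he
        rw [Submodule.mkQ_apply, Submodule.Quotient.mk_eq_zero, Submodule.mem_comap] at he
        exact he
      · exact ⟨e.1, e.2, rfl⟩
    have heq : finrank K ((LinearMap.ker T).map J) = finrank K (LinearMap.ker T) :=
      LinearEquiv.finrank_eq (Submodule.equivMapOfInjective J hJinj _).symm
    have hfd : Module.Finite K ↥(V ⊓ (S K 2).map (LinearMap.mulLeft K g.1)) :=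
      Submodule.finiteDimensional_inf_left V _
    have := Submodule.finrank_mono hle
    omega
  · intro g' hg' c hgc
    apply hμ
    simp only [Set.mem_iUnion, Set.mem_ofPred_eq]
    have hc : c ≠ 0 := by
      rintro rfl
      rw [zero_smul] at hgc
      exact hg0 (Subtype.ext hgc)
    have hg'eq : g' = c⁻¹ • g.1 := by rw [hgc, smul_smul, inv_mul_cancel₀ hc, one_smul]
    have hg'mem : g' ∈ S K 3 := by rw [hg'eq]; exact (S K 3).smul_mem _ g.2
    refine ⟨g', hg', hg'mem, ?_, ?_⟩
    · intro h0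
      rw [h0, smul_zero] at hgc
      exact hg0 (Subtype.ext hgc)
    · have : (⟨g', hg'mem⟩ : S K 3) = c⁻¹ • g := Subtype.ext hg'eq
      rw [this, map_smul, hgker, smul_zero]

end

end Groth.Agent.Helper9.BinaryForms
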