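import Mathlib
import Groth.Prelude.Def_NonAbH2
import Groth.Prelude.Def_ChGrp

set_option autoImplicit false
set_option linter.unusedSectionVars false

namespace Groth.Agent.Helper9.TrivTorsor

open CategoryTheory CategoryTheory.Limits MonoidalCategory CartesianMonoidalCategory MonObj GrpObj
  AlgebraicGeometry

universe u

variable {S : Scheme.{u}} {G X : Over S} [GrpObj G] (a : AlgGrp.Action G X)

/-- the orbit map through a section is an equivariant isomorphism for a pseudo-torsor -/
noncomputable def equivIsoOfSection (hps : NonAbH1.IsPseudoTorsorSch a) (x₀ : 𝟙_ (Over S) ⟶ X) :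
    NonAbH1.EquivIso (NonAbH1.trivialAction G) a := by
  haveI : IsIso (lift a.act (snd G X)) := hps
  refine ⟨⟨lift (𝟙 G) (toUnit G ≫ x₀) ≫ a.act,
    lift (𝟙 X) (toUnit X ≫ x₀) ≫ inv (lift a.act (snd G X)) ≫ fst G X, ?_, ?_⟩, ?_⟩
  · -- e.hom ≫ k = 𝟙 G
    have h1 : lift (lift (𝟙 G) (toUnit G ≫ x₀) ≫ a.act) (toUnit G ≫ x₀)
        = lift (𝟙 G) (toUnit G ≫ x₀) ≫ lift a.act (snd G X) := by
      rw [comp_lift, lift_snd]
    rw [← Category.assoc, comp_lift, Category.comp_id, ← Category.assoc _ (toUnit X),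
      toUnit_unique (_ ≫ toUnit X) (toUnit G), h1, Category.assoc, IsIso.hom_inv_id_assoc, lift_fst]
  · -- k ≫ e.hom = 𝟙 X
    set w := lift (𝟙 X) (toUnit X ≫ x₀) ≫ inv (lift a.act (snd G X)) with hw
    have h1 : w ≫ lift a.act (snd G X) = lift (𝟙 X) (toUnit X ≫ x₀) := by
      rw [hw, Category.assoc, IsIso.inv_hom_id, Category.comp_id]
    have h2 : w ≫ a.act = 𝟙 X := by
      have := congrArg (fun f => f ≫ fst X X) h1
      simpa using this
    have h3 : w ≫ snd G X = toUnit X ≫ x₀ := by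
      have := congrArg (fun f => f ≫ snd X X) h1
      simpa using this
    have h4 : w = lift (w ≫ fst G X) (toUnit X ≫ x₀) := by
      rw [← h3, ← comp_lift, lift_fst_snd, Category.comp_id]
    rw [← Category.assoc, ← Category.assoc, comp_lift, Category.comp_id,
      ← Category.assoc _ (toUnit G), toUnit_unique (_ ≫ toUnit G) (toUnit X)]
    change lift (w ≫ fst G X) (toUnit X ≫ x₀) ≫ a.act = 𝟙 X
    rw [← h4, h2]
  · -- equivariance
    change μ[G] ≫ lift (𝟙 G) (toUnit G ≫ x₀) ≫ a.act
      = (G ◁ (lift (𝟙 G) (toUnit G ≫ x₀) ≫ a.act)) ≫ a.act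
    apply AlgGrp.Action.hom_ext_lift₂
    intro T g h
    rw [← Category.assoc, ← Hom.mul_def, ← Category.assoc, comp_lift, Category.comp_id,
      ← Category.assoc _ (toUnit G), toUnit_unique (_ ≫ toUnit G) (toUnit T),
      lift_whiskerLeft_assoc, ← Category.assoc h, comp_lift, Category.comp_id,
      ← Category.assoc h, toUnit_unique (h ≫ toUnit G) (toUnit T), AlgGrp.Action.lift_mul_act]

theorem main : Nonempty (NonAbH1.EquivIso (NonAbH1.trivialAction G) a) ↔
    (NonAbH1.IsPseudoTorsorSch a ∧ NonAbH1.HasSectionOver X (𝟙 S)) := by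
  constructor
  · rintro ⟨e⟩
    constructor
    · have hcomm : μ[G] ≫ e.iso.hom = (G ◁ e.iso.hom) ≫ a.act := e.comm
      have h1 : lift a.act (snd G X) = (G ◁ e.iso.inv) ≫ lift μ[G] (snd G G)
          ≫ (e.iso.hom ⊗ₘ e.iso.hom) := by
        apply AlgGrp.Action.hom_ext_lift₂
        intro T g x
        have h2 := congrArg (fun f => lift g (x ≫ e.iso.inv) ≫ f) hcomm
        beta_reduce at h2
        rw [lift_whiskerLeft_assoc, Category.assoc, e.iso.inv_hom_id, Category.comp_id] at h2
        rw [lift_whiskerLeft_assoc, comp_lift, comp_lift_assoc, lift_map, lift_snd,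
          Category.assoc, h2, lift_snd, Category.assoc, e.iso.inv_hom_id, Category.comp_id]
      have h3 : IsIso (lift μ[G] (snd G G)) := NonAbH1.isPseudoTorsorSch_trivialAction G
      change IsIso (lift a.act (snd G X))
      rw [h1]
      infer_instance
    · exact ⟨(η[G] ≫ e.iso.hom).left, Over.w (η[G] ≫ e.iso.hom)⟩
  · rintro ⟨hps, s, hs⟩
    exact ⟨equivIsoOfSection a hps (Over.homMk s hs)⟩

end Groth.Agent.Helper9.TrivTorsor
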