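import Mathlib
import Groth.Prelude.Def_WittGrp

/-! Truncated Witt vectors of a perfect field of char p form a local ring with maximal ideal (p)
(helper9). -/

namespace Groth.Agent.Helper9.TruncWittLocal

set_option linter.unusedSectionVars false

open WittVector

variable (p : ℕ) [hp : Fact p.Prime] (k : Type*) [Field k] [CharP k p] [PerfectRing k p] (n : ℕ)

/-- the zeroth coefficient as a ring hom -/
noncomputable def c0 : TruncatedWittVector p (n + 1) k →+* k where
  toFun x := x.coeff 0
  map_one' := by
    rw [← map_one (WittVector.truncate (p := p) (R := k) (n + 1)), WittVector.coeff_truncate]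
    exact WittVector.one_coeff_zero p k
  map_zero' := TruncatedWittVector.coeff_zero p (n + 1) k 0
  map_mul' x y := by
    obtain ⟨X, rfl⟩ := WittVector.truncate_surjective p (n + 1) k x
    obtain ⟨Y, rfl⟩ := WittVector.truncate_surjective p (n + 1) k y
    rw [← map_mul, WittVector.coeff_truncate, WittVector.coeff_truncate, WittVector.coeff_truncate]
    exact WittVector.mul_coeff_zero X Y
  map_add' x y := by
    obtain ⟨X, rfl⟩ := WittVector.truncate_surjective p (n + 1) k x
    obtain ⟨Y, rfl⟩ := WittVector.truncate_surjective p (n + 1) k y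
    rw [← map_add, WittVector.coeff_truncate, WittVector.coeff_truncate, WittVector.coeff_truncate]
    exact WittVector.add_coeff_zero X Y

theorem c0_apply (x : TruncatedWittVector p (n + 1) k) : c0 p k n x = x.coeff 0 := rfl

theorem c0_truncate (X : WittVector p k) :
    c0 p k n (WittVector.truncate (n + 1) X) = X.coeff 0 := by
  rw [c0_apply, WittVector.coeff_truncate]; rfl

theorem c0_surjective : Function.Surjective (c0 p k n) := by
  intro a
  refine ⟨WittVector.truncate (n + 1) (WittVector.teichmuller p a), ?_⟩
  rw [c0_truncate, WittVector.teichmuller_coeff_zero]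

instance nontrivial : Nontrivial (TruncatedWittVector p (n + 1) k) :=
  (c0 p k n).domain_nontrivial

instance isLocalRing : IsLocalRing (TruncatedWittVector p (n + 1) k) :=
  IsLocalRing.of_surjective' (WittVector.truncate (n + 1)) (WittVector.truncate_surjective p (n + 1) k)

theorem ker_c0 : RingHom.ker (c0 p k n) = IsLocalRing.maximalIdeal (TruncatedWittVector p (n + 1) k) :=
  IsLocalRing.eq_maximalIdeal (RingHom.ker_isMaximal_of_surjective (c0 p k n) (c0_surjective p k n))

theorem natCast_p_pow_eq_zero : ((p : TruncatedWittVector p (n + 1) k)) ^ (n + 1) = 0 := by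
  have h1 : ((p : TruncatedWittVector p (n + 1) k)) ^ (n + 1) =
      WittVector.truncate (n + 1) ((p : WittVector p k) ^ (n + 1)) := by
    rw [map_pow, map_natCast]
  rw [h1, ← RingHom.mem_ker, WittVector.mem_ker_truncate]
  intro i hi
  exact WittVector.coeff_p_pow_eq_zero p k (by omega)

theorem maximalIdeal_eq :
    IsLocalRing.maximalIdeal (TruncatedWittVector p (n + 1) k) =
      Ideal.span {(p : TruncatedWittVector p (n + 1) k)} := by
  rw [← ker_c0]
  apply le_antisymm
  · intro x hx
    rw [RingHom.mem_ker] at hx
    obtain ⟨X, rfl⟩ := WittVector.truncate_surjective p (n + 1) k x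
    rw [c0_truncate] at hx
    have hXn : ¬ IsUnit X := by
      intro hu
      have := hu.map (WittVector.constantCoeff (p := p) (R := k))
      exact this.ne_zero hx
    have hXm : X ∈ IsLocalRing.maximalIdeal (WittVector p k) :=
      (IsLocalRing.mem_maximalIdeal X).2 hXn
    rw [(WittVector.irreducible p (k := k)).maximalIdeal_eq, Ideal.mem_span_singleton] at hXm
    obtain ⟨Y, rfl⟩ := hXm
    rw [Ideal.mem_span_singleton, map_mul, map_natCast]
    exact Dvd.intro _ rfl
  · rw [Ideal.span_le, Set.singleton_subset_iff, SetLike.mem_coe, RingHom.mem_ker]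
    have : (p : TruncatedWittVector p (n + 1) k) = WittVector.truncate (n + 1) (p : WittVector p k) := by
      rw [map_natCast]
    rw [this, c0_truncate, WittVector.coeff_p_zero]

/-- the residue field is `k` -/
noncomputable def resEquiv : IsLocalRing.ResidueField (TruncatedWittVector p (n + 1) k) ≃+* k :=
  (Ideal.quotEquivOfEq (ker_c0 p k n).symm).trans
    (RingHom.quotientKerEquivOfSurjective (c0_surjective p k n))

theorem resEquiv_residue (x : TruncatedWittVector p (n + 1) k) :
    resEquiv p k n (IsLocalRing.residue _ x) = x.coeff 0 := rfl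

end Groth.Agent.Helper9.TruncWittLocal
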