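import Groth.Prelude.Def_W4c6defoisocp1TwistExt
import Mathlib
set_option autoImplicit false

namespace Groth.Agent.Helper9.TwistExtH

open W4c6defoisocp1

universe u v w w' w''

theorem main
    {K : Type u} [Field K]
    {D : Type v} [Ring D] [Algebra K D]
    {E : Type w} [AddCommGroup E] [Module K E] [Module D E] [IsScalarTower K D E]
    {F : Type w'} [AddCommGroup F] [Module K F] [Module D F] [IsScalarTower K D F]
    {Q : Type w''} [AddCommGroup Q] [Module D Q]
    (i : F →ₗ[D] Q) (p : Q →ₗ[D] E) (hi : Function.Injective i) (hp : Function.Surjective p)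
    (hex : Function.Exact i p) :
    ∃ (s : D →ₗ[K] E →ₗ[K] F) (hs : W4c6defoisocp1.IsHomDerivation s)
      (Φ : Q ≃ₗ[D] W4c6defoisocp1.TwistExt s hs),
      (∀ f : F, Φ (i f) = W4c6defoisocp1.TwistExt.inl f) ∧
        ∀ q : Q, W4c6defoisocp1.TwistExt.snd (Φ q) = p q := by
  let _ : Module K Q := Module.compHom Q (algebraMap K D)
  have hKQ : ∀ (c : K) (q : Q), c • q = algebraMap K D c • q := fun c q => rfl
  have tQ : IsScalarTower K D Q := ⟨fun c d q => by
    rw [hKQ, Algebra.smul_def, mul_smul]⟩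
  let pK : Q →ₗ[K] E := p.restrictScalars K
  let iK : F →ₗ[K] Q := i.restrictScalars K
  obtain ⟨τ, hτ⟩ := LinearMap.exists_rightInverse_of_surjective pK
    (LinearMap.range_eq_top.mpr hp)
  have hpτ : ∀ e, p (τ e) = e := fun e => LinearMap.congr_fun hτ e
  obtain ⟨ρ₀, hρ₀⟩ := LinearMap.exists_leftInverse_of_injective iK
    (LinearMap.ker_eq_bot.mpr hi)
  have hρ₀i : ∀ f, ρ₀ (i f) = f := fun f => LinearMap.congr_fun hρ₀ f
  let ρ : Q →ₗ[K] F := ρ₀ ∘ₗ (LinearMap.id - τ ∘ₗ pK)
  have hρdef : ∀ q, ρ q = ρ₀ (q - τ (p q)) := fun q => rfl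
  have hiρ : ∀ q, i (ρ q) = q - τ (p q) := by
    intro q
    have h1 : p (q - τ (p q)) = 0 := by rw [map_sub, hpτ, sub_self]
    obtain ⟨f, hf⟩ := (hex _).mp h1
    rw [hρdef, ← hf, hρ₀i]
  have hρi : ∀ f, ρ (i f) = f := by
    intro f
    apply hi
    rw [hiρ, hex.apply_apply_eq_zero, map_zero, sub_zero]
  have hρτ : ∀ e, ρ (τ e) = 0 := by
    intro e
    apply hi
    rw [hiρ, hpτ, sub_self, map_zero]
  have hcomm : ∀ (a : D) (c : K) (q : Q), a • c • q = c • a • q := fun a c q =>
    smul_algebra_smul_comm c a q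
  let s : D →ₗ[K] E →ₗ[K] F := LinearMap.mk₂ K (fun a e => ρ (a • τ e))
    (by intro a b e; rw [add_smul, map_add])
    (by intro c a e; rw [smul_assoc, ρ.map_smul])
    (by intro a e e'; rw [map_add, smul_add, map_add])
    (by intro c a e; rw [τ.map_smul, hcomm, ρ.map_smul])
  have hsdef : ∀ a e, s a e = ρ (a • τ e) := fun a e => rfl
  have his : ∀ a e, i (s a e) = a • τ e - τ (a • e) := by
    intro a e
    rw [hsdef, hiρ, p.map_smul, hpτ]
  have hs : IsHomDerivation s := by
    intro a b e
    apply hi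
    rw [map_add, i.map_smul, his, his, his, smul_sub, mul_smul, mul_smul]
    abel
  have hρsmul : ∀ (a : D) (q : Q), ρ (a • q) = a • ρ q + s a (p q) := by
    intro a q
    apply hi
    rw [map_add, i.map_smul, hiρ, hiρ, his, p.map_smul, smul_sub]
    abel
  let Φl : Q →ₗ[D] TwistExt s hs :=
    { toFun := fun q => TwistExt.mk (ρ q, p q)
      map_add' := by
        intro x y
        apply TwistExt.ext <;> simp
      map_smul' := by
        intro a q
        apply TwistExt.ext
        · simp only [TwistExt.val_mk, RingHom.id_apply, TwistExt.val_smul]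
          exact hρsmul a q
        · simp }
  have hΦl : ∀ q, TwistExt.val (Φl q) = (ρ q, p q) := fun q => rfl
  have hbij : Function.Bijective Φl := by
    constructor
    · rw [injective_iff_map_eq_zero]
      intro q hq
      have h1 := congrArg TwistExt.val hq
      rw [hΦl, TwistExt.val_zero, Prod.mk_eq_zero] at h1
      have h2 := hiρ q
      rw [h1.1, h1.2, map_zero, map_zero, sub_zero] at h2
      exact h2.symm
    · intro x
      refine ⟨i (TwistExt.val x).1 + τ (TwistExt.val x).2, ?_⟩
      apply TwistExt.ext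
      · rw [hΦl]
        simp only [map_add, hρi, hρτ, add_zero]
      · rw [hΦl]
        simp only [map_add, hex.apply_apply_eq_zero, hpτ, zero_add]
  refine ⟨s, hs, LinearEquiv.ofBijective Φl hbij, ?_, ?_⟩
  · intro f
    apply TwistExt.ext
    · show ρ (i f) = f
      exact hρi f
    · show p (i f) = 0
      exact hex.apply_apply_eq_zero f
  · intro q
    rfl

end Groth.Agent.Helper9.TwistExtH
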