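import Mathlib
import Groth.Prelude.Def_FibCat2

set_option autoImplicit false
universe v u
open CategoryTheory CategoryTheory.Functor CategoryTheory.Limits CategoryTheory.Limits.CategoricalPullback

namespace Groth.Agent.Helper9.TwoCartPaste

variable {A B A' B' A'' B'' : Type u} [Category.{v} A] [Category.{v} B] [Category.{v} A']
  [Category.{v} B'] [Category.{v} A''] [Category.{v} B'']
  (t : A ⥤ B) (l : A ⥤ A') (r : B ⥤ B') (t' : A' ⥤ B') (l' : A' ⥤ A'') (r' : B' ⥤ B'')
  (t'' : A'' ⥤ B'') (e₁ : t ⋙ r ≅ l ⋙ t') (e₂ : t' ⋙ r' ≅ l' ⋙ t'')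

/-- comparison functor of a square -/
abbrev cmp {X A B D : Type u} [Category.{v} X] [Category.{v} A] [Category.{v} B] [Category.{v} D]
    (T : X ⥤ A) (L : X ⥤ D) (F : A ⥤ B) (G : D ⥤ B) (e : T ⋙ F ≅ L ⋙ G) : X ⥤ F ⊡ G :=
  (CatCommSqOver.toFunctorToCategoricalPullback F G X).obj ⟨T, L, e⟩

/-- the functor between 2-fibre products induced by the lower square -/
@[simps]
def Θ : r ⊡ t' ⥤ (r ⋙ r') ⊡ t'' where
  obj x := ⟨x.fst, l'.obj x.snd, r'.mapIso x.iso ≪≫ e₂.app x.snd⟩
  map {x y} f :=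
    { fst := f.fst
      snd := l'.map f.snd
      w := by
        have h1 := congrArg r'.map f.w
        simp only [Functor.map_comp] at h1
        have h2 := e₂.hom.naturality f.snd
        simp only [Functor.comp_map] at h2
        simp only [Functor.comp_map, Iso.trans_hom, Functor.mapIso_hom, Iso.app_hom, Category.assoc]
        rw [← h2, ← Category.assoc, h1, Category.assoc] }
  map_id x := by
    apply CategoricalPullback.hom_ext
    · rfl
    · exact l'.map_id _
  map_comp f g := by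
    apply CategoricalPullback.hom_ext
    · rfl
    · exact l'.map_comp _ _

/-- the comparison functor of the outer rectangle factors through `Θ` -/
def cmpIso : cmp t (l ⋙ l') (r ⋙ r') t''
      ((Functor.associator t r r').symm ≪≫ isoWhiskerRight e₁ r' ≪≫ Functor.associator l t' r' ≪≫
        isoWhiskerLeft l e₂ ≪≫ (Functor.associator l l' t'').symm) ≅
    cmp t l r t' e₁ ⋙ Θ r t' l' r' t'' e₂ :=
  NatIso.ofComponents (fun x => CategoricalPullback.mkIso (Iso.refl (t.obj x))
      (Iso.refl (l'.obj (l.obj x))) (by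
        show (r ⋙ r').map (𝟙 (t.obj x)) ≫ (r'.map (e₁.hom.app x) ≫ e₂.hom.app (l.obj x)) =
          (𝟙 _ ≫ r'.map (e₁.hom.app x) ≫ 𝟙 _ ≫ e₂.hom.app (l.obj x) ≫ 𝟙 _) ≫ t''.map (𝟙 _)
        simp only [CategoryTheory.Functor.map_id, Category.id_comp, Category.comp_id]
        exact (Category.comp_id _).symm))
    (by
      intro x y f
      apply CategoricalPullback.hom_ext
      · show t.map f ≫ 𝟙 _ = 𝟙 _ ≫ t.map f
        rw [Category.comp_id, Category.id_comp]
      · show l'.map (l.map f) ≫ 𝟙 _ = 𝟙 _ ≫ l'.map (l.map f)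
        rw [Category.comp_id, Category.id_comp])

variable [h₂ : (cmp t' l' r' t'' e₂).IsEquivalence]

instance : (Θ r t' l' r' t'' e₂).Faithful where
  map_injective {x y} f g hfg := by
    have h1 : f.fst = g.fst := by
      have := congrArg CategoricalPullback.Hom.fst hfg
      exact this
    have h2 : l'.map f.snd = l'.map g.snd := by
      have := congrArg CategoricalPullback.Hom.snd hfg
      exact this
    apply CategoricalPullback.hom_ext h1
    apply (cmp t' l' r' t'' e₂).map_injective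
    apply CategoricalPullback.hom_ext
    · show t'.map f.snd = t'.map g.snd
      have hf := f.w
      have hg := g.w
      rw [← cancel_epi x.iso.hom, ← hf, ← hg, h1]
    · exact h2

instance : (Θ r t' l' r' t'' e₂).Full where
  map_surjective {x y} h := by
    obtain ⟨hf, hfe⟩ : ∃ hf : x.fst ⟶ y.fst, hf = h.fst := ⟨_, rfl⟩
    obtain ⟨hs, hse⟩ : ∃ hs : l'.obj x.snd ⟶ l'.obj y.snd, hs = h.snd := ⟨_, rfl⟩
    have hw : r'.map (r.map hf) ≫ r'.map y.iso.hom ≫ e₂.hom.app y.snd =
        (r'.map x.iso.hom ≫ e₂.hom.app x.snd) ≫ t''.map hs := by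
      have := h.w
      rw [hfe, hse]
      simp only [Θ_obj_iso, Θ_obj_fst, Θ_obj_snd, CategoryTheory.Functor.comp_map, Iso.trans_hom,
        CategoryTheory.Functor.mapIso_hom, Iso.app_hom, Category.assoc] at this
      exact this
    let τ : t'.obj x.snd ⟶ t'.obj y.snd := x.iso.inv ≫ r.map hf ≫ y.iso.hom
    let m : (cmp t' l' r' t'' e₂).obj x.snd ⟶ (cmp t' l' r' t'' e₂).obj y.snd :=
      { fst := τ
        snd := hs
        w := by
          show r'.map (x.iso.inv ≫ r.map hf ≫ y.iso.hom) ≫ e₂.hom.app y.snd =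
            e₂.hom.app x.snd ≫ t''.map hs
          rw [CategoryTheory.Functor.map_comp, CategoryTheory.Functor.map_comp, Category.assoc,
            Category.assoc, hw, ← Category.assoc, ← Category.assoc,
            ← CategoryTheory.Functor.map_comp, Iso.inv_hom_id, CategoryTheory.Functor.map_id,
            Category.id_comp] }
    obtain ⟨k, hk⟩ := (cmp t' l' r' t'' e₂).map_surjective m
    have hk1 : t'.map k = τ := congrArg CategoricalPullback.Hom.fst hk
    have hk2 : l'.map k = hs := congrArg CategoricalPullback.Hom.snd hk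
    refine ⟨⟨hf, k, ?_⟩, ?_⟩
    · rw [hk1]
      show r.map hf ≫ y.iso.hom = x.iso.hom ≫ x.iso.inv ≫ r.map hf ≫ y.iso.hom
      rw [Iso.hom_inv_id_assoc]
    · apply CategoricalPullback.hom_ext
      · exact hfe
      · exact hk2.trans hse

instance : (Θ r t' l' r' t'' e₂).EssSurj where
  mem_essImage y := by
    let y' : r' ⊡ t'' := ⟨r.obj y.fst, y.snd, y.iso⟩
    obtain ⟨a', ⟨α⟩⟩ : ∃ a', Nonempty ((cmp t' l' r' t'' e₂).obj a' ≅ y') :=
      ⟨_, ⟨(cmp t' l' r' t'' e₂).objObjPreimageIso y'⟩⟩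
    have hw := α.hom.w
    let φ₁ : t'.obj a' ≅ r.obj y.fst := (CategoricalPullback.π₁ r' t'').mapIso α
    let φ₂ : l'.obj a' ≅ y.snd := (CategoricalPullback.π₂ r' t'').mapIso α
    have hw' : r'.map φ₁.hom ≫ y.iso.hom = e₂.hom.app a' ≫ t''.map φ₂.hom := hw
    refine ⟨⟨y.fst, a', φ₁.symm⟩, ⟨CategoricalPullback.mkIso (Iso.refl y.fst) φ₂ ?_⟩⟩
    show (r ⋙ r').map (𝟙 y.fst) ≫ y.iso.hom = (r'.map φ₁.inv ≫ e₂.hom.app a') ≫ t''.map φ₂.hom
    rw [CategoryTheory.Functor.map_id, Category.id_comp, Category.assoc, ← hw', ← Category.assoc,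
      ← CategoryTheory.Functor.map_comp, Iso.inv_hom_id, CategoryTheory.Functor.map_id]
    exact (Category.id_comp _).symm

instance : (Θ r t' l' r' t'' e₂).IsEquivalence where

include h₂ in
theorem paste :
    FibCat.IsTwoCart t l r t' e₁ ↔
      FibCat.IsTwoCart t (l ⋙ l') (r ⋙ r') t''
        ((Functor.associator t r r').symm ≪≫ isoWhiskerRight e₁ r' ≪≫ Functor.associator l t' r' ≪≫
          isoWhiskerLeft l e₂ ≪≫ (Functor.associator l l' t'').symm) := by
  unfold FibCat.IsTwoCart
  constructor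
  · intro h
    haveI : (cmp t l r t' e₁).IsEquivalence := h
    exact Functor.isEquivalence_of_iso (cmpIso t l r t' l' r' t'' e₁ e₂).symm
  · intro h
    haveI : (cmp t (l ⋙ l') (r ⋙ r') t''
      ((Functor.associator t r r').symm ≪≫ isoWhiskerRight e₁ r' ≪≫ Functor.associator l t' r' ≪≫
        isoWhiskerLeft l e₂ ≪≫ (Functor.associator l l' t'').symm)).IsEquivalence := h
    haveI : (cmp t l r t' e₁ ⋙ Θ r t' l' r' t'' e₂).IsEquivalence :=
      Functor.isEquivalence_of_iso (cmpIso t l r t' l' r' t'' e₁ e₂)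
    exact Functor.isEquivalence_of_comp_right (cmp t l r t' e₁) (Θ r t' l' r' t'' e₂)

end Groth.Agent.Helper9.TwoCartPaste
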