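import Mathlib

/-!
# Polynomials in two variables as iterated polynomial rings; a saturation lemma
-/

set_option autoImplicit false

namespace Groth.Agent.Helper9.TwoVarPoly

open Polynomial

-- general lemma
lemma sat_lemma {S : Type*} [CommRing S] (g : S[X]) (hc : ∀ s : S, g.coeff 0 * s = 0 → s = 0) (s : S[X]) :
    (∃ n : ℕ, X ^ 2 * g ∣ X ^ n * s) ↔ g ∣ s := by
  constructor
  · rintro ⟨n, hn⟩
    have h1 : g ∣ X ^ n * s := dvd_trans (dvd_mul_left g (X ^ 2)) hn
    clear hn
    induction n with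
    | zero => simpa using h1
    | succ n ih =>
      apply ih
      obtain ⟨t, ht⟩ := h1
      have h0 : (g * t).coeff 0 = 0 := by
        rw [← ht, pow_succ', mul_assoc, coeff_X_mul_zero]
      rw [mul_coeff_zero] at h0
      have ht0 : t.coeff 0 = 0 := hc _ h0
      obtain ⟨t', rfl⟩ := X_dvd_iff.2 ht0
      refine ⟨t', ?_⟩
      have : X * (X ^ n * s) = X * (g * t') := by
        rw [← mul_assoc, ← pow_succ', ht]; ring
      exact (monic_X.isRegular.left) this
  · rintro ⟨t, rfl⟩
    exact ⟨2, mul_dvd_mul_left _ (dvd_mul_right g t)⟩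

lemma reg_of_const_one {R : Type*} [CommRing R] (f : R[X]) (hf : f.coeff 0 = 1) (s : R[X]) (h : f * s = 0) : s = 0 := by
  have h1 : ((f : PowerSeries R) * (s : PowerSeries R)) = 0 := by
    rw [← Polynomial.coe_mul, h, Polynomial.coe_zero]
  have hu : IsUnit (f : PowerSeries R) := by
    rw [PowerSeries.isUnit_iff_constantCoeff]
    simp [hf]
  have := (hu.mul_right_eq_zero).1 h1
  exact_mod_cast this

noncomputable def EE (R : Type*) [CommRing R] : MvPolynomial (Fin 2) R ≃ₐ[R] (R[X])[X] :=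
  (MvPolynomial.finSuccEquiv R 1).trans (Polynomial.mapAlgEquiv (MvPolynomial.uniqueAlgEquiv R (Fin 1)))

lemma EE_X0 (R : Type*) [CommRing R] : EE R (MvPolynomial.X 0) = X := by
  simp [EE, MvPolynomial.finSuccEquiv_X_zero]

lemma EE_X1 (R : Type*) [CommRing R] : EE R (MvPolynomial.X 1) = C X := by
  have h1 : MvPolynomial.finSuccEquiv R 1 (MvPolynomial.X 1) = C (MvPolynomial.X 0) :=
    MvPolynomial.finSuccEquiv_X_succ (j := (0 : Fin 1))
  have h2 : MvPolynomial.uniqueAlgEquiv R (Fin 1) (MvPolynomial.X 0) = X := by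
    simp [MvPolynomial.uniqueAlgEquiv]
  simp only [EE, AlgEquiv.trans_apply, h1, Polynomial.coe_mapAlgEquiv, Polynomial.map_C]
  exact congrArg _ h2

lemma EE_C (R : Type*) [CommRing R] (a : R) : EE R (MvPolynomial.C a) = C (C a) := by
  rw [← MvPolynomial.algebraMap_eq, AlgEquiv.commutes]
  rfl

end Groth.Agent.Helper9.TwoVarPoly
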