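import Mathlib
import Groth.Agent.Helper2.AssCover
import Groth.Agent.Helper9.FC2

/-!
# Helper9.UA1 : associated primes of the closed fibre module, in elementary terms
-/

set_option autoImplicit false
universe u

namespace Groth.Agent.Helper9.UA1

open TensorProduct IsLocalRing

attribute [local instance] Algebra.TensorProduct.rightAlgebra

section radical

variable {T : Type*} [CommRing T] {X : Type*} [AddCommGroup X] [Module T X]

lemma mem_radical_colon_iff (x : X) (t : T) :
    t ∈ ((⊥ : Submodule T X).colon {x}).radical ↔ ∃ k : ℕ, t ^ k • x = 0 := by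
  simp only [Ideal.mem_radical_iff, Submodule.mem_colon_singleton, Submodule.mem_bot]

end radical

section closed

variable {A B : Type u} [CommRing A] [IsLocalRing A] [CommRing B] [Algebra A B]
  (Y : Type u) [AddCommGroup Y] [Module B Y] [Module A Y] [IsScalarTower A B Y]

/-- over a maximal ideal the map to the fibre module is surjective -/
lemma toFiberMod_surjective :
    Function.Surjective (FlatCA.toFiberMod (maximalIdeal A) B Y) := by
  intro ξ
  change ((maximalIdeal A).Fiber B) ⊗[B] Y at ξ
  induction ξ using TensorProduct.induction_on with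
  | zero => exact ⟨0, map_zero _⟩
  | add x y hx hy =>
    obtain ⟨a, ha⟩ := hx
    obtain ⟨b, hb⟩ := hy
    exact ⟨a + b, by rw [map_add, ha, hb]; rfl⟩
  | tmul σ y =>
    have hσ : ∃ b : B, σ = algebraMap B ((maximalIdeal A).Fiber B) b := by
      change (maximalIdeal A).ResidueField ⊗[A] B at σ
      induction σ using TensorProduct.induction_on with
      | zero => exact ⟨0, (map_zero _).symm⟩
      | add x y hx hy =>
        obtain ⟨a, ha⟩ := hx
        obtain ⟨b, hb⟩ := hy
        exact ⟨a + b, by rw [map_add, ha, hb]⟩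
      | tmul c b =>
        obtain ⟨a, rfl⟩ := Ideal.algebraMap_residueField_surjective (maximalIdeal A) c
        refine ⟨a • b, ?_⟩
        change _ = (1 : (maximalIdeal A).ResidueField) ⊗ₜ[A] (a • b)
        rw [TensorProduct.tmul_smul, TensorProduct.smul_tmul', Algebra.smul_def, mul_one]
    obtain ⟨b, rfl⟩ := hσ
    refine ⟨b • y, ?_⟩
    change (1 : (maximalIdeal A).Fiber B) ⊗ₜ[B] (b • y) = _
    rw [TensorProduct.tmul_smul, TensorProduct.smul_tmul', Algebra.smul_def, mul_one]

/-- an associated prime of the closed fibre module is cut out by an element of the module -/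
theorem exists_of_mem_associatedPrimes (𝔮 : Ideal B)
    (h : 𝔮 ∈ associatedPrimes B (FlatCA.fiberMod (maximalIdeal A) B Y)) :
    ∃ y : Y, ∀ b : B, b ∈ 𝔮 ↔ ∃ k : ℕ, b ^ k • y ∈
      ((maximalIdeal A).map (algebraMap A B)) • (⊤ : Submodule B Y) := by
  obtain ⟨-, ξ, hξ⟩ := h
  obtain ⟨y, rfl⟩ := toFiberMod_surjective Y ξ
  refine ⟨y, fun b => ?_⟩
  rw [hξ, mem_radical_colon_iff]
  have key : ∀ z : Y, FlatCA.toFiberMod (maximalIdeal A) B Y z = 0 ↔
      z ∈ ((maximalIdeal A).map (algebraMap A B)) • (⊤ : Submodule B Y) := by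
    intro z
    have hrs : z ∈ ((maximalIdeal A).map (algebraMap A B)) • (⊤ : Submodule B Y) ↔
        z ∈ (maximalIdeal A) • (⊤ : Submodule A Y) := by
      rw [← Submodule.restrictScalars_mem A, Ideal.smul_restrictScalars,
        Submodule.restrictScalars_top]
    rw [hrs]
    constructor
    · intro hz
      obtain ⟨a, ha, haz⟩ := Groth.Agent.Helper2.NzdUI.exists_of_toFiberMod_eq_zero
        (maximalIdeal A) Y z hz
      have hu : IsUnit a := by
        by_contra hna
        exact ha ((mem_maximalIdeal a).2 hna)
      obtain ⟨a', ha'⟩ := hu.exists_left_inv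
      have : z = a' • (a • z) := by rw [smul_smul, ha', one_smul]
      rw [this]
      exact Submodule.smul_mem _ _ haz
    · intro hz
      exact Groth.Agent.Helper2.NzdUI.toFiberMod_eq_zero_of_mem (maximalIdeal A) Y z hz
  constructor
  · rintro ⟨k, hk⟩
    refine ⟨k, (key _).1 ?_⟩
    rw [map_smul]
    exact hk
  · rintro ⟨k, hk⟩
    refine ⟨k, ?_⟩
    rw [← map_smul]
    exact (key _).2 hk

end closed

end Groth.Agent.Helper9.UA1
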