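import Mathlib
import Groth.Agent.Helper9.UA1

/-!
# Helper9.UA2 : associated primes of the closed fibre of a localization come from associated
primes of the fibre
-/

set_option autoImplicit false
set_option linter.style.haveILetI false
set_option linter.unusedVariables false
set_option linter.unusedSectionVars false
universe u

namespace Groth.Agent.Helper9.UA2

open TensorProduct IsLocalRing Groth.Agent.Helper9.FC2

attribute [local instance] Algebra.TensorProduct.rightAlgebra

variable {R S : Type u} [CommRing R] [CommRing S] [Algebra R S]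
  (N : Type u) [AddCommGroup N] [Module S N] [Module R N] [IsScalarTower R S N]
  (p : Ideal R) [p.IsPrime] (q : Ideal S) [q.IsPrime] (hpq : p = q.comap (algebraMap R S))

/-- the `R_p`-module structure on `N_q` -/
@[reducible] noncomputable def modLoc :
    letI := algLoc p q hpq
    Module (Localization.AtPrime p) (LocalizedModule q.primeCompl N) :=
  letI := algLoc p q hpq
  Module.compHom _ (algebraMap (Localization.AtPrime p) (Localization.AtPrime q))

lemma towerLoc :
    letI := algLoc p q hpq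
    letI := modLoc N p q hpq
    IsScalarTower (Localization.AtPrime p) (Localization.AtPrime q)
      (LocalizedModule q.primeCompl N) := by
  letI := algLoc p q hpq
  letI := modLoc N p q hpq
  exact IsScalarTower.of_algebraMap_smul (fun r x => rfl)

lemma mem_pN_iff (x : N) :
    x ∈ (p.map (algebraMap R S)) • (⊤ : Submodule S N) ↔ x ∈ p • (⊤ : Submodule R N) := by
  rw [← Submodule.restrictScalars_mem R, Ideal.smul_restrictScalars,
    Submodule.restrictScalars_top]

include hpq in
/-- elementary description of an associated prime of the closed fibre of `N_q` -/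
theorem exists_elt (𝔮 : Ideal (Localization.AtPrime q))
    (h : letI := algLoc p q hpq
      letI := modLoc N p q hpq
      haveI := towerLoc N p q hpq
      𝔮 ∈ associatedPrimes (Localization.AtPrime q)
        (FlatCA.fiberMod (maximalIdeal (Localization.AtPrime p)) (Localization.AtPrime q)
          (LocalizedModule q.primeCompl N))) :
    ∃ n : N, ∀ s : S, algebraMap S (Localization.AtPrime q) s ∈ 𝔮 ↔
      ∃ k : ℕ, ∃ u : S, u ∉ q ∧ u • s ^ k • n ∈ p • (⊤ : Submodule R N) := by
  letI := algLoc p q hpq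
  letI := modLoc N p q hpq
  haveI := towerLoc N p q hpq
  obtain ⟨y, hy⟩ := Groth.Agent.Helper9.UA1.exists_of_mem_associatedPrimes
    (A := Localization.AtPrime p) (B := Localization.AtPrime q)
    (LocalizedModule q.primeCompl N) 𝔮 h
  induction y using LocalizedModule.induction_on with
  | h n t =>
    refine ⟨n, fun s => ?_⟩
    rw [hy]
    have h1 : ∀ k : ℕ, (algebraMap S (Localization.AtPrime q) s) ^ k •
        (LocalizedModule.mk n t : LocalizedModule q.primeCompl N) =
        LocalizedModule.mk (s ^ k • n) t := by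
      intro k
      rw [← map_pow, algebraMap_smul, LocalizedModule.smul'_mk]
    simp only [h1, map_maximalIdeal p q hpq, mem_smul_top_iff q N, mem_pN_iff]


include hpq in
/-- an associated prime of the closed fibre of `N_q` contracts to a prime of `S` over `p` whose
fibre ideal is an associated prime of the fibre module of `N` over `p` -/
theorem fiberIdeal_mem [Algebra.FiniteType R S] (𝔮 : Ideal (Localization.AtPrime q))
    (h : letI := algLoc p q hpq
      letI := modLoc N p q hpq
      haveI := towerLoc N p q hpq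
      𝔮 ∈ associatedPrimes (Localization.AtPrime q)
        (FlatCA.fiberMod (maximalIdeal (Localization.AtPrime p)) (Localization.AtPrime q)
          (LocalizedModule q.primeCompl N))) :
    ∃ (q₁ : Ideal S) (_ : q₁.IsPrime) (_ : q₁.LiesOver p),
      q₁ = 𝔮.comap (algebraMap S (Localization.AtPrime q)) ∧ q₁ ≤ q ∧
      FlatCA.fiberIdeal p q₁ ∈ associatedPrimes (p.Fiber S) (FlatCA.fiberMod p S N) := by
  classical
  have h𝔮 : 𝔮.IsPrime := h.1
  obtain ⟨n, hn⟩ := exists_elt N p q hpq 𝔮 h
  set q₁ : Ideal S := 𝔮.comap (algebraMap S (Localization.AtPrime q)) with hq₁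
  have hq₁p : q₁.IsPrime := Ideal.comap_isPrime _ _
  have hmem : ∀ s : S, s ∈ q₁ ↔
      ∃ k : ℕ, ∃ u : S, u ∉ q ∧ u • s ^ k • n ∈ p • (⊤ : Submodule R N) := fun s => hn s
  have hle : q₁ ≤ q := by
    intro s hs
    by_contra hsq
    have hu : IsUnit (algebraMap S (Localization.AtPrime q) s) :=
      IsLocalization.map_units (Localization.AtPrime q) (⟨s, hsq⟩ : q.primeCompl)
    exact h𝔮.ne_top (Ideal.eq_top_of_isUnit_mem _ hs hu)
  have hover : q₁.LiesOver p := by
    refine ⟨le_antisymm ?_ ?_⟩
    · intro r hr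
      change algebraMap R S r ∈ q₁
      rw [hmem]
      refine ⟨1, 1, fun h1 => (Ideal.ne_top_iff_one q).1 (Ideal.IsPrime.ne_top ‹_›) h1, ?_⟩
      rw [one_smul, pow_one, algebraMap_smul]
      exact Submodule.smul_mem_smul hr Submodule.mem_top
    · intro r hr
      rw [hpq]
      exact hle hr
  refine ⟨q₁, hq₁p, hover, rfl, hle, ?_⟩
  haveI : IsNoetherianRing (p.Fiber S) := Groth.Agent.Helper5.FibAss.isNoetherianRing_fiber p
  -- finitely many generators of the fibre ideal coming from `q₁`
  let ι : S →+* p.Fiber S :=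
    (Algebra.TensorProduct.includeRight (R := R) (A := p.ResidueField) (B := S)).toRingHom
  have hJ : FlatCA.fiberIdeal p q₁ = Ideal.span (ι '' (q₁ : Set S)) := rfl
  have hfg : (Submodule.span (p.Fiber S) (ι '' (q₁ : Set S))).FG :=
    (isNoetherianRing_iff_ideal_fg (p.Fiber S)).1 inferInstance _
  obtain ⟨s', hs's, hs'⟩ := (Submodule.fg_span_iff_fg_span_finset_subset _).1 hfg
  have hs'mem : ∀ x : s', ∃ s : S, s ∈ q₁ ∧ ι s = x := fun x => hs's x.2
  choose sx hsx1 hsx2 using hs'mem
  have hku : ∀ x : s', ∃ k : ℕ, ∃ u : S, u ∉ q ∧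
      u • (sx x) ^ k • n ∈ p • (⊤ : Submodule R N) := fun x => (hmem _).1 (hsx1 x)
  choose kx ux hux1 hux2 using hku
  let u₀ : S := ∏ x : s', ux x
  have hu₀ : u₀ ∉ q := by
    intro hu
    obtain ⟨x, -, hx⟩ := (Ideal.IsPrime.prod_mem_iff (hp := ‹q.IsPrime›)).1 hu
    exact hux1 x hx
  have hι : ∀ (s : S) (η : FlatCA.fiberMod p S N), ι s • η = s • η := fun s η =>
    Groth.Agent.Helper5.NzdLoc.tmul_smul_fiberMod p N s η
  have htf : ∀ (s : S) (k : ℕ) (m : N), (ι s) ^ k • FlatCA.toFiberMod p S N m =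
      FlatCA.toFiberMod p S N (s ^ k • m) := by
    intro s k m
    rw [← map_pow, hι, map_smul]
  refine ⟨Groth.Agent.Helper5.FlatAss.isPrime_fiberIdeal p q₁,
    FlatCA.toFiberMod p S N (u₀ • n), ?_⟩
  apply le_antisymm
  · rw [hJ]
    change Submodule.span (p.Fiber S) (ι '' (q₁ : Set S)) ≤ _
    rw [hs', Submodule.span_le]
    intro x hx
    rw [SetLike.mem_coe, Groth.Agent.Helper9.UA1.mem_radical_colon_iff]
    refine ⟨kx ⟨x, hx⟩, ?_⟩
    have hxe : x ^ kx ⟨x, hx⟩ • FlatCA.toFiberMod p S N (u₀ • n) =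
        (ι (sx ⟨x, hx⟩)) ^ kx ⟨x, hx⟩ • FlatCA.toFiberMod p S N (u₀ • n) := by
      rw [hsx2 ⟨x, hx⟩]
    rw [hxe, htf]
    apply Groth.Agent.Helper2.NzdUI.toFiberMod_eq_zero_of_mem
    obtain ⟨c, hc⟩ : ux ⟨x, hx⟩ ∣ u₀ := Finset.dvd_prod_of_mem ux (Finset.mem_univ _)
    have : (sx ⟨x, hx⟩) ^ (kx ⟨x, hx⟩) • u₀ • n =
        c • (ux ⟨x, hx⟩ • (sx ⟨x, hx⟩) ^ (kx ⟨x, hx⟩) • n) := by
      rw [hc, smul_smul, smul_smul, smul_smul]
      congr 1
      ring
    rw [this, ← mem_pN_iff (S := S)]
    exact Submodule.smul_mem _ _ ((mem_pN_iff (S := S) N p _).2 (hux2 ⟨x, hx⟩))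
  · intro x hx
    obtain ⟨r, hr, s, hs⟩ := Ideal.Fiber.exists_smul_eq_one_tmul p x
    apply Groth.Agent.Helper5.FibAss.mem_of_smul_mem p _ r hr
    rw [hs]
    have hxs : ι s ∈ ((⊥ : Submodule (p.Fiber S) (FlatCA.fiberMod p S N)).colon
        {FlatCA.toFiberMod p S N (u₀ • n)}).radical := by
      change (1 : p.ResidueField) ⊗ₜ[R] s ∈ _
      rw [← hs, Algebra.smul_def]
      exact Ideal.mul_mem_left _ _ hx
    rw [Groth.Agent.Helper9.UA1.mem_radical_colon_iff] at hxs
    obtain ⟨k, hk⟩ := hxs
    rw [htf] at hk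
    obtain ⟨r', hr', hr'2⟩ := Groth.Agent.Helper2.NzdUI.exists_of_toFiberMod_eq_zero p N _ hk
    have hsq : s ∈ q₁ := by
      rw [hmem]
      refine ⟨k, algebraMap R S r' * u₀, ?_, ?_⟩
      · intro hmul
        rcases (‹q.IsPrime›.mem_or_mem hmul) with h1 | h1
        · exact hr' (by rw [hpq]; exact h1)
        · exact hu₀ h1
      · have : (algebraMap R S r' * u₀) • s ^ k • n = r' • s ^ k • u₀ • n := by
          rw [mul_smul, algebraMap_smul, smul_comm u₀ (s ^ k) n]
        rw [this]
        exact hr'2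
    exact Ideal.mem_map_of_mem _ hsq

end Groth.Agent.Helper9.UA2
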