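import Mathlib
import Groth.Agent.Helper9.UA2

/-!
# Helper9.UA3 : the local step of the universal injectivity of `N → S' ⊗ N`
-/

set_option autoImplicit false
set_option linter.style.haveILetI false
set_option linter.unusedVariables false
set_option linter.unusedSectionVars false
universe u

namespace Groth.Agent.Helper9.UA3

open TensorProduct IsLocalRing Groth.Agent.Helper9.FC2 Groth.Agent.Helper9.UA2

attribute [local instance] Algebra.TensorProduct.rightAlgebra

section lift

variable {S S' : Type u} [CommRing S] [CommRing S'] [Algebra S S']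
  (q : Ideal S) [q.IsPrime]

/-- a prime of `S'` over a prime `q₁ ⊆ q` of `S` extends to a prime of `S_q ⊗ S'` over
`q₁ S_q` -/
theorem lift_prime (q₁ : Ideal S) [q₁.IsPrime] (hle : q₁ ≤ q) (q' : Ideal S') [q'.IsPrime]
    (hq' : q'.comap (algebraMap S S') = q₁) :
    ∃ 𝔮' : Ideal (Localization.AtPrime q ⊗[S] S'), 𝔮'.IsPrime ∧
      𝔮'.comap (algebraMap (Localization.AtPrime q) (Localization.AtPrime q ⊗[S] S')) =
        q₁.map (algebraMap S (Localization.AtPrime q)) := by
  haveI : IsLocalization (Algebra.algebraMapSubmonoid S' q.primeCompl)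
      (Localization.AtPrime q ⊗[S] S') := IsLocalization.tensorRight _ q.primeCompl
  have hdisj : Disjoint (Algebra.algebraMapSubmonoid S' q.primeCompl : Set S') (q' : Set S') := by
    rw [Set.disjoint_left]
    rintro _ ⟨s, hs, rfl⟩ hs'
    have : s ∈ q₁ := by rw [← hq']; exact hs'
    exact hs (hle this)
  refine ⟨q'.map (algebraMap S' (Localization.AtPrime q ⊗[S] S')),
    IsLocalization.isPrime_of_isPrime_disjoint (Algebra.algebraMapSubmonoid S' q.primeCompl) _ _
      inferInstance hdisj, ?_⟩
  have hc : (q'.map (algebraMap S' (Localization.AtPrime q ⊗[S] S'))).comap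
      (algebraMap S' (Localization.AtPrime q ⊗[S] S')) = q' :=
    IsLocalization.comap_map_of_isPrime_disjoint (Algebra.algebraMapSubmonoid S' q.primeCompl) _
      inferInstance hdisj
  set 𝔮'' := (q'.map (algebraMap S' (Localization.AtPrime q ⊗[S] S'))).comap
    (algebraMap (Localization.AtPrime q) (Localization.AtPrime q ⊗[S] S')) with h𝔮''
  have h1 : 𝔮''.comap (algebraMap S (Localization.AtPrime q)) = q₁ := by
    rw [h𝔮'', Ideal.comap_comap]
    have hcomm : (algebraMap (Localization.AtPrime q) (Localization.AtPrime q ⊗[S] S')).comp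
        (algebraMap S (Localization.AtPrime q)) =
        (algebraMap S' (Localization.AtPrime q ⊗[S] S')).comp (algebraMap S S') := by
      ext s
      change algebraMap S (Localization.AtPrime q) s ⊗ₜ[S] (1 : S') =
        (1 : Localization.AtPrime q) ⊗ₜ[S] algebraMap S S' s
      rw [Algebra.algebraMap_eq_smul_one, Algebra.algebraMap_eq_smul_one,
        TensorProduct.smul_tmul]
    rw [hcomm, ← Ideal.comap_comap, hc, hq']
  rw [← h1]
  exact (IsLocalization.map_comap q.primeCompl (Localization.AtPrime q) 𝔮'').symm

end lift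


section main

variable {R S S' : Type u} [CommRing R] [CommRing S] [CommRing S'] [Algebra R S] [Algebra S S']
  [Algebra R S'] [IsScalarTower R S S'] [Algebra.FinitePresentation R S] [Module.Flat S S']
  (N : Type u) [AddCommGroup N] [Module S N] [Module R N] [IsScalarTower R S N]
  [Module.FinitePresentation S N] [Module.Flat R N]
  (h : ∀ (p : Ideal R) (q : Ideal S) [p.IsPrime] [q.IsPrime] [q.LiesOver p],
      FlatCA.fiberIdeal p q ∈ associatedPrimes (p.Fiber S) (FlatCA.fiberMod p S N) →
      ∃ q' : Ideal S', q'.IsPrime ∧ q'.comap (algebraMap S S') = q)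
  (p : Ideal R) [p.IsPrime] (q : Ideal S) [q.IsPrime] (hpq : p = q.comap (algebraMap R S))

/-- the `R_p`-algebra structure on `S_q ⊗ S'` -/
@[reducible] noncomputable def algT :
    Algebra (Localization.AtPrime p) (Localization.AtPrime q ⊗[S] S') :=
  letI := algLoc p q hpq
  Algebra.ofModule smul_mul_assoc mul_smul_comm

include h hpq in
theorem local_univInj :
    letI := algLoc p q hpq
    letI := modLoc N p q hpq
    haveI := towerLoc N p q hpq
    letI := algT (S' := S') p q hpq
    ∀ (Q : Type u) [AddCommGroup Q] [Module (Localization.AtPrime p) Q],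
      Function.Injective (LinearMap.lTensor Q
      ((TensorProduct.mk (Localization.AtPrime q) (Localization.AtPrime q ⊗[S] S')
        (LocalizedModule q.primeCompl N) 1).restrictScalars (Localization.AtPrime p))) := by
  letI := algLoc p q hpq
  letI := modLoc N p q hpq
  haveI := towerLoc N p q hpq
  letI := algT (S' := S') p q hpq
  haveI := FC2.tower p q hpq
  haveI := FC2.isLocalHom p q hpq
  haveI tRN : IsScalarTower R (Localization.AtPrime p) (LocalizedModule q.primeCompl N) := by
    refine ⟨fun r c x => ?_⟩
    show (algebraMap (Localization.AtPrime p) (Localization.AtPrime q) (r • c)) • x =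
      r • ((algebraMap (Localization.AtPrime p) (Localization.AtPrime q) c) • x)
    rw [Algebra.smul_def, map_mul, ← IsScalarTower.algebraMap_apply, mul_smul, algebraMap_smul]
  have hN1 : Module.Flat R (LocalizedModule q.primeCompl N) :=
    Groth.Agent.Helper5.GenFlat.flat_of_isLocalizedModule q.primeCompl
      (LocalizedModule.mkLinearMap q.primeCompl N) inferInstance
  haveI hN2 : Module.Flat (Localization.AtPrime p) (LocalizedModule q.primeCompl N) :=
    (Module.flat_iff_of_isLocalization (Localization.AtPrime p) p.primeCompl _).2 hN1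
  haveI : Module.FinitePresentation (Localization.AtPrime q)
      (LocalizedModule q.primeCompl N) := inferInstance
  haveI : Module.Flat (Localization.AtPrime q) (Localization.AtPrime q ⊗[S] S') :=
    inferInstance
  have hS : FlatCA.EssFinitePresentation (Localization.AtPrime p) (Localization.AtPrime q) :=
    Groth.Agent.Helper2.EssFP.essFP_of_atPrime p q (fun a ha h => ha (by rw [hpq]; exact h))
      (Localization.AtPrime p) (Localization.AtPrime q)
  have key := Groth.Agent.Helper2.AssCover.s1196 (R := Localization.AtPrime p)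
    (S := Localization.AtPrime q) (S' := Localization.AtPrime q ⊗[S] S') hS
    (LocalizedModule q.primeCompl N) (by
      intro 𝔮 h𝔮
      obtain ⟨q₁, hq₁p, hq₁o, hq₁e, hq₁le, hass⟩ := fiberIdeal_mem N p q hpq 𝔮 h𝔮
      obtain ⟨q', hq'p, hq'⟩ := h p q₁ hass
      obtain ⟨𝔮', h𝔮'p, h𝔮'⟩ := lift_prime q q₁ hq₁le q' hq'
      refine ⟨𝔮', h𝔮'p, ?_⟩
      rw [h𝔮', hq₁e]
      haveI : 𝔮.IsPrime := h𝔮.1
      exact IsLocalization.map_comap q.primeCompl (Localization.AtPrime q) 𝔮)
  intro Q _ _
  exact key Q

end main

end Groth.Agent.Helper9.UA3
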