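import Mathlib
import Groth.Agent.Helper9.UA3

/-!
# Helper9.UA4 : universal injectivity of `N → S' ⊗ N`, globally
-/

set_option autoImplicit false
set_option linter.style.haveILetI false
set_option linter.unusedVariables false
set_option linter.unusedSectionVars false
universe u

namespace Groth.Agent.Helper9.UA4

open TensorProduct IsLocalRing Groth.Agent.Helper9.FC2 Groth.Agent.Helper9.UA2
  Groth.Agent.Helper9.UA3

section descend

variable {R A : Type u} [CommRing R] [CommRing A] [Algebra R A]
  {Y₁ Y₂ : Type u} [AddCommGroup Y₁] [Module A Y₁] [Module R Y₁] [IsScalarTower R A Y₁]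
  [AddCommGroup Y₂] [Module A Y₂] [Module R Y₂] [IsScalarTower R A Y₂]

/-- universal injectivity over an `R`-algebra `A` implies injectivity after tensoring with
`R`-modules -/
theorem rTensor_injective_of_univInj (f : Y₁ →ₗ[A] Y₂)
    (hf : ∀ (Q' : Type u) [AddCommGroup Q'] [Module A Q'], Function.Injective (f.lTensor Q'))
    (Q : Type u) [AddCommGroup Q] [Module R Q] :
    Function.Injective ((f.restrictScalars R).rTensor Q) := by
  let e₁ : (A ⊗[R] Q) ⊗[A] Y₁ ≃ₗ[A] Y₁ ⊗[R] Q :=
    (TensorProduct.comm A (A ⊗[R] Q) Y₁) ≪≫ₗ
      (TensorProduct.AlgebraTensorModule.cancelBaseChange R A A Y₁ Q)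
  let e₂ : (A ⊗[R] Q) ⊗[A] Y₂ ≃ₗ[A] Y₂ ⊗[R] Q :=
    (TensorProduct.comm A (A ⊗[R] Q) Y₂) ≪≫ₗ
      (TensorProduct.AlgebraTensorModule.cancelBaseChange R A A Y₂ Q)
  have hnat : ∀ z, e₂ (f.lTensor (A ⊗[R] Q) z) = (f.restrictScalars R).rTensor Q (e₁ z) := by
    intro z
    induction z using TensorProduct.induction_on with
    | zero => simp
    | add a b ha hb => rw [map_add, map_add, map_add, map_add, ha, hb]
    | tmul w y =>
      induction w using TensorProduct.induction_on with
      | zero => simp
      | add a b ha hb =>
        rw [TensorProduct.add_tmul, map_add, map_add, map_add, map_add, ha, hb]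
      | tmul a x =>
        simp only [e₁, e₂, LinearMap.lTensor_tmul, LinearEquiv.trans_apply,
          TensorProduct.comm_tmul,
          TensorProduct.AlgebraTensorModule.cancelBaseChange_tmul, LinearMap.rTensor_tmul,
          LinearMap.restrictScalars_apply, map_smul]
  intro w w' hww
  obtain ⟨z, rfl⟩ := e₁.surjective w
  obtain ⟨z', rfl⟩ := e₁.surjective w'
  rw [← hnat, ← hnat] at hww
  rw [hf _ (e₂.injective hww)]

end descend


section main

variable {R S S' : Type u} [CommRing R] [CommRing S] [CommRing S'] [Algebra R S] [Algebra S S']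
  [Algebra R S'] [IsScalarTower R S S'] [Algebra.FinitePresentation R S] [Module.Flat S S']
  (N : Type u) [AddCommGroup N] [Module S N] [Module R N] [IsScalarTower R S N]
  [Module.FinitePresentation S N] [Module.Flat R N]
  (h : ∀ (p : Ideal R) (q : Ideal S) [p.IsPrime] [q.IsPrime] [q.LiesOver p],
      FlatCA.fiberIdeal p q ∈ associatedPrimes (p.Fiber S) (FlatCA.fiberMod p S N) →
      ∃ q' : Ideal S', q'.IsPrime ∧ q'.comap (algebraMap S S') = q)

/-- the comparison map `S' ⊗ N → (S_q ⊗ S') ⊗_{S_q} N_q` -/
noncomputable def beta (q : Ideal S) [q.IsPrime] :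
    S' ⊗[S] N →ₗ[S] (Localization.AtPrime q ⊗[S] S') ⊗[Localization.AtPrime q]
      (LocalizedModule q.primeCompl N) :=
  (TensorProduct.mapOfCompatibleSMul (Localization.AtPrime q) S S
      (Localization.AtPrime q ⊗[S] S') (LocalizedModule q.primeCompl N)) ∘ₗ
    (TensorProduct.map
      (Algebra.TensorProduct.includeRight :
        S' →ₐ[S] Localization.AtPrime q ⊗[S] S').toLinearMap
      (LocalizedModule.mkLinearMap q.primeCompl N))

lemma beta_one_tmul (q : Ideal S) [q.IsPrime] (n : N) :
    beta (S' := S') N q ((1 : S') ⊗ₜ[S] n) =
      (1 : Localization.AtPrime q ⊗[S] S') ⊗ₜ[Localization.AtPrime q]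
        (LocalizedModule.mkLinearMap q.primeCompl N n) := by
  simp [beta, Algebra.TensorProduct.one_def]

include h in
/-- an element of `N ⊗ Q` killed by `N ⊗ Q → (S' ⊗ N) ⊗ Q` vanishes in every localization -/
theorem local_zero (q : Ideal S) [q.IsPrime] (Q : Type u) [AddCommGroup Q] [Module R Q]
    (z : N ⊗[R] Q)
    (hz : (((TensorProduct.mk S S' N 1).restrictScalars R).rTensor Q) z = 0) :
    TensorProduct.AlgebraTensorModule.rTensor R Q (LocalizedModule.mkLinearMap q.primeCompl N) z
      = 0 := by
  have hpq : q.comap (algebraMap R S) = q.comap (algebraMap R S) := rfl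
  letI := algLoc (q.comap (algebraMap R S)) q hpq
  letI := modLoc N (q.comap (algebraMap R S)) q hpq
  haveI := towerLoc N (q.comap (algebraMap R S)) q hpq
  letI := algT (S' := S') (q.comap (algebraMap R S)) q hpq
  haveI := FC2.tower (q.comap (algebraMap R S)) q hpq
  haveI tRN : IsScalarTower R (Localization.AtPrime (q.comap (algebraMap R S)))
      (LocalizedModule q.primeCompl N) := by
    refine ⟨fun r c x => ?_⟩
    show (algebraMap (Localization.AtPrime (q.comap (algebraMap R S)))
        (Localization.AtPrime q) (r • c)) • x =
      r • ((algebraMap (Localization.AtPrime (q.comap (algebraMap R S)))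
        (Localization.AtPrime q) c) • x)
    rw [Algebra.smul_def, map_mul, ← IsScalarTower.algebraMap_apply, mul_smul, algebraMap_smul]
  have hloc := local_univInj (S' := S') N h (q.comap (algebraMap R S)) q hpq
  have hinj : Function.Injective
      ((((TensorProduct.mk (Localization.AtPrime q) (Localization.AtPrime q ⊗[S] S')
        (LocalizedModule q.primeCompl N) 1).restrictScalars
          (Localization.AtPrime (q.comap (algebraMap R S)))).restrictScalars R).rTensor Q) := by
    have hloc' := hloc (Localization.AtPrime (q.comap (algebraMap R S)) ⊗[R] Q)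
    let e₁ := (TensorProduct.comm (Localization.AtPrime (q.comap (algebraMap R S)))
        (Localization.AtPrime (q.comap (algebraMap R S)) ⊗[R] Q)
        (LocalizedModule q.primeCompl N)) ≪≫ₗ
      (TensorProduct.AlgebraTensorModule.cancelBaseChange R
        (Localization.AtPrime (q.comap (algebraMap R S)))
        (Localization.AtPrime (q.comap (algebraMap R S))) (LocalizedModule q.primeCompl N) Q)
    let e₂ := (TensorProduct.comm (Localization.AtPrime (q.comap (algebraMap R S)))
        (Localization.AtPrime (q.comap (algebraMap R S)) ⊗[R] Q)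
        ((Localization.AtPrime q ⊗[S] S') ⊗[Localization.AtPrime q]
          (LocalizedModule q.primeCompl N))) ≪≫ₗ
      (TensorProduct.AlgebraTensorModule.cancelBaseChange R
        (Localization.AtPrime (q.comap (algebraMap R S)))
        (Localization.AtPrime (q.comap (algebraMap R S)))
        ((Localization.AtPrime q ⊗[S] S') ⊗[Localization.AtPrime q]
          (LocalizedModule q.primeCompl N)) Q)
    have hnat : ∀ z, e₂ (LinearMap.lTensor
        (Localization.AtPrime (q.comap (algebraMap R S)) ⊗[R] Q)
        ((TensorProduct.mk (Localization.AtPrime q) (Localization.AtPrime q ⊗[S] S')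
        (LocalizedModule q.primeCompl N) 1).restrictScalars
          (Localization.AtPrime (q.comap (algebraMap R S)))) z) =
        ((((TensorProduct.mk (Localization.AtPrime q) (Localization.AtPrime q ⊗[S] S')
        (LocalizedModule q.primeCompl N) 1).restrictScalars
          (Localization.AtPrime (q.comap (algebraMap R S)))).restrictScalars R).rTensor Q)
          (e₁ z) := by
      intro z
      induction z using TensorProduct.induction_on with
      | zero => simp
      | add a b ha hb => rw [map_add, map_add, map_add, map_add, ha, hb]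
      | tmul w y =>
        induction w using TensorProduct.induction_on with
        | zero => simp
        | add a b ha hb =>
          rw [TensorProduct.add_tmul, map_add, map_add, map_add, map_add, ha, hb]
        | tmul a x =>
          simp only [e₁, e₂, LinearMap.lTensor_tmul, LinearEquiv.trans_apply,
            TensorProduct.comm_tmul,
            TensorProduct.AlgebraTensorModule.cancelBaseChange_tmul, LinearMap.rTensor_tmul,
            LinearMap.restrictScalars_apply, map_smul]
    intro w w' hww
    obtain ⟨z, rfl⟩ := e₁.surjective w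
    obtain ⟨z', rfl⟩ := e₁.surjective w'
    rw [← hnat, ← hnat] at hww
    rw [hloc' (e₂.injective hww)]
  apply hinj
  rw [map_zero]
  have hsq : ∀ w : N ⊗[R] Q,
      ((((TensorProduct.mk (Localization.AtPrime q) (Localization.AtPrime q ⊗[S] S')
        (LocalizedModule q.primeCompl N) 1).restrictScalars
          (Localization.AtPrime (q.comap (algebraMap R S)))).restrictScalars R).rTensor Q)
        (TensorProduct.AlgebraTensorModule.rTensor R Q
          (LocalizedModule.mkLinearMap q.primeCompl N) w) =
      (((beta (S' := S') N q).restrictScalars R).rTensor Q)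
        ((((TensorProduct.mk S S' N 1).restrictScalars R).rTensor Q) w) := by
    intro w
    induction w using TensorProduct.induction_on with
    | zero => simp
    | add a b ha hb => rw [map_add, map_add, map_add, map_add, ha, hb]
    | tmul n x =>
      rw [TensorProduct.AlgebraTensorModule.rTensor_tmul, LinearMap.rTensor_tmul,
        LinearMap.rTensor_tmul, LinearMap.rTensor_tmul]
      congr 1
  rw [hsq, hz, map_zero]

include h in
/-- **S1195** -/
theorem main : FlatCA.UnivInj R ((TensorProduct.mk S S' N 1).restrictScalars R) := by
  intro Q _ _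
  rw [injective_iff_map_eq_zero]
  intro z₀ hz₀
  have hcomm : ∀ w : Q ⊗[R] N,
      (((TensorProduct.mk S S' N 1).restrictScalars R).rTensor Q) (TensorProduct.comm R Q N w) =
        TensorProduct.comm R Q (S' ⊗[S] N)
          ((((TensorProduct.mk S S' N 1).restrictScalars R).lTensor Q) w) := by
    intro w
    induction w using TensorProduct.induction_on with
    | zero => simp
    | add a b ha hb => rw [map_add, map_add, map_add, map_add, ha, hb]
    | tmul x n => rfl
  have hz : (((TensorProduct.mk S S' N 1).restrictScalars R).rTensor Q)
      (TensorProduct.comm R Q N z₀) = 0 := by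
    rw [hcomm, hz₀, map_zero]
  have hzero : TensorProduct.comm R Q N z₀ = 0 := by
    refine Module.eq_zero_of_localization_maximal (R := S) (M := N ⊗[R] Q)
      (fun P _ => LocalizedModule P.primeCompl N ⊗[R] Q)
      (fun P _ => TensorProduct.AlgebraTensorModule.rTensor R Q
        (LocalizedModule.mkLinearMap P.primeCompl N)) _ ?_
    intro P hP
    exact local_zero N h P Q _ hz
  exact (TensorProduct.comm R Q N).injective (hzero.trans (map_zero _).symm)

end main

end Groth.Agent.Helper9.UA4
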