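import Mathlib

set_option autoImplicit false

namespace Groth.Agent.Helper9.UFDDescent

open scoped TensorProduct

universe u

variable {R R' : Type u} [CommRing R] [CommRing R'] [Algebra R R']

/-- Flat base change of a colon ideal `(a : b)`. -/
lemma mem_map_colon_of_flat [Module.Flat R R'] (a b : R) (y : R')
    (hy : y * algebraMap R R' b ∈ Ideal.span {algebraMap R R' a}) :
    y ∈ Ideal.map (algebraMap R R') ((Ideal.span {a} : Submodule R R).colon {b}) := by
  set p : Ideal R := (Ideal.span {a} : Submodule R R).colon {b} with hp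
  let f : p →ₗ[R] R := p.subtype
  let g : R →ₗ[R] R ⧸ Ideal.span {a} :=
    (Submodule.mkQ (Ideal.span {a})) ∘ₗ (LinearMap.mulRight R b)
  have hex : Function.Exact f g := by
    intro x
    constructor
    · intro hx
      refine ⟨⟨x, ?_⟩, rfl⟩
      have : Submodule.Quotient.mk (x * b) = (0 : R ⧸ Ideal.span {a}) := hx
      rw [Submodule.Quotient.mk_eq_zero] at this
      rw [hp, Submodule.mem_colon_singleton, smul_eq_mul]
      exact this
    · rintro ⟨⟨x, hx⟩, rfl⟩
      rw [hp, Submodule.mem_colon_singleton, smul_eq_mul] at hx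
      show Submodule.Quotient.mk (x * b) = (0 : R ⧸ Ideal.span {a})
      rw [Submodule.Quotient.mk_eq_zero]
      exact hx
  have hex' := Module.Flat.lTensor_exact R' hex
  obtain ⟨z, hz⟩ := Ideal.mem_span_singleton'.mp hy
  have h0 : (g.lTensor R') (y ⊗ₜ[R] (1 : R)) = 0 := by
    rw [LinearMap.lTensor_tmul]
    have h1 : g 1 = b • (Submodule.Quotient.mk 1 : R ⧸ Ideal.span {a}) := by
      show Submodule.Quotient.mk (1 * b) = _
      rw [← Submodule.Quotient.mk_smul, smul_eq_mul, mul_comm]
    rw [h1, ← TensorProduct.smul_tmul, Algebra.smul_def, mul_comm, ← hz, mul_comm,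
      ← Algebra.smul_def, TensorProduct.smul_tmul, ← Submodule.Quotient.mk_smul, smul_eq_mul,
      mul_one]
    have : (Submodule.Quotient.mk a : R ⧸ Ideal.span {a}) = 0 := by
      rw [Submodule.Quotient.mk_eq_zero]
      exact Ideal.subset_span rfl
    rw [this, TensorProduct.tmul_zero]
  obtain ⟨t, ht⟩ := (hex' _).mp h0
  have key : ∀ t : R' ⊗[R] p, (TensorProduct.rid R R') ((f.lTensor R') t) ∈
      Ideal.map (algebraMap R R') p := by
    intro t
    induction t using TensorProduct.induction_on with
    | zero => simp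
    | add x y hx hy => rw [map_add, map_add]; exact add_mem hx hy
    | tmul r x =>
      rw [LinearMap.lTensor_tmul, TensorProduct.rid_tmul, Algebra.smul_def]
      exact Ideal.mul_mem_right _ _ (Ideal.mem_map_of_mem _ x.2)
  have := key t
  rw [ht, TensorProduct.rid_tmul, one_smul] at this
  exact this

/-- In a UFD, the colon ideal `(a : b)` with `a ≠ 0` is principal. -/
lemma exists_colon_eq_span {S : Type u} [CommRing S] [IsDomain S] [UniqueFactorizationMonoid S]
    (a b : S) (ha : a ≠ 0) :
    ∃ c : S, ∀ y : S, a ∣ y * b ↔ c ∣ y := by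
  classical
  letI : GCDMonoid S := UniqueFactorizationMonoid.toGCDMonoid S
  obtain ⟨a', ha'⟩ := gcd_dvd_left a b
  obtain ⟨b', hb'⟩ := gcd_dvd_right a b
  have hg : gcd a b ≠ 0 := fun h => ha ((gcd_eq_zero_iff a b).mp h).1
  have hu : IsUnit (gcd a' b') := isUnit_gcd_of_eq_mul_gcd ha' hb' hg
  have hrel : IsRelPrime a' b' := gcd_isUnit_iff_isRelPrime.mp hu
  refine ⟨a', fun y => ?_⟩
  constructor
  · intro h
    have h1 : gcd a b * a' ∣ gcd a b * (y * b') := by
      have : gcd a b * (y * b') = y * (gcd a b * b') := by ring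
      rw [this, ← ha', ← hb']
      exact h
    have h2 : a' ∣ y * b' := (mul_dvd_mul_iff_left hg).mp h1
    exact hrel.dvd_of_dvd_mul_right h2
  · rintro ⟨z, rfl⟩
    refine ⟨z * b', ?_⟩
    conv_lhs => rw [hb']
    conv_rhs => rw [ha']
    ring

/-- Descent of principality along a faithfully flat map to a local domain. -/
lemma exists_eq_span_singleton_of_map_eq [Module.FaithfullyFlat R R'] [IsLocalRing R']
    [IsDomain R'] (I : Ideal R) (f : R') (hI : I.map (algebraMap R R') = Ideal.span {f}) :
    ∃ x ∈ I, I = Ideal.span {x} := by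
  have hcm : ∀ J : Ideal R, (J.map (algebraMap R R')).comap (algebraMap R R') = J :=
    fun J => Ideal.comap_map_eq_self_of_faithfullyFlat J
  suffices h : ∃ x ∈ I, I.map (algebraMap R R') = Ideal.span {algebraMap R R' x} by
    obtain ⟨x, hxI, hx⟩ := h
    refine ⟨x, hxI, ?_⟩
    rw [← hcm I, hx, ← Set.image_singleton, ← Ideal.map_span, hcm]
  by_cases hf : f = 0
  · refine ⟨0, zero_mem _, ?_⟩
    rw [hI, hf, map_zero]
  by_contra hcon
  push Not at hcon
  have hle : I.map (algebraMap R R') ≤ Ideal.span {f} * IsLocalRing.maximalIdeal R' := by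
    rw [Ideal.map_le_iff_le_comap]
    intro x hx
    rw [Ideal.mem_comap]
    have hx1 : algebraMap R R' x ∈ Ideal.span {f} := by
      rw [← hI]; exact Ideal.mem_map_of_mem _ hx
    obtain ⟨s, hs⟩ := Ideal.mem_span_singleton'.mp hx1
    by_cases hsu : IsUnit s
    · exfalso
      apply hcon x hx
      rw [hI, ← hs]
      exact (Ideal.span_singleton_mul_left_unit hsu f).symm
    · rw [← hs, mul_comm s f]
      exact Ideal.mul_mem_mul (Ideal.subset_span rfl) ((IsLocalRing.mem_maximalIdeal s).mpr hsu)
  have hfm : f ∈ Ideal.span {f} * IsLocalRing.maximalIdeal R' :=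
    hle (hI ▸ Ideal.subset_span rfl)
  rw [Ideal.mem_span_singleton_mul] at hfm
  obtain ⟨u, hu, hfu⟩ := hfm
  have h1 : f * (1 - u) = 0 := by rw [mul_sub, mul_one, hfu, sub_self]
  rcases mul_eq_zero.mp h1 with h | h
  · exact hf h
  · have : IsUnit (1 - u) := by
      have := (IsLocalRing.mem_maximalIdeal u).mp hu
      rw [mem_nonunits_iff] at this
      exact (IsLocalRing.isUnit_or_isUnit_one_sub_self u).resolve_left this
    rw [h] at this
    exact not_isUnit_zero this


/-- Unique factorization descends along a faithfully flat map of Noetherian domains with local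
target. -/
theorem ufd_of_faithfullyFlat [IsDomain R] [IsDomain R'] [IsNoetherianRing R] [IsLocalRing R']
    [Module.FaithfullyFlat R R'] [UniqueFactorizationMonoid R'] :
    UniqueFactorizationMonoid R := by
  rw [UniqueFactorizationMonoid.iff_exists_prime_mem_of_isPrime]
  intro P hP0 hPprime
  obtain ⟨a, haP, ha0⟩ : ∃ a ∈ P, a ≠ 0 := Submodule.exists_mem_ne_zero_of_ne_bot hP0
  obtain ⟨p, hpmin, hpP⟩ := Ideal.exists_minimalPrimes_le (I := Ideal.span {a}) (J := P)
    (by rwa [Ideal.span_singleton_le_iff_mem])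
  have hann : Module.annihilator R (R ⧸ Ideal.span {a}) = Ideal.span {a} :=
    Ideal.annihilator_quotient
  have hass : p ∈ associatedPrimes R (R ⧸ Ideal.span {a}) :=
    Module.associatedPrimes.minimalPrimes_annihilator_subset_associatedPrimes R _ (hann.symm ▸ hpmin)
  obtain ⟨hpprime, xbar, hx⟩ := Submodule.isAssociatedPrime_iff.mp hass
  obtain ⟨b, rfl⟩ := Submodule.Quotient.mk_surjective _ xbar
  have hpcolon : p = (Ideal.span {a} : Submodule R R).colon {b} := by
    rw [hx]
    ext r
    rw [Submodule.mem_colon_singleton, Submodule.mem_colon_singleton, Submodule.mem_bot,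
      ← Submodule.Quotient.mk_smul, Submodule.Quotient.mk_eq_zero]
  have hinj : Function.Injective (algebraMap R R') := FaithfulSMul.algebraMap_injective R R'
  have ha' : algebraMap R R' a ≠ 0 := fun h => ha0 (hinj (by rw [h, map_zero]))
  obtain ⟨c, hc⟩ := exists_colon_eq_span (algebraMap R R' a) (algebraMap R R' b) ha'
  have hmap : p.map (algebraMap R R') = Ideal.span {c} := by
    apply le_antisymm
    · rw [Ideal.map_le_iff_le_comap]
      intro x hxp
      rw [Ideal.mem_comap, Ideal.mem_span_singleton, ← hc]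
      rw [hpcolon, Submodule.mem_colon_singleton, smul_eq_mul, Ideal.mem_span_singleton] at hxp
      rw [← map_mul]
      exact map_dvd _ hxp
    · rw [Ideal.span_singleton_le_iff_mem, hpcolon]
      apply mem_map_colon_of_flat
      rw [Ideal.mem_span_singleton, hc]
  obtain ⟨x, hxp, hpx⟩ := exists_eq_span_singleton_of_map_eq p c hmap
  have hap : a ∈ p := hpmin.1.2 (Ideal.subset_span rfl)
  have hx0 : x ≠ 0 := by
    rintro rfl
    rw [hpx, Ideal.span_singleton_eq_bot.mpr rfl, Ideal.mem_bot] at hap
    exact ha0 hap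
  refine ⟨x, hpP hxp, ?_⟩
  rw [← Ideal.span_singleton_prime hx0, ← hpx]
  exact hpprime

end Groth.Agent.Helper9.UFDDescent
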