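import Mathlib
import Groth.Prelude.Def_Flat
import Groth.Agent.Helper9.GeomTrans
import Groth.Prelude.Def_SGA1

/-!
# A criterion for universal homeomorphisms
-/

set_option autoImplicit false

namespace Groth.Agent.Helper9.UnivHomeoQ

open CategoryTheory CategoryTheory.Limits AlgebraicGeometry MorphismProperty

universe u

theorem isUnivHomeo_of {W T Z : Scheme.{u}} (r : Z ⟶ W) (m : W ⟶ T) [Surjective r]
    [UniversallyClosed (r ≫ m)] [Surjective (r ≫ m)] [UniversallyInjective m] :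
    FlatMor.IsUnivHomeo m := by
  haveI : UniversallyClosed m := UniversallyClosed.of_comp_surjective r m
  haveI : Surjective m := by
    refine ⟨fun t => ?_⟩
    obtain ⟨z, hz⟩ := (r ≫ m).surjective t
    exact ⟨r.base z, hz⟩
  intro W' T' i₁ i₂ m' H
  haveI : UniversallyClosed m' := MorphismProperty.of_isPullback (P := @UniversallyClosed) H.flip
    inferInstance
  haveI : Surjective m' := MorphismProperty.of_isPullback (P := @Surjective) H.flip
    inferInstance
  haveI : UniversallyInjective m' :=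
    MorphismProperty.of_isPullback (P := @UniversallyInjective) H.flip inferInstance
  change IsHomeomorph m'.base
  rw [isHomeomorph_iff_continuous_isClosedMap_bijective]
  exact ⟨m'.continuous, m'.isClosedMap, m'.injective, m'.surjective⟩


/-- The map between quotients induced by an equivariant monomorphism is universally injective. -/
theorem univInj_of_mono {X XG W WG : Scheme.{u}} {G : Type u} [Group G] [Finite G]
    {ρ : G →* Aut X} {p : X ⟶ XG} (hP : SGA1.IsQuot ρ p) (j : W ⟶ X) [Mono j]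
    (ρW : G →* Aut W) (hρW : ∀ g, (ρW g).hom ≫ j = j ≫ (ρ g).hom) (pW : W ⟶ WG)
    (hPW : SGA1.IsQuot ρW pW) (φ : WG ⟶ XG) (hφ : pW ≫ φ = j ≫ p) : UniversallyInjective φ := by
  haveI : Surjective pW := ⟨Groth.Agent.Helper9.FinQuot.surjective hPW⟩
  refine ((tfae_universallyInjective φ).out 0 1).mpr ?_
  intro K _ g₁ g₂ hg
  change g₁ ≫ φ = g₂ ≫ φ at hg
  obtain ⟨L₁, _, π₁, ξ₁, h1⟩ := Groth.Agent.Helper9.GeomTrans.exists_lift pW K g₁
  obtain ⟨L, _, π₂, ξ₂, h2⟩ := Groth.Agent.Helper9.GeomTrans.exists_lift pW L₁ (π₁ ≫ g₂)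
  have hcomp : ((π₂ ≫ ξ₁) ≫ j) ≫ p = (ξ₂ ≫ j) ≫ p := by
    rw [Category.assoc, Category.assoc, ← hφ, ← Category.assoc ξ₁, h1, Category.assoc ξ₂,
      ← hφ, ← Category.assoc ξ₂, h2, Category.assoc, Category.assoc, Category.assoc, hg]
  obtain ⟨g, hg'⟩ := Groth.Agent.Helper9.GeomTrans.main hP L ((π₂ ≫ ξ₁) ≫ j) (ξ₂ ≫ j) hcomp
  have h3 : ξ₂ = (π₂ ≫ ξ₁) ≫ (ρW g).hom := by
    apply (cancel_mono j).mp
    rw [hg', Category.assoc, Category.assoc, Category.assoc, Category.assoc, hρW]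
  have h4 : ξ₂ ≫ pW = (π₂ ≫ ξ₁) ≫ pW := by
    rw [h3, Category.assoc, hPW.inv]
  rw [h2, Category.assoc, h1] at h4
  haveI := Groth.Agent.Helper9.GeomTrans.epi_of_fields K L₁ π₁
  haveI := Groth.Agent.Helper9.GeomTrans.epi_of_fields L₁ L π₂
  exact ((cancel_epi π₁).mp ((cancel_epi π₂).mp h4)).symm

end Groth.Agent.Helper9.UnivHomeoQ
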