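import Mathlib

set_option autoImplicit false
universe u

namespace Groth.Agent.Helper9.UnramSection

open AlgebraicGeometry CategoryTheory CategoryTheory.Limits

/-- A section of a formally unramified morphism locally of finite type is an open immersion. -/
theorem isOpenImmersion_of_section {X Y : Scheme.{u}} (f : X ⟶ Y) [FormallyUnramified f]
    [LocallyOfFiniteType f] (s : Y ⟶ X) (hs : s ≫ f = 𝟙 Y) : IsOpenImmersion s := by
  haveI : IsOpenImmersion (s ≫ f) := by rw [hs]; infer_instance
  let gr : Y ⟶ pullback (s ≫ f) f := pullback.lift (𝟙 Y) s (by simp)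
  have h : s = gr ≫ pullback.snd _ _ := (pullback.lift_snd _ _ _).symm
  haveI : IsOpenImmersion gr :=
    MorphismProperty.of_isPullback (P := @IsOpenImmersion)
      (pullback_lift_diagonal_isPullback s f) inferInstance
  rw [h]
  infer_instance

/-- A section of a separated morphism is a closed immersion. -/
theorem isClosedImmersion_of_section {X Y : Scheme.{u}} (f : X ⟶ Y) [IsSeparated f]
    (s : Y ⟶ X) (hs : s ≫ f = 𝟙 Y) : IsClosedImmersion s := by
  haveI : IsClosedImmersion (s ≫ f) := by rw [hs]; infer_instance
  exact IsClosedImmersion.of_comp s f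

/-- If `f : P ⟶ X` over `S` maps a point of every (connected) fibre of `P → S` into the clopen
image of a section `e` of an unramified separated `X → S`, then `f` factors through `e`. -/
theorem eq_comp_section {S P X : Scheme.{u}} (p : P ⟶ S) (q : X ⟶ S) [FormallyUnramified q]
    [LocallyOfFiniteType q] [IsSeparated q] (e : S ⟶ X) (he : e ≫ q = 𝟙 S)
    (f : P ⟶ X) (hf : f ≫ q = p) (hconn : ∀ s : S, ConnectedSpace ↥(p.fiber s))
    (u : S ⟶ P) (hu : u ≫ p = 𝟙 S) (huf : u ≫ f = e) : f = p ≫ e := by
  haveI := isOpenImmersion_of_section q e he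
  haveI := isClosedImmersion_of_section q e he
  have hclopen : IsClopen (f ⁻¹' Set.range e) :=
    ⟨(e.isClosedEmbedding.isClosed_range).preimage f.continuous,
      (e.isOpenEmbedding.isOpen_range).preimage f.continuous⟩
  have hrange : Set.range f ⊆ Set.range e := by
    rintro _ ⟨x, rfl⟩
    let s := p x
    have hfib : _root_.IsPreconnected (p ⁻¹' {s}) := by
      rw [← Scheme.Hom.range_fiberι]
      haveI := hconn s
      exact isPreconnected_range (p.fiberι s).continuous
    have hus : u s ∈ p ⁻¹' {s} := by
      show p (u s) = s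
      rw [← Scheme.Hom.comp_apply, hu]; rfl
    have hue : u s ∈ f ⁻¹' Set.range e := by
      show f (u s) ∈ Set.range e
      rw [← Scheme.Hom.comp_apply, huf]
      exact ⟨s, rfl⟩
    have := hfib.subset_isClopen hclopen ⟨u s, hus, hue⟩
    exact this (rfl : p x = s)
  have hfac : IsOpenImmersion.lift e f hrange ≫ e = f := IsOpenImmersion.lift_fac _ _ _
  have hg : IsOpenImmersion.lift e f hrange = p := by
    have := congrArg (· ≫ q) hfac
    simp only [Category.assoc, he, Category.comp_id, hf] at this
    exact this
  rw [← hg, hfac]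

section Components

variable {X Y : Scheme.{u}} (f : X ⟶ Y) [FormallyUnramified f] [LocallyOfFiniteType f]
  [IsSeparated f]

/-- For a section `s`, `range(s).ι ≫ f` is an isomorphism. -/
theorem isIso_opensRange_ι_comp (s : Y ⟶ X) (hs : s ≫ f = 𝟙 Y) [IsOpenImmersion s] :
    IsIso (s.opensRange.ι ≫ f) := by
  have : s.opensRange.ι ≫ f = s.isoOpensRange.inv := by
    rw [← s.isoOpensRange_inv_comp, Category.assoc, hs, Category.comp_id]
  rw [this]
  infer_instance

theorem inv_opensRange_ι_comp (s : Y ⟶ X) (hs : s ≫ f = 𝟙 Y) [IsOpenImmersion s]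
    [IsIso (s.opensRange.ι ≫ f)] :
    inv (s.opensRange.ι ≫ f) ≫ s.opensRange.ι = s := by
  have : s.opensRange.ι ≫ f = s.isoOpensRange.inv := by
    rw [← s.isoOpensRange_inv_comp, Category.assoc, hs, Category.comp_id]
  rw [IsIso.inv_comp_eq, this, s.isoOpensRange_inv_comp]

theorem range_eq_connectedComponent [ConnectedSpace Y] (s : Y ⟶ X) (hs : s ≫ f = 𝟙 Y) (y : Y) :
    Set.range s = connectedComponent (s y) := by
  haveI := isOpenImmersion_of_section f s hs
  haveI := isClosedImmersion_of_section f s hs
  have hclopen : IsClopen (Set.range s) :=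
    ⟨s.isClosedEmbedding.isClosed_range, s.isOpenEmbedding.isOpen_range⟩
  have hconn : _root_.IsPreconnected (Set.range s) := isPreconnected_range s.continuous
  exact le_antisymm (hconn.subset_connectedComponent ⟨y, rfl⟩)
    (hclopen.connectedComponent_subset ⟨y, rfl⟩)

end Components

end Groth.Agent.Helper9.UnramSection
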