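import Mathlib
import Groth.Agent.Helper1.TorCrit
import Groth.Agent.Helper9.VP6

/-!
# VP7: projective dimension `≤ n + 1` for all finitely presented modules, and `≤ n - 1` for
reflexive ones, over a local algebra essentially of finite type over a valuation ring whose fibre
has global dimension `≤ n`.
-/

set_option autoImplicit false
universe u
open CategoryTheory TensorProduct

namespace Groth.Agent.Helper9.VP7

open Groth.Agent.Helper1.TorLib Groth.Agent.Helper9.VP6

section Dual

variable {A : Type u} [CommRing A] {X₁ X₂ X₃ : Type u} [AddCommGroup X₁] [Module A X₁]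
  [AddCommGroup X₂] [Module A X₂] [AddCommGroup X₃] [Module A X₃]

/-- left exactness of the dual -/
lemma dual_exact (g : X₁ →ₗ[A] X₂) (f : X₂ →ₗ[A] X₃) (hgf : Function.Exact g f)
    (hf : Function.Surjective f) :
    Function.Exact f.dualMap g.dualMap := by
  intro φ
  constructor
  · intro hφ
    have hle : LinearMap.ker f ≤ LinearMap.ker φ := by
      intro x hx
      obtain ⟨y, rfl⟩ := (hgf x).1 hx
      have := LinearMap.congr_fun hφ y
      simpa using this
    refine ⟨((LinearMap.ker f).liftQ φ hle).comp
      (f.quotKerEquivOfSurjective hf).symm.toLinearMap, ?_⟩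
    ext x
    simp only [LinearMap.dualMap_apply, LinearMap.coe_comp, LinearEquiv.coe_coe,
      Function.comp_apply]
    have : (f.quotKerEquivOfSurjective hf).symm (f x) = (LinearMap.ker f).mkQ x := by
      rw [LinearEquiv.symm_apply_eq]
      rfl
    rw [this]
    rfl
  · rintro ⟨ψ, rfl⟩
    ext y
    simp only [LinearMap.dualMap_apply, LinearMap.zero_apply]
    rw [hgf.apply_apply_eq_zero, map_zero]

/-- the dual of a cokernel is the kernel of the dual map -/
noncomputable def dualEquivKer (g : X₁ →ₗ[A] X₂) (f : X₂ →ₗ[A] X₃) (hgf : Function.Exact g f)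
    (hf : Function.Surjective f) :
    Module.Dual A X₃ ≃ₗ[A] LinearMap.ker g.dualMap :=
  (LinearEquiv.ofInjective f.dualMap (LinearMap.dualMap_injective_of_surjective hf)).trans
    (LinearEquiv.ofEq _ _ ((LinearMap.exact_iff.1 (dual_exact g f hgf hf)).symm))

end Dual

section Main

variable {V : Type u} [CommRing V] [IsDomain V] [ValuationRing V]
  {A : Type u} [CommRing A] [IsLocalRing A] [Algebra V A] [Algebra.EssFiniteType V A]
  (p : Ideal V)

/-- every finitely presented module has projective dimension `≤ n + 1` -/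
theorem pd_succ (hI : Ideal.map (algebraMap V A) p ≤ IsLocalRing.maximalIdeal A)
    (hA : ∀ c : V, c ≠ 0 → ∀ a : A, c • a = 0 → a = 0) (n : ℕ)
    (hgl : ∀ X : ModuleCat.{u} (A ⧸ Ideal.map (algebraMap V A) p),
      HasProjectiveDimensionLT X (n + 1))
    (M : Type u) [AddCommGroup M] [Module A M] [Module.FinitePresentation A M] :
    HasProjectiveDimensionLT (ModuleCat.of A M) (n + 1 + 1) := by
  obtain ⟨k, π, hπ⟩ := Module.Finite.exists_fin' A M
  have hKfg : (LinearMap.ker π).FG := Module.FinitePresentation.fg_ker π hπ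
  have hFtf : ∀ c : V, c ≠ 0 → ∀ m : Fin k → A, c • m = 0 → m = 0 := by
    intro c hc m hm
    ext1 i
    exact hA c hc (m i) (congrFun hm i)
  have hKfp : Module.FinitePresentation A (LinearMap.ker π) :=
    Groth.Agent.Helper9.VP5.finitePresentation_submodule hFtf _ hKfg
  have hKtf : ∀ c : V, c ≠ 0 → ∀ m : LinearMap.ker π, c • m = 0 → m = 0 := by
    intro c hc m hm
    apply Subtype.ext
    apply hFtf c hc
    have := congrArg Subtype.val hm
    simpa using this
  have hK := pd_of_fibre p hI hA n (LinearMap.ker π) hKtf (hgl _)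
  have hex' : Function.Exact (LinearMap.ker π).subtype π := fun y => by
    simp
  have hS := scOfLinear_shortExact _ _ (LinearMap.ker π).injective_subtype hπ hex'
  have hproj : Projective (ModuleCat.of A (Fin k → A)) :=
    (IsProjective.iff_projective _).1 inferInstance
  have h2 : HasProjectiveDimensionLT (ModuleCat.of A (Fin k → A)) (n + 1 + 1) :=
    hasProjectiveDimensionLT_of_ge _ 1 (n + 1 + 1) (by omega)
  exact hS.hasProjectiveDimensionLT_X₃ (n + 1) hK h2

/-- the kernel of a map between finite free modules is finitely presented -/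
theorem ker_fp (hA : ∀ c : V, c ≠ 0 → ∀ a : A, c • a = 0 → a = 0)
    {F₁ F₂ : Type u} [AddCommGroup F₁] [Module A F₁] [AddCommGroup F₂] [Module A F₂]
    [Module.Free A F₁] [Module.Finite A F₁] [Module.Free A F₂] [Module.Finite A F₂]
    (Φ : F₁ →ₗ[A] F₂) :
    Module.FinitePresentation A (LinearMap.ker Φ) ∧
      Module.FinitePresentation A (LinearMap.range Φ) := by
  classical
  -- transport the `V`-structure through `A`
  let _ : Module V F₁ := Module.compHom F₁ (algebraMap V A)
  let _ : Module V F₂ := Module.compHom F₂ (algebraMap V A)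
  have hs1 : IsScalarTower V A F₁ := ⟨fun c a x => by
    show (c • a) • x = (algebraMap V A c) • (a • x)
    rw [Algebra.smul_def, mul_smul]⟩
  have hs2 : IsScalarTower V A F₂ := ⟨fun c a x => by
    show (c • a) • x = (algebraMap V A c) • (a • x)
    rw [Algebra.smul_def, mul_smul]⟩
  have htfree : ∀ (F : Type u) [AddCommGroup F] [Module A F] [Module.Free A F],
      ∀ c : V, c ≠ 0 → ∀ x : F, (algebraMap V A c) • x = 0 → x = 0 := by
    intro F _ _ _ c hc x hx
    let b := Module.Free.chooseBasis A F
    apply b.repr.injective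
    rw [map_zero]
    ext i
    have h1 : b.repr ((algebraMap V A c) • x) i = 0 := by rw [hx, map_zero]; rfl
    rw [map_smul, Finsupp.smul_apply, smul_eq_mul, ← Algebra.smul_def] at h1
    exact hA c hc _ h1
  have htf1 : ∀ c : V, c ≠ 0 → ∀ x : F₁, c • x = 0 → x = 0 := fun c hc x hx =>
    htfree F₁ c hc x hx
  have htf2 : ∀ c : V, c ≠ 0 → ∀ x : F₂, c • x = 0 → x = 0 := fun c hc x hx =>
    htfree F₂ c hc x hx
  have hrfg : (LinearMap.range Φ).FG := by
    rw [LinearMap.range_eq_map]
    exact Module.Finite.fg_top.map Φ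
  have hrfp : Module.FinitePresentation A (LinearMap.range Φ) :=
    Groth.Agent.Helper9.VP5.finitePresentation_submodule htf2 _ hrfg
  have hkfg : (LinearMap.ker Φ).FG := by
    have := Module.FinitePresentation.fg_ker Φ.rangeRestrict Φ.surjective_rangeRestrict
    rwa [LinearMap.ker_rangeRestrict] at this
  exact ⟨Groth.Agent.Helper9.VP5.finitePresentation_submodule htf1 _ hkfg, hrfp⟩

/-- reflexive finitely presented modules have projective dimension `≤ n - 1` -/
theorem pd_reflexive (hI : Ideal.map (algebraMap V A) p ≤ IsLocalRing.maximalIdeal A)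
    (hA : ∀ c : V, c ≠ 0 → ∀ a : A, c • a = 0 → a = 0) (n : ℕ)
    (hgl : ∀ X : ModuleCat.{u} (A ⧸ Ideal.map (algebraMap V A) p),
      HasProjectiveDimensionLT X (n + 1))
    (M : Type u) [AddCommGroup M] [Module A M] [Module.FinitePresentation A M]
    [Module.IsReflexive A M] :
    HasProjectiveDimensionLT (ModuleCat.of A M) (n - 1 + 1) := by
  classical
  -- the dual of `M` is finitely presented
  obtain ⟨a, b, f, g, hf, hgf⟩ := Module.FinitePresentation.exists_fin' A M
  have hDfp : Module.FinitePresentation A (Module.Dual A M) := by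
    have := (ker_fp hA g.dualMap).1
    exact Module.finitePresentation_of_surjective (M := LinearMap.ker g.dualMap)
      (N := Module.Dual A M) (dualEquivKer g f hgf hf).symm.toLinearMap
      (dualEquivKer g f hgf hf).symm.surjective (by
        rw [LinearEquiv.ker]
        exact Submodule.fg_bot)
  -- present the dual
  obtain ⟨c, d, f', g', hf', hgf'⟩ := Module.FinitePresentation.exists_fin' A (Module.Dual A M)
  let Φ := g'.dualMap
  let e : M ≃ₗ[A] LinearMap.ker Φ :=
    (Module.evalEquiv A M).trans (dualEquivKer g' f' hgf' hf')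
  -- the cokernel of `Φ`
  have hrfp := (ker_fp hA Φ).2
  have hrfg : (LinearMap.range Φ).FG := by
    rw [LinearMap.range_eq_map]
    exact Module.Finite.fg_top.map Φ
  have hF2fp : Module.FinitePresentation A (Module.Dual A (Fin d → A)) :=
    Module.finitePresentation_of_projective A _
  have hCfp : Module.FinitePresentation A (Module.Dual A (Fin d → A) ⧸ LinearMap.range Φ) :=
    Module.finitePresentation_of_surjective (LinearMap.range Φ).mkQ
      (Submodule.mkQ_surjective _) (by rw [Submodule.ker_mkQ]; exact hrfg)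
  have hC := pd_succ p hI hA n hgl (Module.Dual A (Fin d → A) ⧸ LinearMap.range Φ)
  -- `0 → range Φ → F₂ → C → 0`
  have hS1 := scOfLinear_shortExact (N₁ := LinearMap.range Φ)
    (N₂ := Module.Dual A (Fin d → A)) (LinearMap.range Φ).subtype (LinearMap.range Φ).mkQ
    (LinearMap.range Φ).injective_subtype (Submodule.mkQ_surjective _)
    (LinearMap.exact_subtype_mkQ (LinearMap.range Φ))
  have hproj2 : Projective (ModuleCat.of A (Module.Dual A (Fin d → A))) :=
    (IsProjective.iff_projective _).1 inferInstance
  have h22 : HasProjectiveDimensionLT (ModuleCat.of A (Module.Dual A (Fin d → A))) (n + 1) :=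
    hasProjectiveDimensionLT_of_ge _ 1 (n + 1) (by omega)
  have hJ : HasProjectiveDimensionLT (ModuleCat.of A (LinearMap.range Φ)) (n + 1) :=
    hS1.hasProjectiveDimensionLT_X₁ (n + 1) h22 hC
  have hJ' : HasProjectiveDimensionLT (ModuleCat.of A (LinearMap.range Φ)) (n - 1 + 1 + 1) :=
    hasProjectiveDimensionLT_of_ge _ (n + 1) _ (by omega)
  -- `0 → ker Φ → F₁ → range Φ → 0`
  have hex2 : Function.Exact (LinearMap.ker Φ).subtype Φ.rangeRestrict := by
    intro y
    rw [← LinearMap.mem_ker, LinearMap.ker_rangeRestrict]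
    simp
  have hS2 := scOfLinear_shortExact (N₁ := LinearMap.ker Φ)
    (N₂ := Module.Dual A (Fin c → A)) (N₃ := LinearMap.range Φ)
    (LinearMap.ker Φ).subtype Φ.rangeRestrict
    (LinearMap.ker Φ).injective_subtype Φ.surjective_rangeRestrict hex2
  have hproj1 : Projective (ModuleCat.of A (Module.Dual A (Fin c → A))) :=
    (IsProjective.iff_projective _).1 inferInstance
  have h21 : HasProjectiveDimensionLT (ModuleCat.of A (Module.Dual A (Fin c → A))) (n - 1 + 1) :=
    hasProjectiveDimensionLT_of_ge _ 1 (n - 1 + 1) (by omega)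
  have hK : HasProjectiveDimensionLT (ModuleCat.of A (LinearMap.ker Φ)) (n - 1 + 1) :=
    hS2.hasProjectiveDimensionLT_X₁ (n - 1 + 1) h21 hJ'
  exact hasProjectiveDimensionLT_of_iso
    (LinearEquiv.toModuleIso (X₁ := LinearMap.ker Φ) (X₂ := M)
      (g₁ := (LinearMap.ker Φ).addCommGroup) (m₁ := (LinearMap.ker Φ).module) e.symm) (n - 1 + 1)

end Main

end Groth.Agent.Helper9.VP7
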