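import Mathlib
import Groth.Agent.Helper9.RG1
import Groth.Agent.Helper9.VP4

/-!
# VP8: coherence over Prüfer domains: finite torsion-free modules over finitely presented algebras
over a Prüfer domain are finitely presented.
-/

set_option autoImplicit false
universe u
open MvPolynomial TensorProduct

namespace Groth.Agent.Helper9.VP8

section Val

variable {V : Type u} [CommRing V] [IsDomain V] [ValuationRing V]
  {P' : Type u} [CommRing P'] [Algebra V P'] [Algebra.FiniteType V P']
  {N : Type u} [AddCommGroup N] [Module P' N] [Module V N] [IsScalarTower V P' N]

/-- finite torsion-free modules over a finite type algebra over a valuation ring are finitely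
presented -/
theorem fp_of_finiteType [Module.Finite P' N]
    (htf : ∀ c : V, c ≠ 0 → ∀ m : N, c • m = 0 → m = 0) : Module.FinitePresentation P' N := by
  classical
  obtain ⟨n, φ, hφ⟩ := Algebra.FiniteType.iff_quotient_mvPolynomial''.1
    (inferInstance : Algebra.FiniteType V P')
  let _ : Algebra (MvPolynomial (Fin n) V) P' := φ.toRingHom.toAlgebra
  let _ : Module (MvPolynomial (Fin n) V) N := Module.compHom N φ.toRingHom
  have hst1 : IsScalarTower (MvPolynomial (Fin n) V) P' N := ⟨fun r b m => by
    show (φ r * b) • m = φ r • (b • m)
    exact mul_smul _ _ _⟩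
  have hst3 : IsScalarTower V (MvPolynomial (Fin n) V) N := ⟨fun a p m => by
    show φ (a • p) • m = a • (φ p • m)
    rw [map_smul, smul_assoc]⟩
  have hfinB : Module.Finite (MvPolynomial (Fin n) V) P' :=
    Module.Finite.of_surjective (Algebra.linearMap (MvPolynomial (Fin n) V) P') hφ
  have hfin : Module.Finite (MvPolynomial (Fin n) V) N := Module.Finite.trans P' N
  have hfp : Module.FinitePresentation (MvPolynomial (Fin n) V) N :=
    Groth.Agent.Helper9.VP3.finitePresentation_of_torsionFree htf
  exact Groth.Agent.Helper9.VP4.finitePresentation_of_surjective_algebraMap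
    (R := MvPolynomial (Fin n) V) (S := P') hφ

end Val

section Prufer

variable {R : Type u} [CommRing R] [IsDomain R]
  (hR : ∀ (p : Ideal R) [p.IsPrime], ValuationRing (Localization.AtPrime p))
  {P : Type u} [CommRing P] [Algebra R P] [Algebra.FinitePresentation R P]
  {M : Type u} [AddCommGroup M] [Module P M] [Module R M] [IsScalarTower R P M]

include hR in
/-- finite torsion-free modules over a finitely presented algebra over a Prüfer domain are finitely
presented -/
theorem fp_of_torsionFree_prufer [Module.Finite P M]
    (htf : ∀ c : R, c ≠ 0 → ∀ m : M, c • m = 0 → m = 0) : Module.FinitePresentation P M := by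
  classical
  -- flatness
  have hflat : Module.Flat R M := by
    rw [Module.Flat.flat_iff_torsion_eq_bot_of_valuationRing_localization_isMaximal
      (fun p hp => hR p)]
    rw [eq_bot_iff]
    rintro m ⟨⟨r, hr⟩, h⟩
    exact htf r (nonZeroDivisors.ne_zero hr) m h
  -- the generic point
  let s : Finset (PrimeSpectrum R) := {⟨⊥, Ideal.isPrime_bot⟩}
  have hs : Function.Injective fun r : R => fun p : s =>
      algebraMap R (Localization.AtPrime p.1.asIdeal) r := by
    intro a b hab
    have h1 := congrFun hab ⟨⟨⊥, Ideal.isPrime_bot⟩, Finset.mem_singleton_self _⟩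
    have hinj : Function.Injective (algebraMap R (Localization.AtPrime (⊥ : Ideal R))) :=
      IsLocalization.injective (Localization.AtPrime (⊥ : Ideal R))
        (M := (⊥ : Ideal R).primeCompl) (by
          intro x hx
          exact mem_nonZeroDivisors_of_ne_zero (fun h => hx (by rw [h]; exact Ideal.zero_mem _)))
    exact hinj h1
  refine Groth.Agent.Helper9.RG1.main s hs ?_
  intro p hp
  -- the local situation
  have hval : ValuationRing (Localization.AtPrime p) := hR p
  set W : Submonoid P := Algebra.algebraMapSubmonoid P p.primeCompl with hW
  have hpush : Algebra.IsPushout R (Localization.AtPrime p) P (Localization W) :=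
    (Algebra.isPushout_of_isLocalization p.primeCompl (Localization.AtPrime p) P
      (Localization W)).symm
  have hfpP : Algebra.FinitePresentation (Localization.AtPrime p) (Localization W) :=
    Algebra.FinitePresentation.equiv
      (Algebra.IsPushout.equiv R (Localization.AtPrime p) P (Localization W))
  let _ : Module (Localization.AtPrime p) (LocalizedModule W M) :=
    Module.compHom (LocalizedModule W M) (algebraMap (Localization.AtPrime p) (Localization W))
  have hst : IsScalarTower (Localization.AtPrime p) (Localization W) (LocalizedModule W M) :=
    ⟨fun c a z => by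
      show (c • a) • z = (algebraMap (Localization.AtPrime p) (Localization W) c) • (a • z)
      rw [Algebra.smul_def, mul_smul]⟩
  refine fp_of_finiteType (V := Localization.AtPrime p) ?_
  intro c hc z hz
  -- clear the denominator of `c`
  obtain ⟨⟨a, t⟩, hat⟩ := IsLocalization.surj p.primeCompl c
  have ha0 : a ≠ 0 := by
    rintro rfl
    rw [map_zero] at hat
    have ht : IsUnit (algebraMap R (Localization.AtPrime p) t) :=
      IsLocalization.map_units (Localization.AtPrime p) t
    exact hc ((ht.mul_left_eq_zero).1 hat)
  have haz : (algebraMap R P a) • z = 0 := by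
    have h1 : (algebraMap R (Localization.AtPrime p) a) • z = 0 := by
      rw [← hat, mul_comm, mul_smul, hz, smul_zero]
    have h2 : (algebraMap R (Localization.AtPrime p) a) • z =
        (algebraMap (Localization.AtPrime p) (Localization W)
          (algebraMap R (Localization.AtPrime p) a)) • z := rfl
    rw [h2, ← IsScalarTower.algebraMap_apply R (Localization.AtPrime p) (Localization W),
      IsScalarTower.algebraMap_apply R P (Localization W), algebraMap_smul] at h1
    exact h1
  induction z using LocalizedModule.induction_on with
  | h m w =>
    rw [LocalizedModule.smul'_mk, ← LocalizedModule.zero_mk (1 : W), LocalizedModule.mk_eq] at haz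
    obtain ⟨u, hu⟩ := haz
    rw [one_smul, smul_zero, smul_zero] at hu
    obtain ⟨b, hb, hbu⟩ := u.2
    have hm : m = 0 := by
      apply htf (b * a) (mul_ne_zero (fun h => hb (by rw [h]; exact Ideal.zero_mem _)) ha0)
      rw [mul_smul, ← algebraMap_smul P b, ← algebraMap_smul P a m, hbu]
      exact hu
    rw [hm, LocalizedModule.zero_mk]

end Prufer

end Groth.Agent.Helper9.VP8
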