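import Mathlib
import Groth.Prelude.Def_EtMil
import Groth.Agent.S6900

/-!
# Helper9.ValMil1 : a valuation ring is the fibre product of its localization and quotient at a prime;
étaleness of an extension of valuation rings can be checked on the two pieces (via S6900).
-/

set_option autoImplicit false
universe u

namespace Groth.Agent.Helper9.ValMil1

open IsLocalRing TensorProduct

/-- In a valuation ring every prime is "divided": `p V_p = p`. -/
theorem exists_mem_of_mem_maximalIdeal {V : Type u} [CommRing V] [IsDomain V] [ValuationRing V]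
    (p : Ideal V) [p.IsPrime] (x : Localization.AtPrime p)
    (hx : x ∈ maximalIdeal (Localization.AtPrime p)) :
    ∃ v ∈ p, algebraMap V (Localization.AtPrime p) v = x := by
  obtain ⟨a, s, rfl⟩ := IsLocalization.exists_mk'_eq p.primeCompl x
  rw [IsLocalization.AtPrime.mk'_mem_maximal_iff (Localization.AtPrime p) p] at hx
  obtain ⟨c, hc | hc⟩ := ValuationRing.cond a (s : V)
  · exact absurd (hc ▸ p.mul_mem_right c hx) s.2
  · refine ⟨c, ?_, ?_⟩
    · rcases (‹p.IsPrime›.mem_or_mem (hc ▸ hx : (s : V) * c ∈ p)) with h | h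
      · exact absurd h s.2
      · exact h
    · rw [eq_comm, IsLocalization.mk'_eq_iff_eq_mul, ← map_mul, ← hc, mul_comm]

/-- The Milnor square `V = V/p ×_{κ(p)} V_p` attached to a divided prime. -/
theorem isFibreSquare {V : Type u} [CommRing V] (p : Ideal V) [p.IsPrime]
    (hinj : Function.Injective (algebraMap V (Localization.AtPrime p)))
    (hdiv : ∀ x ∈ maximalIdeal (Localization.AtPrime p),
      ∃ v ∈ p, algebraMap V (Localization.AtPrime p) v = x) :
    EtMil.IsFibreSquare V (V ⧸ p) (Localization.AtPrime p) p.ResidueField := by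
  refine ⟨IsLocalRing.residue_surjective, fun b a' h => ?_⟩
  obtain ⟨v₀, rfl⟩ := Ideal.Quotient.mk_surjective b
  have h1 : residue _ (a' - algebraMap V (Localization.AtPrime p) v₀) = 0 := by
    rw [map_sub, sub_eq_zero]
    have : algebraMap (V ⧸ p) p.ResidueField (Ideal.Quotient.mk p v₀) =
        residue _ (algebraMap V (Localization.AtPrime p) v₀) := by
      rw [Ideal.algebraMap_quotient_residueField_mk,
        IsScalarTower.algebraMap_apply V (Localization.AtPrime p) p.ResidueField]
      rfl
    rw [← this, h]; rfl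
  obtain ⟨y, hy, hy'⟩ := hdiv _ ((residue_eq_zero_iff _).mp h1)
  refine ⟨v₀ + y, ⟨?_, ?_⟩, ?_⟩
  · change Ideal.Quotient.mk p (v₀ + y) = Ideal.Quotient.mk p v₀
    rw [map_add, Ideal.Quotient.eq_zero_iff_mem.mpr hy, add_zero]
  · rw [map_add, hy']; ring
  · rintro z ⟨-, hz⟩
    apply hinj
    rw [hz, map_add, hy']; ring

/-- `κ(S) = S ⊗_R κ(R)` for an unramified local homomorphism. -/
theorem isPushout_residueField {R S : Type u} [CommRing R] [CommRing S] [IsLocalRing R]
    [IsLocalRing S] [Algebra R S] [IsLocalHom (algebraMap R S)]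
    (h : (maximalIdeal R).map (algebraMap R S) = maximalIdeal S) :
    Algebra.IsPushout R S (ResidueField R) (ResidueField S) := by
  rw [Algebra.isPushout_iff]
  let e : S ⊗[R] (R ⧸ maximalIdeal R) ≃ₗ[S] (S ⧸ maximalIdeal S) :=
    (Algebra.TensorProduct.quotIdealMapEquivTensorQuot S (maximalIdeal R)).symm.toLinearEquiv ≪≫ₗ
      (Ideal.quotientEquivAlgOfEq S h).toLinearEquiv
  refine IsBaseChange.of_equiv e fun x => ?_
  obtain ⟨a, rfl⟩ := Ideal.Quotient.mk_surjective x
  change (Ideal.quotientEquivAlgOfEq S h)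
    ((Algebra.TensorProduct.quotIdealMapEquivTensorQuot S (maximalIdeal R)).symm
      ((1 : S) ⊗ₜ[R] Ideal.Quotient.mk _ a)) = _
  have h2 : ((1 : S) ⊗ₜ[R] (Ideal.Quotient.mk (maximalIdeal R) a) : S ⊗[R] (R ⧸ maximalIdeal R)) =
      (Algebra.TensorProduct.quotIdealMapEquivTensorQuot S (maximalIdeal R))
        (Ideal.Quotient.mk _ (algebraMap R S a)) := by
    rw [Algebra.TensorProduct.quotIdealMapEquivTensorQuot_mk]
    rw [← mul_one (algebraMap R S a), ← Algebra.smul_def, TensorProduct.smul_tmul,
      ← Ideal.Quotient.algebraMap_eq, Algebra.smul_def, mul_one]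
  rw [h2, AlgEquiv.symm_apply_apply]
  rfl

section pieces

variable {V W : Type u} [CommRing V] [CommRing W] [Algebra V W]
  (p : Ideal V) [p.IsPrime] (P : Ideal W) [P.IsPrime] [P.LiesOver p]

/-- `κ(P) = W/P ⊗_{V/p} κ(p)` when `κ(P)/κ(p)` is algebraic. -/
theorem isPushout_quotient
    [Algebra (V ⧸ p) P.ResidueField] [IsScalarTower (V ⧸ p) (W ⧸ P) P.ResidueField]
    [Algebra p.ResidueField P.ResidueField] [IsScalarTower (V ⧸ p) p.ResidueField P.ResidueField]
    [Algebra.IsAlgebraic p.ResidueField P.ResidueField] :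
    Algebra.IsPushout (V ⧸ p) (W ⧸ P) p.ResidueField P.ResidueField := by
  have hinjVW : Function.Injective (algebraMap (V ⧸ p) (W ⧸ P)) :=
    FaithfulSMul.algebraMap_injective _ _
  have hinjW : Function.Injective (algebraMap (W ⧸ P) P.ResidueField) :=
    P.injective_algebraMap_quotient_residueField
  have h₁ : Algebra.algebraMapSubmonoid (W ⧸ P) (nonZeroDivisors (V ⧸ p)) ≤
      nonZeroDivisors (W ⧸ P) := by
    rintro _ ⟨v, hv, rfl⟩
    exact mem_nonZeroDivisors_of_ne_zero
      ((map_ne_zero_iff _ hinjVW).mpr (nonZeroDivisors.ne_zero hv))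
  have h₂ : ∀ n ∈ nonZeroDivisors (W ⧸ P),
      ∃ m ∈ Algebra.algebraMapSubmonoid (W ⧸ P) (nonZeroDivisors (V ⧸ p)), n ∣ m := by
    intro n hn
    have halg : IsAlgebraic (V ⧸ p) n := by
      rw [← isAlgebraic_algebraMap_iff (A := P.ResidueField) hinjW,
        IsFractionRing.isAlgebraic_iff (V ⧸ p) p.ResidueField P.ResidueField]
      exact Algebra.IsAlgebraic.isAlgebraic _
    obtain ⟨r, hr, hdvd⟩ := halg.exists_nonzero_dvd hn
    exact ⟨_, ⟨r, mem_nonZeroDivisors_of_ne_zero hr, rfl⟩, hdvd⟩
  have : IsLocalization (Algebra.algebraMapSubmonoid (W ⧸ P) (nonZeroDivisors (V ⧸ p)))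
      P.ResidueField :=
    (IsLocalization.iff_of_le_of_exists_dvd _ _ h₁ h₂).mpr inferInstance
  exact Algebra.isPushout_of_isLocalization (nonZeroDivisors (V ⧸ p)) p.ResidueField (W ⧸ P) P.ResidueField

/-- An extension of valuation rings `V → W` is étale as soon as `V_p → W_P` and `V/p → W/P` are. -/
theorem etale_of_pieces [IsDomain V] [ValuationRing V] [IsDomain W] [ValuationRing W]
    [Algebra (Localization.AtPrime p) (Localization.AtPrime P)]
    [Localization.AtPrime.IsLiesOverAlgebra p P]
    (hA : Algebra.Etale (Localization.AtPrime p) (Localization.AtPrime P))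
    (hB : Algebra.Etale (V ⧸ p) (W ⧸ P)) : Algebra.Etale V W := by
  let _ : Algebra (V ⧸ p) P.ResidueField :=
    ((algebraMap (W ⧸ P) P.ResidueField).comp (algebraMap (V ⧸ p) (W ⧸ P))).toAlgebra
  have _ : IsScalarTower (V ⧸ p) (W ⧸ P) P.ResidueField := .of_algebraMap_eq' rfl
  have _ : IsScalarTower (V ⧸ p) p.ResidueField P.ResidueField := by
    refine .of_algebraMap_eq' ?_
    refine Ideal.Quotient.ringHom_ext (RingHom.ext fun v => ?_)
    change algebraMap (W ⧸ P) P.ResidueField (algebraMap (V ⧸ p) (W ⧸ P) (Ideal.Quotient.mk p v)) =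
      algebraMap p.ResidueField P.ResidueField
        (algebraMap (V ⧸ p) p.ResidueField (Ideal.Quotient.mk p v))
    rw [Ideal.Quotient.algebraMap_mk_of_liesOver, Ideal.algebraMap_quotient_residueField_mk,
      Ideal.algebraMap_quotient_residueField_mk, ← IsScalarTower.algebraMap_apply,
      ← IsScalarTower.algebraMap_apply]
  have hmax : (maximalIdeal (Localization.AtPrime p)).map
      (algebraMap (Localization.AtPrime p) (Localization.AtPrime P)) =
      maximalIdeal (Localization.AtPrime P) :=
    Algebra.FormallyUnramified.map_maximalIdeal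
  have _ : Algebra.IsPushout (Localization.AtPrime p) (Localization.AtPrime P)
      p.ResidueField P.ResidueField := isPushout_residueField hmax
  have _ : Algebra.IsPushout (V ⧸ p) (W ⧸ P) p.ResidueField P.ResidueField :=
    isPushout_quotient p P
  have hsqV : EtMil.IsFibreSquare V (V ⧸ p) (Localization.AtPrime p) p.ResidueField :=
    isFibreSquare p (IsLocalization.injective _ p.primeCompl_le_nonZeroDivisors)
      (exists_mem_of_mem_maximalIdeal p)
  have hsqW : EtMil.IsFibreSquare W (W ⧸ P) (Localization.AtPrime P) P.ResidueField :=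
    isFibreSquare P (IsLocalization.injective _ P.primeCompl_le_nonZeroDivisors)
      (exists_mem_of_mem_maximalIdeal P)
  exact ((Groth.Agent.S6900.result V (V ⧸ p) (Localization.AtPrime p) p.ResidueField hsqV
    W (W ⧸ P) (Localization.AtPrime P) P.ResidueField hsqW).2.2.2.2).mpr ⟨hB, hA⟩

end pieces

end Groth.Agent.Helper9.ValMil1
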