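import Mathlib
import Groth.Agent.Helper9.IdealComap

/-!
# Valuation-ring probes through a point of a scheme (helper9)
-/

set_option autoImplicit false
universe u
open CategoryTheory CategoryTheory.Limits AlgebraicGeometry TopologicalSpace

namespace Groth.Agent.Helper9.ValProbe

/-- In a domain `A'` with a nonzero element `r`, there is a prime `𝔭` not containing `r` and maximal
for this property. -/
theorem exists_maximal_prime_notMem {A' : Type u} [CommRing A'] [IsDomain A'] (r : A') (hr : r ≠ 0) :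
    ∃ 𝔭 : Ideal A', 𝔭.IsPrime ∧ r ∉ 𝔭 ∧ ∀ Q : Ideal A', Q.IsPrime → 𝔭 ≤ Q → r ∉ Q → Q = 𝔭 := by
  set S := Submonoid.powers r
  have hdisj : Disjoint ((⊥ : Ideal A') : Set A') S := by
    rw [Set.disjoint_left]
    rintro x hx ⟨n, rfl⟩
    exact pow_ne_zero n hr hx
  have ⟨p, hIp, hp⟩ := zorn_le_nonempty₀ {p : Ideal A' | Disjoint (p : Set A') S}
    (fun c hc hc' x hx ↦ ?_) ⊥ hdisj
  · refine ⟨p, Ideal.isPrime_of_maximally_disjoint _ _ hp.1 (fun _ ↦ hp.not_prop_of_gt), ?_, ?_⟩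
    · intro hrp
      exact Set.disjoint_left.mp hp.1 hrp (Submonoid.mem_powers r)
    · intro Q hQ hpQ hrQ
      have hQd : Disjoint (Q : Set A') S := by
        rw [Set.disjoint_left]
        rintro x hx ⟨n, rfl⟩
        exact hrQ (hQ.mem_of_pow_mem n hx)
      exact (hp.eq_of_le hQd hpQ).symm
  · cases isEmpty_or_nonempty c
    · exact ⟨⊥, hdisj, fun J hJ ↦ isEmptyElim (⟨J, hJ⟩ : c)⟩
    refine ⟨sSup c, Set.disjoint_left.mpr fun x hx ↦ ?_, fun _ ↦ le_sSup⟩
    have ⟨p, hp⟩ := (Submodule.mem_iSup_of_directed _ hc'.directed).mp (sSup_eq_iSup' c ▸ hx)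
    exact Set.disjoint_left.mp (hc p.2) hp

/-- A valuation-ring probe: for a non-nilpotent element `g₀` of a local ring there is a local
homomorphism to a valuation ring `A` such that the image of `g₀` is nonzero and lies in every
nonzero prime of `A`. -/
theorem exists_valuationRing_probe {R₀ : Type u} [CommRing R₀] [IsLocalRing R₀] (g₀ : R₀)
    (hnil : ¬ IsNilpotent g₀) :
    ∃ (A : Type u) (_ : CommRing A) (_ : IsDomain A) (_ : ValuationRing A) (φ : R₀ →+* A),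
      IsLocalHom φ ∧ φ g₀ ≠ 0 ∧ ∀ P : Ideal A, P.IsPrime → P ≠ ⊥ → φ g₀ ∈ P := by
  have h2 : g₀ ∉ nilradical R₀ := hnil
  rw [nilradical_eq_sInf, Ideal.mem_sInf] at h2
  push Not at h2
  obtain ⟨𝔮, h𝔮, hg𝔮⟩ := h2
  have : 𝔮.IsPrime := h𝔮
  let K := FractionRing (R₀ ⧸ 𝔮)
  let f₀ : R₀ →+* K := (algebraMap (R₀ ⧸ 𝔮) K).comp (Ideal.Quotient.mk 𝔮)
  obtain ⟨A', hA, hloc⟩ := IsLocalRing.exists_factor_valuationRing f₀
  let φ' : R₀ →+* A' := f₀.codRestrict A'.toSubring hA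
  have hr' : φ' g₀ ≠ 0 := by
    intro h0
    have h3 : f₀ g₀ = 0 := congrArg Subtype.val h0
    have h4 : (Ideal.Quotient.mk 𝔮) g₀ = 0 :=
      (IsFractionRing.injective (R₀ ⧸ 𝔮) K) (h3.trans (map_zero _).symm)
    exact hg𝔮 (Ideal.Quotient.eq_zero_iff_mem.mp h4)
  obtain ⟨𝔭, h𝔭, hr𝔭, hmax⟩ := exists_maximal_prime_notMem (φ' g₀) hr'
  have hval : ValuationRing (A' ⧸ 𝔭) := by
    refine ValuationRing.iff_dvd_total.mpr ⟨fun a b => ?_⟩
    obtain ⟨a, rfl⟩ := Ideal.Quotient.mk_surjective a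
    obtain ⟨b, rfl⟩ := Ideal.Quotient.mk_surjective b
    rcases (ValuationRing.iff_dvd_total.mp (inferInstance : ValuationRing A')).total a b with h | h
    · exact Or.inl (map_dvd _ h)
    · exact Or.inr (map_dvd _ h)
  have hlocq : IsLocalHom (Ideal.Quotient.mk 𝔭) :=
    IsLocalHom.of_surjective _ Ideal.Quotient.mk_surjective
  refine ⟨A' ⧸ 𝔭, inferInstance, inferInstance, hval, (Ideal.Quotient.mk 𝔭).comp φ', ?_, ?_, ?_⟩
  · haveI : IsLocalHom φ' := hloc
    exact RingHom.isLocalHom_comp _ _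
  · intro h0
    exact hr𝔭 (Ideal.Quotient.eq_zero_iff_mem.mp h0)
  · intro P hP hPne
    by_contra hrP
    apply hPne
    have hQ : (P.comap (Ideal.Quotient.mk 𝔭)) = 𝔭 := by
      apply hmax _ (Ideal.comap_isPrime _ _)
      · intro x hx
        rw [Ideal.mem_comap, Ideal.Quotient.eq_zero_iff_mem.mpr hx]
        exact P.zero_mem
      · exact hrP
    rw [← Ideal.map_comap_of_surjective _ Ideal.Quotient.mk_surjective P, hQ, Ideal.map_quotient_self]

/-- Probing a scheme at `x` by `Spec A` through a ring hom `φ : 𝒪_{X,x} → A`. -/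
theorem probe {X : Scheme.{u}} (x : X) (W : X.affineOpens) (hxW : x ∈ W.1) {A : Type u} [CommRing A]
    (φ : X.presheaf.stalk x →+* A) (p : Spec (CommRingCat.of A) ⟶ X)
    (hp : p = Spec.map (CommRingCat.ofHom φ) ≫ X.fromSpecStalk x) :
    ∃ (hWaff : IsAffineOpen (p ⁻¹ᵁ W.1)) (θ : A ≃+* Γ(Spec (CommRingCat.of A), p ⁻¹ᵁ W.1)),
      p ⁻¹ᵁ W.1 = ⊤ ∧
      (∀ s, (p.app W.1).hom s = θ (φ (X.presheaf.germ W.1 x hxW s))) ∧
      (∀ (a : A) (y : Spec (CommRingCat.of A)),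
        y ∈ (Spec (CommRingCat.of A)).basicOpen (θ a) ↔ a ∉ y.asIdeal) ∧
      ∀ K : X.IdealSheafData,
        (K.comap p).ideal ⟨p ⁻¹ᵁ W.1, hWaff⟩ = Ideal.map (p.app W.1).hom (K.ideal W) := by
  subst hp
  set p : Spec (CommRingCat.of A) ⟶ X := Spec.map (CommRingCat.ofHom φ) ≫ X.fromSpecStalk x with hpdef
  have hpU : p ⁻¹ᵁ W.1 = ⊤ := by
    rw [eq_top_iff]
    intro y _
    change p y ∈ W.1
    have h1 : (X.fromSpecStalk x) ((Spec.map (CommRingCat.ofHom φ)) y) ∈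
        Set.range (X.fromSpecStalk x) := ⟨_, rfl⟩
    rw [Scheme.range_fromSpecStalk] at h1
    exact h1.mem_open W.1.isOpen hxW
  have hWaff : IsAffineOpen (p ⁻¹ᵁ W.1) := hpU ▸ isAffineOpen_top _
  have hformula : p.app W.1 = X.presheaf.germ W.1 x hxW ≫ CommRingCat.ofHom φ ≫
      (Scheme.ΓSpecIso (CommRingCat.of A)).inv ≫
      (Spec (CommRingCat.of A)).presheaf.map (homOfLE (le_top : p ⁻¹ᵁ W.1 ≤ ⊤)).op := by
    simp only [p, Scheme.Hom.comp_app, Scheme.fromSpecStalk_app hxW, Category.assoc]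
    congr 1
    have h1 := (Spec.map (CommRingCat.ofHom φ)).naturality
      (homOfLE (le_top : X.fromSpecStalk x ⁻¹ᵁ W.1 ≤ ⊤)).op
    have h2 := Scheme.ΓSpecIso_inv_naturality (CommRingCat.ofHom φ)
    refine (congrArg (fun t => (Scheme.ΓSpecIso (X.presheaf.stalk x)).inv ≫ t) h1).trans ?_
    refine (Category.assoc _ _ _).symm.trans ?_
    refine (congrArg (fun t => t ≫ (Spec (CommRingCat.of A)).presheaf.map
      ((TopologicalSpace.Opens.map (Spec.map (CommRingCat.ofHom φ)).base).map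
        (homOfLE (le_top : X.fromSpecStalk x ⁻¹ᵁ W.1 ≤ ⊤)).op.unop).op) h2.symm).trans ?_
    exact Category.assoc _ _ _
  let θ' : CommRingCat.of A ⟶ Γ(Spec (CommRingCat.of A), p ⁻¹ᵁ W.1) :=
    (Scheme.ΓSpecIso (CommRingCat.of A)).inv ≫
      (Spec (CommRingCat.of A)).presheaf.map (homOfLE (le_top : p ⁻¹ᵁ W.1 ≤ ⊤)).op
  have hθiso : IsIso θ' := by
    have key : ∀ (V : (Spec (CommRingCat.of A)).Opens) (hV : V = ⊤),
        IsIso ((Spec (CommRingCat.of A)).presheaf.map (homOfLE (le_top : V ≤ ⊤)).op) := by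
      intro V hV
      subst hV
      have : (homOfLE (le_top : (⊤ : (Spec (CommRingCat.of A)).Opens) ≤ ⊤)) = 𝟙 _ := rfl
      rw [this, op_id, CategoryTheory.Functor.map_id]
      infer_instance
    have := key _ hpU
    infer_instance
  have hθbij : Function.Bijective θ'.hom := ConcreteCategory.bijective_of_isIso θ'
  refine ⟨hWaff, RingEquiv.ofBijective θ'.hom hθbij, hpU, ?_, ?_, ?_⟩
  · intro s
    rw [hformula]; rfl
  · intro a y
    change y ∈ (Spec (CommRingCat.of A)).basicOpen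
      (((Spec (CommRingCat.of A)).presheaf.map (homOfLE (le_top : p ⁻¹ᵁ W.1 ≤ ⊤)).op).hom
        ((Scheme.ΓSpecIso (CommRingCat.of A)).inv.hom a)) ↔ _
    rw [Scheme.basicOpen_res, basicOpen_eq_of_affine, hpU]
    constructor
    · intro h
      exact (PrimeSpectrum.mem_basicOpen a y).mp h.2
    · intro h
      exact ⟨trivial, (PrimeSpectrum.mem_basicOpen a y).mpr h⟩
  · intro K
    rw [Groth.Agent.Helper9.IdealComap.ideal_comap p K W ⟨p ⁻¹ᵁ W.1, hWaff⟩ le_rfl,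
      ← Scheme.Hom.app_eq_appLE]

end Groth.Agent.Helper9.ValProbe
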