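import Mathlib
set_option autoImplicit false

namespace Groth.Agent.Helper9.VdmSq

open MvPolynomial Matrix Finset

lemma prod_X_pow {n : ℕ} (e : Fin n → ℕ) :
    (∏ i : Fin n, (X i : MvPolynomial (Fin n) ℤ) ^ e i) = monomial (Finsupp.equivFunOnFinite.symm e) 1 := by
  rw [MvPolynomial.monomial_eq, Finsupp.prod_fintype _ _ (by simp)]
  simp

lemma eV (n : ℕ) : (vandermonde (fun i : Fin n => (X i : MvPolynomial (Fin n) ℤ))).det =
    ∑ σ : Equiv.Perm (Fin n), ((Equiv.Perm.sign σ : ℤ) : MvPolynomial (Fin n) ℤ) *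
      monomial (Finsupp.equivFunOnFinite.symm (fun i => ((σ i : Fin n) : ℕ))) 1 := by
  rw [← Matrix.det_transpose, Matrix.det_apply']
  refine Finset.sum_congr rfl fun σ _ => ?_
  congr 1
  rw [← prod_X_pow]
  simp [vandermonde_apply]

lemma eW (n : ℕ) : (projVandermonde (1 : Fin n → MvPolynomial (Fin n) ℤ)
      (fun i : Fin n => (X i : MvPolynomial (Fin n) ℤ))).det =
    ∑ σ : Equiv.Perm (Fin n), ((Equiv.Perm.sign σ : ℤ) : MvPolynomial (Fin n) ℤ) *
      monomial (Finsupp.equivFunOnFinite.symm (fun i => n - 1 - ((σ i : Fin n) : ℕ))) 1 := by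
  rw [← Matrix.det_transpose, Matrix.det_apply']
  refine Finset.sum_congr rfl fun σ _ => ?_
  congr 1
  rw [← prod_X_pow]
  refine Finset.prod_congr rfl fun i _ => ?_
  simp only [transpose_apply, projVandermonde_apply, Pi.one_apply, one_pow, one_mul, Fin.val_rev]
  congr 1
  omega

theorem main (n : ℕ) :
    MvPolynomial.coeff (Finsupp.equivFunOnFinite.symm (fun _ : Fin n => n - 1))
      (∏ i : Fin n, ∏ j ∈ Finset.univ.erase i,
        (MvPolynomial.X i - MvPolynomial.X j : MvPolynomial (Fin n) ℤ)) = (n.factorial : ℤ) := by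
  have hsplit : (∏ i : Fin n, ∏ j ∈ Finset.univ.erase i, (X i - X j : MvPolynomial (Fin n) ℤ)) =
      (∏ i : Fin n, ∏ j ∈ Finset.Ioi i, (X i - X j : MvPolynomial (Fin n) ℤ)) *
        (∏ i : Fin n, ∏ j ∈ Finset.Iio i, (X i - X j : MvPolynomial (Fin n) ℤ)) := by
    rw [← Finset.prod_mul_distrib]
    refine Finset.prod_congr rfl fun i _ => ?_
    rw [← Finset.prod_union]
    · congr 1
      ext j
      simp only [mem_erase, mem_univ, and_true, mem_union, mem_Ioi, mem_Iio]
      constructor
      · intro h; rcases lt_or_gt_of_ne h with h | h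
        · right; exact h
        · left; exact h
      · rintro (h | h)
        · exact h.ne'
        · exact h.ne
    · rw [Finset.disjoint_left]
      intro j hj hj'
      simp only [mem_Ioi, mem_Iio] at hj hj'
      exact absurd hj (not_lt.mpr hj'.le)
  have hW : (∏ i : Fin n, ∏ j ∈ Finset.Ioi i, (X i - X j : MvPolynomial (Fin n) ℤ)) =
      (projVandermonde (1 : Fin n → MvPolynomial (Fin n) ℤ)
        (fun i : Fin n => (X i : MvPolynomial (Fin n) ℤ))).det := by
    rw [det_projVandermonde]; simp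
  have hV : (∏ i : Fin n, ∏ j ∈ Finset.Iio i, (X i - X j : MvPolynomial (Fin n) ℤ)) =
      (vandermonde (fun i : Fin n => (X i : MvPolynomial (Fin n) ℤ))).det := by
    rw [det_vandermonde]
    exact Finset.prod_comm' (by simp)
  rw [hsplit, hW, hV, eW, eV, Finset.sum_mul_sum]
  simp only [MvPolynomial.coeff_sum]
  have hterm : ∀ σ τ : Equiv.Perm (Fin n),
      coeff (Finsupp.equivFunOnFinite.symm (fun _ : Fin n => n - 1))
        (((Equiv.Perm.sign σ : ℤ) : MvPolynomial (Fin n) ℤ) *
          monomial (Finsupp.equivFunOnFinite.symm (fun i => n - 1 - ((σ i : Fin n) : ℕ))) 1 *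
        (((Equiv.Perm.sign τ : ℤ) : MvPolynomial (Fin n) ℤ) *
          monomial (Finsupp.equivFunOnFinite.symm (fun i => ((τ i : Fin n) : ℕ))) 1)) =
      if σ = τ then 1 else 0 := by
    intro σ τ
    have e1 : (((Equiv.Perm.sign σ : ℤ) : MvPolynomial (Fin n) ℤ) *
          monomial (Finsupp.equivFunOnFinite.symm (fun i => n - 1 - ((σ i : Fin n) : ℕ))) 1 *
        (((Equiv.Perm.sign τ : ℤ) : MvPolynomial (Fin n) ℤ) *
          monomial (Finsupp.equivFunOnFinite.symm (fun i => ((τ i : Fin n) : ℕ))) 1)) =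
        monomial (Finsupp.equivFunOnFinite.symm (fun i => n - 1 - ((σ i : Fin n) : ℕ)) +
          Finsupp.equivFunOnFinite.symm (fun i => ((τ i : Fin n) : ℕ)))
          ((Equiv.Perm.sign σ : ℤ) * (Equiv.Perm.sign τ : ℤ)) := by
      have hc : ∀ z : ℤ, ((z : ℤ) : MvPolynomial (Fin n) ℤ) = C z := by
        intro z; rw [← map_intCast (C : ℤ →+* MvPolynomial (Fin n) ℤ), Int.cast_id]
      rw [hc, hc]
      simp only [MvPolynomial.C_mul_monomial, MvPolynomial.monomial_mul, mul_one]
    rw [e1, MvPolynomial.coeff_monomial]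
    by_cases hστ : σ = τ
    · rw [if_pos hστ, if_pos]
      · rw [hστ, ← Units.val_mul, Int.units_mul_self]; rfl
      · rw [hστ]
        ext i
        simp only [Finsupp.coe_add, Pi.add_apply, Finsupp.equivFunOnFinite_symm_apply_apply]
        have := (τ i).isLt
        omega
    · rw [if_neg hστ, if_neg]
      intro h
      apply hστ
      ext i
      have := DFunLike.congr_fun h i
      simp only [Finsupp.coe_add, Pi.add_apply, Finsupp.equivFunOnFinite_symm_apply_apply] at this
      have h1 := (τ i).isLt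
      have h2 := (σ i).isLt
      omega
  simp only [hterm]
  simp [Fintype.card_perm]

end Groth.Agent.Helper9.VdmSq
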