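import Mathlib

set_option autoImplicit false
universe u

namespace Groth.Agent.Helper9.Verlinde

open Finset

/-- Symmetric functions vanishing off injective tuples: total sum is `m!` times the sum over
strictly monotone tuples. -/
theorem sum_eq_factorial_mul_sum_strictMono {m : ℕ} {α : Type*} [LinearOrder α] [Fintype α]
    {β : Type*} [CommRing β] (F : (Fin m → α) → β)
    (hsymm : ∀ (u : Fin m → α) (π : Equiv.Perm (Fin m)), F (u ∘ π) = F u)
    (hdiag : ∀ u, ¬ Function.Injective u → F u = 0) :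
    ∑ u : Fin m → α, F u = (m.factorial : β) * ∑ u ∈ univ.filter (fun u : Fin m → α => StrictMono u), F u := by
  classical
  have h1 : ∑ u : Fin m → α, F u = ∑ u ∈ univ.filter (fun u : Fin m → α => Function.Injective u), F u := by
    rw [Finset.sum_filter]
    refine Finset.sum_congr rfl fun u _ => ?_
    split_ifs with h
    · rfl
    · exact hdiag u h
  have h2 : (m.factorial : β) * ∑ u ∈ univ.filter (fun u : Fin m → α => StrictMono u), F u =
      ∑ p ∈ (univ : Finset (Equiv.Perm (Fin m))) ×ˢ univ.filter (fun u : Fin m → α => StrictMono u), F (p.2 ∘ p.1) := by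
    rw [Finset.sum_product]
    simp only [hsymm]
    rw [Finset.sum_const, Finset.card_univ, Fintype.card_perm, Fintype.card_fin, nsmul_eq_mul]
  rw [h1, h2]
  symm
  refine Finset.sum_bij (fun p _ => p.2 ∘ p.1) ?_ ?_ ?_ ?_
  · intro p hp
    rw [Finset.mem_product, Finset.mem_filter] at hp
    rw [Finset.mem_filter]
    exact ⟨Finset.mem_univ _, hp.2.2.injective.comp p.1.injective⟩
  · intro p hp q hq hpq
    rw [Finset.mem_product, Finset.mem_filter] at hp hq
    have hw : p.2 = q.2 := by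
      have e1 : q.2 = p.2 ∘ (p.1 * q.1⁻¹) := by
        ext i
        have := congrFun hpq (q.1⁻¹ i)
        simp only [Function.comp_apply] at this
        rw [Equiv.Perm.inv_def, Equiv.apply_symm_apply] at this
        simp only [Function.comp_apply, Equiv.Perm.coe_mul, Equiv.Perm.inv_def]
        exact this.symm
      have := Tuple.unique_monotone (f := p.2) (σ := 1) (τ := p.1 * q.1⁻¹)
        (by simpa using hp.2.2.monotone) (by rw [← e1]; exact hq.2.2.monotone)
      rw [← e1] at this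
      simpa using this
    have hπ : p.1 = q.1 := by
      ext i
      have := congrFun hpq i
      simp only [Function.comp_apply, hw] at this
      exact congrArg _ (hq.2.2.injective this)
    exact Prod.ext hπ hw
  · intro u hu
    rw [Finset.mem_filter] at hu
    refine ⟨((Tuple.sort u)⁻¹, u ∘ Tuple.sort u), ?_, ?_⟩
    · rw [Finset.mem_product, Finset.mem_filter]
      refine ⟨Finset.mem_univ _, Finset.mem_univ _, ?_⟩
      exact (Tuple.monotone_sort u).strictMono_of_injective (hu.2.comp (Tuple.sort u).injective)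
    · ext i
      simp
  · intro p _
    rfl

theorem sum_eq_factorial_mul_sum_strictAnti {m : ℕ} {α : Type*} [LinearOrder α] [Fintype α]
    {β : Type*} [CommRing β] (F : (Fin m → α) → β)
    (hsymm : ∀ (u : Fin m → α) (π : Equiv.Perm (Fin m)), F (u ∘ π) = F u)
    (hdiag : ∀ u, ¬ Function.Injective u → F u = 0) :
    ∑ u : Fin m → α, F u = (m.factorial : β) * ∑ u ∈ univ.filter (fun u : Fin m → α => StrictAnti u), F u := by
  classical
  rw [sum_eq_factorial_mul_sum_strictMono F hsymm hdiag]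
  congr 1
  refine Finset.sum_bij' (fun u _ => u ∘ Fin.revPerm) (fun u _ => u ∘ Fin.revPerm) ?_ ?_ ?_ ?_ ?_
  · intro u hu
    rw [Finset.mem_filter] at hu ⊢
    refine ⟨Finset.mem_univ _, ?_⟩
    intro i j hij
    exact hu.2 (Fin.rev_lt_rev.2 hij)
  · intro u hu
    rw [Finset.mem_filter] at hu ⊢
    refine ⟨Finset.mem_univ _, ?_⟩
    intro i j hij
    exact hu.2 (Fin.rev_lt_rev.2 hij)
  · intro u _
    ext i; simp
  · intro u _
    ext i; simp
  · intro u _
    exact (hsymm u Fin.revPerm).symm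

/-- geometric sum of a root of unity -/
theorem sum_pow_root (N : ℕ) (hN : 0 < N) (ω : ℂ) (hω : ω ^ N = 1) :
    ∑ a : Fin N, ω ^ (a : ℕ) = if ω = 1 then (N : ℂ) else 0 := by
  rw [Fin.sum_univ_eq_sum_range (fun a => ω ^ a) N]
  split_ifs with h
  · subst h; simp
  · have := mul_neg_geom_sum ω N
    rw [hω, sub_self] at this
    rcases mul_eq_zero.1 this with h1 | h1
    · exact absurd (sub_eq_zero.1 h1).symm h
    · exact h1

/-- character sum over all tuples -/
theorem sum_prod_pow (N : ℕ) (hN : 0 < N) (m : ℕ) (ω : Fin m → ℂ) (hω : ∀ j, ω j ^ N = 1) :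
    ∑ u : Fin m → Fin N, ∏ j, ω j ^ (u j : ℕ) = ∏ j, (if ω j = 1 then (N : ℂ) else 0) := by
  have := Finset.prod_univ_sum (fun _ : Fin m => (univ : Finset (Fin N))) (fun j a => ω j ^ (a : ℕ))
  rw [Fintype.piFinset_univ] at this
  rw [← this]
  refine Finset.prod_congr rfl fun j _ => ?_
  exact sum_pow_root N hN (ω j) (hω j)

/-- two permutations agreeing off the last point agree -/
theorem perm_eq_of_castSucc {m : ℕ} (σ τ : Equiv.Perm (Fin (m + 1)))
    (h : ∀ j : Fin m, σ j.castSucc = τ j.castSucc) : σ = τ := by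
  have key : ∀ i, (τ⁻¹ * σ) i = i := by
    have hfix : ∀ j : Fin m, (τ⁻¹ * σ) j.castSucc = j.castSucc := by
      intro j
      simp [Equiv.Perm.mul_apply, h j]
    intro i
    refine Fin.lastCases ?_ (fun j => hfix j) i
    -- the last point
    by_contra hne
    obtain ⟨j, hj⟩ : ∃ j : Fin m, (τ⁻¹ * σ) (Fin.last m) = j.castSucc := by
      refine ⟨((τ⁻¹ * σ) (Fin.last m)).castPred hne, ?_⟩
      simp
    have := (τ⁻¹ * σ).injective (hj.trans (hfix j).symm)
    exact (Fin.castSucc_lt_last j).ne this.symm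
  ext i
  have := key i
  rw [Equiv.Perm.mul_apply, Equiv.Perm.inv_def, Equiv.symm_apply_eq] at this
  rw [this]

/-- the primitive root -/
noncomputable def zeta (N : ℕ) : ℂ := Complex.exp (2 * Real.pi * Complex.I / N)

theorem zeta_prim (N : ℕ) (hN : N ≠ 0) : IsPrimitiveRoot (zeta N) N := Complex.isPrimitiveRoot_exp N hN

theorem conj_zeta (N : ℕ) : (starRingEnd ℂ) (zeta N) = (zeta N)⁻¹ := by
  unfold zeta
  rw [← Complex.exp_conj, ← Complex.exp_neg]
  congr 1
  simp only [map_div₀, map_mul, map_ofNat, Complex.conj_ofReal, Complex.conj_I, map_natCast]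
  ring

/-- the Vandermonde determinant of a tuple of exponents -/
noncomputable def vdm {r : ℕ} (N : ℕ) (v : Fin r → ℕ) : ℂ :=
  (Matrix.vandermonde (fun j => zeta N ^ (v j))).det

theorem vdm_expand {r : ℕ} (N : ℕ) (v : Fin r → ℕ) :
    vdm N v = ∑ σ : Equiv.Perm (Fin r), ((Equiv.Perm.sign σ : ℤ) : ℂ) * ∏ i, (zeta N ^ ((σ i : ℕ))) ^ (v i) := by
  unfold vdm
  rw [← Matrix.det_transpose, Matrix.det_apply']
  refine Finset.sum_congr rfl fun σ _ => ?_
  congr 1
  refine Finset.prod_congr rfl fun i _ => ?_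
  rw [Matrix.transpose_apply, Matrix.vandermonde_apply, ← pow_mul, ← pow_mul, mul_comm]

theorem conj_vdm_expand {r : ℕ} (N : ℕ) (v : Fin r → ℕ) :
    (starRingEnd ℂ) (vdm N v) =
      ∑ τ : Equiv.Perm (Fin r), ((Equiv.Perm.sign τ : ℤ) : ℂ) * ∏ i, ((zeta N)⁻¹ ^ ((τ i : ℕ))) ^ (v i) := by
  rw [vdm_expand, map_sum]
  refine Finset.sum_congr rfl fun τ _ => ?_
  rw [map_mul, map_intCast, map_prod]
  congr 1
  refine Finset.prod_congr rfl fun i _ => ?_
  rw [map_pow, map_pow, conj_zeta]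

theorem stepB (m k : ℕ) (hk : 1 ≤ k) :
    ∑ u : Fin m → Fin (m + 1 + k),
      vdm (m + 1 + k) (fun i => ((Fin.snoc (α := fun _ => Fin (m + 1 + k)) u 0 : Fin (m + 1) → Fin (m + 1 + k)) i : ℕ)) *
      (starRingEnd ℂ) (vdm (m + 1 + k)
        (fun i => ((Fin.snoc (α := fun _ => Fin (m + 1 + k)) u 0 : Fin (m + 1) → Fin (m + 1 + k)) i : ℕ))) =
      ((m + 1).factorial : ℂ) * ((m + 1 + k : ℕ) : ℂ) ^ m := by
  set N := m + 1 + k with hNdef
  have hN : N ≠ 0 := by omega
  have hprim := zeta_prim N hN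
  have hz0 : zeta N ≠ 0 := hprim.ne_zero hN
  -- expand
  have h1 : ∀ u : Fin m → Fin N,
      vdm N (fun i => ((Fin.snoc (α := fun _ => Fin N) u 0 : Fin (m + 1) → Fin N) i : ℕ)) *
      (starRingEnd ℂ) (vdm N (fun i => ((Fin.snoc (α := fun _ => Fin N) u 0 : Fin (m + 1) → Fin N) i : ℕ))) =
      ∑ σ : Equiv.Perm (Fin (m + 1)), ∑ τ : Equiv.Perm (Fin (m + 1)),
        (((Equiv.Perm.sign σ : ℤ) : ℂ) * ((Equiv.Perm.sign τ : ℤ) : ℂ)) *
          ∏ j : Fin m, (zeta N ^ ((σ j.castSucc : ℕ)) * (zeta N)⁻¹ ^ ((τ j.castSucc : ℕ))) ^ ((u j : ℕ)) := by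
    intro u
    rw [conj_vdm_expand, vdm_expand, Finset.sum_mul_sum]
    refine Finset.sum_congr rfl fun σ _ => Finset.sum_congr rfl fun τ _ => ?_
    rw [mul_mul_mul_comm, ← Finset.prod_mul_distrib]
    congr 1
    rw [Fin.prod_univ_castSucc]
    simp only [Fin.snoc_castSucc, Fin.snoc_last, Fin.val_zero, pow_zero, mul_one, mul_pow]
  rw [Finset.sum_congr rfl (fun u _ => h1 u)]
  rw [Finset.sum_comm]
  rw [Finset.sum_congr rfl (fun σ _ => Finset.sum_comm)]
  simp_rw [← Finset.mul_sum]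
  have h2 : ∀ σ τ : Equiv.Perm (Fin (m + 1)),
      ∑ u : Fin m → Fin N, ∏ j : Fin m,
        (zeta N ^ ((σ j.castSucc : ℕ)) * (zeta N)⁻¹ ^ ((τ j.castSucc : ℕ))) ^ ((u j : ℕ)) =
      if σ = τ then (N : ℂ) ^ m else 0 := by
    intro σ τ
    rw [sum_prod_pow N (by omega) m]
    · split_ifs with h
      · subst h
        rw [Finset.prod_eq_pow_card (b := (N : ℂ))]
        · simp
        · intro j _
          rw [if_pos]
          rw [inv_pow, mul_inv_cancel₀ (pow_ne_zero _ hz0)]
      · have : ∃ j : Fin m, σ j.castSucc ≠ τ j.castSucc := by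
          by_contra hcon
          push Not at hcon
          exact h (perm_eq_of_castSucc σ τ hcon)
        obtain ⟨j, hj⟩ := this
        refine Finset.prod_eq_zero (Finset.mem_univ j) ?_
        rw [if_neg]
        intro h1
        rw [inv_pow, mul_inv_eq_one₀ (pow_ne_zero _ hz0)] at h1
        have hlt1 : (σ j.castSucc : ℕ) < N := by have := (σ j.castSucc).isLt; omega
        have hlt2 : (τ j.castSucc : ℕ) < N := by have := (τ j.castSucc).isLt; omega
        exact hj (Fin.ext (hprim.pow_inj hlt1 hlt2 h1))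
    · intro j
      rw [mul_pow, ← pow_mul, ← pow_mul, mul_comm _ N, mul_comm _ N, pow_mul, pow_mul, inv_pow, hprim.pow_eq_one]
      simp
  have h4 : ∀ σ : Equiv.Perm (Fin (m + 1)), ∑ τ : Equiv.Perm (Fin (m + 1)),
      (((Equiv.Perm.sign σ : ℤ) : ℂ) * ((Equiv.Perm.sign τ : ℤ) : ℂ)) *
        ∑ u : Fin m → Fin N, ∏ j : Fin m,
          (zeta N ^ ((σ j.castSucc : ℕ)) * (zeta N)⁻¹ ^ ((τ j.castSucc : ℕ))) ^ ((u j : ℕ)) =
      (((Equiv.Perm.sign σ : ℤ) : ℂ) * ((Equiv.Perm.sign σ : ℤ) : ℂ)) * (N : ℂ) ^ m := by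
    intro σ
    rw [Finset.sum_eq_single σ]
    · rw [h2, if_pos rfl]
    · intro τ _ hτ
      rw [h2, if_neg (Ne.symm hτ), mul_zero]
    · intro h; exact absurd (Finset.mem_univ σ) h
  rw [Finset.sum_congr rfl (fun σ _ => h4 σ)]
  have h3 : ∀ σ : Equiv.Perm (Fin (m + 1)), (((Equiv.Perm.sign σ : ℤ) : ℂ) * ((Equiv.Perm.sign σ : ℤ) : ℂ)) = 1 := by
    intro σ
    rcases Int.units_eq_one_or (Equiv.Perm.sign σ) with h | h <;> simp [h]
  simp_rw [h3, one_mul]
  rw [Finset.sum_const, Finset.card_univ, Fintype.card_perm, Fintype.card_fin, nsmul_eq_mul]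

theorem zeta_pow (N : ℕ) (a : ℕ) :
    zeta N ^ a = (Real.cos (2 * Real.pi * a / N) : ℂ) + (Real.sin (2 * Real.pi * a / N) : ℂ) * Complex.I := by
  unfold zeta
  rw [← Complex.exp_nat_mul]
  have : (a : ℂ) * (2 * Real.pi * Complex.I / N) = ((2 * Real.pi * a / N : ℝ) : ℂ) * Complex.I := by
    push_cast; ring
  rw [this, Complex.exp_mul_I, Complex.ofReal_cos, Complex.ofReal_sin]

theorem normSq_zeta_sub (N : ℕ) (a b : ℕ) :
    Complex.normSq (zeta N ^ b - zeta N ^ a) = (2 * Real.sin (Real.pi * ((a : ℝ) - b) / N)) ^ 2 := by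
  rw [zeta_pow, zeta_pow, Complex.normSq_apply]
  simp only [Complex.sub_re, Complex.add_re, Complex.ofReal_re, Complex.mul_re, Complex.ofReal_im,
    Complex.I_re, Complex.I_im, mul_zero, mul_one, sub_zero, zero_mul, Complex.sub_im, Complex.add_im,
    Complex.mul_im, add_zero, zero_add]
  have h1 : Real.pi * ((a : ℝ) - b) / N = (2 * Real.pi * a / N - 2 * Real.pi * b / N) / 2 := by ring
  rw [h1, mul_pow, Real.sin_sq_eq_half_sub]
  have h2 : 2 * ((2 * Real.pi * a / N - 2 * Real.pi * b / N) / 2) = 2 * Real.pi * a / N - 2 * Real.pi * b / N := by ring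
  rw [h2, Real.cos_sub]
  have e1 := Real.sin_sq_add_cos_sq (2 * Real.pi * a / N)
  have e2 := Real.sin_sq_add_cos_sq (2 * Real.pi * b / N)
  nlinarith [e1, e2]

theorem prod_pairs {r : ℕ} {β : Type*} [CommMonoid β] (f : Fin r → Fin r → β) :
    ∏ p ∈ (Finset.univ : Finset (Fin r × Fin r)).filter (fun p => p.1 < p.2), f p.1 p.2 =
      ∏ i, ∏ j ∈ Finset.Ioi i, f i j := by
  rw [Finset.prod_filter, ← Finset.univ_product_univ, Finset.prod_product]
  refine Finset.prod_congr rfl fun i _ => ?_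
  rw [← Finset.prod_filter]
  congr 1
  ext j
  simp

theorem vdm_mul_conj {r : ℕ} (N : ℕ) (v : Fin r → ℕ) :
    vdm N v * (starRingEnd ℂ) (vdm N v) =
      ((∏ p ∈ (Finset.univ : Finset (Fin r × Fin r)).filter (fun p => p.1 < p.2),
        ((2 : ℝ) * Real.sin (Real.pi * ((v p.1 : ℝ) - (v p.2 : ℝ)) / (N : ℝ))) ^ 2 : ℝ) : ℂ) := by
  rw [Complex.mul_conj, prod_pairs (fun i j => ((2 : ℝ) * Real.sin (Real.pi * ((v i : ℝ) - (v j : ℝ)) / (N : ℝ))) ^ 2)]
  congr 1
  unfold vdm
  rw [Matrix.det_vandermonde, map_prod]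
  refine Finset.prod_congr rfl fun i _ => ?_
  rw [map_prod]
  refine Finset.prod_congr rfl fun j _ => ?_
  exact normSq_zeta_sub N (v i) (v j)


/-- the summand as a function of the first `m` coordinates -/
noncomputable def Fsum (m k : ℕ) (u : Fin m → Fin (m + 1 + k)) : ℂ :=
  vdm (m + 1 + k) (fun i => ((Fin.snoc (α := fun _ => Fin (m + 1 + k)) u 0 : Fin (m + 1) → Fin (m + 1 + k)) i : ℕ)) *
    (starRingEnd ℂ) (vdm (m + 1 + k)
      (fun i => ((Fin.snoc (α := fun _ => Fin (m + 1 + k)) u 0 : Fin (m + 1) → Fin (m + 1 + k)) i : ℕ)))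

theorem vdm_eq_zero {r : ℕ} (N : ℕ) (hN : N ≠ 0) (v : Fin r → Fin N) (hv : ¬ Function.Injective v) :
    vdm N (fun i => (v i : ℕ)) = 0 := by
  unfold vdm
  rw [Matrix.det_vandermonde_eq_zero_iff]
  rw [Function.Injective] at hv
  push Not at hv
  obtain ⟨i, j, hij, hne⟩ := hv
  exact ⟨i, j, by simp only [hij], hne⟩

theorem vdm_perm {r : ℕ} (N : ℕ) (v : Fin r → ℕ) (π : Equiv.Perm (Fin r)) :
    vdm N (v ∘ π) = ((Equiv.Perm.sign π : ℤ) : ℂ) * vdm N v := by
  unfold vdm
  rw [← Matrix.det_permute]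
  congr 1

theorem Fsum_zero (m k : ℕ) (u : Fin m → Fin (m + 1 + k))
    (hu : ¬ Function.Injective (Fin.snoc (α := fun _ => Fin (m + 1 + k)) u 0 : Fin (m + 1) → Fin (m + 1 + k))) :
    Fsum m k u = 0 := by
  unfold Fsum
  rw [vdm_eq_zero (m + 1 + k) (by omega) _ hu, zero_mul]

theorem Fsum_symm (m k : ℕ) (u : Fin m → Fin (m + 1 + k)) (π : Equiv.Perm (Fin m)) :
    Fsum m k (u ∘ π) = Fsum m k u := by
  unfold Fsum
  have h1 : (fun i => ((Fin.snoc (α := fun _ => Fin (m + 1 + k)) (u ∘ π) 0 : Fin (m + 1) → Fin (m + 1 + k)) i : ℕ)) =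
      (fun i => ((Fin.snoc (α := fun _ => Fin (m + 1 + k)) u 0 : Fin (m + 1) → Fin (m + 1 + k)) i : ℕ)) ∘
        (π.viaFintypeEmbedding Fin.castSuccEmb) := by
    ext i
    refine Fin.lastCases ?_ (fun j => ?_) i
    · have : (π.viaFintypeEmbedding Fin.castSuccEmb) (Fin.last m) = Fin.last m := by
        apply Equiv.Perm.viaFintypeEmbedding_apply_notMem_range
        rintro ⟨j, hj⟩
        exact (Fin.castSucc_lt_last j).ne hj
      simp [this]
    · have : (π.viaFintypeEmbedding Fin.castSuccEmb) j.castSucc = (π j).castSucc :=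
        Equiv.Perm.viaFintypeEmbedding_apply_image _ _ _
      simp [this]
  rw [h1, vdm_perm, map_mul, map_intCast, mul_mul_mul_comm]
  have h3 : (((Equiv.Perm.sign (π.viaFintypeEmbedding Fin.castSuccEmb) : ℤ) : ℂ) *
      ((Equiv.Perm.sign (π.viaFintypeEmbedding Fin.castSuccEmb) : ℤ) : ℂ)) = 1 := by
    rcases Int.units_eq_one_or (Equiv.Perm.sign (π.viaFintypeEmbedding Fin.castSuccEmb)) with h | h <;> simp [h]
  rw [h3, one_mul]

theorem main (m k : ℕ) (hk : 1 ≤ k) :
    (∑ v ∈ (Finset.univ : Finset (Fin (m + 1) → Fin (m + 1 + k))).filter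
        (fun v : Fin (m + 1) → Fin (m + 1 + k) => StrictAnti v ∧ ∀ i : Fin (m + 1), (i : ℕ) = m + 1 - 1 → (v i : ℕ) = 0),
      ∏ p ∈ (Finset.univ : Finset (Fin (m + 1) × Fin (m + 1))).filter (fun p => p.1 < p.2),
        ((2 : ℝ) * Real.sin (Real.pi * ((v p.1 : ℕ) - (v p.2 : ℕ) : ℝ) / (((m + 1 : ℕ) : ℝ) + k))) ^ 2) =
      ((m + 1 : ℕ) : ℝ) * (((m + 1 : ℕ) : ℝ) + k) ^ (m + 1 - 1) := by
  classical
  set N := m + 1 + k with hNdef
  have hNcast : (((m + 1 : ℕ) : ℝ) + k) = (N : ℝ) := by rw [hNdef]; push_cast; ring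
  rw [hNcast]
  apply Complex.ofReal_injective
  rw [Complex.ofReal_sum]
  have hA : ∀ v : Fin (m + 1) → Fin N,
      ((∏ p ∈ (Finset.univ : Finset (Fin (m + 1) × Fin (m + 1))).filter (fun p => p.1 < p.2),
        ((2 : ℝ) * Real.sin (Real.pi * ((v p.1 : ℕ) - (v p.2 : ℕ) : ℝ) / (N : ℝ))) ^ 2 : ℝ) : ℂ) =
      vdm N (fun i => (v i : ℕ)) * (starRingEnd ℂ) (vdm N (fun i => (v i : ℕ))) :=
    fun v => (vdm_mul_conj N (fun i => (v i : ℕ))).symm
  rw [Finset.sum_congr rfl (fun v _ => hA v)]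
  -- the total sum
  have hB := stepB m k hk
  have hC := sum_eq_factorial_mul_sum_strictAnti (Fsum m k) (Fsum_symm m k) (fun u hu => by
    apply Fsum_zero
    intro hinj
    apply hu
    intro a b hab
    have := hinj (a₁ := a.castSucc) (a₂ := b.castSucc) (by simp [hab])
    exact Fin.castSucc_injective _ this)
  have hBC : (m.factorial : ℂ) * ∑ u ∈ univ.filter (fun u : Fin m → Fin N => StrictAnti u), Fsum m k u =
      ((m + 1).factorial : ℂ) * ((N : ℕ) : ℂ) ^ m := by
    rw [← hC]; exact hB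
  -- reindex
  have hD : ∑ u ∈ univ.filter (fun u : Fin m → Fin N => StrictAnti u), Fsum m k u =
      ∑ v ∈ (Finset.univ : Finset (Fin (m + 1) → Fin N)).filter
        (fun v : Fin (m + 1) → Fin N => StrictAnti v ∧ ∀ i : Fin (m + 1), (i : ℕ) = m + 1 - 1 → (v i : ℕ) = 0),
        vdm N (fun i => (v i : ℕ)) * (starRingEnd ℂ) (vdm N (fun i => (v i : ℕ))) := by
    have hsub : ∑ u ∈ univ.filter (fun u : Fin m → Fin N => StrictAnti u), Fsum m k u =
        ∑ u ∈ univ.filter (fun u : Fin m → Fin N => StrictAnti u ∧ ∀ j, u j ≠ 0), Fsum m k u := by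
      symm
      apply Finset.sum_subset
      · intro u hu
        rw [Finset.mem_filter] at hu ⊢
        exact ⟨hu.1, hu.2.1⟩
      · intro u hu hu'
        rw [Finset.mem_filter] at hu hu'
        have : ∃ j, u j = 0 := by
          by_contra hcon
          push Not at hcon
          exact hu' ⟨Finset.mem_univ _, hu.2, hcon⟩
        obtain ⟨j, hj⟩ := this
        apply Fsum_zero
        intro hinj
        have := hinj (a₁ := j.castSucc) (a₂ := Fin.last m) (by simp [hj])
        exact (Fin.castSucc_lt_last j).ne this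
    rw [hsub]
    symm
    refine Finset.sum_bij' (fun v _ => Fin.init v) (fun u _ => Fin.snoc (α := fun _ => Fin N) u 0) ?_ ?_ ?_ ?_ ?_
    · intro v hv
      rw [Finset.mem_filter] at hv ⊢
      have hlast : v (Fin.last m) = 0 := by
        apply Fin.ext
        rw [hv.2.2 (Fin.last m) (by simp)]
        rfl
      refine ⟨Finset.mem_univ _, ?_, ?_⟩
      · intro i j hij
        exact hv.2.1 (Fin.castSucc_lt_castSucc_iff.2 hij)
      · intro j hj
        have h1 := hv.2.1 (Fin.castSucc_lt_last j)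
        rw [hlast] at h1
        have : Fin.init v j = v j.castSucc := rfl
        rw [this] at hj
        rw [hj] at h1
        exact lt_irrefl _ h1
    · intro u hu
      rw [Finset.mem_filter] at hu ⊢
      refine ⟨Finset.mem_univ _, ?_, ?_⟩
      · intro i j hij
        revert hij
        refine Fin.lastCases ?_ (fun j' => ?_) j
        · refine Fin.lastCases ?_ (fun i' => ?_) i
          · intro h; exact absurd h (lt_irrefl _)
          · intro _
            simp only [Fin.snoc_last, Fin.snoc_castSucc]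
            exact Fin.pos_iff_ne_zero.2 (hu.2.2 i')
        · refine Fin.lastCases ?_ (fun i' => ?_) i
          · intro h
            exact absurd h (not_lt.2 (Fin.le_last _))
          · intro h
            simp only [Fin.snoc_castSucc]
            exact hu.2.1 (Fin.castSucc_lt_castSucc_iff.1 h)
      · intro i hi
        have : i = Fin.last m := Fin.ext (by simpa using hi)
        subst this
        simp
    · intro v hv
      rw [Finset.mem_filter] at hv
      have hlast : v (Fin.last m) = 0 := by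
        apply Fin.ext
        rw [hv.2.2 (Fin.last m) (by simp)]
        rfl
      rw [← hlast]
      exact Fin.snoc_init_self v
    · intro u _
      exact Fin.init_snoc _ _
    · intro v hv
      rw [Finset.mem_filter] at hv
      have hlast : v (Fin.last m) = 0 := by
        apply Fin.ext
        rw [hv.2.2 (Fin.last m) (by simp)]
        rfl
      unfold Fsum
      have : (Fin.snoc (α := fun _ => Fin N) (Fin.init v) 0 : Fin (m + 1) → Fin N) = v := by
        rw [← hlast]; exact Fin.snoc_init_self v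
      rw [this]
  rw [← hD]
  have hm : (m.factorial : ℂ) ≠ 0 := by exact_mod_cast m.factorial_ne_zero
  apply mul_left_cancel₀ hm
  rw [hBC, Nat.factorial_succ]
  push_cast
  ring

end Groth.Agent.Helper9.Verlinde
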