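import Mathlib
import Groth.Agent.Helper9.Verlinde

set_option autoImplicit false
universe u

namespace Groth.Agent.Helper9.Verlinde2

open Finset
open Groth.Agent.Helper9.Verlinde (zeta zeta_prim conj_zeta vdm vdm_mul_conj sum_eq_factorial_mul_sum_strictAnti)

/-- the alternant `det (z_j ^ b_i)` -/
noncomputable def alt {r : ℕ} (z : Fin r → ℂ) (b : Fin r → ℕ) : ℂ :=
  (Matrix.of fun i j : Fin r => z j ^ b i).det

theorem alt_expand {r : ℕ} (z : Fin r → ℂ) (b : Fin r → ℕ) :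
    alt z b = ∑ σ : Equiv.Perm (Fin r), ((Equiv.Perm.sign σ : ℤ) : ℂ) * ∏ i, z (σ i) ^ b i := by
  unfold alt
  rw [← Matrix.det_transpose, Matrix.det_apply']
  rfl

theorem conj_alt_expand {r : ℕ} (z : Fin r → ℂ) (b : Fin r → ℕ) :
    (starRingEnd ℂ) (alt z b) =
      ∑ τ : Equiv.Perm (Fin r), ((Equiv.Perm.sign τ : ℤ) : ℂ) * ∏ i, (starRingEnd ℂ) (z (τ i)) ^ b i := by
  rw [alt_expand, map_sum]
  refine Finset.sum_congr rfl fun τ _ => ?_
  rw [map_mul, map_intCast, map_prod]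
  congr 1
  refine Finset.prod_congr rfl fun i _ => ?_
  rw [map_pow]

/-- double permutation sum is `r!` times a determinant -/
theorem sum_sum_sign {r : ℕ} (G : Matrix (Fin r) (Fin r) ℂ) :
    ∑ σ : Equiv.Perm (Fin r), ∑ τ : Equiv.Perm (Fin r),
      (((Equiv.Perm.sign σ : ℤ) : ℂ) * ((Equiv.Perm.sign τ : ℤ) : ℂ)) * ∏ i, G (σ i) (τ i) =
    (r.factorial : ℂ) * G.det := by
  have h : ∀ σ : Equiv.Perm (Fin r), ∑ τ : Equiv.Perm (Fin r),
      (((Equiv.Perm.sign σ : ℤ) : ℂ) * ((Equiv.Perm.sign τ : ℤ) : ℂ)) * ∏ i, G (σ i) (τ i) = G.det := by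
    intro σ
    rw [← Matrix.det_transpose, Matrix.det_apply']
    refine Fintype.sum_equiv (Equiv.mulRight σ⁻¹) _ _ ?_
    intro τ
    simp only [Equiv.coe_mulRight, Matrix.transpose_apply]
    have h1 : ∏ i, G (σ i) (τ i) = ∏ j, G j ((τ * σ⁻¹) j) := by
      rw [← Equiv.prod_comp σ (fun j => G j ((τ * σ⁻¹) j))]
      refine Finset.prod_congr rfl fun i _ => ?_
      simp [Equiv.Perm.mul_apply]
    rw [h1]
    congr 1
    rw [Equiv.Perm.sign_mul, Equiv.Perm.sign_inv]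
    rcases Int.units_eq_one_or (Equiv.Perm.sign σ) with hs | hs <;>
      rcases Int.units_eq_one_or (Equiv.Perm.sign τ) with ht | ht <;> simp [hs, ht]
  rw [Finset.sum_congr rfl (fun σ _ => h σ), Finset.sum_const, Finset.card_univ, Fintype.card_perm,
    Fintype.card_fin, nsmul_eq_mul]

/-- Cauchy–Binet, emulated: sum over all tuples of exponents below `L`. -/
theorem cauchyBinet {r : ℕ} (L : ℕ) (z : Fin r → ℂ) :
    ∑ a : Fin r → Fin L, alt z (fun i => (a i : ℕ)) * (starRingEnd ℂ) (alt z (fun i => (a i : ℕ))) =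
      (r.factorial : ℂ) *
        (Matrix.of fun p q : Fin r => ∑ x : Fin L, (z p * (starRingEnd ℂ) (z q)) ^ (x : ℕ)).det := by
  rw [← sum_sum_sign]
  have h1 : ∀ a : Fin r → Fin L,
      alt z (fun i => (a i : ℕ)) * (starRingEnd ℂ) (alt z (fun i => (a i : ℕ))) =
      ∑ σ : Equiv.Perm (Fin r), ∑ τ : Equiv.Perm (Fin r),
        (((Equiv.Perm.sign σ : ℤ) : ℂ) * ((Equiv.Perm.sign τ : ℤ) : ℂ)) *
          ∏ i, (z (σ i) * (starRingEnd ℂ) (z (τ i))) ^ (a i : ℕ) := by
    intro a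
    rw [conj_alt_expand, alt_expand, Finset.sum_mul_sum]
    refine Finset.sum_congr rfl fun σ _ => Finset.sum_congr rfl fun τ _ => ?_
    rw [mul_mul_mul_comm, ← Finset.prod_mul_distrib]
    congr 1
    refine Finset.prod_congr rfl fun i _ => ?_
    rw [mul_pow]
  rw [Finset.sum_congr rfl (fun a _ => h1 a), Finset.sum_comm]
  refine Finset.sum_congr rfl fun σ _ => ?_
  rw [Finset.sum_comm]
  refine Finset.sum_congr rfl fun τ _ => ?_
  rw [← Finset.mul_sum]
  congr 1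
  have := Finset.prod_univ_sum (fun _ : Fin r => (univ : Finset (Fin L)))
    (fun i x => (z (σ i) * (starRingEnd ℂ) (z (τ i))) ^ (x : ℕ))
  rw [Fintype.piFinset_univ] at this
  rw [← this]
  rfl

theorem sum_pow_root (N : ℕ) (ω : ℂ) (hω : ω ^ N = 1) :
    ∑ a : Fin N, ω ^ (a : ℕ) = if ω = 1 then (N : ℂ) else 0 := by
  rw [Fin.sum_univ_eq_sum_range (fun a => ω ^ a) N]
  split_ifs with h
  · subst h; simp
  · have := mul_neg_geom_sum ω N
    rw [hω, sub_self] at this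
    rcases mul_eq_zero.1 this with h1 | h1
    · exact absurd (sub_eq_zero.1 h1).symm h
    · exact h1

theorem gram_entry (N : ℕ) (hN : 1 ≤ N) (ω : ℂ) (hω : ω ^ N = 1) :
    ∑ x : Fin (N - 1), ω ^ (x : ℕ) = (if ω = 1 then (N : ℂ) else 0) - ω⁻¹ := by
  have h1 := sum_pow_root N ω hω
  rw [Fin.sum_univ_eq_sum_range (fun a => ω ^ a) N] at h1
  rw [Fin.sum_univ_eq_sum_range (fun a => ω ^ a) (N - 1)]
  obtain ⟨M, rfl⟩ : ∃ M, N = M + 1 := ⟨N - 1, by omega⟩
  rw [Finset.sum_range_succ] at h1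
  simp only [Nat.add_sub_cancel]
  have hω0 : ω ≠ 0 := by
    intro h0; rw [h0, zero_pow (by omega)] at hω; exact zero_ne_one hω
  have h2 : ω ^ M = ω⁻¹ := by
    apply eq_inv_of_mul_eq_one_left
    rw [← pow_succ]; exact hω
  rw [← h1, h2]; ring

theorem gram_det (N r : ℕ) (hN : 1 ≤ N) (v : Fin r → ℕ) (hv : Function.Injective v) (hvN : ∀ i, v i < N) :
    (Matrix.of fun p q : Fin r => ∑ x : Fin (N - 1),
      (zeta N ^ v p * (starRingEnd ℂ) (zeta N ^ v q)) ^ (x : ℕ)).det = (N : ℂ) ^ r * (1 - (r : ℂ) / N) := by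
  have hN0 : N ≠ 0 := by omega
  have hprim := zeta_prim N hN0
  have hz0 : zeta N ≠ 0 := hprim.ne_zero hN0
  have hNc : (N : ℂ) ≠ 0 := by exact_mod_cast hN0
  have hM : (Matrix.of fun p q : Fin r => ∑ x : Fin (N - 1),
      (zeta N ^ v p * (starRingEnd ℂ) (zeta N ^ v q)) ^ (x : ℕ)) =
      (N : ℂ) • (1 + Matrix.replicateCol Unit (fun p => - ((zeta N)⁻¹ ^ v p) / N) *
        Matrix.replicateRow Unit (fun q => zeta N ^ v q)) := by
    ext p q
    rw [Matrix.of_apply, gram_entry N hN]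
    · simp only [Matrix.smul_apply, Matrix.add_apply, Matrix.mul_apply, Matrix.replicateCol_apply,
        Matrix.replicateRow_apply, Finset.univ_unique, Finset.sum_singleton, smul_eq_mul, map_pow, conj_zeta]
      by_cases hpq : p = q
      · subst hpq
        rw [Matrix.one_apply_eq, if_pos]
        · rw [inv_pow, mul_inv_cancel₀ (pow_ne_zero _ hz0), inv_one]
          field_simp
          ring
        · rw [inv_pow, mul_inv_cancel₀ (pow_ne_zero _ hz0)]
      · rw [Matrix.one_apply_ne hpq, if_neg]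
        · rw [mul_inv, inv_pow, inv_pow, inv_inv]
          field_simp
          ring
        · intro h1
          rw [inv_pow, mul_inv_eq_one₀ (pow_ne_zero _ hz0)] at h1
          exact hpq (hv (hprim.pow_inj (hvN p) (hvN q) h1))
    · rw [map_pow, conj_zeta, mul_pow, ← pow_mul, ← pow_mul, mul_comm _ N, mul_comm _ N, pow_mul, pow_mul,
        inv_pow, hprim.pow_eq_one]
      simp
  rw [hM, Matrix.det_smul, Fintype.card_fin, Matrix.det_one_add_replicateCol_mul_replicateRow]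
  congr 1
  simp only [dotProduct]
  have : ∀ p : Fin r, zeta N ^ v p * (-(zeta N)⁻¹ ^ v p / N) = - (1 / (N : ℂ)) := by
    intro p
    rw [inv_pow]
    field_simp
  rw [Finset.sum_congr rfl (fun p _ => this p), Finset.sum_const, Finset.card_univ, Fintype.card_fin, nsmul_eq_mul]
  ring


/-- row permutation -/
theorem alt_perm {r : ℕ} (z : Fin r → ℂ) (b : Fin r → ℕ) (π : Equiv.Perm (Fin r)) :
    alt z (b ∘ π) = ((Equiv.Perm.sign π : ℤ) : ℂ) * alt z b := by
  unfold alt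
  rw [← Matrix.det_permute]
  congr 1

theorem alt_eq_zero {r : ℕ} (z : Fin r → ℂ) (b : Fin r → ℕ) (hb : ¬ Function.Injective b) : alt z b = 0 := by
  rw [Function.Injective] at hb
  push Not at hb
  obtain ⟨i, j, hij, hne⟩ := hb
  unfold alt
  apply Matrix.det_zero_of_row_eq hne
  ext l
  simp [hij]

/-- complementary exponents -/
theorem alt_compl {r : ℕ} (z : Fin r → ℂ) (hz : ∀ j, (starRingEnd ℂ) (z j) = (z j)⁻¹) (hz0 : ∀ j, z j ≠ 0)
    (b b' : Fin r → ℕ) (c : ℕ) (h : ∀ i, b' i + b i = c) :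
    alt z b' = (∏ j, z j) ^ c * (starRingEnd ℂ) (alt z b) := by
  unfold alt
  have h1 : (Matrix.of fun i j : Fin r => z j ^ b' i) =
      Matrix.of fun i j : Fin r => (z j ^ c) * ((starRingEnd ℂ).mapMatrix (Matrix.of fun i j : Fin r => z j ^ b i)) i j := by
    ext i j
    simp only [Matrix.of_apply, RingHom.mapMatrix_apply, Matrix.map_apply, map_pow, hz]
    rw [← h i, pow_add, inv_pow, mul_assoc, mul_inv_cancel₀ (pow_ne_zero _ (hz0 j)), mul_one]
  rw [h1, Matrix.det_mul_row, ← RingHom.map_det, Finset.prod_pow]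


/-- strictly anti sequences of naturals drop by at least the index gap -/
theorem strictAnti_gap {r : ℕ} (a : Fin r → ℕ) (ha : StrictAnti a) :
    ∀ (d : ℕ) (i j : Fin r), (j : ℕ) = i + d → a j + d ≤ a i := by
  intro d
  induction d with
  | zero =>
    intro i j hij
    have : j = i := Fin.ext (by omega)
    rw [this]; omega
  | succ d ih =>
    intro i j hij
    have hj' : (i : ℕ) + d < r := by have := j.isLt; omega
    have h1 := ih i ⟨i + d, hj'⟩ rfl
    have h2 : a j < a ⟨i + d, hj'⟩ := ha (by rw [Fin.lt_def]; simp only []; omega)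
    omega

theorem sum_antitone_eq (r k : ℕ) (hr : 1 ≤ r) (hk : 1 ≤ k) (F : (Fin r → ℕ) → ℂ) :
    ∑ μ ∈ univ.filter (fun μ : Fin r → Fin k => Antitone μ), F (fun i => (μ i : ℕ) + (r - 1 - (i : ℕ))) =
      ∑ a ∈ univ.filter (fun a : Fin r → Fin (r + k - 1) => StrictAnti a), F (fun i => (a i : ℕ)) := by
  have key : ∀ a : Fin r → Fin (r + k - 1), StrictAnti a → ∀ i : Fin r,
      (r - 1 - (i : ℕ)) ≤ (a i : ℕ) ∧ (a i : ℕ) + (i : ℕ) ≤ r + k - 2 := by
    intro a ha i
    have hsa : StrictAnti (fun i => (a i : ℕ)) := fun x y hxy => ha hxy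
    have h1 : (a i : ℕ) + (i : ℕ) ≤ (a ⟨0, by omega⟩ : ℕ) :=
      strictAnti_gap _ hsa (i : ℕ) ⟨0, by omega⟩ i (by simp)
    have h2 := (a ⟨0, by omega⟩).isLt
    have h3 : (a ⟨r - 1, by omega⟩ : ℕ) + (r - 1 - (i : ℕ)) ≤ (a i : ℕ) :=
      strictAnti_gap _ hsa (r - 1 - (i : ℕ)) i ⟨r - 1, by omega⟩ (by
        have := i.isLt
        show r - 1 = (i : ℕ) + (r - 1 - (i : ℕ))
        omega)
    have := i.isLt
    constructor <;> omega
  refine Finset.sum_bij'
    (fun μ _ => fun i => (⟨(μ i : ℕ) + (r - 1 - (i : ℕ)), by have := (μ i).isLt; have := i.isLt; omega⟩ : Fin (r + k - 1)))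
    (fun a ha => fun i => (⟨(a i : ℕ) - (r - 1 - (i : ℕ)), by
        have h := key a (Finset.mem_filter.mp ha).2 i
        have := i.isLt
        omega⟩ : Fin k)) ?_ ?_ ?_ ?_ ?_
  · intro μ hμ
    rw [Finset.mem_filter] at hμ ⊢
    refine ⟨Finset.mem_univ _, ?_⟩
    intro i j hij
    rw [Fin.lt_def]
    show (μ j : ℕ) + (r - 1 - (j : ℕ)) < (μ i : ℕ) + (r - 1 - (i : ℕ))
    have h1 : (μ j : ℕ) ≤ μ i := hμ.2 hij.le
    have h2 : (i : ℕ) < j := hij
    have := j.isLt
    omega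
  · intro a ha
    rw [Finset.mem_filter] at ha ⊢
    refine ⟨Finset.mem_univ _, ?_⟩
    intro i j hij
    rw [Fin.le_def]
    show (a j : ℕ) - (r - 1 - (j : ℕ)) ≤ (a i : ℕ) - (r - 1 - (i : ℕ))
    have hsa : StrictAnti (fun i => (a i : ℕ)) := fun x y hxy => ha.2 hxy
    have h1 : (a j : ℕ) + ((j : ℕ) - i) ≤ (a i : ℕ) :=
      strictAnti_gap _ hsa ((j : ℕ) - i) i j (by have : (i : ℕ) ≤ j := hij; omega)
    have h2 := key a ha.2 j
    have h3 := key a ha.2 i
    have : (i : ℕ) ≤ j := hij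
    have := j.isLt
    omega
  · intro μ _
    funext i
    apply Fin.ext
    show (μ i : ℕ) + (r - 1 - (i : ℕ)) - (r - 1 - (i : ℕ)) = (μ i : ℕ)
    omega
  · intro a ha
    rw [Finset.mem_filter] at ha
    funext i
    apply Fin.ext
    have h2 := key a ha.2 i
    show (a i : ℕ) - (r - 1 - (i : ℕ)) + (r - 1 - (i : ℕ)) = (a i : ℕ)
    omega
  · intro μ _
    rfl

theorem sign_mul_self {r : ℕ} (σ : Equiv.Perm (Fin r)) :
    ((Equiv.Perm.sign σ : ℤ) : ℂ) * ((Equiv.Perm.sign σ : ℤ) : ℂ) = 1 := by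
  rw [← Int.cast_mul, ← Units.val_mul, Int.units_mul_self]
  simp

theorem sign_ne_zero {r : ℕ} (σ : Equiv.Perm (Fin r)) : ((Equiv.Perm.sign σ : ℤ) : ℂ) ≠ 0 := by
  intro h
  have := sign_mul_self σ
  rw [h, mul_zero] at this
  exact zero_ne_one this

theorem alt_id_eq_vdm {r : ℕ} (N : ℕ) (v : Fin r → ℕ) :
    alt (fun j => zeta N ^ v j) (fun i => (i : ℕ)) = vdm N v := by
  unfold alt vdm
  rw [← Matrix.det_transpose]
  rfl

theorem zpow_injective (N r : ℕ) (hN : 1 ≤ N) (v : Fin r → ℕ) (hv : Function.Injective v) (hvN : ∀ i, v i < N) :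
    Function.Injective (fun j => zeta N ^ v j) := by
  intro i j hij
  exact hv ((zeta_prim N (by omega)).pow_inj (hvN i) (hvN j) hij)

theorem vdm_ne_zero (N r : ℕ) (hN : 1 ≤ N) (v : Fin r → ℕ) (hv : Function.Injective v) (hvN : ∀ i, v i < N) :
    vdm N v ≠ 0 := by
  unfold vdm
  rw [Ne, Matrix.det_vandermonde_eq_zero_iff]
  push Not
  intro i j hij
  exact zpow_injective N r hN v hv hvN hij

theorem sum_strictAnti_alt (N r : ℕ) (hN : 1 ≤ N) (v : Fin r → ℕ) (hv : Function.Injective v) (hvN : ∀ i, v i < N) :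
    ∑ a ∈ univ.filter (fun a : Fin r → Fin (N - 1) => StrictAnti a),
      alt (fun j => zeta N ^ v j) (fun i => (a i : ℕ)) *
        (starRingEnd ℂ) (alt (fun j => zeta N ^ v j) (fun i => (a i : ℕ))) =
      (N : ℂ) ^ r * (1 - (r : ℂ) / N) := by
  have h1 := cauchyBinet (r := r) (N - 1) (fun j => zeta N ^ v j)
  rw [gram_det N r hN v hv hvN] at h1
  rw [sum_eq_factorial_mul_sum_strictAnti (fun a : Fin r → Fin (N - 1) =>
      alt (fun j => zeta N ^ v j) (fun i => (a i : ℕ)) *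
        (starRingEnd ℂ) (alt (fun j => zeta N ^ v j) (fun i => (a i : ℕ))))] at h1
  · have hf : (r.factorial : ℂ) ≠ 0 := by exact_mod_cast r.factorial_ne_zero
    exact mul_left_cancel₀ hf h1
  · intro u π
    have : (fun i => ((u ∘ π) i : ℕ)) = (fun i => (u i : ℕ)) ∘ π := rfl
    simp only [this]
    rw [alt_perm, map_mul, map_intCast]
    rw [mul_mul_mul_comm, sign_mul_self, one_mul]
  · intro u hu
    have : ¬ Function.Injective (fun i => (u i : ℕ)) := by
      intro h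
      apply hu
      intro i j hij
      exact h (by simp only [hij])
    simp only [alt_eq_zero _ _ this, zero_mul]

theorem main (r k : ℕ) (hr : 1 ≤ r) (hk : 1 ≤ k)
    (v : Fin r → ℕ) (hv : StrictAnti v) (hvlt : ∀ i, v i < r + k) :
    ∑ μ ∈ univ.filter (fun μ : Fin r → Fin k => Antitone μ),
      (alt (fun j => zeta (r + k) ^ v j) (fun i => (μ i : ℕ) + (r - 1 - (i : ℕ))) /
        alt (fun j => zeta (r + k) ^ v j) (fun i => r - 1 - (i : ℕ))) *
      (alt (fun j => zeta (r + k) ^ v j) (fun i => (k - (μ (Fin.rev i) : ℕ)) + (r - 1 - (i : ℕ))) /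
        alt (fun j => zeta (r + k) ^ v j) (fun i => r - 1 - (i : ℕ))) =
    (∏ j, zeta (r + k) ^ v j) ^ k * ((k : ℂ) * ((r : ℂ) + k) ^ (r - 1)) /
      (vdm (r + k) v * (starRingEnd ℂ) (vdm (r + k) v)) := by
  have hN : 1 ≤ r + k := by omega
  have hN0 : r + k ≠ 0 := by omega
  have hvinj : Function.Injective v := hv.injective
  set z : Fin r → ℂ := fun j => zeta (r + k) ^ v j with hzdef
  have hζ0 : zeta (r + k) ≠ 0 := (zeta_prim (r + k) hN0).ne_zero hN0
  have hz0 : ∀ j, z j ≠ 0 := fun j => pow_ne_zero _ hζ0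
  have hzc : ∀ j, (starRingEnd ℂ) (z j) = (z j)⁻¹ := by
    intro j
    rw [hzdef]
    simp only [map_pow, conj_zeta, inv_pow]
  set δ : Fin r → ℕ := fun i => r - 1 - (i : ℕ) with hδdef
  set s : ℂ := ((Equiv.Perm.sign (Fin.revPerm : Equiv.Perm (Fin r)) : ℤ) : ℂ) with hsdef
  have hss : s * s = 1 := sign_mul_self _
  have hs0 : s ≠ 0 := sign_ne_zero _
  set P : ℂ := ∏ j, z j with hPdef
  have hP0 : P ≠ 0 := Finset.prod_ne_zero_iff.mpr fun j _ => hz0 j
  -- δ as a reversed identity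
  have hδrev : δ = (fun i : Fin r => (i : ℕ)) ∘ (Fin.revPerm : Equiv.Perm (Fin r)) := by
    funext i
    simp only [hδdef, Function.comp_apply, Fin.revPerm_apply, Fin.val_rev]
    omega
  have hδvdm : alt z δ = s * vdm (r + k) v := by
    rw [hδrev, alt_perm, alt_id_eq_vdm]
  have hvdm0 : vdm (r + k) v ≠ 0 := vdm_ne_zero (r + k) r hN v hvinj hvlt
  have hδ0 : alt z δ ≠ 0 := by rw [hδvdm]; exact mul_ne_zero hs0 hvdm0
  have hD : alt z δ * (starRingEnd ℂ) (alt z δ) = vdm (r + k) v * (starRingEnd ℂ) (vdm (r + k) v) := by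
    rw [hδvdm, map_mul, hsdef, map_intCast, ← hsdef, mul_mul_mul_comm, hss, one_mul]
  have hD0 : vdm (r + k) v * (starRingEnd ℂ) (vdm (r + k) v) ≠ 0 :=
    mul_ne_zero hvdm0 ((map_ne_zero _).mpr hvdm0)
  have hδc : alt z δ = P ^ (r - 1) * s * (starRingEnd ℂ) (alt z δ) := by
    have h := alt_compl z hzc hz0 (δ ∘ (Fin.revPerm : Equiv.Perm (Fin r))) δ (r - 1) (by
      intro i
      have := i.isLt
      simp only [hδdef, Function.comp_apply, Fin.revPerm_apply, Fin.val_rev]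
      omega)
    rw [alt_perm, map_mul, map_intCast, ← mul_assoc] at h
    exact h
  have hδδ : alt z δ * alt z δ = P ^ (r - 1) * s * (vdm (r + k) v * (starRingEnd ℂ) (vdm (r + k) v)) := by
    rw [← hD]
    calc alt z δ * alt z δ = alt z δ * (P ^ (r - 1) * s * (starRingEnd ℂ) (alt z δ)) := by rw [← hδc]
      _ = _ := by ring
  -- each term
  have hterm : ∀ μ : Fin r → Fin k,
      (alt z (fun i => (μ i : ℕ) + (r - 1 - (i : ℕ))) / alt z δ) *
      (alt z (fun i => (k - (μ (Fin.rev i) : ℕ)) + (r - 1 - (i : ℕ))) / alt z δ) =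
      P ^ k * (alt z (fun i => (μ i : ℕ) + (r - 1 - (i : ℕ))) *
        (starRingEnd ℂ) (alt z (fun i => (μ i : ℕ) + (r - 1 - (i : ℕ))))) /
        (vdm (r + k) v * (starRingEnd ℂ) (vdm (r + k) v)) := by
    intro μ
    set a : Fin r → ℕ := fun i => (μ i : ℕ) + (r - 1 - (i : ℕ)) with hadef
    have h := alt_compl z hzc hz0 (a ∘ (Fin.revPerm : Equiv.Perm (Fin r)))
      (fun i => (k - (μ (Fin.rev i) : ℕ)) + (r - 1 - (i : ℕ))) (k + (r - 1)) (by
      intro i
      have := i.isLt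
      have := (μ (Fin.rev i)).isLt
      simp only [hadef, Function.comp_apply, Fin.revPerm_apply, Fin.val_rev]
      omega)
    rw [alt_perm, map_mul, map_intCast, pow_add, ← hPdef, ← hsdef] at h
    rw [div_mul_div_comm, hδδ, h]
    field_simp
  rw [Finset.sum_congr rfl fun μ _ => hterm μ, ← Finset.sum_div, ← Finset.mul_sum]
  rw [sum_antitone_eq r k hr hk (fun a => alt z a * (starRingEnd ℂ) (alt z a))]
  rw [sum_strictAnti_alt (r + k) r hN v hvinj hvlt]
  congr 2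
  obtain ⟨m, rfl⟩ : ∃ m, r = m + 1 := ⟨r - 1, by omega⟩
  have hNc : (((m + 1 + k : ℕ)) : ℂ) ≠ 0 := by exact_mod_cast hN0
  rw [Nat.add_sub_cancel, pow_succ]
  field_simp
  push_cast
  ring

end Groth.Agent.Helper9.Verlinde2
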