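import Mathlib
import Groth.Agent.Helper9.Verlinde
import Groth.Agent.Helper9.Verlinde2

set_option autoImplicit false
universe u

namespace Groth.Agent.Helper9.Verlinde3

open Finset
open Groth.Agent.Helper9.Verlinde (zeta zeta_prim conj_zeta vdm vdm_mul_conj sum_eq_factorial_mul_sum_strictAnti)
open Groth.Agent.Helper9.Verlinde2 (alt alt_expand conj_alt_expand sum_sum_sign alt_perm alt_eq_zero sign_mul_self
  sign_ne_zero alt_compl alt_id_eq_vdm vdm_ne_zero)

/-- Cauchy–Binet with two different point sets. -/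
theorem cauchyBinet2 {r : ℕ} (L : ℕ) (z z' : Fin r → ℂ) :
    ∑ a : Fin r → Fin L, alt z (fun i => (a i : ℕ)) * (starRingEnd ℂ) (alt z' (fun i => (a i : ℕ))) =
      (r.factorial : ℂ) *
        (Matrix.of fun p q : Fin r => ∑ x : Fin L, (z p * (starRingEnd ℂ) (z' q)) ^ (x : ℕ)).det := by
  rw [← sum_sum_sign]
  have h1 : ∀ a : Fin r → Fin L,
      alt z (fun i => (a i : ℕ)) * (starRingEnd ℂ) (alt z' (fun i => (a i : ℕ))) =
      ∑ σ : Equiv.Perm (Fin r), ∑ τ : Equiv.Perm (Fin r),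
        (((Equiv.Perm.sign σ : ℤ) : ℂ) * ((Equiv.Perm.sign τ : ℤ) : ℂ)) *
          ∏ i, (z (σ i) * (starRingEnd ℂ) (z' (τ i))) ^ (a i : ℕ) := by
    intro a
    rw [conj_alt_expand, alt_expand, Finset.sum_mul_sum]
    refine Finset.sum_congr rfl fun σ _ => Finset.sum_congr rfl fun τ _ => ?_
    rw [mul_mul_mul_comm, ← Finset.prod_mul_distrib]
    congr 1
    refine Finset.prod_congr rfl fun i _ => ?_
    rw [mul_pow]
  rw [Finset.sum_congr rfl (fun a _ => h1 a), Finset.sum_comm]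
  refine Finset.sum_congr rfl fun σ _ => ?_
  rw [Finset.sum_comm]
  refine Finset.sum_congr rfl fun τ _ => ?_
  rw [← Finset.mul_sum]
  congr 1
  have := Finset.prod_univ_sum (fun _ : Fin r => (univ : Finset (Fin L)))
    (fun i x => (z (σ i) * (starRingEnd ℂ) (z' (τ i))) ^ (x : ℕ))
  rw [Fintype.piFinset_univ] at this
  rw [← this]
  rfl

/-- the twisted product of two alternants -/
noncomputable def G {r : ℕ} (θ : ℂ) (y y' : Fin r → ℂ) (a : Fin r → ℕ) : ℂ :=
  θ ^ (∑ i, a i) * alt y a * (starRingEnd ℂ) (alt y' a)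

theorem G_perm {r : ℕ} (θ : ℂ) (y y' : Fin r → ℂ) (a : Fin r → ℕ) (π : Equiv.Perm (Fin r)) :
    G θ y y' (a ∘ π) = G θ y y' a := by
  unfold G
  rw [alt_perm, alt_perm, map_mul, map_intCast]
  have : ∑ i, (a ∘ π) i = ∑ i, a i := Equiv.sum_comp π a
  rw [this]
  calc _ = (((Equiv.Perm.sign π : ℤ) : ℂ) * ((Equiv.Perm.sign π : ℤ) : ℂ)) *
        (θ ^ (∑ i, a i) * alt y a * (starRingEnd ℂ) (alt y' a)) := by ring
    _ = _ := by rw [sign_mul_self, one_mul]

theorem G_eq_zero {r : ℕ} (θ : ℂ) (y y' : Fin r → ℂ) (a : Fin r → ℕ) (ha : ¬ Function.Injective a) :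
    G θ y y' a = 0 := by
  unfold G
  rw [alt_eq_zero y a ha, mul_zero, zero_mul]

theorem alt_scale {r : ℕ} (θ : ℂ) (y : Fin r → ℂ) (a : Fin r → ℕ) :
    alt (fun j => θ * y j) a = θ ^ (∑ i, a i) * alt y a := by
  unfold alt
  have : (Matrix.of fun i j : Fin r => (θ * y j) ^ a i) =
      Matrix.of fun i j : Fin r => (θ ^ a i) * (Matrix.of fun i j : Fin r => y j ^ a i) i j := by
    ext i j
    simp only [Matrix.of_apply, mul_pow]
  rw [this, Matrix.det_mul_column, Finset.prod_pow_eq_pow_sum]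

theorem alt_add_const {r : ℕ} (y : Fin r → ℂ) (a : Fin r → ℕ) (m : ℕ) :
    alt y (fun i => a i + m) = (∏ j, y j) ^ m * alt y a := by
  unfold alt
  have : (Matrix.of fun i j : Fin r => y j ^ (a i + m)) =
      Matrix.of fun i j : Fin r => (y j ^ m) * (Matrix.of fun i j : Fin r => y j ^ a i) i j := by
    ext i j
    simp only [Matrix.of_apply, pow_add, mul_comm]
  rw [this, Matrix.det_mul_row, Finset.prod_pow]

theorem alt_add_mul {r : ℕ} (N : ℕ) (y : Fin r → ℂ) (hy : ∀ j, y j ^ N = 1) (a ε : Fin r → ℕ) :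
    alt y (fun i => a i + N * ε i) = alt y a := by
  unfold alt
  congr 1
  ext i j
  simp only [Matrix.of_apply, pow_add, pow_mul, hy j, one_pow, mul_one]

theorem G_add_const {r : ℕ} (θ : ℂ) (y y' : Fin r → ℂ)
    (h : θ ^ r * (∏ j, y j) * (starRingEnd ℂ) (∏ j, y' j) = 1) (a : Fin r → ℕ) (m : ℕ) :
    G θ y y' (fun i => a i + m) = G θ y y' a := by
  unfold G
  rw [alt_add_const, alt_add_const, map_mul, map_pow, Finset.sum_add_distrib, Finset.sum_const,
    Finset.card_univ, Fintype.card_fin, smul_eq_mul, pow_add, pow_mul]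
  calc _ = (θ ^ r * (∏ j, y j) * (starRingEnd ℂ) (∏ j, y' j)) ^ m *
        (θ ^ (∑ i, a i) * alt y a * (starRingEnd ℂ) (alt y' a)) := by ring
    _ = _ := by rw [h, one_pow, one_mul]

theorem G_add_mul {r : ℕ} (N : ℕ) (θ : ℂ) (y y' : Fin r → ℂ) (hy : ∀ j, y j ^ N = 1) (hy' : ∀ j, y' j ^ N = 1)
    (a ε : Fin r → ℕ) :
    G θ y y' (fun i => a i + N * ε i) = (θ ^ N) ^ (∑ i, ε i) * G θ y y' a := by
  unfold G
  rw [alt_add_mul N y hy, alt_add_mul N y' hy', Finset.sum_add_distrib, ← Finset.mul_sum, pow_add, pow_mul]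
  ring

theorem G_sub {r M : ℕ} (θ : ℂ) (y y' : Fin r → ℂ)
    (hshift : θ ^ r * (∏ j, y j) * (starRingEnd ℂ) (∏ j, y' j) = 1)
    (hy : ∀ j, y j ^ (M + 1) = 1) (hy' : ∀ j, y' j ^ (M + 1) = 1)
    (a : Fin r → Fin (M + 1)) (x : Fin (M + 1)) :
    G θ y y' (fun i => ((a i - x : Fin (M + 1)) : ℕ)) =
      (θ ^ (M + 1)) ^ (univ.filter (fun i => a i < x)).card * G θ y y' (fun i => (a i : ℕ)) := by
  rw [← G_add_const θ y y' hshift (fun i => ((a i - x : Fin (M + 1)) : ℕ)) (x : ℕ)]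
  have h1 : (fun i => ((a i - x : Fin (M + 1)) : ℕ) + (x : ℕ)) =
      fun i => (a i : ℕ) + (M + 1) * (if a i < x then 1 else 0) := by
    funext i
    split_ifs with h
    · rw [Fin.coe_sub_iff_lt.mpr h]
      have := x.isLt
      have : (a i : ℕ) < x := h
      omega
    · rw [Fin.coe_sub_iff_le.mpr (not_lt.mp h)]
      have : (x : ℕ) ≤ a i := not_lt.mp h
      omega
  rw [h1, G_add_mul (M + 1) θ y y' hy hy', Finset.sum_boole]
  simp

theorem sum_pow_rank {r M : ℕ} (κ : ℂ) (a : Fin r → Fin (M + 1)) (ha : Function.Injective a) :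
    ∑ i, κ ^ (univ.filter (fun j => a j < a i)).card = ∑ t : Fin r, κ ^ (t : ℕ) := by
  have hlt : ∀ i, (univ.filter (fun j => a j < a i)).card < r := by
    intro i
    have h1 : (univ.filter (fun j => a j < a i)) ⊂ univ := by
      rw [Finset.ssubset_univ_iff]
      intro h
      have := Finset.mem_univ i
      rw [← h, Finset.mem_filter] at this
      exact lt_irrefl _ this.2
    have := Finset.card_lt_card h1
    simpa using this
  have hmono : ∀ i i', a i < a i' →
      (univ.filter (fun j => a j < a i)).card < (univ.filter (fun j => a j < a i')).card := by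
    intro i i' hlt'
    apply Finset.card_lt_card
    constructor
    · intro j hj
      rw [mem_filter] at hj ⊢
      exact ⟨hj.1, hj.2.trans hlt'⟩
    · intro hsub
      have := hsub (mem_filter.mpr ⟨mem_univ i, hlt'⟩)
      rw [mem_filter] at this
      exact lt_irrefl _ this.2
  have hf : Function.Injective (fun i => (⟨_, hlt i⟩ : Fin r)) := by
    intro i i' h
    by_contra hne
    have h' : (univ.filter (fun j => a j < a i)).card = (univ.filter (fun j => a j < a i')).card :=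
      congrArg Fin.val h
    rcases lt_or_gt_of_ne (fun e => hne (ha e)) with hlt' | hlt'
    · exact (hmono i i' hlt').ne h'
    · exact (hmono i' i hlt').ne h'.symm
  have hb : Function.Bijective (fun i => (⟨_, hlt i⟩ : Fin r)) := Finite.injective_iff_bijective.mp hf
  exact hb.sum_comp (fun t : Fin r => κ ^ (t : ℕ))

theorem sum_sub_coord {r M : ℕ} (F : (Fin r → Fin (M + 1)) → ℂ) (i : Fin r) :
    ∑ a : Fin r → Fin (M + 1), F (fun j => a j - a i) =
      ((M + 1 : ℕ) : ℂ) * ∑ b ∈ univ.filter (fun b : Fin r → Fin (M + 1) => b i = 0), F b := by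
  classical
  rw [← Finset.sum_fiberwise univ (fun a : Fin r → Fin (M + 1) => a i) (fun a => F (fun j => a j - a i))]
  have h : ∀ x : Fin (M + 1),
      ∑ a ∈ univ.filter (fun a : Fin r → Fin (M + 1) => a i = x), F (fun j => a j - a i) =
        ∑ b ∈ univ.filter (fun b : Fin r → Fin (M + 1) => b i = 0), F b := by
    intro x
    refine Finset.sum_bij' (fun a _ => fun j => a j - x) (fun b _ => fun j => b j + x) ?_ ?_ ?_ ?_ ?_
    · intro a ha
      rw [mem_filter] at ha ⊢
      exact ⟨mem_univ _, by show a i - x = 0; rw [ha.2, sub_self]⟩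
    · intro b hb
      rw [mem_filter] at hb ⊢
      exact ⟨mem_univ _, by show b i + x = x; rw [hb.2, zero_add]⟩
    · intro a _
      funext j
      exact sub_add_cancel _ _
    · intro b _
      funext j
      exact add_sub_cancel_right _ _
    · intro a ha
      rw [mem_filter] at ha
      rw [ha.2]
  rw [Finset.sum_congr rfl (fun x _ => h x), Finset.sum_const, Finset.card_univ, Fintype.card_fin, nsmul_eq_mul]

theorem sum_coord_zero {r M : ℕ} (hr : 1 ≤ r) (H : (Fin r → Fin (M + 1)) → ℂ)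
    (hsymm : ∀ (u : Fin r → Fin (M + 1)) (π : Equiv.Perm (Fin r)), H (u ∘ π) = H u)
    (hdiag : ∀ u, ¬ Function.Injective u → H u = 0) :
    ∑ i, ∑ b ∈ univ.filter (fun b : Fin r → Fin (M + 1) => b i = 0), H b =
      (r.factorial : ℂ) * ∑ b ∈ univ.filter (fun b : Fin r → Fin (M + 1) =>
        StrictAnti b ∧ ∀ i : Fin r, (i : ℕ) = r - 1 → (b i : ℕ) = 0), H b := by
  classical
  have h1 : ∀ b : Fin r → Fin (M + 1),
      ∑ i, (if b i = 0 then H b else 0) = if ∃ i, b i = 0 then H b else 0 := by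
    intro b
    by_cases hb : Function.Injective b
    · by_cases hex : ∃ i, b i = 0
      · obtain ⟨i0, hi0⟩ := hex
        rw [if_pos ⟨i0, hi0⟩]
        have h2 : ∀ i, (if b i = 0 then H b else 0) = if i = i0 then H b else 0 := by
          intro i
          by_cases hi : i = i0
          · rw [if_pos hi, if_pos (hi ▸ hi0)]
          · rw [if_neg hi, if_neg (fun h => hi (hb (h.trans hi0.symm)))]
        simp only [h2, Finset.sum_ite_eq', mem_univ, if_true]
      · rw [if_neg hex]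
        push Not at hex
        apply Finset.sum_eq_zero
        intro i _
        rw [if_neg (hex i)]
    · rw [hdiag b hb]
      simp
  calc ∑ i, ∑ b ∈ univ.filter (fun b : Fin r → Fin (M + 1) => b i = 0), H b
      = ∑ i, ∑ b : Fin r → Fin (M + 1), (if b i = 0 then H b else 0) := by
        refine Finset.sum_congr rfl fun i _ => ?_
        rw [Finset.sum_filter]
    _ = ∑ b : Fin r → Fin (M + 1), ∑ i, (if b i = 0 then H b else 0) := Finset.sum_comm
    _ = ∑ b : Fin r → Fin (M + 1), (if ∃ i, b i = 0 then H b else 0) :=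
        Finset.sum_congr rfl fun b _ => h1 b
    _ = (r.factorial : ℂ) * ∑ b ∈ univ.filter (fun b : Fin r → Fin (M + 1) => StrictAnti b),
          (if ∃ i, b i = 0 then H b else 0) := by
        apply sum_eq_factorial_mul_sum_strictAnti
        · intro u π
          have : (∃ i, (u ∘ π) i = 0) ↔ ∃ i, u i = 0 := by
            constructor
            · rintro ⟨i, hi⟩; exact ⟨π i, hi⟩
            · rintro ⟨i, hi⟩; exact ⟨π.symm i, by simpa using hi⟩
          simp only [this, hsymm]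
        · intro u hu
          rw [hdiag u hu]
          simp
    _ = _ := by
        congr 1
        rw [← Finset.sum_filter, Finset.filter_filter]
        refine Finset.sum_congr (Finset.filter_congr ?_) (fun _ _ => rfl)
        intro b _
        constructor
        · rintro ⟨hsa, i0, hi0⟩
          refine ⟨hsa, fun i hi => ?_⟩
          have hle : i0 ≤ i := by
            rw [Fin.le_def, hi]
            have := i0.isLt
            omega
          have := hsa.antitone hle
          rw [hi0] at this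
          have : b i = 0 := le_antisymm this (Fin.zero_le _)
          rw [this]
          rfl
        · rintro ⟨hsa, h0⟩
          refine ⟨hsa, ⟨r - 1, by omega⟩, ?_⟩
          apply Fin.ext
          rw [h0 ⟨r - 1, by omega⟩ rfl]
          rfl

theorem key_identity {r M : ℕ} (hr : 1 ≤ r) (θ : ℂ) (y y' : Fin r → ℂ)
    (hshift : θ ^ r * (∏ j, y j) * (starRingEnd ℂ) (∏ j, y' j) = 1)
    (hy : ∀ j, y j ^ (M + 1) = 1) (hy' : ∀ j, y' j ^ (M + 1) = 1) :
    ((M + 1 : ℕ) : ℂ) * ((r.factorial : ℂ) * ∑ b ∈ univ.filter (fun b : Fin r → Fin (M + 1) =>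
        StrictAnti b ∧ ∀ i : Fin r, (i : ℕ) = r - 1 → (b i : ℕ) = 0), G θ y y' (fun i => (b i : ℕ))) =
      (∑ t : Fin r, (θ ^ (M + 1)) ^ (t : ℕ)) *
        ∑ a : Fin r → Fin (M + 1), G θ y y' (fun i => (a i : ℕ)) := by
  classical
  have hsymm : ∀ (u : Fin r → Fin (M + 1)) (π : Equiv.Perm (Fin r)),
      (fun a : Fin r → Fin (M + 1) => G θ y y' (fun i => (a i : ℕ))) (u ∘ π) =
      (fun a : Fin r → Fin (M + 1) => G θ y y' (fun i => (a i : ℕ))) u :=
    fun u π => G_perm θ y y' (fun i => (u i : ℕ)) π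
  have hdiag : ∀ u : Fin r → Fin (M + 1), ¬ Function.Injective u →
      (fun a : Fin r → Fin (M + 1) => G θ y y' (fun i => (a i : ℕ))) u = 0 := by
    intro u hu
    apply G_eq_zero
    intro h
    apply hu
    intro i j hij
    exact h (by simp only [hij])
  rw [← sum_coord_zero hr (fun a : Fin r → Fin (M + 1) => G θ y y' (fun i => (a i : ℕ))) hsymm hdiag,
    Finset.mul_sum]
  rw [Finset.sum_congr rfl (fun i _ =>
    (sum_sub_coord (fun a : Fin r → Fin (M + 1) => G θ y y' (fun i => (a i : ℕ))) i).symm)]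
  rw [Finset.sum_comm, Finset.mul_sum]
  refine Finset.sum_congr rfl fun a _ => ?_
  by_cases ha : Function.Injective a
  · rw [← sum_pow_rank (θ ^ (M + 1)) a ha, Finset.sum_mul]
    refine Finset.sum_congr rfl fun i _ => ?_
    exact G_sub θ y y' hshift hy hy' a (a i)
  · have h0 := hdiag a ha
    simp only [] at h0
    rw [h0, mul_zero]
    apply Finset.sum_eq_zero
    intro i _
    apply hdiag
    intro hinj
    apply ha
    intro j j' hjj'
    exact hinj (by show a j - a i = a j' - a i; rw [hjj'])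

theorem core_vanish {r M : ℕ} (hr : 1 ≤ r) (θ : ℂ) (y y' : Fin r → ℂ)
    (hshift : θ ^ r * (∏ j, y j) * (starRingEnd ℂ) (∏ j, y' j) = 1)
    (hy : ∀ j, y j ^ (M + 1) = 1) (hy' : ∀ j, y' j ^ (M + 1) = 1)
    (hκ : (θ ^ (M + 1)) ^ r = 1)
    (hcase : θ ^ (M + 1) = 1 →
      (Matrix.of fun p q : Fin r => ∑ x : Fin (M + 1), ((θ * y p) * (starRingEnd ℂ) (y' q)) ^ (x : ℕ)).det = 0) :
    ∑ b ∈ univ.filter (fun b : Fin r → Fin (M + 1) =>
        StrictAnti b ∧ ∀ i : Fin r, (i : ℕ) = r - 1 → (b i : ℕ) = 0), G θ y y' (fun i => (b i : ℕ)) = 0 := by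
  have hkey := key_identity hr θ y y' hshift hy hy'
  have hall : ∑ a : Fin r → Fin (M + 1), G θ y y' (fun i => (a i : ℕ)) =
      (r.factorial : ℂ) *
        (Matrix.of fun p q : Fin r => ∑ x : Fin (M + 1), ((θ * y p) * (starRingEnd ℂ) (y' q)) ^ (x : ℕ)).det := by
    rw [← cauchyBinet2 (M + 1) (fun j => θ * y j) y']
    refine Finset.sum_congr rfl fun a _ => ?_
    rw [alt_scale]
    rfl
  have hzero : (∑ t : Fin r, (θ ^ (M + 1)) ^ (t : ℕ)) *
      ∑ a : Fin r → Fin (M + 1), G θ y y' (fun i => (a i : ℕ)) = 0 := by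
    by_cases h1 : θ ^ (M + 1) = 1
    · rw [hall, hcase h1, mul_zero, mul_zero]
    · rw [Groth.Agent.Helper9.Verlinde2.sum_pow_root r _ hκ, if_neg h1, zero_mul]
  rw [hzero] at hkey
  have hM : ((M + 1 : ℕ) : ℂ) ≠ 0 := by exact_mod_cast Nat.succ_ne_zero M
  have hf : (r.factorial : ℂ) ≠ 0 := by exact_mod_cast r.factorial_ne_zero
  rcases mul_eq_zero.mp hkey with h | h
  · exact absurd h hM
  · rcases mul_eq_zero.mp h with h' | h'
    · exact absurd h' hf
    · exact h'

theorem int_arg {r : ℕ} (N : ℕ) (hN : 0 < N) (v v' : Fin r → ℕ) (hv : StrictAnti v) (hvN : ∀ i, v i < N)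
    (hv' : StrictAnti v') (hv'N : ∀ i, v' i < N) (n : ℤ)
    (hD : ((∑ j, v j : ℕ) : ℤ) - ((∑ j, v' j : ℕ) : ℤ) = - n * r)
    (σ : Fin r → Fin r) (hσ : ∀ p, (N : ℤ) ∣ n + v p - v' (σ p)) :
    ∀ i, (v i : ℤ) - v' i = -n := by
  choose e he using hσ
  have hσinj : Function.Injective σ := by
    intro p p' hpp
    have h1 := he p
    have h2 := he p'
    rw [hpp] at h1
    have hdvd : (N : ℤ) ∣ (v p : ℤ) - v p' := ⟨e p - e p', by linarith⟩
    have habs : |(v p : ℤ) - v p'| < N := by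
      rw [abs_lt]
      have := hvN p
      have := hvN p'
      constructor <;> omega
    have := Int.eq_zero_of_abs_lt_dvd hdvd habs
    exact hv.injective (by omega)
  have hσbij : Function.Bijective σ := Finite.injective_iff_bijective.mp hσinj
  have hsum' : ∑ p, (v' (σ p) : ℤ) = ∑ p, (v' p : ℤ) := hσbij.sum_comp (fun q => (v' q : ℤ))
  have hesum : ∑ p, e p = 0 := by
    have h1 : ∑ p, (n + v p - v' (σ p) : ℤ) = ∑ p, (N : ℤ) * e p := Finset.sum_congr rfl (fun p _ => he p)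
    rw [Finset.sum_sub_distrib, Finset.sum_add_distrib, hsum', ← Finset.mul_sum, Finset.sum_const,
      Finset.card_univ, Fintype.card_fin, nsmul_eq_mul] at h1
    push_cast at hD
    have h2 : (N : ℤ) * ∑ p, e p = 0 := by linarith
    rcases mul_eq_zero.mp h2 with h | h
    · omega
    · exact h
  have he0 : ∀ p, e p = 0 := by
    rcases le_or_gt n 0 with hn | hn
    · have hle : ∀ p ∈ (univ : Finset (Fin r)), e p ≤ 0 := by
        intro p _
        have h1 := he p
        have h2 := hvN p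
        by_contra hc
        push Not at hc
        have h3 : (N : ℤ) * 1 ≤ N * e p := mul_le_mul_of_nonneg_left (by omega) (by omega)
        omega
      exact fun p => (Finset.sum_eq_zero_iff_of_nonpos hle).mp hesum p (mem_univ p)
    · have hge : ∀ p ∈ (univ : Finset (Fin r)), 0 ≤ e p := by
        intro p _
        have h1 := he p
        have h2 := hv'N (σ p)
        by_contra hc
        push Not at hc
        have h3 : (N : ℤ) * e p ≤ N * (-1) := mul_le_mul_of_nonneg_left (by omega) (by omega)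
        omega
      exact fun p => (Finset.sum_eq_zero_iff_of_nonneg hge).mp hesum p (mem_univ p)
  have hval : ∀ p, (v p : ℤ) = v' (σ p) - n := by
    intro p
    have h1 := he p
    rw [he0 p, mul_zero] at h1
    linarith
  have hσmono : StrictMono σ := by
    intro p p' hpp'
    have h1 : v p' < v p := hv hpp'
    have h2 : v' (σ p') < v' (σ p) := by
      have := hval p
      have := hval p'
      omega
    exact hv'.lt_iff_gt.mp h2
  intro i
  have hi : σ i = i := le_antisymm (hσmono.le_id i) (hσmono.id_le i)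
  have := hval i
  rw [hi] at this
  linarith

theorem core {r M : ℕ} (hr : 1 ≤ r) (v v' : Fin r → ℕ) (hv : StrictAnti v) (hvN : ∀ i, v i < M + 1)
    (hv' : StrictAnti v') (hv'N : ∀ i, v' i < M + 1)
    (hne : ¬ ∃ a : ℤ, ∀ i, (v i : ℤ) - (v' i : ℤ) = a) :
    ∑ b ∈ univ.filter (fun b : Fin r → Fin (M + 1) =>
        StrictAnti b ∧ ∀ i : Fin r, (i : ℕ) = r - 1 → (b i : ℕ) = 0),
      G (Complex.exp (-(2 * Real.pi * Complex.I * (((∑ j, v j : ℕ) : ℂ) - ((∑ j, v' j : ℕ) : ℂ)) /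
          ((r : ℂ) * ((M + 1 : ℕ) : ℂ)))))
        (fun j => zeta (M + 1) ^ v j) (fun j => zeta (M + 1) ^ v' j) (fun i => (b i : ℕ)) = 0 := by
  have hN0 : M + 1 ≠ 0 := Nat.succ_ne_zero M
  have hprim := zeta_prim (M + 1) hN0
  have hζ0 : zeta (M + 1) ≠ 0 := hprim.ne_zero hN0
  have hr0 : (r : ℂ) ≠ 0 := by exact_mod_cast (by omega : r ≠ 0)
  have hNc : ((M + 1 : ℕ) : ℂ) ≠ 0 := by exact_mod_cast hN0
  set s : ℕ := ∑ j, v j with hs
  set s' : ℕ := ∑ j, v' j with hs'
  set θ : ℂ := Complex.exp (-(2 * Real.pi * Complex.I * ((s : ℂ) - (s' : ℂ)) /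
    ((r : ℂ) * ((M + 1 : ℕ) : ℂ)))) with hθ
  have hyN : ∀ (u : Fin r → ℕ) (j : Fin r), (zeta (M + 1) ^ u j) ^ (M + 1) = 1 := by
    intro u j
    rw [← pow_mul, mul_comm, pow_mul, hprim.pow_eq_one, one_pow]
  apply core_vanish hr θ _ _ ?_ (hyN v) (hyN v') ?_ ?_
  · -- shift
    rw [Finset.prod_pow_eq_pow_sum, Finset.prod_pow_eq_pow_sum, map_pow, conj_zeta, ← hs, ← hs']
    rw [hθ]
    unfold zeta
    rw [← Complex.exp_nat_mul, ← Complex.exp_nat_mul, ← Complex.exp_neg, ← Complex.exp_nat_mul,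
      ← Complex.exp_add, ← Complex.exp_add]
    have h0 : (r : ℂ) * -(2 * Real.pi * Complex.I * ((s : ℂ) - (s' : ℂ)) / ((r : ℂ) * ((M + 1 : ℕ) : ℂ))) +
        (s : ℂ) * (2 * Real.pi * Complex.I / ((M + 1 : ℕ) : ℂ)) +
        (s' : ℂ) * -(2 * Real.pi * Complex.I / ((M + 1 : ℕ) : ℂ)) = 0 := by
      field_simp
      ring
    rw [h0, Complex.exp_zero]
  · -- κ^r = 1
    rw [← pow_mul, hθ, ← Complex.exp_nat_mul]
    have h0 : (((M + 1) * r : ℕ) : ℂ) * -(2 * Real.pi * Complex.I * ((s : ℂ) - (s' : ℂ)) /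
        ((r : ℂ) * ((M + 1 : ℕ) : ℂ))) = (((s' : ℤ) - (s : ℤ) : ℤ) : ℂ) * (2 * Real.pi * Complex.I) := by
      push_cast
      field_simp
      ring
    rw [h0, Complex.exp_int_mul_two_pi_mul_I]
  · -- the degenerate Gram matrix
    intro hκ1
    have h1 : Complex.exp (-(2 * Real.pi * Complex.I * ((s : ℂ) - (s' : ℂ)) / (r : ℂ))) = 1 := by
      rw [← hκ1, hθ, ← Complex.exp_nat_mul]
      congr 1
      field_simp
    rw [Complex.exp_eq_one_iff] at h1
    obtain ⟨n, hn⟩ := h1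
    have hpi : (2 * (Real.pi : ℂ) * Complex.I) ≠ 0 := by
      refine mul_ne_zero (mul_ne_zero two_ne_zero ?_) Complex.I_ne_zero
      exact_mod_cast Real.pi_ne_zero
    have hDc : ((s : ℂ) - (s' : ℂ)) = -(n : ℂ) * r := by
      field_simp at hn
      linear_combination (-1 : ℂ) * hn
    have hD : ((s : ℕ) : ℤ) - ((s' : ℕ) : ℤ) = -n * r := by exact_mod_cast hDc
    have hθζ : θ = zeta (M + 1) ^ n := by
      rw [hθ]
      unfold zeta
      rw [← Complex.exp_int_mul]
      congr 1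
      rw [hDc]
      field_simp
    have hrow : ∃ p, ∀ q, θ * zeta (M + 1) ^ v p * (starRingEnd ℂ) (zeta (M + 1) ^ v' q) ≠ 1 := by
      by_contra hcon
      push Not at hcon
      choose σ hσ using hcon
      apply hne
      refine ⟨-n, int_arg (M + 1) (Nat.succ_pos M) v v' hv hvN hv' hv'N n hD σ (fun p => ?_)⟩
      have h3 := hσ p
      rw [hθζ, map_pow, conj_zeta, inv_pow, ← zpow_natCast (zeta (M + 1)) (v p),
        ← zpow_natCast (zeta (M + 1)) (v' (σ p)), ← zpow_neg, ← zpow_add₀ hζ0, ← zpow_add₀ hζ0] at h3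
      have h4 := (hprim.zpow_eq_one_iff_dvd _).mp h3
      have h5 : n + (v p : ℤ) + -(v' (σ p) : ℤ) = n + v p - v' (σ p) := by ring
      rw [h5] at h4
      exact h4
    obtain ⟨p, hp⟩ := hrow
    apply Matrix.det_eq_zero_of_row_eq_zero p
    intro q
    rw [Matrix.of_apply]
    have hω : (θ * zeta (M + 1) ^ v p * (starRingEnd ℂ) (zeta (M + 1) ^ v' q)) ^ (M + 1) = 1 := by
      rw [mul_pow, mul_pow, hκ1, hyN v p, ← map_pow, hyN v' q, map_one, one_mul, one_mul]
    rw [Groth.Agent.Helper9.Verlinde2.sum_pow_root (M + 1) _ hω, if_neg (hp q)]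

theorem core' {r N : ℕ} (hr : 1 ≤ r) (hN : 1 ≤ N) (v v' : Fin r → ℕ) (hv : StrictAnti v) (hvN : ∀ i, v i < N)
    (hv' : StrictAnti v') (hv'N : ∀ i, v' i < N)
    (hne : ¬ ∃ a : ℤ, ∀ i, (v i : ℤ) - (v' i : ℤ) = a) :
    ∑ b ∈ univ.filter (fun b : Fin r → Fin N =>
        StrictAnti b ∧ ∀ i : Fin r, (i : ℕ) = r - 1 → (b i : ℕ) = 0),
      G (Complex.exp (-(2 * Real.pi * Complex.I * (((∑ j, v j : ℕ) : ℂ) - ((∑ j, v' j : ℕ) : ℂ)) /
          ((r : ℂ) * (N : ℂ)))))
        (fun j => zeta N ^ v j) (fun j => zeta N ^ v' j) (fun i => (b i : ℕ)) = 0 := by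
  obtain ⟨M, rfl⟩ : ∃ M, N = M + 1 := ⟨N - 1, by omega⟩
  exact core hr v v' hv hvN hv' hv'N hne

/-- transposition symmetry of the alternant at powers of a fixed number -/
theorem alt_swap {r : ℕ} (ζ : ℂ) (v b : Fin r → ℕ) :
    alt (fun j => ζ ^ v j) b = alt (fun j => ζ ^ b j) v := by
  unfold alt
  rw [← Matrix.det_transpose]
  congr 1
  ext i j
  simp only [Matrix.transpose_apply, Matrix.of_apply, ← pow_mul, mul_comm]

/-- the alternant with exponents reversed and complemented -/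
theorem alt_dual {r : ℕ} (z : Fin r → ℂ) (hz : ∀ j, (starRingEnd ℂ) (z j) = (z j)⁻¹) (hz0 : ∀ j, z j ≠ 0)
    (b b' : Fin r → ℕ) (c : ℕ) (h : ∀ i, b' i + b (Fin.rev i) = c) :
    alt z b' = (∏ j, z j) ^ c * ((Equiv.Perm.sign (Fin.revPerm : Equiv.Perm (Fin r)) : ℤ) : ℂ) *
      (starRingEnd ℂ) (alt z b) := by
  have h1 := alt_compl z hz hz0 (b ∘ (Fin.revPerm : Equiv.Perm (Fin r))) b' c (by
    intro i
    simp only [Function.comp_apply, Fin.revPerm_apply]
    exact h i)
  rw [alt_perm, map_mul, map_intCast, ← mul_assoc] at h1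
  exact h1

theorem alt_delta {r : ℕ} (N : ℕ) (v : Fin r → ℕ) :
    alt (fun j => zeta N ^ v j) (fun i : Fin r => r - 1 - (i : ℕ)) =
      ((Equiv.Perm.sign (Fin.revPerm : Equiv.Perm (Fin r)) : ℤ) : ℂ) * vdm N v := by
  have hδrev : (fun i : Fin r => r - 1 - (i : ℕ)) =
      (fun i : Fin r => (i : ℕ)) ∘ (Fin.revPerm : Equiv.Perm (Fin r)) := by
    funext i
    simp only [Function.comp_apply, Fin.revPerm_apply, Fin.val_rev]
    omega
  rw [hδrev, alt_perm, alt_id_eq_vdm]

theorem term_dual {r k : ℕ} (hr : 1 ≤ r) (v : Fin r → ℕ) (hv : StrictAnti v) (hvN : ∀ i, v i < r + k)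
    (lam lam' : Fin r → ℕ) (hlam'k : ∀ i, lam' i ≤ k) :
    (alt (fun j => zeta (r + k) ^ v j) (fun i => lam i + (r - 1 - (i : ℕ))) /
        alt (fun j => zeta (r + k) ^ v j) (fun i => r - 1 - (i : ℕ))) *
      (alt (fun j => zeta (r + k) ^ v j) (fun i => lam' i + (r - 1 - (i : ℕ))) /
        alt (fun j => zeta (r + k) ^ v j) (fun i => r - 1 - (i : ℕ))) *
      (vdm (r + k) v * (starRingEnd ℂ) (vdm (r + k) v)) =
    (∏ j, zeta (r + k) ^ v j) ^ k *
      alt (fun j => zeta (r + k) ^ (lam j + (r - 1 - (j : ℕ)))) v *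
      (starRingEnd ℂ) (alt (fun j => zeta (r + k) ^ ((k - lam' (Fin.rev j)) + (r - 1 - (j : ℕ)))) v) := by
  have hN : 1 ≤ r + k := by omega
  have hN0 : r + k ≠ 0 := by omega
  have hvinj : Function.Injective v := hv.injective
  set z : Fin r → ℂ := fun j => zeta (r + k) ^ v j with hzdef
  have hζ0 : zeta (r + k) ≠ 0 := (zeta_prim (r + k) hN0).ne_zero hN0
  have hz0 : ∀ j, z j ≠ 0 := fun j => pow_ne_zero _ hζ0
  have hzc : ∀ j, (starRingEnd ℂ) (z j) = (z j)⁻¹ := by
    intro j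
    rw [hzdef]
    simp only [map_pow, conj_zeta, inv_pow]
  set δ : Fin r → ℕ := fun i => r - 1 - (i : ℕ) with hδdef
  set s : ℂ := ((Equiv.Perm.sign (Fin.revPerm : Equiv.Perm (Fin r)) : ℤ) : ℂ) with hsdef
  have hss : s * s = 1 := sign_mul_self _
  have hs0 : s ≠ 0 := sign_ne_zero _
  set P : ℂ := ∏ j, z j with hPdef
  have hP0 : P ≠ 0 := Finset.prod_ne_zero_iff.mpr fun j _ => hz0 j
  have hδvdm : alt z δ = s * vdm (r + k) v := alt_delta (r + k) v
  have hvdm0 : vdm (r + k) v ≠ 0 := vdm_ne_zero (r + k) r hN v hvinj hvN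
  have hcv0 : (starRingEnd ℂ) (vdm (r + k) v) ≠ 0 := (map_ne_zero _).mpr hvdm0
  have hδ0 : alt z δ ≠ 0 := by rw [hδvdm]; exact mul_ne_zero hs0 hvdm0
  have hδc : alt z δ = P ^ (r - 1) * s * (starRingEnd ℂ) (alt z δ) :=
    alt_dual z hzc hz0 δ δ (r - 1) (by
      intro i
      have := i.isLt
      simp only [hδdef, Fin.val_rev]
      omega)
  have hb' : alt z (fun i => lam' i + (r - 1 - (i : ℕ))) = P ^ k * P ^ (r - 1) * s *
      (starRingEnd ℂ) (alt z (fun i => (k - lam' (Fin.rev i)) + (r - 1 - (i : ℕ)))) := by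
    rw [← pow_add]
    exact alt_dual z hzc hz0 _ _ (k + (r - 1)) (by
      intro i
      have := i.isLt
      have := hlam'k i
      simp only [Fin.val_rev, Fin.rev_rev]
      omega)
  rw [alt_swap (zeta (r + k)) v (fun i => lam i + (r - 1 - (i : ℕ))),
    alt_swap (zeta (r + k)) v (fun i => (k - lam' (Fin.rev i)) + (r - 1 - (i : ℕ)))] at *
  rw [hb']
  have hcδ : (starRingEnd ℂ) (alt z δ) = s * (starRingEnd ℂ) (vdm (r + k) v) := by
    rw [hδvdm, map_mul, hsdef, map_intCast]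
  have hδ2 : alt z δ = P ^ (r - 1) * s * (s * (starRingEnd ℂ) (vdm (r + k) v)) := by
    rw [← hcδ]; exact hδc
  have hPr : P ^ (r - 1) ≠ 0 := pow_ne_zero _ hP0
  -- now pure algebra
  have hδ3 : alt z δ = P ^ (r - 1) * (starRingEnd ℂ) (vdm (r + k) v) := by
    calc alt z δ = P ^ (r - 1) * s * (s * (starRingEnd ℂ) (vdm (r + k) v)) := hδ2
      _ = (s * s) * (P ^ (r - 1) * (starRingEnd ℂ) (vdm (r + k) v)) := by ring
      _ = _ := by rw [hss, one_mul]
  have hδδ : alt z δ * alt z δ =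
      (s * vdm (r + k) v) * (P ^ (r - 1) * (starRingEnd ℂ) (vdm (r + k) v)) := by
    rw [← hδ3, ← hδvdm]
  rw [div_mul_div_comm, hδδ]
  field_simp

end Groth.Agent.Helper9.Verlinde3
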