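import Mathlib
import Groth.Agent.Helper9.Verlinde
import Groth.Agent.Helper9.Verlinde2
import Groth.Agent.Helper9.Verlinde3

set_option autoImplicit false
universe u

namespace Groth.Agent.Helper9.Verlinde4

open Finset
open Groth.Agent.Helper9.Verlinde (zeta zeta_prim conj_zeta vdm vdm_mul_conj)
open Groth.Agent.Helper9.Verlinde2 (alt alt_perm sign_mul_self sign_ne_zero vdm_ne_zero strictAnti_gap)
open Groth.Agent.Helper9.Verlinde3 (G core' alt_dual alt_delta)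

theorem sum_antitone_eq0 (r k : ℕ) (hr : 1 ≤ r) (F : (Fin r → ℕ) → ℂ) :
    ∑ μ ∈ univ.filter (fun μ : Fin r → Fin (k + 1) =>
        Antitone μ ∧ ∀ i : Fin r, (i : ℕ) = r - 1 → (μ i : ℕ) = 0),
      F (fun i => (μ i : ℕ) + (r - 1 - (i : ℕ))) =
    ∑ a ∈ univ.filter (fun a : Fin r → Fin (r + k) =>
        StrictAnti a ∧ ∀ i : Fin r, (i : ℕ) = r - 1 → (a i : ℕ) = 0), F (fun i => (a i : ℕ)) := by
  have key : ∀ a : Fin r → Fin (r + k), StrictAnti a → ∀ i : Fin r,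
      (r - 1 - (i : ℕ)) ≤ (a i : ℕ) ∧ (a i : ℕ) + (i : ℕ) ≤ r + k - 1 := by
    intro a ha i
    have hsa : StrictAnti (fun i => (a i : ℕ)) := fun x y hxy => ha hxy
    have h1 : (a i : ℕ) + (i : ℕ) ≤ (a ⟨0, by omega⟩ : ℕ) :=
      strictAnti_gap _ hsa (i : ℕ) ⟨0, by omega⟩ i (by simp)
    have h2 := (a ⟨0, by omega⟩).isLt
    have h3 : (a ⟨r - 1, by omega⟩ : ℕ) + (r - 1 - (i : ℕ)) ≤ (a i : ℕ) :=
      strictAnti_gap _ hsa (r - 1 - (i : ℕ)) i ⟨r - 1, by omega⟩ (by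
        have := i.isLt
        show r - 1 = (i : ℕ) + (r - 1 - (i : ℕ))
        omega)
    have := i.isLt
    constructor <;> omega
  refine Finset.sum_bij'
    (fun μ _ => fun i => (⟨(μ i : ℕ) + (r - 1 - (i : ℕ)), by
        have := (μ i).isLt; have := i.isLt; omega⟩ : Fin (r + k)))
    (fun a ha => fun i => (⟨(a i : ℕ) - (r - 1 - (i : ℕ)), by
        have h := key a (Finset.mem_filter.mp ha).2.1 i
        have := i.isLt
        omega⟩ : Fin (k + 1))) ?_ ?_ ?_ ?_ ?_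
  · intro μ hμ
    rw [Finset.mem_filter] at hμ ⊢
    refine ⟨Finset.mem_univ _, ?_, ?_⟩
    · intro i j hij
      rw [Fin.lt_def]
      show (μ j : ℕ) + (r - 1 - (j : ℕ)) < (μ i : ℕ) + (r - 1 - (i : ℕ))
      have h1 : (μ j : ℕ) ≤ μ i := hμ.2.1 hij.le
      have h2 : (i : ℕ) < j := hij
      have := j.isLt
      omega
    · intro i hi
      show (μ i : ℕ) + (r - 1 - (i : ℕ)) = 0
      rw [hμ.2.2 i hi, hi]
      omega
  · intro a ha
    rw [Finset.mem_filter] at ha ⊢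
    refine ⟨Finset.mem_univ _, ?_, ?_⟩
    · intro i j hij
      rw [Fin.le_def]
      show (a j : ℕ) - (r - 1 - (j : ℕ)) ≤ (a i : ℕ) - (r - 1 - (i : ℕ))
      have hsa : StrictAnti (fun i => (a i : ℕ)) := fun x y hxy => ha.2.1 hxy
      have h1 : (a j : ℕ) + ((j : ℕ) - i) ≤ (a i : ℕ) :=
        strictAnti_gap _ hsa ((j : ℕ) - i) i j (by have : (i : ℕ) ≤ j := hij; omega)
      have h2 := key a ha.2.1 j
      have h3 := key a ha.2.1 i
      have : (i : ℕ) ≤ j := hij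
      have := j.isLt
      omega
    · intro i hi
      show (a i : ℕ) - (r - 1 - (i : ℕ)) = 0
      rw [ha.2.2 i hi]
      omega
  · intro μ _
    funext i
    apply Fin.ext
    show (μ i : ℕ) + (r - 1 - (i : ℕ)) - (r - 1 - (i : ℕ)) = (μ i : ℕ)
    omega
  · intro a ha
    rw [Finset.mem_filter] at ha
    funext i
    apply Fin.ext
    have h2 := key a ha.2.1 i
    show (a i : ℕ) - (r - 1 - (i : ℕ)) + (r - 1 - (i : ℕ)) = (a i : ℕ)
    omega
  · intro μ _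
    rfl

theorem main (r k : ℕ) (hr : 1 ≤ r) (hk : 1 ≤ k) (v v' : Fin r → ℕ) (hv : StrictAnti v)
    (hvlt : ∀ i, v i < r + k) (hv' : StrictAnti v') (hv'lt : ∀ i, v' i < r + k)
    (hne : ¬ ∃ a : ℤ, ∀ i, (v i : ℤ) - (v' i : ℤ) = a) :
    (∑ μ ∈ (Finset.univ : Finset (Fin r → Fin (k + 1))).filter
        (fun μ : Fin r → Fin (k + 1) => Antitone μ ∧ ∀ i : Fin r, (i : ℕ) = r - 1 → (μ i : ℕ) = 0),
      Complex.exp (-(2 * Real.pi * Complex.I * ((∑ i, (μ i : ℕ) : ℕ) : ℂ) * ((∑ j, v j : ℕ) : ℂ) /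
          ((r : ℂ) * ((r : ℂ) + k)))) *
      Complex.exp (-(2 * Real.pi * Complex.I * ((∑ i, (k - (μ (Fin.rev i) : ℕ)) : ℕ) : ℂ) *
          ((∑ j, v' j : ℕ) : ℂ) / ((r : ℂ) * ((r : ℂ) + k)))) *
      (alt (fun j => zeta (r + k) ^ v j) (fun i => (μ i : ℕ) + (r - 1 - (i : ℕ))) /
        alt (fun j => zeta (r + k) ^ v j) (fun i => r - 1 - (i : ℕ))) *
      (alt (fun j => zeta (r + k) ^ v' j) (fun i => (k - (μ (Fin.rev i) : ℕ)) + (r - 1 - (i : ℕ))) /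
        alt (fun j => zeta (r + k) ^ v' j) (fun i => r - 1 - (i : ℕ)))) = 0 := by
  have hN : 1 ≤ r + k := by omega
  have hN0 : r + k ≠ 0 := by omega
  have hr0 : (r : ℂ) ≠ 0 := by exact_mod_cast (by omega : r ≠ 0)
  have hNc : (r : ℂ) + k ≠ 0 := by exact_mod_cast hN0
  have hζ0 : zeta (r + k) ≠ 0 := (zeta_prim (r + k) hN0).ne_zero hN0
  set z : Fin r → ℂ := fun j => zeta (r + k) ^ v j with hzdef
  set z' : Fin r → ℂ := fun j => zeta (r + k) ^ v' j with hz'def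
  have hz'0 : ∀ j, z' j ≠ 0 := fun j => pow_ne_zero _ hζ0
  have hz'c : ∀ j, (starRingEnd ℂ) (z' j) = (z' j)⁻¹ := by
    intro j
    rw [hz'def]
    simp only [map_pow, conj_zeta, inv_pow]
  set δ : Fin r → ℕ := fun i => r - 1 - (i : ℕ) with hδdef
  set s : ℂ := ((Equiv.Perm.sign (Fin.revPerm : Equiv.Perm (Fin r)) : ℤ) : ℂ) with hsdef
  set sv : ℕ := ∑ j, v j with hsv
  set sv' : ℕ := ∑ j, v' j with hsv'
  set Δ : ℕ := ∑ i : Fin r, (r - 1 - (i : ℕ)) with hΔ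
  set θ : ℂ := Complex.exp (-(2 * Real.pi * Complex.I * ((sv : ℂ) - (sv' : ℂ)) /
    ((r : ℂ) * ((r + k : ℕ) : ℂ)))) with hθ
  set E3 : ℂ := Complex.exp (-(2 * Real.pi * Complex.I * (k : ℂ) * (sv' : ℂ) / ((r : ℂ) + k))) with hE3
  have hθΔ : θ ^ Δ ≠ 0 := pow_ne_zero _ (Complex.exp_ne_zero _)
  have hcore := core' hr hN v v' hv hvlt hv' hv'lt hne
  rw [← hsv, ← hsv', ← hθ, ← sum_antitone_eq0 r k hr (fun a => G θ z z' a)] at hcore
  set C : ℂ := (θ ^ Δ)⁻¹ * E3 * (∏ j, z' j) ^ (k + (r - 1)) * s / (alt z δ * alt z' δ) with hC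
  have hterm : ∀ μ : Fin r → Fin (k + 1),
      Complex.exp (-(2 * Real.pi * Complex.I * ((∑ i, (μ i : ℕ) : ℕ) : ℂ) * (sv : ℂ) /
          ((r : ℂ) * ((r : ℂ) + k)))) *
      Complex.exp (-(2 * Real.pi * Complex.I * ((∑ i, (k - (μ (Fin.rev i) : ℕ)) : ℕ) : ℂ) *
          (sv' : ℂ) / ((r : ℂ) * ((r : ℂ) + k)))) *
      (alt z (fun i => (μ i : ℕ) + (r - 1 - (i : ℕ))) / alt z δ) *
      (alt z' (fun i => (k - (μ (Fin.rev i) : ℕ)) + (r - 1 - (i : ℕ))) / alt z' δ) =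
      C * G θ z z' (fun i => (μ i : ℕ) + (r - 1 - (i : ℕ))) := by
    intro μ
    have hdual : alt z' (fun i => (k - (μ (Fin.rev i) : ℕ)) + (r - 1 - (i : ℕ))) =
        (∏ j, z' j) ^ (k + (r - 1)) * s *
          (starRingEnd ℂ) (alt z' (fun i => (μ i : ℕ) + (r - 1 - (i : ℕ)))) :=
      alt_dual z' hz'c hz'0 _ _ (k + (r - 1)) (by
        intro i
        have := i.isLt
        have := (μ (Fin.rev i)).isLt
        simp only [Fin.val_rev]
        omega)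
    have hsum : (∑ i, (k - (μ (Fin.rev i) : ℕ))) + (∑ i, (μ i : ℕ)) = r * k := by
      have h1 : (∑ i, (k - (μ (Fin.rev i) : ℕ))) = ∑ i, (k - (μ i : ℕ)) :=
        Equiv.sum_comp (Fin.revPerm : Equiv.Perm (Fin r)) (fun i => k - (μ i : ℕ))
      rw [h1, ← Finset.sum_add_distrib]
      have h2 : ∀ i ∈ (Finset.univ : Finset (Fin r)), (k - (μ i : ℕ)) + (μ i : ℕ) = k := by
        intro i _
        have := (μ i).isLt
        omega
      rw [Finset.sum_congr rfl h2]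
      simp
    have hsumc : ((∑ i, (k - (μ (Fin.rev i) : ℕ)) : ℕ) : ℂ) = (r : ℂ) * k - ((∑ i, (μ i : ℕ) : ℕ) : ℂ) := by
      rw [eq_sub_iff_add_eq]
      exact_mod_cast hsum
    have hE : Complex.exp (-(2 * Real.pi * Complex.I * ((∑ i, (μ i : ℕ) : ℕ) : ℂ) * (sv : ℂ) /
          ((r : ℂ) * ((r : ℂ) + k)))) *
        Complex.exp (-(2 * Real.pi * Complex.I * ((∑ i, (k - (μ (Fin.rev i) : ℕ)) : ℕ) : ℂ) *
          (sv' : ℂ) / ((r : ℂ) * ((r : ℂ) + k)))) = θ ^ (∑ i, (μ i : ℕ)) * E3 := by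
      rw [hθ, hE3, ← Complex.exp_nat_mul, ← Complex.exp_add, ← Complex.exp_add]
      congr 1
      rw [hsumc]
      push_cast
      field_simp
      ring
    have hG : G θ z z' (fun i => (μ i : ℕ) + (r - 1 - (i : ℕ))) =
        θ ^ (∑ i, (μ i : ℕ)) * θ ^ Δ * alt z (fun i => (μ i : ℕ) + (r - 1 - (i : ℕ))) *
          (starRingEnd ℂ) (alt z' (fun i => (μ i : ℕ) + (r - 1 - (i : ℕ)))) := by
      unfold G
      rw [Finset.sum_add_distrib, pow_add]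
    rw [hE, hG, hdual, hC]
    field_simp
  have hS : ∀ μ ∈ (Finset.univ : Finset (Fin r → Fin (k + 1))).filter
        (fun μ : Fin r → Fin (k + 1) => Antitone μ ∧ ∀ i : Fin r, (i : ℕ) = r - 1 → (μ i : ℕ) = 0),
      Complex.exp (-(2 * Real.pi * Complex.I * ((∑ i, (μ i : ℕ) : ℕ) : ℂ) * (sv : ℂ) /
          ((r : ℂ) * ((r : ℂ) + k)))) *
      Complex.exp (-(2 * Real.pi * Complex.I * ((∑ i, (k - (μ (Fin.rev i) : ℕ)) : ℕ) : ℂ) *
          (sv' : ℂ) / ((r : ℂ) * ((r : ℂ) + k)))) *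
      (alt z (fun i => (μ i : ℕ) + (r - 1 - (i : ℕ))) / alt z δ) *
      (alt z' (fun i => (k - (μ (Fin.rev i) : ℕ)) + (r - 1 - (i : ℕ))) / alt z' δ) =
      C * G θ z z' (fun i => (μ i : ℕ) + (r - 1 - (i : ℕ))) := fun μ _ => hterm μ
  rw [Finset.sum_congr rfl hS, ← Finset.mul_sum, hcore, mul_zero]

end Groth.Agent.Helper9.Verlinde4
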