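import Mathlib
import Groth.Statements.S19384

set_option autoImplicit false
universe u

namespace Groth.Agent.Helper9.VerschInf

open TensorProduct WithConv

/-- p-th powers span the dual when the Verschiebung is injective. -/
theorem span_pow_eq_top (p : ℕ) [Fact p.Prime] (k : Type u) [Field k] [CharP k p]
    (A : Type u) [CommRing A] [HopfAlgebra k A] [Coalgebra.IsCocomm k A] [Module.Finite k A] (v : A →+* FrobAlg.BaseChange p k A) (hv : Versch.IsVerschiebung p k A v)
    (hinj : Function.Injective v) :
    Submodule.span k (Set.range fun x : CartDual.D k A => x ^ p) = ⊤ := by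
  by_contra hne
  have hlt : Submodule.span k (Set.range fun x : CartDual.D k A => x ^ p) < ⊤ := lt_top_iff_ne_top.2 hne
  obtain ⟨f, hf0, hfle⟩ := Submodule.exists_le_ker_of_lt_top _ hlt
  -- f : D →ₗ k, nonzero, vanishing on p-th powers
  let g : Module.Dual k (Module.Dual k A) := f ∘ₗ (CartDual.toDual k A).symm.toLinearMap
  let a : A := (Module.evalEquiv k A).symm g
  have ha : ∀ x : CartDual.D k A, x a = f x := by
    intro x
    have h1 : (Module.evalEquiv k A) a = g := LinearEquiv.apply_symm_apply _ _
    have h2 := congrArg (fun F => F (CartDual.toDual k A x)) h1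
    simp only [Module.evalEquiv_apply, Module.Dual.eval_apply] at h2
    simpa [g, CartDual.coe_apply] using h2
  have hva : v a = v 0 := by
    rw [Versch.isVerschiebung_iff] at hv
    apply Versch.evTw_injective p k A
    intro x
    rw [hv a x, hv 0 x, ha]
    have : f (x ^ p) = 0 := hfle (Submodule.subset_span ⟨x, rfl⟩)
    rw [this]
    simp
  have ha0 : a = 0 := hinj hva
  apply hf0
  ext x
  rw [← ha x, ha0]
  simp

theorem span_pow_pow_eq_top (p : ℕ) [Fact p.Prime] (k : Type u) [Field k] [CharP k p]
    (A : Type u) [CommRing A] [HopfAlgebra k A] [Coalgebra.IsCocomm k A]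
    (h1 : Submodule.span k (Set.range fun x : CartDual.D k A => x ^ p) = ⊤) (n : ℕ) :
    Submodule.span k (Set.range fun x : CartDual.D k A => x ^ (p ^ n)) = ⊤ := by
  induction n with
  | zero =>
    rw [eq_top_iff]
    intro x _
    exact Submodule.subset_span ⟨x, by simp⟩
  | succ n ih =>
    rw [eq_top_iff, ← h1, Submodule.span_le]
    rintro _ ⟨y, rfl⟩
    have hy : y ∈ Submodule.span k (Set.range fun x : CartDual.D k A => x ^ (p ^ n)) := by
      rw [ih]; trivial
    show y ^ p ∈ _
    induction hy using Submodule.span_induction with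
    | mem z hz =>
      obtain ⟨x, rfl⟩ := hz
      refine Submodule.subset_span ⟨x, ?_⟩
      show x ^ (p ^ (n + 1)) = (x ^ (p ^ n)) ^ p
      rw [← pow_mul, pow_succ]
    | zero =>
      rw [zero_pow (Fact.out : p.Prime).ne_zero]
      exact Submodule.zero_mem _
    | add z w _ _ hz hw =>
      rw [add_pow_char]
      exact Submodule.add_mem _ hz hw
    | smul c z _ hz =>
      rw [smul_pow]
      exact Submodule.smul_mem _ _ hz

/-- rank-one maps multiply under convolution -/
theorem smulRight_mul (k : Type u) [Field k] (A : Type u) [CommRing A] [HopfAlgebra k A] (f g : CartDual.D k A) (b c : A) :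
    (toConv (f.ofConv.smulRight b) : WithConv (A →ₗ[k] A)) * toConv (g.ofConv.smulRight c) =
      toConv ((f * g).ofConv.smulRight (b * c)) := by
  apply WithConv.ofConv_injective
  ext a
  show LinearMap.mul' k A (TensorProduct.map (f.ofConv.smulRight b) (g.ofConv.smulRight c) (Coalgebra.comul a)) =
    (LinearMap.mul' k k (TensorProduct.map f.ofConv g.ofConv (Coalgebra.comul a))) • (b * c)
  generalize (Coalgebra.comul a : A ⊗[k] A) = t
  induction t using TensorProduct.induction_on with
  | zero => simp
  | tmul x y =>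
    simp only [TensorProduct.map_tmul, LinearMap.smulRight_apply, LinearMap.mul'_apply]
    rw [smul_mul_smul_comm]
  | add x y hx hy =>
    simp only [map_add, hx, hy, add_smul]

theorem smulRight_pow' (k : Type u) [Field k] (A : Type u) [CommRing A] [HopfAlgebra k A] (f : CartDual.D k A) (b : A) (m : ℕ) :
    (toConv (f.ofConv.smulRight b) : WithConv (A →ₗ[k] A)) ^ (m + 1) =
      toConv ((f ^ (m + 1)).ofConv.smulRight (b ^ (m + 1))) := by
  induction m with
  | zero => simp
  | succ m ih =>
    rw [pow_succ, ih, smulRight_mul k A, ← pow_succ, ← pow_succ]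

theorem nontrivialA (k : Type u) [Field k]
  (A : Type u) [CommRing A] [HopfAlgebra k A] : Nontrivial A :=
  (Bialgebra.counitAlgHom k A).toRingHom.domain_nontrivial

theorem charPW (k : Type u) [Field k]
  (A : Type u) [CommRing A] [HopfAlgebra k A] (p : ℕ) [Fact p.Prime] [CharP k p] [Coalgebra.IsCocomm k A] :
    CharP (WithConv (A →ₗ[k] A)) p := by
  have := nontrivialA k A
  apply charP_of_injective_algebraMap (R := k) _ p
  intro c c' h
  have h1 := congrArg (fun F : WithConv (A →ₗ[k] A) => F 1) h
  simp only [LinearMap.convAlgebraMap_apply] at h1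
  have h2 : (Coalgebra.counit (1 : A) : k) = 1 := Bialgebra.counit_one
  rw [h2, map_one, ← Algebra.algebraMap_eq_smul_one, ← Algebra.algebraMap_eq_smul_one] at h1
  exact (algebraMap k A).injective h1

/-- key expansion of the `p^n`-th power map -/
theorem powConv_expand (k : Type u) [Field k]
  (A : Type u) [CommRing A] [HopfAlgebra k A] (p : ℕ) [Fact p.Prime] [CharP k p] [Coalgebra.IsCocomm k A]
    {d : ℕ} (e : Module.Basis (Fin d) k A) (n : ℕ) (a : A) :
    (SGA3b.powConv k A (p ^ n)) a =
      ∑ j, ((toConv (e.coord j) : CartDual.D k A) ^ (p ^ n)) a • (e j) ^ (p ^ n) := by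
  have := charPW k A p
  have hpos : 0 < p ^ n := pow_pos (Fact.out : p.Prime).pos n
  obtain ⟨m, hm⟩ : ∃ m, p ^ n = m + 1 := ⟨p ^ n - 1, by omega⟩
  have h1 : (toConv (LinearMap.id : A →ₗ[k] A) : WithConv (A →ₗ[k] A)) =
      ∑ j, toConv ((e.coord j).smulRight (e j)) := by
    apply WithConv.ofConv_injective
    ext b
    rw [WithConv.ofConv_sum]
    simp only [LinearMap.id_apply, LinearMap.coe_sum, Finset.sum_apply,
      LinearMap.smulRight_apply, Module.Basis.coord_apply]
    exact (e.sum_repr b).symm
  have h2 : (toConv (SGA3b.powConv k A (p ^ n)).toLinearMap : WithConv (A →ₗ[k] A)) =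
      (toConv (LinearMap.id : A →ₗ[k] A)) ^ (p ^ n) := by
    have := AlgHom.toLinearMap_convPow (toConv (AlgHom.id k A)) (p ^ n)
    exact this
  have h3 : (toConv (LinearMap.id : A →ₗ[k] A) : WithConv (A →ₗ[k] A)) ^ (p ^ n) =
      ∑ j, toConv (((toConv (e.coord j) : CartDual.D k A) ^ (p ^ n)).ofConv.smulRight ((e j) ^ (p ^ n))) := by
    rw [h1, sum_pow_char_pow]
    refine Finset.sum_congr rfl fun j _ => ?_
    rw [hm]
    exact smulRight_pow' k A (toConv (e.coord j)) (e j) m
  have h4 := congrArg (fun F : WithConv (A →ₗ[k] A) => F a) (h2.trans h3)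
  simp only at h4
  rw [WithConv.ofConv_sum] at h4
  simpa using h4

theorem main (p : ℕ) [Fact p.Prime] (k : Type u) [Field k] [CharP k p]
    (A : Type u) [CommRing A] [HopfAlgebra k A] [Coalgebra.IsCocomm k A] [Module.Finite k A]
    (n : ℕ)
    (hn : SGA3b.powConv k A (p ^ n) = (Algebra.ofId k A).comp (Bialgebra.counitAlgHom k A))
    (v : A →+* FrobAlg.BaseChange p k A) (hv : Versch.IsVerschiebung p k A v)
    (hbij : Function.Bijective v)
    (a : A) (ha : Coalgebra.counit (R := k) a = 0) : a ^ (p ^ n) = 0 := by
  have := nontrivialA k A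
  have : CharP A p := charP_of_injective_algebraMap (algebraMap k A).injective p
  let d := Module.finrank k A
  let e : Module.Basis (Fin d) k A := Module.finBasis k A
  let x : Fin d → CartDual.D k A := fun j => toConv (e.coord j)
  let u : Fin d → CartDual.D k A := fun j => x j ^ (p ^ n)
  have hspan : ⊤ ≤ Submodule.span k (Set.range u) := by
    rw [← span_pow_pow_eq_top p k A (span_pow_eq_top p k A v hv hbij.1) n, Submodule.span_le]
    rintro _ ⟨y, rfl⟩
    have hy : y = ∑ j, (y (e j)) • x j := by
      apply WithConv.ofConv_injective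
      rw [WithConv.ofConv_sum]
      exact (e.sum_dual_apply_smul_coord y.ofConv).symm
    show y ^ (p ^ n) ∈ _
    rw [hy, sum_pow_char_pow]
    refine Submodule.sum_mem _ fun j _ => ?_
    rw [smul_pow]
    exact Submodule.smul_mem _ _ (Submodule.subset_span ⟨j, rfl⟩)
  have hcard : Fintype.card (Fin d) = Module.finrank k (CartDual.D k A) := by
    rw [Fintype.card_fin, (CartDual.toDual k A).finrank_eq, Subspace.dual_finrank_eq]
  have hli : LinearIndependent k u := linearIndependent_of_top_le_span_of_card_eq_finrank hspan hcard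
  have h1mem : (1 : CartDual.D k A) ∈ Submodule.span k (Set.range u) := hspan trivial
  obtain ⟨γ, hγ⟩ := (Submodule.mem_span_range_iff_exists_fun k).1 h1mem
  have key : ∀ b : A, ∑ j, (u j) b • ((e j) ^ (p ^ n) - γ j • (1 : A)) = 0 := by
    intro b
    have h1 := powConv_expand k A p e n b
    rw [hn] at h1
    have h2 : (Coalgebra.counit b : k) = ∑ j, γ j * (u j) b := by
      have := congrArg (fun F : CartDual.D k A => F b) hγ
      simp only [LinearMap.convOne_apply, Algebra.algebraMap_self, RingHom.id_apply] at this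
      rw [← this]
      rw [CartDual.coe_apply, WithConv.ofConv_sum]
      simp [CartDual.coe_apply]
    simp only [smul_sub, Finset.sum_sub_distrib]
    rw [← h1]
    simp only [AlgHom.comp_apply, Bialgebra.counitAlgHom_apply, Algebra.ofId_apply]
    rw [h2, Algebra.algebraMap_eq_smul_one, Finset.sum_smul, sub_eq_zero]
    refine Finset.sum_congr rfl fun j _ => ?_
    rw [smul_smul, mul_comm]
  have hej : ∀ j, (e j) ^ (p ^ n) = γ j • (1 : A) := by
    intro j
    rw [← sub_eq_zero]
    by_contra hne
    obtain ⟨φ, hφ⟩ : ∃ φ : Module.Dual k A, φ ((e j) ^ (p ^ n) - γ j • (1 : A)) ≠ 0 := by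
      by_contra hcon
      push Not at hcon
      exact hne ((Module.forall_dual_apply_eq_zero_iff k _).1 hcon)
    have hsum : ∑ i, φ ((e i) ^ (p ^ n) - γ i • (1 : A)) • u i = 0 := by
      apply WithConv.ofConv_injective
      ext b
      have := congrArg φ (key b)
      rw [map_sum, map_zero] at this
      rw [WithConv.ofConv_sum]
      simp only [LinearMap.coe_sum, Finset.sum_apply, WithConv.ofConv_smul, LinearMap.smul_apply, WithConv.ofConv_zero, LinearMap.zero_apply]
      rw [← this]
      refine Finset.sum_congr rfl fun i _ => ?_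
      rw [map_smul, smul_eq_mul, smul_eq_mul, mul_comm]
    exact hφ (Fintype.linearIndependent_iff.1 hli _ hsum j)
  have hrepr : a = ∑ j, e.repr a j • e j := (e.sum_repr a).symm
  have hpow : a ^ (p ^ n) = (∑ j, (e.repr a j) ^ (p ^ n) * γ j) • (1 : A) := by
    conv_lhs => rw [hrepr]
    rw [sum_pow_char_pow, Finset.sum_smul]
    refine Finset.sum_congr rfl fun j _ => ?_
    rw [smul_pow, hej, smul_smul]
  have hc : (∑ j, (e.repr a j) ^ (p ^ n) * γ j) = 0 := by
    have := congrArg (Bialgebra.counitAlgHom k A) hpow
    rw [map_pow, map_smul, map_one, Bialgebra.counitAlgHom_apply, ha, zero_pow (pow_pos (Fact.out : p.Prime).pos n).ne', smul_eq_mul, mul_one] at this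
    exact this.symm
  rw [hpow, hc, zero_smul]

end Groth.Agent.Helper9.VerschInf
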