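import Mathlib

/-! Weakly contractible objects: covering sieves split after sheafification iff sections are
exact on epimorphisms (S6442). -/

set_option autoImplicit false
universe u

open CategoryTheory CategoryTheory.Limits Opposite

namespace Groth.Agent.Helper9.WCSplit

variable {C : Type u} [SmallCategory C] (J : GrothendieckTopology C) (U : C)

/-- index type -/
abbrev Idx (S : Sieve U) : Type u := Σ V : C, {f : V ⟶ U // S f}

/-- the coproduct of representables of a sieve -/
noncomputable abbrev cop (S : Sieve U) : Cᵒᵖ ⥤ Type u := ∐ fun i : Idx U S => yoneda.obj i.1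

/-- the canonical map to `h_U` -/
noncomputable abbrev π (S : Sieve U) : cop U S ⟶ yoneda.obj U :=
  Sigma.desc (fun i : Idx U S => yoneda.map i.2.1)

/-- the sheafification adjunction -/
noncomputable abbrev adj := sheafificationAdjunction J (Type u)

lemma isLocallySurjective_π (S : Sieve U) (hS : S ∈ J U) :
    Presheaf.IsLocallySurjective J (π U S) := by
  constructor
  intro V x
  have hx : S.pullback (x : V ⟶ U) ∈ J V := J.pullback_stable x hS
  refine J.superset_covering ?_ hx
  intro W f hf
  let i : Idx U S := ⟨W, ⟨f ≫ x, hf⟩⟩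
  refine ⟨(Sigma.ι (fun i : Idx U S => yoneda.obj i.1) i).app (op W) (𝟙 W), ?_⟩
  have h1 : Sigma.ι (fun i : Idx U S => yoneda.obj i.1) i ≫ π U S = yoneda.map (f ≫ x) :=
    Sigma.ι_desc _ _
  have h2 := congrArg (fun t => t.app (op W) (𝟙 W)) h1
  refine h2.trans ?_
  change 𝟙 W ≫ f ≫ x = f ≫ x
  simp

theorem forward
    (h : ∀ S : Sieve U, S ∈ J U → IsSplitEpi ((presheafToSheaf J (Type u)).map (π U S)))
    (F G : Sheaf J (Type u)) (φ : F ⟶ G) (hφ : Epi φ) :
    Function.Surjective (φ.hom.app (op U)) := by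
  intro s
  haveI : Sheaf.IsLocallySurjective φ := (Sheaf.isLocallySurjective_iff_epi φ).2 hφ
  let S : Sieve U := Presheaf.imageSieve φ.hom s
  have hS : S ∈ J U := Presheaf.imageSieve_mem J φ.hom s
  have hch : ∀ i : Idx U S, ∃ t : F.obj.obj (op i.1), φ.hom.app (op i.1) t = G.obj.map i.2.1.op s :=
    fun i => i.2.2
  choose t ht using hch
  let τ : cop U S ⟶ F.obj := Sigma.desc (fun i => yonedaEquiv.symm (t i))
  let τs : (presheafToSheaf J (Type u)).obj (cop U S) ⟶ F := ((adj J).homEquiv _ _).symm τ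
  let ŝ : (presheafToSheaf J (Type u)).obj (yoneda.obj U) ⟶ G :=
    ((adj J).homEquiv _ _).symm (yonedaEquiv.symm s)
  obtain ⟨⟨σ, hσ⟩⟩ := h S hS
  have key : (presheafToSheaf J (Type u)).map (π U S) ≫ ŝ = τs ≫ φ := by
    apply ((adj J).homEquiv _ _).injective
    rw [Adjunction.homEquiv_naturality_left, Adjunction.homEquiv_naturality_right,
      Equiv.apply_symm_apply, Equiv.apply_symm_apply]
    apply Sigma.hom_ext
    intro i
    rw [Sigma.ι_desc_assoc, Sigma.ι_desc_assoc, yonedaEquiv_symm_naturality_left]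
    change _ = yonedaEquiv.symm (t i) ≫ φ.hom
    rw [yonedaEquiv_symm_naturality_right, ht]
    rfl
  refine ⟨yonedaEquiv ((adj J).homEquiv _ _ (σ ≫ τs)), ?_⟩
  have h1 : σ ≫ τs ≫ φ = ŝ := by
    rw [← key, ← Category.assoc, hσ, Category.id_comp]
  have h2 : (adj J).homEquiv _ _ ((σ ≫ τs) ≫ φ) = yonedaEquiv.symm s := by
    rw [Category.assoc, h1, Equiv.apply_symm_apply]
  rw [Adjunction.homEquiv_naturality_right] at h2
  have h3 := congrArg yonedaEquiv h2
  rw [Equiv.apply_symm_apply] at h3
  exact h3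

theorem backward
    (h : ∀ (F G : Sheaf J (Type u)) (φ : F ⟶ G), Epi φ → Function.Surjective (φ.hom.app (op U)))
    (S : Sieve U) (hS : S ∈ J U) :
    IsSplitEpi ((presheafToSheaf J (Type u)).map (π U S)) := by
  haveI : Presheaf.IsLocallySurjective J (π U S) := isLocallySurjective_π J U S hS
  haveI : Sheaf.IsLocallySurjective ((presheafToSheaf J (Type u)).map (π U S)) :=
    (Presheaf.isLocallySurjective_presheafToSheaf_map_iff (J := J) (φ := π U S)).2 inferInstance
  have hepi : Epi ((presheafToSheaf J (Type u)).map (π U S)) := inferInstance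
  let u₀ := yonedaEquiv ((adj J).unit.app (yoneda.obj U))
  obtain ⟨t, ht⟩ := h _ _ _ hepi u₀
  refine ⟨⟨((adj J).homEquiv _ _).symm (yonedaEquiv.symm t), ?_⟩⟩
  apply ((adj J).homEquiv _ _).injective
  rw [Adjunction.homEquiv_naturality_right, Equiv.apply_symm_apply]
  apply yonedaEquiv.injective
  change yonedaEquiv (yonedaEquiv.symm t ≫ ((presheafToSheaf J (Type u)).map (π U S)).hom) = _
  rw [yonedaEquiv_symm_naturality_right, Equiv.apply_symm_apply, ht]
  rw [Adjunction.homEquiv_unit, CategoryTheory.Functor.map_id]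
  erw [Category.comp_id]

end Groth.Agent.Helper9.WCSplit
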