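import Mathlib
import Groth.Prelude.Def_RedSub

set_option autoImplicit false
universe u

namespace Groth.Agent.Helper9.WeylExch

open RootPairing

variable {idx M N : Type} [AddCommGroup M] [AddCommGroup N]
  (P : RootPairing idx ℤ M N) (b : P.Base)

theorem closure_sum {m : M} (hm : m ∈ AddSubmonoid.closure (P.root '' (b.support : Set idx))) :
    ∃ f : idx → ℕ, m = ∑ j ∈ b.support, f j • P.root j := by
  classical
  refine AddSubmonoid.closure_induction ?_ ⟨0, by simp⟩ ?_ hm
  · rintro - ⟨j, hj, rfl⟩
    refine ⟨Pi.single j 1, ?_⟩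
    rw [Finset.sum_eq_single_of_mem j hj]
    · simp
    · intro i _ hij
      simp [Pi.single_apply, hij]
  · intro _ _ _ _ ⟨f, hf'⟩ ⟨g, hg'⟩
    exact ⟨f + g, by simp [hf', hg', add_smul, Finset.sum_add_distrib]⟩

theorem isPos_of_mem_posRoots {c : idx} (hc : c ∈ RedSub.posRoots P b) : b.IsPos c := by
  obtain ⟨f, hf⟩ := closure_sum P b hc
  rw [b.isPos_iff']
  have h : P.root c = ∑ j ∈ b.support, ((fun j => (f j : ℤ)) j) • P.root j := by
    rw [hf]
    exact Finset.sum_congr rfl fun j _ => (natCast_zsmul _ _).symm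
  rw [Base.height_eq_sum h]
  exact Finset.sum_nonneg fun j _ => Int.natCast_nonneg _

theorem not_isPos_of_mem_negRoots {c : idx} (hc : c ∈ RedSub.negRoots P b) : ¬ b.IsPos c := by
  obtain ⟨f, hf⟩ := closure_sum P b hc
  rw [b.isPos_iff, not_lt]
  have h : P.root c = ∑ j ∈ b.support, ((fun j => -(f j : ℤ)) j) • P.root j := by
    rw [← neg_neg (P.root c), hf, ← Finset.sum_neg_distrib]
    exact Finset.sum_congr rfl fun j _ => by rw [neg_smul, natCast_zsmul]
  rw [Base.height_eq_sum h, Finset.sum_neg_distrib]
  exact neg_nonpos.mpr (Finset.sum_nonneg fun j _ => Int.natCast_nonneg _)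

theorem reflectionPerm_conj (i j : idx) :
    P.reflectionPerm (P.reflectionPerm j i) =
      P.reflectionPerm j * P.reflectionPerm i * P.reflectionPerm j := by
  ext k
  apply P.root.injective
  simp only [Equiv.Perm.mul_apply, root_reflectionPerm, reflection_reflectionPerm]
  rfl

theorem wordPerm_cons (j : idx) (l : List idx) :
    RedSub.wordPerm P (j :: l) = P.reflectionPerm j * RedSub.wordPerm P l := by
  simp [RedSub.wordPerm]

theorem wordPerm_append_singleton (l : List idx) (j : idx) :
    RedSub.wordPerm P (l ++ [j]) = RedSub.wordPerm P l * P.reflectionPerm j := by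
  simp [RedSub.wordPerm]

theorem reflectionPerm_wordPerm (l : List idx) (a : idx) :
    P.reflectionPerm (RedSub.wordPerm P l a) =
      RedSub.wordPerm P l * P.reflectionPerm a * (RedSub.wordPerm P l)⁻¹ := by
  induction l with
  | nil => simp [RedSub.wordPerm]
  | cons j l ih =>
    rw [wordPerm_cons, Equiv.Perm.mul_apply, reflectionPerm_conj, ih, mul_inv_rev,
      P.reflectionPerm_inv]
    simp only [mul_assoc]

end Groth.Agent.Helper9.WeylExch
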