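import Groth.Prelude.Def_W4c6katofiltaWFil
import Groth.Agent.Helper9.AwayRoot
import Mathlib

/-! Laurent monomials in units and divisibility by products of primes (helper9). -/

set_option autoImplicit false

namespace Groth.Agent.Helper9

open WittFil

section zmon

variable {B : Type*} [CommRing B] {r : ℕ} (u : Fin r → Bˣ)

theorem zmon_add (n n' : Fin r → ℤ) : zmon u (n + n') = zmon u n * zmon u n' := by
  unfold zmon
  rw [← Units.val_mul, ← Finset.prod_mul_distrib]
  congr 2
  funext i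
  simp [zpow_add]

theorem zmon_zero : zmon u (0 : Fin r → ℤ) = 1 := by simp [zmon]

theorem zmon_pow (n : Fin r → ℤ) (t : ℕ) : zmon u n ^ t = zmon u (fun i => (t : ℤ) * n i) := by
  unfold zmon
  rw [← Units.val_pow_eq_pow_val, ← Finset.prod_pow]
  congr 2
  funext i
  show (u i ^ n i) ^ t = u i ^ ((t : ℤ) * n i)
  rw [mul_comm, zpow_mul, zpow_natCast]

theorem zmon_natCast {A : Type*} [CommRing A] [Algebra A B] (x : Fin r → A)
    (hu : ∀ i, (u i : B) = algebraMap A B (x i)) (k : Fin r → ℕ) :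
    zmon u (fun i => (k i : ℤ)) = algebraMap A B (∏ i, x i ^ k i) := by
  unfold zmon
  rw [map_prod, Units.coe_prod]
  refine Finset.prod_congr rfl fun i _ => ?_
  rw [zpow_natCast, Units.val_pow_eq_pow_val, hu, map_pow]

end zmon

section ufd

variable {A : Type*} [CommRing A] [IsDomain A] [UniqueFactorizationMonoid A] {r : ℕ}
  (x : Fin r → A) (hx : ∀ i, Prime (x i)) (hxa : ∀ i j, Associated (x i) (x j) → i = j)

include hx hxa in
theorem prod_dvd_of_forall_dvd (β : A) (h : ∀ i, x i ∣ β) : ∏ i, x i ∣ β := by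
  apply Fintype.prod_dvd_of_isRelPrime _ h
  intro i j hij
  show IsRelPrime (x i) (x j)
  rw [(hx i).irreducible.isRelPrime_iff_not_dvd]
  intro hd
  exact hij (hxa i j ((hx i).associated_of_dvd (hx j) hd))

include hx hxa in
/-- If `β ^ N = α * ∏ x_i ^ k_i` with all `k_i ≥ 1`, then `∏ x_i ∣ β`. -/
theorem prod_dvd_of_pow_eq (β α : A) (N : ℕ) (k : Fin r → ℕ) (hk : ∀ i, 1 ≤ k i)
    (h : β ^ N = α * ∏ i, x i ^ k i) : ∏ i, x i ∣ β := by
  apply prod_dvd_of_forall_dvd x hx hxa
  intro i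
  apply (hx i).dvd_of_dvd_pow (n := N)
  rw [h]
  apply Dvd.dvd.mul_left
  exact (dvd_pow_self (x i) (by have := hk i; omega)).trans
    (Finset.dvd_prod_of_mem (fun i => x i ^ k i) (Finset.mem_univ i))

variable {B : Type*} [CommRing B] [Algebra A B] [IsLocalization.Away (∏ i, x i) B]

include hx hxa in
/-- If `z ^ N * ∏ x_i ^ e_i` comes from `A` with all `e_i < N`, then `z` comes from `A`. -/
theorem mem_range_of_pow_mul_prod_mem_range (z : B) (N : ℕ) (e : Fin r → ℕ) (he : ∀ i, e i < N)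
    (hN : N ≠ 0)
    (h : z ^ N * algebraMap A B (∏ i, x i ^ e i) ∈ (algebraMap A B).range) :
    z ∈ (algebraMap A B).range := by
  have hπ : (∏ i, x i) ≠ 0 := Finset.prod_ne_zero_iff.mpr fun i _ => (hx i).ne_zero
  have hinj : Function.Injective (algebraMap A B) :=
    IsLocalization.injective B (powers_le_nonZeroDivisors_of_noZeroDivisors hπ)
  obtain ⟨α, hα⟩ := h
  have h1 : (z * algebraMap A B (∏ i, x i)) ^ N =
      algebraMap A B (α * ∏ i, x i ^ (N - e i)) := by
    rw [map_mul, hα, mul_assoc, ← map_mul, ← Finset.prod_mul_distrib, mul_pow, ← map_pow,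
      ← Finset.prod_pow]
    congr 2
    refine Finset.prod_congr rfl fun i _ => ?_
    rw [← pow_add]
    congr 1
    have := he i
    omega
  obtain ⟨β, hβ⟩ := mem_range_of_pow_mem_range (∏ i, x i) hπ (z * algebraMap A B (∏ i, x i)) N hN
    ⟨_, h1.symm⟩
  have h2 : β ^ N = α * ∏ i, x i ^ (N - e i) := by
    apply hinj
    rw [map_pow, hβ, h1]
  obtain ⟨γ, rfl⟩ := prod_dvd_of_pow_eq x hx hxa β α N (fun i => N - e i)
    (fun i => by have := he i; omega) h2
  refine ⟨γ, ?_⟩
  have hu : IsUnit (algebraMap A B (∏ i, x i)) := IsLocalization.Away.algebraMap_isUnit _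
  apply hu.mul_left_injective
  show algebraMap A B γ * algebraMap A B (∏ i, x i) = z * algebraMap A B (∏ i, x i)
  rw [← hβ, map_mul, mul_comm]

end ufd


/-- If `z ^ P * u ^ n` comes from `A` and `P ∤ n`, then `z ^ P * u ^ (n - 1)` comes from `A`. -/
theorem pow_mul_zpow_pred_mem_range {A B : Type*} [CommRing A] [IsDomain A]
    [UniqueFactorizationMonoid A] [CommRing B] [Algebra A B] (x : A) (hx : Prime x)
    [IsLocalization.Away x B] (u : Bˣ) (hu : (u : B) = algebraMap A B x) (P : ℕ) (hP : P ≠ 0)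
    (n : ℤ) (hn : ¬ ((P : ℤ) ∣ n)) (z : B)
    (h : z ^ P * ((u ^ n : Bˣ) : B) ∈ (algebraMap A B).range) :
    z ^ P * ((u ^ (n - 1) : Bˣ) : B) ∈ (algebraMap A B).range := by
  have hinj : Function.Injective (algebraMap A B) :=
    IsLocalization.injective B (powers_le_nonZeroDivisors_of_noZeroDivisors hx.ne_zero)
  by_cases hz : z = 0
  · rw [hz, zero_pow hP, zero_mul]
    exact zero_mem _
  obtain ⟨k, β, hβ⟩ := IsLocalization.Away.surj x z
  obtain ⟨α, hα⟩ := h
  rw [← hu] at hβ
  have hβ0 : β ≠ 0 := by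
    rintro rfl
    rw [map_zero] at hβ
    rw [← Units.val_pow_eq_pow_val] at hβ
    exact hz ((Units.mul_left_eq_zero _).mp hβ)
  set np : ℕ := n.toNat with hnp
  set nm : ℕ := (-n).toNat with hnm
  have hnpm : n + (nm : ℤ) = (np : ℤ) := by omega
  have hun : (u ^ n : Bˣ) * u ^ nm = u ^ np := by
    rw [← zpow_natCast u nm, ← zpow_natCast u np, ← zpow_add, hnpm]
  have hun' : ((u ^ n : Bˣ) : B) * (u : B) ^ nm = (u : B) ^ np := by
    rw [← Units.val_pow_eq_pow_val, ← Units.val_pow_eq_pow_val, ← Units.val_mul, hun]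
  have e1 : α * x ^ (k * P + nm) = β ^ P * x ^ np := by
    apply hinj
    rw [map_mul, map_mul, map_pow, map_pow, map_pow, ← hu, hα, ← hβ, ← hun']
    ring
  have hα0 : α ≠ 0 := by
    rintro rfl
    rw [zero_mul] at e1
    exact mul_ne_zero (pow_ne_zero _ hβ0) (pow_ne_zero _ hx.ne_zero) e1.symm
  have hdvd : x ∣ α := by
    by_contra hnd
    have m0 : multiplicity x α = 0 := multiplicity_eq_zero.mpr hnd
    have f1 : FiniteMultiplicity x (α * x ^ (k * P + nm)) :=
      FiniteMultiplicity.of_prime_left hx (mul_ne_zero hα0 (pow_ne_zero _ hx.ne_zero))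
    have f2 : FiniteMultiplicity x (β ^ P * x ^ np) :=
      FiniteMultiplicity.of_prime_left hx (mul_ne_zero (pow_ne_zero _ hβ0) (pow_ne_zero _ hx.ne_zero))
    have f3 : FiniteMultiplicity x β := FiniteMultiplicity.of_prime_left hx hβ0
    have e2 := congrArg (multiplicity x) e1
    rw [multiplicity_mul hx f1, multiplicity_mul hx f2, multiplicity_pow_self_of_prime hx,
      multiplicity_pow_self_of_prime hx, f3.multiplicity_pow hx, m0] at e2
    apply hn
    refine ⟨(k : ℤ) - (multiplicity x β : ℤ), ?_⟩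
    have e3 : ((k * P + nm : ℕ) : ℤ) = ((P * multiplicity x β + np : ℕ) : ℤ) := by
      rw [← e2, zero_add]
    push_cast at e3
    linarith
  obtain ⟨α', rfl⟩ := hdvd
  refine ⟨α', ?_⟩
  have hu1 : ((u ^ (n - 1) : Bˣ) : B) = ((u ^ n : Bˣ) : B) * ((u⁻¹ : Bˣ) : B) := by
    rw [← Units.val_mul, zpow_sub_one]
  rw [hu1, ← mul_assoc, ← hα, map_mul, ← hu, mul_comm (u : B), mul_assoc, Units.mul_inv, mul_one]

end Groth.Agent.Helper9
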