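import Mathlib
import Groth.Prelude.Def_DDual2
import Groth.Agent.Helper6.LBCAdj
import Groth.Agent.Helper6.LcD4
import Groth.Agent.Helper6.LD1
import Groth.Agent.Helper6.Coext4
import Groth.Agent.Helper9.SV5
import Groth.Agent.Helper3.DRingDev

/-!
# From maps to the residue field to the derived fibre
-/

set_option autoImplicit false
set_option linter.style.haveILetI false
set_option linter.unusedSectionVars false

universe u
open CategoryTheory CategoryTheory.Limits Pretriangulated DerivedCategory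
attribute [local instance] HasDerivedCategory.standard

namespace Groth.Agent.Helper9.XI4
open Groth.Agent.Helper3.DRingLib Groth.Agent.Helper6

section VS

variable {k : Type u} [Field k]

lemma subsingleton_of_dual (V : Type u) [AddCommGroup V] [Module k V]
    (h : ∀ f : Module.Dual k V, f = 0) : Subsingleton V := by
  refine ⟨fun v w => ?_⟩
  have h1 : ∀ v : V, v = 0 := fun v =>
    (Module.forall_dual_apply_eq_zero_iff k v).mp (fun f => by rw [h f]; rfl)
  rw [h1 v, h1 w]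

lemma nonempty_equiv_of_dual (V : Type u) [AddCommGroup V] [Module k V]
    (hnt : ∃ f : Module.Dual k V, f ≠ 0)
    (hcyc : ∀ f g : Module.Dual k V, f ≠ 0 → ∃ c : k, g = c • f) : Nonempty (V ≃ₗ[k] k) := by
  obtain ⟨f, hf⟩ := hnt
  have hsurj : Function.Surjective f := by
    obtain ⟨v, hv⟩ : ∃ v, f v ≠ 0 := by
      by_contra hcon
      apply hf
      ext v
      by_contra h
      exact hcon ⟨v, h⟩
    intro c
    refine ⟨(c * (f v)⁻¹) • v, ?_⟩
    rw [map_smul, smul_eq_mul, mul_assoc, inv_mul_cancel₀ hv, mul_one]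
  have hinj : Function.Injective f := by
    rw [injective_iff_map_eq_zero]
    intro v hv
    by_contra hne
    obtain ⟨g, hg⟩ : ∃ g : Module.Dual k V, g v ≠ 0 := by
      by_contra hcon
      exact hne ((Module.forall_dual_apply_eq_zero_iff k v).mp
        (fun g => by_contra (fun h => hcon ⟨g, h⟩)))
    obtain ⟨c, hc⟩ := hcyc f g hf
    apply hg
    rw [hc, LinearMap.smul_apply, hv, smul_zero]
  exact ⟨LinearEquiv.ofBijective f ⟨hinj, hsurj⟩⟩

end VS

section main

variable {A k : Type u} [CommRing A] [Field k] (φ : A →+* k) [DRing.HasLBaseChange φ]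

/-- the adjunction bijection followed by an identification of the target -/
noncomputable def Ψ (X : Dual.D A) (W : Dual.D k) (T : Dual.D A)
    (σ : (DRing.restrictD φ).obj W ≅ T) (f : (DRing.LBaseChange φ).obj X ⟶ W) : X ⟶ T :=
  (LBCAdj.adj φ).homEquiv X W f ≫ σ.hom

lemma Ψ_injective (X : Dual.D A) (W : Dual.D k) (T : Dual.D A)
    (σ : (DRing.restrictD φ).obj W ≅ T) : Function.Injective (Ψ φ X W T σ) := by
  intro f g hfg
  unfold Ψ at hfg
  exact ((LBCAdj.adj φ).homEquiv X W).injective ((cancel_mono σ.hom).mp hfg)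

lemma Ψ_surjective (X : Dual.D A) (W : Dual.D k) (T : Dual.D A)
    (σ : (DRing.restrictD φ).obj W ≅ T) : Function.Surjective (Ψ φ X W T σ) := by
  intro g
  refine ⟨((LBCAdj.adj φ).homEquiv X W).symm (g ≫ σ.inv), ?_⟩
  unfold Ψ
  rw [Equiv.apply_symm_apply, Category.assoc, Iso.inv_hom_id, Category.comp_id]

lemma Ψ_zero (X : Dual.D A) (W : Dual.D k) (T : Dual.D A)
    (σ : (DRing.restrictD φ).obj W ≅ T) : Ψ φ X W T σ 0 = 0 := by
  unfold Ψ
  rw [Adjunction.homEquiv_unit, Functor.map_zero, comp_zero, zero_comp]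

lemma Ψ_smul (X : Dual.D A) (W : Dual.D k) (T : Dual.D A)
    (σ : (DRing.restrictD φ).obj W ≅ T) (x : A) (f : (DRing.LBaseChange φ).obj X ⟶ W) :
    Ψ φ X W T σ (φ x • f) = x • Ψ φ X W T σ f := by
  unfold Ψ
  rw [Adjunction.homEquiv_unit, Adjunction.homEquiv_unit, SV5.res_map_smul, Linear.comp_smul,
    Linear.smul_comp]

/-- maps to a shift of the field in terms of the dual of cohomology -/
noncomputable def dualEquiv (Z : Dual.D k) (j i : ℤ) (h : i + j = 0) :
    (Z ⟶ (Dual.inD k k)⟦j⟧) ≃ₗ[k] (Dual.HD k Z i →ₗ[k] k) :=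
  haveI : Module.Injective k k := Module.injective_of_isSemisimpleRing k k
  (LD.shiftHomEquiv' Z (Dual.inD k k) i j h).symm ≪≫ₗ LcD.barEquiv k (Z⟦i⟧) ≪≫ₗ
    LinearEquiv.arrowCongr (Coext.hdShift Z i 0 i (by omega)) (LinearEquiv.refl k k)

theorem main (X : Dual.D A) (n c : ℤ) (hnc : n + c = 0)
    (κA : Dual.D A) (τ : (DRing.restrictD φ).obj (Dual.inD k k) ≅ κA)
    (h0 : ∀ j : ℤ, j ≠ n → Subsingleton (X ⟶ κA⟦j⟧))
    (h1 : ∃ f : X ⟶ κA⟦n⟧, f ≠ 0)
    (h2 : ∀ f g : X ⟶ κA⟦n⟧, f ≠ 0 → ∃ x : A, g = x • f) :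
    Nonempty ((DRing.LBaseChange φ).obj X ≅ (Dual.inD k k)⟦n⟧) := by
  obtain rfl : n = -c := by omega
  let Z := (DRing.LBaseChange φ).obj X
  let σ : ∀ j : ℤ, (DRing.restrictD φ).obj ((Dual.inD k k)⟦j⟧) ≅ κA⟦j⟧ := fun j =>
    ((DRing.restrictD φ).commShiftIso j).app _ ≪≫ (shiftFunctor (Dual.D A) j).mapIso τ
  -- vanishing
  have hsub : ∀ i : ℤ, i ≠ c → Subsingleton (Dual.HD k Z i) := by
    intro i hi
    haveI := h0 (-i) (by omega)
    haveI : Subsingleton (Z ⟶ (Dual.inD k k)⟦-i⟧) :=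
      (Ψ_injective φ X _ _ (σ (-i))).subsingleton
    apply subsingleton_of_dual (k := k)
    intro f
    apply (dualEquiv Z (-i) i (by omega)).symm.injective
    exact Subsingleton.elim _ _
  -- the nonzero degree
  obtain ⟨u⟩ : Nonempty (Dual.HD k Z c ≃ₗ[k] k) := by
    apply nonempty_equiv_of_dual
    · obtain ⟨f₀, hf₀⟩ := h1
      obtain ⟨f, hf⟩ := Ψ_surjective φ X _ _ (σ (-c)) f₀
      refine ⟨dualEquiv Z (-c) c (by omega) f, fun h => hf₀ ?_⟩
      have h3 : f = 0 := (dualEquiv Z (-c) c (by omega)).injective (by rw [h, map_zero])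
      rw [← hf, h3, Ψ_zero]
    · intro f g hf
      obtain ⟨f', rfl⟩ := (dualEquiv Z (-c) c (by omega)).surjective f
      obtain ⟨g', rfl⟩ := (dualEquiv Z (-c) c (by omega)).surjective g
      have hf' : Ψ φ X _ _ (σ (-c)) f' ≠ 0 := by
        intro h
        apply hf
        have h3 : f' = 0 := Ψ_injective φ X _ _ (σ (-c)) (by rw [h, Ψ_zero])
        rw [h3, map_zero]
      obtain ⟨x, hx⟩ := h2 _ (Ψ φ X _ _ (σ (-c)) g') hf'
      refine ⟨φ x, ?_⟩
      rw [← map_smul]
      congr 1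
      apply Ψ_injective φ X _ _ (σ (-c))
      rw [hx, Ψ_smul]
  haveI : Z.IsGE c := isGE_of_HD Z c (fun i hi => hsub i (by omega))
  haveI : Z.IsLE c := isLE_of_HD Z c (fun i hi => hsub i (by omega))
  obtain ⟨e⟩ := exists_iso_single_HD Z c
  exact ⟨e ≪≫ (shiftFunctor (Dual.D k) (-c)).mapIso
    ((singleFunctor (ModuleCat.{u} k) 0).mapIso u.toModuleIso)⟩

end main

end Groth.Agent.Helper9.XI4
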