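import Mathlib
import Groth.Prelude.Def_DualSh
import Groth.Agent.Helper9.RE3

/-!
# `Ext_B(B/(l), B)` for a (weakly) regular sequence `l`:
concentrated in degree `length l`, cyclic with annihilator `(l)`
-/

set_option autoImplicit false
set_option linter.style.haveILetI false
set_option linter.unusedSectionVars false

universe u
open CategoryTheory CategoryTheory.Limits DerivedCategory Pretriangulated
attribute [local instance] HasDerivedCategory.standard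

namespace Groth.Agent.Helper9.XR1

variable {B : Type u} [CommRing B]

/-- the `Ext` groups `Hom(X, B[j])` are concentrated in degree `c`, where they form a cyclic
module with annihilator `J` -/
def ExtDataM (X : Dual.D B) (J : Ideal B) (c : ℤ) : Prop :=
  (∀ j : ℤ, j ≠ c → Subsingleton (X ⟶ (Dual.inD B B)⟦j⟧)) ∧
  ∃ e : X ⟶ (Dual.inD B B)⟦c⟧, (∀ y : X ⟶ (Dual.inD B B)⟦c⟧, ∃ b : B, y = b • e) ∧
    (∀ b : B, b • e = 0 ↔ b ∈ J)

lemma extDataM_of_iso {X X' : Dual.D B} (i : X ≅ X') {J : Ideal B} {c : ℤ}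
    (h : ExtDataM X J c) : ExtDataM X' J c := by
  obtain ⟨h1, e, h2, h3⟩ := h
  refine ⟨fun j hj => ?_, i.inv ≫ e, fun y => ?_, fun b => ?_⟩
  · haveI := h1 j hj
    exact (Iso.homCongr i (Iso.refl ((Dual.inD B B)⟦j⟧))).symm.subsingleton
  · obtain ⟨b, hb⟩ := h2 (i.hom ≫ y)
    refine ⟨b, ?_⟩
    rw [← Linear.comp_smul, ← hb, Iso.inv_hom_id_assoc]
  · rw [← Linear.comp_smul, ← h3 b]
    constructor
    · intro h
      rw [← cancel_epi i.inv, h, comp_zero]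
    · intro h
      rw [h, comp_zero]

lemma extDataM_unit : ExtDataM (Dual.inD B B) (⊥ : Ideal B) 0 := by
  obtain ⟨hbij, hext⟩ := Groth.Agent.Helper9.RE3.selfDual_unit B
  let z : (Dual.inD B B)⟦(0 : ℤ)⟧ ≅ Dual.inD B B := (shiftFunctorZero (Dual.D B) ℤ).app _
  refine ⟨hext, z.inv, fun y => ?_, fun b => ?_⟩
  · obtain ⟨b, hb⟩ := hbij.2 (y ≫ z.hom)
    refine ⟨b, ?_⟩
    have hb' : b • 𝟙 (Dual.inD B B) = y ≫ z.hom := hb
    rw [← cancel_mono z.hom, Linear.smul_comp, Iso.inv_hom_id, hb']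
  · constructor
    · intro h
      have h1 : b • 𝟙 (Dual.inD B B) = (0 : B) • 𝟙 (Dual.inD B B) := by
        rw [zero_smul, ← z.inv_hom_id, ← Linear.smul_comp, h, zero_comp]
      exact hbij.1 h1
    · intro h
      rw [Ideal.mem_bot] at h
      rw [h, zero_smul]

/-- morphisms out of a shift -/
lemma exists_shift_preimage (X Z : Dual.D B) (a b : ℤ) (hab : a + 1 = b)
    (g : X⟦(1 : ℤ)⟧ ⟶ Z⟦b⟧) :
    ∃ h : X ⟶ Z⟦a⟧, g = h⟦(1 : ℤ)⟧' ≫ (shiftFunctorAdd' (Dual.D B) a 1 b hab).inv.app Z := by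
  obtain ⟨h, hh⟩ := (shiftFunctor (Dual.D B) (1 : ℤ)).map_surjective
    (g ≫ (shiftFunctorAdd' (Dual.D B) a 1 b hab).hom.app Z)
  refine ⟨h, ?_⟩
  rw [hh, Category.assoc, Iso.hom_inv_id_app, Category.comp_id]

/-- **the inductive step**: killing a regular element -/
theorem extDataM_step {X' X : Dual.D B} (p : X' ⟶ X) (δ : X ⟶ X'⟦(1 : ℤ)⟧) (x : B)
    (hT : Triangle.mk (x • 𝟙 X') p δ ∈ distTriang (Dual.D B)) (J : Ideal B) (c : ℤ)
    (h : ExtDataM X' J c) (hx : ∀ b : B, x * b ∈ J → b ∈ J) :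
    ExtDataM X (J ⊔ Ideal.span {x}) (c + 1) := by
  obtain ⟨h1, e, h2, h3⟩ := h
  -- vanishing helper: `Hom(X'[1], Z[j]) = 0` when `j - 1 ≠ c`
  have hv : ∀ j : ℤ, j ≠ c + 1 → ∀ g : X'⟦(1 : ℤ)⟧ ⟶ (Dual.inD B B)⟦j⟧, g = 0 := by
    intro j hj g
    obtain ⟨h, rfl⟩ := exists_shift_preimage X' (Dual.inD B B) (j - 1) j (by omega) g
    haveI := h1 (j - 1) (by omega)
    rw [Subsingleton.elim h 0, Functor.map_zero, zero_comp]
  have hxp : (x • 𝟙 X') ≫ p = 0 := comp_distTriang_mor_zero₁₂ _ hT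
  have hpδ : p ≫ δ = 0 := comp_distTriang_mor_zero₂₃ _ hT
  have hδx : δ ≫ (x • 𝟙 X')⟦(1 : ℤ)⟧' = 0 := comp_distTriang_mor_zero₃₁ _ hT
  refine ⟨fun j hj => ⟨fun y y' => ?_⟩, ?_⟩
  · -- vanishing for `j ≠ c + 1`
    suffices hz : ∀ y : X ⟶ (Dual.inD B B)⟦j⟧, y = 0 by rw [hz y, hz y']
    intro y
    have hpy : p ≫ y = 0 := by
      by_cases hjc : j = c
      · subst hjc
        obtain ⟨b, hb⟩ := h2 (p ≫ y)
        have h4 : (x * b) • e = 0 := by
          rw [mul_smul, ← hb, ← Category.id_comp (p ≫ y), ← Linear.smul_comp,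
            ← Category.assoc, hxp, zero_comp]
        have h5 : b ∈ J := hx b ((h3 _).mp h4)
        rw [hb, (h3 b).mpr h5]
      · haveI := h1 j hjc
        exact Subsingleton.elim _ _
    obtain ⟨g, hg⟩ : ∃ g : X'⟦(1 : ℤ)⟧ ⟶ (Dual.inD B B)⟦j⟧, y = δ ≫ g :=
      Triangle.yoneda_exact₃ _ hT y hpy
    rw [hg, hv j hj g, comp_zero]
  · -- the generator in degree `c + 1`
    let σ : (X' ⟶ (Dual.inD B B)⟦c⟧) → (X'⟦(1 : ℤ)⟧ ⟶ (Dual.inD B B)⟦c + 1⟧) := fun h =>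
      h⟦(1 : ℤ)⟧' ≫ (shiftFunctorAdd' (Dual.D B) c 1 (c + 1) rfl).inv.app (Dual.inD B B)
    have hσ_smul : ∀ (b : B) (h : X' ⟶ (Dual.inD B B)⟦c⟧), σ (b • h) = b • σ h := by
      intro b h
      simp only [σ]
      rw [Functor.map_smul, Linear.smul_comp]
    have hσ_inj : ∀ h : X' ⟶ (Dual.inD B B)⟦c⟧, σ h = 0 → h = 0 := by
      intro h hh
      simp only [σ] at hh
      have h6 : h⟦(1 : ℤ)⟧' = 0 := by
        rw [← cancel_mono ((shiftFunctorAdd' (Dual.D B) c 1 (c + 1) rfl).inv.app (Dual.inD B B)),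
          hh, zero_comp]
      exact (shiftFunctor (Dual.D B) (1 : ℤ)).map_injective (by rw [h6, Functor.map_zero])
    have hσ_surj : ∀ g : X'⟦(1 : ℤ)⟧ ⟶ (Dual.inD B B)⟦c + 1⟧, ∃ h, g = σ h :=
      fun g => exists_shift_preimage X' (Dual.inD B B) c (c + 1) rfl g
    have hσ_x : ∀ h : X' ⟶ (Dual.inD B B)⟦c⟧, (x • 𝟙 X')⟦(1 : ℤ)⟧' ≫ σ h = σ (x • h) := by
      intro h
      simp only [σ]
      rw [← Category.assoc, ← Functor.map_comp, Linear.smul_comp, Category.id_comp]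
    refine ⟨δ ≫ σ e, fun y => ?_, fun b => ⟨fun hb => ?_, fun hb => ?_⟩⟩
    · have hpy : p ≫ y = 0 := by
        haveI := h1 (c + 1) (by omega)
        exact Subsingleton.elim _ _
      obtain ⟨g, hg⟩ : ∃ g : X'⟦(1 : ℤ)⟧ ⟶ (Dual.inD B B)⟦c + 1⟧, y = δ ≫ g :=
        Triangle.yoneda_exact₃ _ hT y hpy
      obtain ⟨h, rfl⟩ := hσ_surj g
      obtain ⟨b, rfl⟩ := h2 h
      refine ⟨b, ?_⟩
      rw [hg, hσ_smul, Linear.comp_smul]
    · -- `b • (δ ≫ σ e) = 0` implies `b ∈ J ⊔ (x)`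
      have h7 : δ ≫ σ (b • e) = 0 := by rw [hσ_smul, Linear.comp_smul]; exact hb
      have hrot := rot_of_distTriang _ hT
      obtain ⟨g', hg'⟩ : ∃ g' : X'⟦(1 : ℤ)⟧ ⟶ (Dual.inD B B)⟦c + 1⟧,
          σ (b • e) = (-(x • 𝟙 X')⟦(1 : ℤ)⟧') ≫ g' :=
        Triangle.yoneda_exact₃ _ hrot (σ (b • e)) h7
      obtain ⟨h', rfl⟩ := hσ_surj g'
      obtain ⟨b', rfl⟩ := h2 h'
      have h8 : σ (b • e) = σ ((-(x * b')) • e) := by
        rw [hg']
        rw [Preadditive.neg_comp, hσ_x, neg_smul, mul_smul]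
        have : σ (-(x • b' • e)) = -σ (x • b' • e) := by
          simp only [σ]
          rw [Functor.map_neg, Preadditive.neg_comp]
        rw [this]
      have h9 : (b + x * b') • e = 0 := by
        have h10 : σ ((b + x * b') • e) = 0 := by
          have : (b + x * b') • e = b • e - (-(x * b')) • e := by
            rw [add_smul, neg_smul, sub_neg_eq_add]
          rw [this]
          simp only [σ] at h8 ⊢
          rw [Functor.map_sub, Preadditive.sub_comp, h8, sub_self]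
        exact hσ_inj _ h10
      have h11 : b + x * b' ∈ J := (h3 _).mp h9
      have h12 : b = (b + x * b') + x * (-b') := by ring
      rw [h12]
      exact Ideal.add_mem _ (Ideal.mem_sup_left h11)
        (Ideal.mem_sup_right (Ideal.mul_mem_right _ _ (Ideal.mem_span_singleton_self x)))
    · -- `b ∈ J ⊔ (x)` implies `b • (δ ≫ σ e) = 0`
      obtain ⟨j, hj, t, ht, rfl⟩ := Submodule.mem_sup.mp hb
      obtain ⟨b', rfl⟩ := Ideal.mem_span_singleton'.mp ht
      rw [add_smul, (show j • (δ ≫ σ e) = δ ≫ σ (j • e) by rw [hσ_smul, Linear.comp_smul]),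
        (h3 j).mpr hj]
      have h13 : σ (0 : X' ⟶ (Dual.inD B B)⟦c⟧) = 0 := by
        simp only [σ]
        rw [Functor.map_zero, zero_comp]
      rw [h13, comp_zero, zero_add, mul_comm,
        (show (x * b') • (δ ≫ σ e) = δ ≫ σ (x • b' • e) by
          rw [hσ_smul, hσ_smul, Linear.comp_smul, Linear.comp_smul, mul_smul]),
        ← hσ_x, ← Category.assoc, hδx, zero_comp]

end Groth.Agent.Helper9.XR1
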