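import Mathlib
import Groth.Prelude.Def_DualSh
import Groth.Agent.Helper9.XR1
import Groth.Agent.Helper9.KR1

/-!
# `Ext_B(B/(l), B)` for a weakly regular sequence `l` (module level)
-/

set_option autoImplicit false
set_option linter.style.haveILetI false
set_option linter.unusedSectionVars false

universe u
open CategoryTheory CategoryTheory.Limits DerivedCategory Pretriangulated
attribute [local instance] HasDerivedCategory.standard

namespace Groth.Agent.Helper9.XR2
open Groth.Agent.Helper9.XR1

variable {B : Type u} [CommRing B]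

/-- `Ext^j_B(B/J, B)` vanishes for `j ≠ c` and `Ext^c_B(B/J, B)` is cyclic with annihilator `J` -/
def ExtData (J : Ideal B) (c : ℤ) : Prop := ExtDataM (Dual.inD B (B ⧸ J)) J c

lemma extData_bot : ExtData (⊥ : Ideal B) 0 := by
  have e : B ≃ₗ[B] (B ⧸ (⊥ : Ideal B)) :=
    (Submodule.quotEquivOfEqBot (⊥ : Submodule B B) rfl).symm
  exact extDataM_of_iso (Groth.Agent.Helper9.KR1.inDIso e) extDataM_unit

/-- the short complex `B/J --x--> B/J --> B/(J + (x))` -/
noncomputable def sc (J : Ideal B) (x : B) : ShortComplex (ModuleCat.{u} B) :=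
  ShortComplex.mk (x • 𝟙 (ModuleCat.of B (B ⧸ J)))
    (ModuleCat.ofHom (Submodule.factor (le_sup_left : J ≤ J ⊔ Ideal.span {x}))) (by
      apply ModuleCat.hom_ext
      apply LinearMap.ext
      intro y
      obtain ⟨b, rfl⟩ := Submodule.Quotient.mk_surjective _ y
      change Submodule.factor (le_sup_left : J ≤ J ⊔ Ideal.span {x})
        (x • (Submodule.Quotient.mk b : B ⧸ J)) = 0
      rw [← Submodule.Quotient.mk_smul]
      change (Submodule.Quotient.mk (x • b) : B ⧸ (J ⊔ Ideal.span {x})) = 0
      rw [Submodule.Quotient.mk_eq_zero]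
      exact Ideal.mem_sup_right (by
        rw [smul_eq_mul]
        exact Ideal.mul_mem_right _ _ (Ideal.mem_span_singleton_self x)))

lemma sc_shortExact (J : Ideal B) (x : B) (hx : ∀ b : B, x * b ∈ J → b ∈ J) :
    (sc J x).ShortExact := by
  have hmono : Mono (sc J x).f := by
    rw [ModuleCat.mono_iff_injective]
    intro y y' hyy'
    obtain ⟨b, rfl⟩ := Submodule.Quotient.mk_surjective _ y
    obtain ⟨b', rfl⟩ := Submodule.Quotient.mk_surjective _ y'
    have h1 : x • (Submodule.Quotient.mk b : B ⧸ J) = x • (Submodule.Quotient.mk b' : B ⧸ J) :=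
      hyy'
    rw [← Submodule.Quotient.mk_smul, ← Submodule.Quotient.mk_smul,
      Submodule.Quotient.eq] at h1
    change (Submodule.Quotient.mk b : B ⧸ J) = Submodule.Quotient.mk b'
    rw [Submodule.Quotient.eq]
    apply hx
    rw [mul_sub]
    exact h1
  have hepi : Epi (sc J x).g := by
    rw [ModuleCat.epi_iff_surjective]
    intro y
    obtain ⟨b, rfl⟩ := Submodule.Quotient.mk_surjective _ y
    exact ⟨Submodule.Quotient.mk b, rfl⟩
  have hex : (sc J x).Exact := by
    rw [ShortComplex.moduleCat_exact_iff]
    intro y hy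
    obtain ⟨b, rfl⟩ := Submodule.Quotient.mk_surjective _ y
    have h1 : (Submodule.Quotient.mk b : B ⧸ (J ⊔ Ideal.span {x})) = 0 := hy
    rw [Submodule.Quotient.mk_eq_zero] at h1
    obtain ⟨j, hj, t, ht, rfl⟩ := Submodule.mem_sup.mp h1
    obtain ⟨b', rfl⟩ := Ideal.mem_span_singleton'.mp ht
    refine ⟨Submodule.Quotient.mk b', ?_⟩
    change x • (Submodule.Quotient.mk b' : B ⧸ J) = Submodule.Quotient.mk (j + b' * x)
    rw [← Submodule.Quotient.mk_smul, Submodule.Quotient.eq, smul_eq_mul]
    have : x * b' - (j + b' * x) = -j := by ring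
    rw [this]
    exact J.neg_mem hj
  exact { exact := hex, mono_f := hmono, epi_g := hepi }

/-- adding a regular element to the ideal -/
theorem extData_sup_span (J : Ideal B) (c : ℤ) (h : ExtData J c) (x : B)
    (hx : ∀ b : B, x * b ∈ J → b ∈ J) : ExtData (J ⊔ Ideal.span {x}) (c + 1) := by
  have hS := sc_shortExact J x hx
  have hT := hS.singleTriangle_distinguished
  have h1 : (singleFunctor (ModuleCat.{u} B) 0).map (sc J x).f =
      x • 𝟙 ((singleFunctor (ModuleCat.{u} B) 0).obj (ModuleCat.of B (B ⧸ J))) := by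
    change (singleFunctor (ModuleCat.{u} B) 0).map (x • 𝟙 (ModuleCat.of B (B ⧸ J))) = _
    rw [Functor.map_smul, CategoryTheory.Functor.map_id]
  have hT' : Triangle.mk (x • 𝟙 (Dual.inD B (B ⧸ J)))
      ((singleFunctor (ModuleCat.{u} B) 0).map (sc J x).g) hS.singleδ ∈
        distTriang (Dual.D B) := by
    rw [← h1]
    exact hT
  exact extDataM_step _ _ x hT' J c h hx

/-- **`Ext_B(B/(l), B)` for a weakly regular sequence** -/
theorem extData_ofList (l : List B) (hl : RingTheory.Sequence.IsWeaklyRegular B l) :
    ExtData (Ideal.ofList l) (l.length : ℤ) := by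
  have key : ∀ k : ℕ, k ≤ l.length → ExtData (Ideal.ofList (l.take k)) (k : ℤ) := by
    intro k
    induction k with
    | zero =>
      intro _
      rw [List.take_zero, Ideal.ofList_nil]
      exact extData_bot
    | succ k ih =>
      intro hk
      have hk' : k < l.length := hk
      rw [List.take_succ_eq_append_getElem hk', Ideal.ofList_append, Ideal.ofList_singleton]
      have hreg := hl.regular_mod_prev k hk'
      rw [isSMulRegular_quotient_iff_mem_of_smul_mem] at hreg
      have h2 : (Ideal.ofList (l.take k) • (⊤ : Submodule B B)) = Ideal.ofList (l.take k) := by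
        rw [Ideal.smul_eq_mul, Ideal.mul_top]
      push_cast
      refine extData_sup_span _ _ (ih (by omega)) _ (fun b hb => ?_)
      have := hreg b (by rw [h2]; exact hb)
      rw [h2] at this
      exact this
  have := key l.length le_rfl
  rwa [List.take_length] at this

end Groth.Agent.Helper9.XR2
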