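import Mathlib
import Groth.Prelude.Def_DualSh
import Groth.Agent.Helper9.XR2
import Groth.Agent.Helper9.RD1
import Groth.Agent.Helper6.LD4
import Groth.Agent.Helper6.BiD2
import Groth.Agent.Helper3.DRingRestr

/-!
# `RHom_B(C, B) ≅ C[-c]` for a surjection `B → C` whose kernel `J` satisfies
`Ext^j_B(B/J, B) = 0` for `j ≠ c` and `Ext^c_B(B/J, B)` cyclic with annihilator `J`
-/

set_option autoImplicit false
set_option linter.style.haveILetI false
set_option linter.unusedSectionVars false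

universe u
open CategoryTheory CategoryTheory.Limits DerivedCategory Pretriangulated
attribute [local instance] HasDerivedCategory.standard

namespace Groth.Agent.Helper9.XR3
open Groth.Agent.Helper9.XR1 Groth.Agent.Helper9.XR2 Groth.Agent.Helper3.DRingLib
  Groth.Agent.Helper6.Coext Groth.Agent.Helper6.BiD

variable {B C : Type u} [CommRing B] [CommRing C] (π : B →+* C) (hπ : Function.Surjective π)

/-- `B/ker π ≃ C` as `B`-modules -/
noncomputable def quotEquiv : (B ⧸ RingHom.ker π) ≃ₗ[B] (BA π) :=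
  let f : B →ₗ[B] (BA π) :=
    { toFun := fun b => (show BA π from π b)
      map_add' := fun b b' => map_add π b b'
      map_smul' := fun b b' => by
        change π (b * b') = π b * π b'
        exact map_mul π b b' }
  have hf : Function.Surjective f := hπ
  have hk : LinearMap.ker f = RingHom.ker π := by
    ext b
    rfl
  (Submodule.quotEquivOfEq _ _ hk.symm) ≪≫ₗ f.quotKerEquivOfSurjective hf

include hπ in
/-- a `B`-linear equivalence between restrictions of `C`-modules is `C`-linear -/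
noncomputable def liftEquiv (M N : ModuleCat.{u} C)
    (e : (rF π).obj M ≃ₗ[B] (rF π).obj N) : M ≃ₗ[C] N :=
  { toFun := fun m => e m
    invFun := fun n => e.symm n
    left_inv := e.left_inv
    right_inv := e.right_inv
    map_add' := e.map_add
    map_smul' := fun c m => by
      obtain ⟨b, rfl⟩ := hπ c
      exact e.map_smul b m }

variable {π}

include hπ in
/-- **the right adjoint of restriction applied to `B`** -/
theorem nonempty_iso_shift (Rπ : Dual.D B ⥤ Dual.D C) (adj : DRing.restrictD π ⊣ Rπ) (c : ℤ)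
    (h : ExtData (RingHom.ker π) c) :
    Nonempty (Rπ.obj (Dual.inD B B) ≅ (Dual.inD C C)⟦-c⟧) := by
  obtain ⟨I, hI0, hIinj, hKI, ⟨eI⟩, ⟨eR⟩⟩ :=
    Groth.Agent.Helper9.RD1.exists_injective_model π Rπ adj
  haveI := hKI
  obtain ⟨hvan, e, hgen, hann⟩ := h
  set Y := DRing.toD ((cCx π).obj I) with hY
  -- `H^j(π_* Y) ≃ Ext^j_B(B/J, B)`
  let eS : DRing.toD (SB π) ≅ Dual.inD B (B ⧸ RingHom.ker π) :=
    ((DerivedCategory.singleFunctorIsoCompQ (ModuleCat.{u} B) 0).app (BA π)).symm ≪≫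
      (Groth.Agent.Helper9.KR1.inDIso (quotEquiv π hπ)).symm
  have key : ∀ j : ℤ, Nonempty (Dual.HD B ((DRing.restrictD π).obj Y) j ≃ₗ[B]
      (Dual.inD B (B ⧸ RingHom.ker π) ⟶ (Dual.inD B B)⟦j⟧)) := fun j =>
    ⟨((homologyFunctor (ModuleCat.{u} B) j).mapIso
        (Groth.Agent.Helper9.RD1.ιIso π I)).toLinearEquiv ≪≫ₗ Psi' (SB π) I j ≪≫ₗ
      Linear.homCongr B eS ((shiftFunctor (Dual.D B) j).mapIso eI)⟩
  -- vanishing outside degree `c`
  have hsub : ∀ j : ℤ, j ≠ c → Subsingleton (Dual.HD C Y j) := by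
    intro j hj
    obtain ⟨k⟩ := key j
    haveI := hvan j hj
    haveI : Subsingleton (Dual.HD B ((DRing.restrictD π).obj Y) j) := k.toEquiv.subsingleton
    exact (subsingleton_HD_rD_iff π Y j).mp inferInstance
  -- degree `c`
  have hc : Nonempty (Dual.HD C Y c ≃ₗ[C] C) := by
    obtain ⟨k⟩ := key c
    let g : B →ₗ[B] (Dual.inD B (B ⧸ RingHom.ker π) ⟶ (Dual.inD B B)⟦c⟧) :=
      LinearMap.toSpanSingleton B _ e
    have hg : Function.Surjective g := by
      intro y
      obtain ⟨b, rfl⟩ := hgen y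
      exact ⟨b, rfl⟩
    have hk : LinearMap.ker g = RingHom.ker π := by
      ext b
      rw [LinearMap.mem_ker]
      exact hann b
    let k2 : (Dual.inD B (B ⧸ RingHom.ker π) ⟶ (Dual.inD B B)⟦c⟧) ≃ₗ[B] BA π :=
      (g.quotKerEquivOfSurjective hg).symm ≪≫ₗ Submodule.quotEquivOfEq _ _ hk ≪≫ₗ quotEquiv π hπ
    let k3 : (rF π).obj ((homologyFunctor (ModuleCat.{u} C) c).obj Y) ≃ₗ[B]
        (rF π).obj (ModuleCat.of C C) :=
      (rDHDIso π Y c).toLinearEquiv.symm ≪≫ₗ k ≪≫ₗ k2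
    exact ⟨liftEquiv π hπ _ _ k3⟩
  -- conclusion
  obtain ⟨ec⟩ := hc
  haveI : (Y⟦c⟧).IsGE 0 := isGE_of_HD _ 0 (fun i hi => by
    haveI := hsub (c + i) (by omega)
    exact (hdShift Y c i (c + i) rfl).toEquiv.subsingleton)
  haveI : (Y⟦c⟧).IsLE 0 := isLE_of_HD _ 0 (fun i hi => by
    haveI := hsub (c + i) (by omega)
    exact (hdShift Y c i (c + i) rfl).toEquiv.subsingleton)
  obtain ⟨e0⟩ := Groth.Agent.Helper6.LD.iso_inD_of_concentrated (Y⟦c⟧) C
    (hdShift Y c 0 c (by omega) ≪≫ₗ ec)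
  exact ⟨eR ≪≫ (shiftShiftNeg Y c).symm ≪≫ (shiftFunctor (Dual.D C) (-c)).mapIso e0⟩

end Groth.Agent.Helper9.XR3
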