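import Mathlib
import Groth.Prelude.Def_DDual2
import Groth.Agent.Helper9.XI3
import Groth.Agent.Helper9.XI4
import Groth.Agent.Helper9.XR3
import Groth.Agent.Helper9.KR1
import Groth.Agent.Helper6.ShrGor1
import Groth.Agent.Helper6.LD5
import Groth.Agent.Helper6.HasLBC

/-!
# An `A`-linear autoequivalence of `D^b_Coh(A)`: `F(A)` is locally a shift of the structure sheaf
-/

set_option autoImplicit false
set_option linter.style.haveILetI false
set_option linter.unusedSectionVars false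

universe u
open CategoryTheory CategoryTheory.Limits Pretriangulated DerivedCategory IsLocalRing
attribute [local instance] HasDerivedCategory.standard

namespace Groth.Agent.Helper9.XI5
open Groth.Agent.Helper3.DRingLib Groth.Agent.Helper6

variable {A : Type u} [CommRing A]

/-- a module isomorphic to `A/J`, `J` maximal, is simple in the elementwise sense -/
lemma cyclic_of_equiv (J : Ideal A) [J.IsMaximal] {S : Type*} [AddCommGroup S] [Module A S]
    (u : S ≃ₗ[A] A ⧸ J) :
    (∃ f : S, f ≠ 0) ∧ ∀ f g : S, f ≠ 0 → ∃ x : A, g = x • f := by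
  letI : Field (A ⧸ J) := Ideal.Quotient.field J
  constructor
  · refine ⟨u.symm 1, fun h => ?_⟩
    have h1 : u (u.symm 1) = 0 := by rw [h, map_zero]
    rw [LinearEquiv.apply_symm_apply] at h1
    exact one_ne_zero h1
  · intro f g hf
    have hf' : u f ≠ 0 := fun h => hf (u.injective (by rw [h, map_zero]))
    obtain ⟨x, hx⟩ := Ideal.Quotient.mk_surjective (u g * (u f)⁻¹)
    refine ⟨x, u.injective ?_⟩
    rw [map_smul, Algebra.smul_def, Ideal.Quotient.algebraMap_eq, hx, mul_assoc,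
      inv_mul_cancel₀ hf', mul_one]

theorem exists_away [IsNoetherianRing A] (P : ObjectProperty (Dual.D A))
    (hP : ∀ K : Dual.D A, P K ↔
      ((∀ i : ℤ, Module.Finite A (Dual.HD A K i)) ∧
        ∃ a b : ℤ, ∀ i : ℤ, (i < a ∨ b < i) → Subsingleton (Dual.HD A K i)))
    [P.IsTriangulated]
    (F : P.FullSubcategory ⥤ P.FullSubcategory) [F.CommShift ℤ] [F.IsEquivalence]
    [F.Additive] [F.Linear A]
    (hA : P (Dual.inD A A)) (I : Ideal A) [I.IsMaximal] :
    ∃ t : A, t ∉ I ∧ ∃ m : ℤ, Nonempty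
      ((bcD A (Localization.Away t)).obj (F.obj ⟨Dual.inD A A, hA⟩).obj ≅
        (Dual.inD (Localization.Away t) (Localization.Away t))⟦m⟧) := by
  let X : Dual.D A := (F.obj ⟨Dual.inD A A, hA⟩).obj
  have hX : P X := (F.obj ⟨Dual.inD A A, hA⟩).property
  obtain ⟨hf, hb⟩ := (hP X).mp hX
  let k := Localization.AtPrime I ⧸ maximalIdeal (Localization.AtPrime I)
  letI : Field k := Ideal.Quotient.field (maximalIdeal (Localization.AtPrime I))
  let φ : A →+* k := algebraMap A k
  have hφ : Function.Surjective φ := Ideal.algebraMap_residueField_surjective I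
  haveI : DRing.HasLBaseChange φ := HasLBC.hasLBaseChange φ
  haveI hJ : (RingHom.ker φ).IsMaximal := RingHom.ker_isMaximal_of_surjective φ hφ
  obtain ⟨n, hn⟩ := XI3.main P hP F hA (RingHom.ker φ)
  let κA : Dual.D A := Dual.inD A (A ⧸ RingHom.ker φ)
  let τ : (DRing.restrictD φ).obj (Dual.inD k k) ≅ κA :=
    rDSingle φ 0 (ModuleCat.of k k) ≪≫ (KR1.inDIso (XR3.quotEquiv φ hφ)).symm
  have key : ∀ j i : ℤ, n + i = j → Nonempty ((X ⟶ κA⟦j⟧) ≃ₗ[A] Dual.HD A κA i) := by
    intro j i hij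
    obtain ⟨e⟩ := hn i
    exact ⟨(LD.homShiftShiftEquiv X κA n i j hij).symm ≪≫ₗ e⟩
  have h0 : ∀ j : ℤ, j ≠ n → Subsingleton (X ⟶ κA⟦j⟧) := by
    intro j hj
    obtain ⟨e⟩ := key j (j - n) (by omega)
    haveI : Subsingleton (Dual.HD A κA (j - n)) := by
      rcases lt_or_gt_of_ne (show j - n ≠ 0 by omega) with h | h
      · exact subsingleton_HD_of_isGE _ 0 _ h
      · exact subsingleton_HD_of_isLE _ 0 _ h
    exact e.toEquiv.subsingleton
  obtain ⟨e0⟩ := key n 0 (by omega)
  obtain ⟨e1⟩ := XI3.HD_kappa_equiv (RingHom.ker φ)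
  obtain ⟨h1, h2⟩ := cyclic_of_equiv (RingHom.ker φ) (e0 ≪≫ₗ e1)
  obtain ⟨e⟩ := XI4.main φ X n (-n) (by omega) κA τ h0 h1 h2
  obtain ⟨t, ht, hiso⟩ := ShrGor.exists_away_of_residue X hb hf ⟨I, inferInstance⟩ n e
  exact ⟨t, ht, n, hiso⟩

end Groth.Agent.Helper9.XI5
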