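import Mathlib
import Groth.Prelude.Def_DRing4
import Groth.Agent.Helper3.DRingFin

/-!
# Formality: an object of `D(A)` with projective cohomology modules is the sum of its cohomology
-/

set_option autoImplicit false
set_option linter.style.haveILetI false
set_option linter.unusedSectionVars false

universe u
open CategoryTheory CategoryTheory.Limits DerivedCategory
attribute [local instance] HasDerivedCategory.standard

namespace Groth.Agent.Helper9.XI6
open Groth.Agent.Helper3.DRingLib

variable {A : Type u} [CommRing A]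

/-- the complex with zero differentials on a graded module -/
noncomputable def zc (N : ℤ → ModuleCat.{u} A) : DRing.Cx A where
  X := N
  d _ _ := 0
  shape _ _ _ := rfl
  d_comp_d' _ _ _ _ _ := zero_comp

@[simp] lemma zc_X (N : ℤ → ModuleCat.{u} A) (i : ℤ) : (zc N).X i = N i := rfl

@[simp] lemma zc_d (N : ℤ → ModuleCat.{u} A) (i j : ℤ) : (zc N).d i j = 0 := rfl

theorem exists_quasiIso (K : DRing.Cx A) (N : ℤ → ModuleCat.{u} A)
    (α : ∀ i, N i ≅ K.homology i) (hN : ∀ i, Module.Projective A (N i)) :
    ∃ f : zc N ⟶ K, QuasiIso f := by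
  haveI : ∀ i, Projective (N i) := fun i => by
    have := (IsProjective.iff_projective (R := A) (P := N i)).mp (hN i)
    exact this
  let α' : ∀ i, (zc N).X i ⟶ K.homology i := fun i => (α i).hom
  haveI : ∀ i, IsIso (α' i) := fun i => inferInstanceAs (IsIso (α i).hom)
  haveI : ∀ i, Projective ((zc N).X i) := fun i => inferInstanceAs (Projective (N i))
  let s : ∀ i, (zc N).X i ⟶ K.cycles i := fun i =>
    Projective.factorThru (α' i) (K.homologyπ i)
  have hs : ∀ i, s i ≫ K.homologyπ i = α' i := fun i =>
    Projective.factorThru_comp (α' i) (K.homologyπ i)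
  let f : zc N ⟶ K :=
    { f := fun i => s i ≫ K.iCycles i
      comm' := fun i j _ => by
        rw [zc_d, zero_comp, Category.assoc, HomologicalComplex.iCycles_d, comp_zero] }
  refine ⟨f, ⟨fun i => ?_⟩⟩
  rw [quasiIsoAt_iff_isIso_homologyMap]
  haveI h1 : IsIso ((zc N).iCycles i) :=
    (zc N).isIso_iCycles i (i + 1) (by simp) rfl
  haveI h2 : IsIso ((zc N).homologyπ i) :=
    (zc N).isIso_homologyπ (i - 1) i (by simp) rfl
  have hc : HomologicalComplex.cyclesMap f i = (zc N).iCycles i ≫ s i := by
    rw [← cancel_mono (K.iCycles i), HomologicalComplex.cyclesMap_i, Category.assoc]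
  have h3 : HomologicalComplex.homologyMap f i =
      inv ((zc N).homologyπ i) ≫ (zc N).iCycles i ≫ α' i := by
    rw [← cancel_epi ((zc N).homologyπ i), HomologicalComplex.homologyπ_naturality, hc,
      Category.assoc, hs, IsIso.hom_inv_id_assoc]
  rw [h3]
  infer_instance

/-- **formality** -/
theorem formal (X : Dual.D A) (hproj : ∀ i : ℤ, Module.Projective A (Dual.HD A X i)) :
    Nonempty (X ≅ DRing.toD (zc (fun i => (homologyFunctor (ModuleCat.{u} A) i).obj X))) := by
  let K : DRing.Cx A := Q.objPreimage X
  let e : Q.obj K ≅ X := Q.objObjPreimageIso X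
  let α : ∀ i : ℤ, (homologyFunctor (ModuleCat.{u} A) i).obj X ≅ K.homology i := fun i =>
    (homologyFunctor (ModuleCat.{u} A) i).mapIso e.symm ≪≫ homologyToDIso K i
  obtain ⟨f, hf⟩ := exists_quasiIso K _ α hproj
  haveI : IsIso (Q.map f) := by
    rw [isIso_Q_map_iff_quasiIso]
    exact hf
  exact ⟨e.symm ≪≫ (asIso (Q.map f)).symm⟩

end Groth.Agent.Helper9.XI6
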