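import Mathlib
import Groth.Agent.Helper6.InvLoc

/-!
# Graded modules which are locally free of rank one in a single degree
-/

set_option autoImplicit false
set_option linter.style.haveILetI false
set_option linter.unusedSectionVars false

universe u
open TensorProduct

namespace Groth.Agent.Helper9.XI7

variable {A : Type u} [CommRing A]

/-- an ideal which meets the powers of an element outside each maximal ideal is the unit ideal -/
lemma eq_top_of_forall_maximal (J : Ideal A)
    (h : ∀ I : Ideal A, I.IsMaximal → ∃ t : A, t ∉ I ∧ ∃ k : ℕ, t ^ k ∈ J) : J = ⊤ := by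
  by_contra hJ
  obtain ⟨I, hI, hJI⟩ := Ideal.exists_le_maximal J hJ
  obtain ⟨t, ht, k, hk⟩ := h I hI
  exact ht (hI.isPrime.mem_of_pow_mem k (hJI hk))

/-- an element killed by a power of an element outside each maximal ideal is zero -/
lemma eq_zero_of_forall_maximal {M : Type*} [AddCommGroup M] [Module A M] (z : M)
    (h : ∀ I : Ideal A, I.IsMaximal → ∃ t : A, t ∉ I ∧ ∃ k : ℕ, t ^ k • z = 0) : z = 0 := by
  have h1 : LinearMap.ker (LinearMap.toSpanSingleton A M z) = ⊤ := by
    apply eq_top_of_forall_maximal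
    intro I hI
    obtain ⟨t, ht, k, hk⟩ := h I hI
    exact ⟨t, ht, k, by rw [LinearMap.mem_ker, LinearMap.toSpanSingleton_apply]; exact hk⟩
  have h2 : (1 : A) ∈ LinearMap.ker (LinearMap.toSpanSingleton A M z) := by
    rw [h1]
    exact Submodule.mem_top
  rw [LinearMap.mem_ker, LinearMap.toSpanSingleton_apply, one_smul] at h2
  exact h2

/-- a finite module whose localization away from `t` vanishes is killed by a power of `t` -/
lemma exists_pow_smul_eq_zero (M : Type u) [AddCommGroup M] [Module A M] [Module.Finite A M]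
    (t : A) [Subsingleton (LocalizedModule.Away t M)] : ∃ m : ℕ, ∀ x : M, t ^ m • x = 0 := by
  classical
  have h0 : ∀ x : M, ∃ k : ℕ, t ^ k • x = 0 := by
    intro x
    obtain ⟨r, ⟨k, rfl⟩, hr⟩ :=
      (LocalizedModule.subsingleton_iff (S := Submonoid.powers t) (M := M)).mp inferInstance x
    exact ⟨k, hr⟩
  choose kf hkf using h0
  obtain ⟨S, hS⟩ := (Module.Finite.fg_top : (⊤ : Submodule A M).FG)
  refine ⟨∑ x ∈ S, kf x, fun x => ?_⟩
  have hx : x ∈ Submodule.span A (S : Set M) := by
    rw [hS]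
    exact Submodule.mem_top
  induction hx using Submodule.span_induction with
  | mem y hy =>
    have h1 : kf y ≤ ∑ x ∈ S, kf x := Finset.single_le_sum (f := kf) (fun _ _ => Nat.zero_le _) hy
    obtain ⟨d, hd⟩ := Nat.exists_eq_add_of_le h1
    rw [hd, pow_add, mul_comm, mul_smul, hkf, smul_zero]
  | zero => rw [smul_zero]
  | add y z _ _ hy hz => rw [smul_add, hy, hz, add_zero]
  | smul a y _ hy => rw [smul_comm, hy, smul_zero]

section contr

variable [IsNoetherianRing A] (M : Type u) [AddCommGroup M] [Module A M] [Module.Finite A M]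
  (r : A) (e : LocalizedModule.Away r M ≃ₗ[Localization.Away r] Localization.Away r)

/-- the contraction `Mr ⊗ (Mr →ₗ[R] Rr) → Rr` -/
noncomputable def contrR (Rr Mr : Type u) [CommRing Rr] [Algebra A Rr] [AddCommGroup Mr]
    [Module A Mr] : (Mr ⊗[A] (Mr →ₗ[A] Rr)) →ₗ[A] Rr :=
  Groth.Agent.Helper6.InvLoc.contr Rr Mr ∘ₗ (TensorProduct.comm A Mr (Mr →ₗ[A] Rr)).toLinearMap

lemma contrR_tmul (Rr Mr : Type u) [CommRing Rr] [Algebra A Rr] [AddCommGroup Mr]
    [Module A Mr] (m : Mr) (φ : Mr →ₗ[A] Rr) : contrR Rr Mr (m ⊗ₜ φ) = φ m := by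
  simp [contrR, Groth.Agent.Helper6.InvLoc.contr]

/-- the localization of `M ⊗ M^∨` -/
noncomputable abbrev locMap : (M ⊗[A] (M →ₗ[A] A)) →ₗ[A]
    (LocalizedModule.Away r M ⊗[A] (LocalizedModule.Away r M →ₗ[A] Localization.Away r)) :=
  TensorProduct.map (LocalizedModule.mkLinearMap (.powers r) M)
    (IsLocalizedModule.map (.powers r) (LocalizedModule.mkLinearMap (.powers r) M)
      (Algebra.linearMap A (Localization.Away r)))

include e in
theorem contract_local :
    (∃ (k : ℕ) (σ : M ⊗[A] (M →ₗ[A] A)), contractRight A M σ = r ^ k) ∧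
    (∀ σ : M ⊗[A] (M →ₗ[A] A), contractRight A M σ = 0 → ∃ k : ℕ, r ^ k • σ = 0) := by
  haveI : Module.FinitePresentation A M := Module.finitePresentation_of_finite A M
  have hb : Function.Bijective (contrR (A := A) (Localization.Away r) (LocalizedModule.Away r M)) :=
    (Groth.Agent.Helper6.InvLoc.contr_bijective r _ _ e).comp
      (TensorProduct.comm A _ _).bijective
  have hcomp : ∀ σ : M ⊗[A] (M →ₗ[A] A),
      contrR (A := A) (Localization.Away r) (LocalizedModule.Away r M) (locMap M r σ) =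
        algebraMap A (Localization.Away r) (contractRight A M σ) := by
    intro σ
    induction σ using TensorProduct.induction_on with
    | zero => simp
    | tmul m φ =>
      rw [TensorProduct.map_tmul, contrR_tmul, contractRight_apply, IsLocalizedModule.map_apply]
      rfl
    | add x y hx hy => rw [map_add, map_add, hx, hy, map_add, map_add]
  constructor
  · obtain ⟨y, hy⟩ := hb.2 1
    obtain ⟨⟨σ, ⟨s, ⟨k, rfl⟩⟩⟩, hσ⟩ := IsLocalizedModule.surj (.powers r) (locMap M r) y
    have h1 : algebraMap A (Localization.Away r) (contractRight A M σ) =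
        algebraMap A (Localization.Away r) (r ^ k) := by
      rw [← hcomp, ← hσ]
      change contrR _ _ (r ^ k • y) = _
      rw [map_smul, hy, Algebra.smul_def, mul_one]
    obtain ⟨⟨c, ⟨j, rfl⟩⟩, hc⟩ := (IsLocalization.eq_iff_exists (.powers r) _).mp h1
    refine ⟨j + k, r ^ j • σ, ?_⟩
    rw [map_smul, smul_eq_mul, pow_add]
    exact hc
  · intro σ hσ
    have h1 : locMap M r σ = 0 := by
      apply hb.1
      rw [hcomp, hσ, map_zero, map_zero]
    obtain ⟨⟨c, ⟨k, rfl⟩⟩, hc⟩ := (IsLocalizedModule.eq_zero_iff (.powers r) (locMap M r)).mp h1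
    exact ⟨k, hc⟩

end contr

section graded

variable [IsNoetherianRing A] (N : ℤ → ModuleCat.{u} A)

/-- locally on `Spec A`, exactly one graded piece is nonzero, and it is free of rank one -/
def LocData : Prop :=
  ∀ I : Ideal A, I.IsMaximal → ∃ t : A, t ∉ I ∧ ∃ q₀ : ℤ,
    Nonempty (LocalizedModule.Away t (N (-q₀)) ≃ₗ[Localization.Away t] Localization.Away t) ∧
    ∀ p : ℤ, p ≠ -q₀ → Subsingleton (LocalizedModule.Away t (N p))

variable {N} (hfin : ∀ p : ℤ, Module.Finite A (N p)) (hloc : LocData N)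

include hfin hloc

theorem projective (p : ℤ) : Module.Projective A (N p) := by
  haveI := hfin p
  haveI : Module.FinitePresentation A (N p) := Module.finitePresentation_of_finite A (N p)
  let s : Set A := {t : A | ∃ q₀ : ℤ,
    Nonempty (LocalizedModule.Away t (N (-q₀)) ≃ₗ[Localization.Away t] Localization.Away t) ∧
    ∀ p : ℤ, p ≠ -q₀ → Subsingleton (LocalizedModule.Away t (N p))}
  have spn : Ideal.span s = ⊤ := by
    apply eq_top_of_forall_maximal
    intro I hI
    obtain ⟨t, ht, q₀, h⟩ := hloc I hI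
    exact ⟨t, ht, 1, by rw [pow_one]; exact Ideal.subset_span ⟨q₀, h⟩⟩
  haveI : Module.Flat A (N p) := by
    apply Module.flat_of_localized_span A (N p) s spn
    rintro ⟨r, q₀, ⟨e⟩, hsub⟩
    by_cases hp : p = -q₀
    · subst hp
      haveI : Module.Flat A (Localization.Away r) := IsLocalization.flat _ (Submonoid.powers r)
      exact Module.Flat.of_linearEquiv (e.restrictScalars A)
    · haveI := hsub p hp
      infer_instance
  exact Module.Flat.projective_of_finitePresentation

theorem tensor_dual_eq_zero (p p' : ℤ) (h : p ≠ p') (z : N p ⊗[A] (N p' →ₗ[A] A)) : z = 0 := by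
  apply eq_zero_of_forall_maximal (A := A)
  intro I hI
  obtain ⟨t, ht, q₀, -, hsub⟩ := hloc I hI
  refine ⟨t, ht, ?_⟩
  by_cases hp : p = -q₀
  · have hp' : p' ≠ -q₀ := fun h' => h (hp.trans h'.symm)
    haveI := hsub p' hp'
    haveI := hfin p'
    obtain ⟨m, hm⟩ := exists_pow_smul_eq_zero (N p') t
    refine ⟨m, ?_⟩
    induction z using TensorProduct.induction_on with
    | zero => rw [smul_zero]
    | tmul x f =>
      have hf : t ^ m • f = 0 := by
        ext y
        rw [LinearMap.smul_apply, ← map_smul, hm, map_zero, LinearMap.zero_apply]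
      rw [← TensorProduct.tmul_smul, hf, TensorProduct.tmul_zero]
    | add x y hx hy => rw [smul_add, hx, hy, add_zero]
  · haveI := hsub p hp
    haveI := hfin p
    obtain ⟨m, hm⟩ := exists_pow_smul_eq_zero (N p) t
    refine ⟨m, ?_⟩
    induction z using TensorProduct.induction_on with
    | zero => rw [smul_zero]
    | tmul x f => rw [TensorProduct.smul_tmul', hm, TensorProduct.zero_tmul]
    | add x y hx hy => rw [smul_add, hx, hy, add_zero]

theorem local_facts (I : Ideal A) (hI : I.IsMaximal) : ∃ t : A, t ∉ I ∧ ∃ q₀ : ℤ,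
    (∃ (k : ℕ) (σ : N (-q₀) ⊗[A] (N (-q₀) →ₗ[A] A)), contractRight A (N (-q₀)) σ = t ^ k) ∧
    (∀ σ : N (-q₀) ⊗[A] (N (-q₀) →ₗ[A] A), contractRight A (N (-q₀)) σ = 0 →
      ∃ k : ℕ, t ^ k • σ = 0) ∧
    (∀ p : ℤ, p ≠ -q₀ → ∃ m : ℕ, ∀ x : N p, t ^ m • x = 0) := by
  obtain ⟨t, ht, q₀, ⟨e⟩, hsub⟩ := hloc I hI
  haveI := hfin (-q₀)
  obtain ⟨h1, h2⟩ := contract_local (N (-q₀)) t e
  refine ⟨t, ht, q₀, h1, h2, fun p hp => ?_⟩
  haveI := hsub p hp
  haveI := hfin p
  exact exists_pow_smul_eq_zero (N p) t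

end graded

end Groth.Agent.Helper9.XI7
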