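import Mathlib
import Groth.Prelude.Def_DTen
import Groth.Agent.Helper9.XI6
import Groth.Agent.Helper9.XI7
import Groth.Agent.Helper6.TenCx
import Groth.Agent.Helper6.InvObj2

/-!
# The tensor product of a graded invertible module (zero differentials) with its graded dual
-/

set_option autoImplicit false
set_option linter.style.haveILetI false
set_option linter.unusedSectionVars false

universe u
open CategoryTheory CategoryTheory.Limits MonoidalCategory TensorProduct
attribute [local instance] HasDerivedCategory.standard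

namespace Groth.Agent.Helper9.XI8
open Groth.Agent.Helper9.XI6 Groth.Agent.Helper9.XI7 Groth.Agent.Helper6 Groth.Agent.Helper6.TenCx

variable {A : Type u} [CommRing A] (N : ℤ → ModuleCat.{u} A)

/-- the graded dual, reindexed -/
noncomputable abbrev Ndual (q : ℤ) : ModuleCat.{u} A := ModuleCat.of A (N (-q) →ₗ[A] A)

/-- `⊕ N_p[-p]` -/
noncomputable abbrev V : DRing.Cx A := zc N

/-- `⊕ N_p^∨[p]` -/
noncomputable abbrev W : DRing.Cx A := zc (Ndual N)

/-- transport along an equality of indices -/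
noncomputable def castL {p p' : ℤ} (h : p = p') : N p →ₗ[A] N p' :=
  (eqToHom (congrArg N h)).hom

@[simp] lemma castL_rfl (p : ℤ) (h : p = p) : castL N h = LinearMap.id := by
  unfold castL
  rw [eqToHom_refl]
  rfl

/-- the pairing `N_p ⊗ N_{-q}^∨ → A` for `p + q = 0` -/
noncomputable def pairL (p q : ℤ) (h : p + q = 0) : N p ⊗[A] (N (-q) →ₗ[A] A) →ₗ[A] A :=
  contractRight A (N (-q)) ∘ₗ LinearMap.rTensor _ (castL N (show p = -q by omega))

lemma pairL_self (q : ℤ) (h : -q + q = 0) : pairL N (-q) q h = contractRight A (N (-q)) := by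
  unfold pairL
  rw [castL_rfl, LinearMap.rTensor_id, LinearMap.comp_id]

/-- the pairing as a morphism from the summand -/
noncomputable def pairHom (p q : ℤ) (h : p + q = 0) :
    (V N).X p ⊗ (W N).X q ⟶ ModuleCat.of A A :=
  ModuleCat.ofHom (pairL N p q h)

/-- the evaluation `(V ⊗ W)^0 → A` -/
noncomputable def ev0 : (V N ⊗ W N).X 0 ⟶ ModuleCat.of A A :=
  HomologicalComplex.mapBifunctorDesc (K₁ := V N) (K₂ := W N)
    (F := curriedTensor (ModuleCat.{u} A)) (c := ComplexShape.up ℤ) (j := 0)
    (fun p q h => pairHom N p q h)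

lemma ι_ev0 (p q : ℤ) (h : p + q = 0) : ι (V N) (W N) p q 0 h ≫ ev0 N = pairHom N p q h :=
  HomologicalComplex.ι_mapBifunctorDesc _ p q h

lemma ev0_ι_apply (p q : ℤ) (h : p + q = 0) (τ : ↑((V N).X p ⊗ (W N).X q)) :
    (ev0 N).hom ((ι (V N) (W N) p q 0 h).hom τ) = pairL N p q h τ := by
  have := congrArg (fun f => f.hom τ) (ι_ev0 N p q h)
  exact this

variable [IsNoetherianRing A] {N} (hfin : ∀ p : ℤ, Module.Finite A (N p)) (hloc : LocData N)

include hfin hloc

lemma isZero_X (n : ℤ) (hn : n ≠ 0) : IsZero ((V N ⊗ W N).X n) := by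
  rw [IsZero.iff_id_eq_zero]
  apply TenCx.hom_ext
  intro p q hpq
  have hs : Subsingleton (N p ⊗[A] (N (-q) →ₗ[A] A)) :=
    ⟨fun x y => (tensor_dual_eq_zero hfin hloc p (-q) (by omega) x).trans
      (tensor_dual_eq_zero hfin hloc p (-q) (by omega) y).symm⟩
  have hz : IsZero ((V N).X p ⊗ (W N).X q) :=
    @ModuleCat.isZero_of_subsingleton _ _ _ hs
  exact hz.eq_of_src _ _

theorem ev0_bijective : Function.Bijective (ev0 N).hom := by
  constructor
  · rw [injective_iff_map_eq_zero]
    intro x hx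
    apply eq_zero_of_forall_maximal (A := A)
    intro I hI
    obtain ⟨t, ht, q₀, -, hinj, hkill⟩ := local_facts hfin hloc I hI
    refine ⟨t, ht, ?_⟩
    have claim : ∀ y : (V N ⊗ W N).X 0, ∃ (M : ℕ) (σ : ↑((V N).X (-q₀) ⊗ (W N).X q₀)),
        t ^ M • y = (ι (V N) (W N) (-q₀) q₀ 0 (by omega)).hom σ := by
      intro y
      induction y using TenCx.induction_on with
      | h0 => exact ⟨0, 0, by rw [smul_zero, map_zero]⟩
      | hadd y z hy hz =>
        obtain ⟨M, σ, h1⟩ := hy
        obtain ⟨M', σ', h2⟩ := hz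
        refine ⟨M + M', t ^ M' • σ + t ^ M • σ', ?_⟩
        rw [smul_add, map_add, map_smul, map_smul, ← h1, ← h2, smul_smul, smul_smul, ← pow_add,
          ← pow_add, add_comm M' M]
      | hι p q h τ =>
        by_cases hq : q = q₀
        · subst hq
          obtain rfl : p = -q := by omega
          exact ⟨0, τ, by rw [pow_zero, one_smul]⟩
        · obtain ⟨m, hm⟩ := hkill p (by omega)
          refine ⟨m, 0, ?_⟩
          have hτ : t ^ m • τ = 0 := by
            generalize (τ : N p ⊗[A] (N (-q) →ₗ[A] A)) = τ'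
            induction τ' using TensorProduct.induction_on with
            | zero => rw [smul_zero]
            | tmul x f =>
              rw [TensorProduct.smul_tmul', show t ^ m • x = 0 from hm x, TensorProduct.zero_tmul]
            | add x y hx hy => rw [smul_add, hx, hy, add_zero]
          rw [map_zero]
          change t ^ m • (ι (V N) (W N) p q 0 h).hom τ = 0
          rw [← map_smul, hτ, map_zero]
    obtain ⟨M, σ, hσ⟩ := claim x
    have h1 : contractRight A (N (-q₀)) σ = 0 := by
      rw [← pairL_self N q₀ (by omega), ← ev0_ι_apply N (-q₀) q₀ (by omega) σ, ← hσ, map_smul, hx,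
        smul_zero]
    obtain ⟨k, hk⟩ := hinj σ h1
    refine ⟨k + M, ?_⟩
    rw [pow_add, mul_smul, hσ, ← map_smul]
    have hk' : t ^ k • σ = 0 := hk
    rw [hk', map_zero]
  · have htop : LinearMap.range (ev0 N).hom = ⊤ := by
      apply eq_top_of_forall_maximal (A := A) (LinearMap.range (ev0 N).hom)
      intro I hI
      obtain ⟨t, ht, q₀, ⟨k, σ, hσ⟩, -, -⟩ := local_facts hfin hloc I hI
      refine ⟨t, ht, k, ?_⟩
      rw [← hσ, ← pairL_self N q₀ (by omega)]
      exact ⟨(ι (V N) (W N) (-q₀) q₀ 0 (by omega)).hom σ, ev0_ι_apply N (-q₀) q₀ (by omega) σ⟩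
    exact LinearMap.range_eq_top.mp htop

/-- `V ⊗ W` is the unit in the derived category -/
theorem nonempty_iso : Nonempty (DRing.toD (V N ⊗ W N) ≅ Dual.inD A A) := by
  let u : A ≃ₗ[A] (V N ⊗ W N).X 0 :=
    (LinearEquiv.ofBijective (ev0 N).hom (ev0_bijective hfin hloc)).symm
  obtain ⟨e⟩ := InvObj.toD_iso_shift (V N ⊗ W N) 0 0 (by omega)
    (fun i hi => isZero_X hfin hloc i hi) u
  exact ⟨e ≪≫ (shiftFunctorZero (Dual.D A) ℤ).app _⟩

end Groth.Agent.Helper9.XI8
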