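import Mathlib
import Groth.Prelude.Def_DTen
import Groth.Agent.Helper9.XI8
import Groth.Agent.Helper3.DRingBC3
import Groth.Agent.Helper6.TenCxBdd
import Groth.Agent.Helper6.Coext4

/-!
# An object of `D^b_Coh(A)` which is locally a shift of the structure sheaf is invertible
-/

set_option autoImplicit false
set_option linter.style.haveILetI false
set_option linter.unusedSectionVars false

universe u
open CategoryTheory CategoryTheory.Limits MonoidalCategory TensorProduct DerivedCategory
attribute [local instance] HasDerivedCategory.standard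

namespace Groth.Agent.Helper9.XI9
open Groth.Agent.Helper9.XI6 Groth.Agent.Helper9.XI7 Groth.Agent.Helper9.XI8
  Groth.Agent.Helper3.DRingLib Groth.Agent.Helper6

variable {A : Type u} [CommRing A] [IsNoetherianRing A]

/-- cohomology of a shift of the unit -/
lemma HD_unit_shift (S : Type u) [CommRing S] (m i : ℤ) :
    (m + i = 0 → Nonempty (Dual.HD S ((Dual.inD S S)⟦m⟧) i ≃ₗ[S] S)) ∧
    (m + i ≠ 0 → Subsingleton (Dual.HD S ((Dual.inD S S)⟦m⟧) i)) := by
  constructor
  · intro h
    exact ⟨Coext.hdShift (Dual.inD S S) m i 0 h ≪≫ₗ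
      (HDinDIso (ModuleCat.of S S)).toLinearEquiv⟩
  · intro h
    haveI : Subsingleton (Dual.HD S (Dual.inD S S) (m + i)) := by
      rcases lt_or_gt_of_ne h with h' | h'
      · exact subsingleton_HD_of_isGE _ 0 _ h'
      · exact subsingleton_HD_of_isLE _ 0 _ h'
    exact (Coext.hdShift (Dual.inD S S) m i (m + i) rfl).toEquiv.subsingleton

/-- local structure of the cohomology modules -/
theorem locData (X : Dual.D A)
    (hloc : ∀ I : Ideal A, I.IsMaximal → ∃ t : A, t ∉ I ∧ ∃ m : ℤ, Nonempty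
      ((bcD A (Localization.Away t)).obj X ≅
        (Dual.inD (Localization.Away t) (Localization.Away t))⟦m⟧)) :
    LocData (fun i => (homologyFunctor (ModuleCat.{u} A) i).obj X) := by
  intro I hI
  obtain ⟨t, ht, m, ⟨e⟩⟩ := hloc I hI
  refine ⟨t, ht, m, ?_, ?_⟩
  · obtain ⟨e1⟩ := nonempty_HD_bcD_equiv (Localization.Away t) X (-m)
    obtain ⟨e2⟩ := (HD_unit_shift (Localization.Away t) m (-m)).1 (by omega)
    exact ⟨(IsLocalizedModule.isBaseChange (Submonoid.powers t) (Localization.Away t)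
      (LocalizedModule.mkLinearMap (Submonoid.powers t) (Dual.HD A X (-m)))).equiv.symm ≪≫ₗ
      e1.symm ≪≫ₗ
      ((homologyFunctor (ModuleCat.{u} (Localization.Away t)) (-m)).mapIso e).toLinearEquiv ≪≫ₗ e2⟩
  · intro p hp
    obtain ⟨e1⟩ := nonempty_HD_bcD_equiv (Localization.Away t) X p
    haveI := (HD_unit_shift (Localization.Away t) m p).2 (by omega)
    exact ((IsLocalizedModule.isBaseChange (Submonoid.powers t) (Localization.Away t)
      (LocalizedModule.mkLinearMap (Submonoid.powers t) (Dual.HD A X p))).equiv.symm ≪≫ₗ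
      e1.symm ≪≫ₗ
      ((homologyFunctor (ModuleCat.{u} (Localization.Away t)) p).mapIso e).toLinearEquiv
      ).toEquiv.subsingleton

theorem isInvertible [DTen.HasLTen A] [DTen.KFlatComputes A] (X : Dual.D A)
    (hf : ∀ i : ℤ, Module.Finite A (Dual.HD A X i))
    (hb : ∃ a b : ℤ, ∀ i : ℤ, (i < a ∨ b < i) → Subsingleton (Dual.HD A X i))
    (hloc : ∀ I : Ideal A, I.IsMaximal → ∃ t : A, t ∉ I ∧ ∃ m : ℤ, Nonempty
      ((bcD A (Localization.Away t)).obj X ≅
        (Dual.inD (Localization.Away t) (Localization.Away t))⟦m⟧)) :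
    DTen.IsInvertible A X := by
  let N : ℤ → ModuleCat.{u} A := fun i => (homologyFunctor (ModuleCat.{u} A) i).obj X
  have hfin : ∀ p : ℤ, Module.Finite A (N p) := hf
  have hL : LocData N := locData X hloc
  have hproj : ∀ i : ℤ, Module.Projective A (Dual.HD A X i) := fun i =>
    XI7.projective hfin hL i
  obtain ⟨eX⟩ := XI6.formal X hproj
  obtain ⟨a, b, hab⟩ := hb
  have hkf : DRing.IsKFlat A (V N) := by
    apply TenCx.kflat_of_boundedAbove_flat (V N) b
    · intro i hi
      haveI : Subsingleton ((V N).X i) := hab i (Or.inr hi)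
      exact ModuleCat.isZero_of_subsingleton _
    · intro i
      haveI : Module.Projective A ((V N).X i) := hproj i
      infer_instance
  obtain ⟨eU⟩ := XI8.nonempty_iso hfin hL
  haveI h1 : IsIso ((DTen.ε A).app (V N, W N)) :=
    DTen.KFlatComputes.isIso_counit (V N) (W N) (Or.inl hkf)
  haveI h2 : IsIso ((DTen.ε A).app (W N, V N)) :=
    DTen.KFlatComputes.isIso_counit (W N) (V N) (Or.inr hkf)
  refine ⟨DRing.toD (W N), ⟨?_⟩, ⟨?_⟩⟩
  · exact (DTen.LTen₂ A).mapIso (Iso.prod eX (Iso.refl _)) ≪≫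
      asIso ((DTen.ε A).app (V N, W N)) ≪≫ eU
  · exact (DTen.LTen₂ A).mapIso (Iso.prod (Iso.refl _) eX) ≪≫
      asIso ((DTen.ε A).app (W N, V N)) ≪≫ Q.mapIso (DTen.braidCx (W N) (V N)) ≪≫ eU

end Groth.Agent.Helper9.XI9
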