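import Mathlib
import Groth.Prelude.Def_DualSh
import Groth.Prelude.Def_LCI2
import Groth.Agent.Helper3.KzLoc
import Groth.Agent.Helper2.LciGlobal

/-!
# Around a prime, a Koszul-regular ideal of a Noetherian ring is generated by a regular sequence
-/

set_option autoImplicit false
set_option linter.style.haveILetI false
set_option linter.unusedSectionVars false

universe u
open RingTheory.Sequence

namespace Groth.Agent.Helper9.XR4
open Groth.Agent.Helper3.KzLoc

variable {P : Type u} [CommRing P] [IsNoetherianRing P]

/-- transport of weak regularity along a ring isomorphism -/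
lemma isWeaklyRegular_map_ringEquiv {S S' : Type u} [CommRing S] [CommRing S'] (e : S ≃+* S')
    (l : List S) (hl : IsWeaklyRegular S l) : IsWeaklyRegular S' (l.map e) := by
  refine (AddEquiv.isWeaklyRegular_congr (e := e.toAddEquiv) ?_).1 hl
  refine List.forall₂_map_right_iff.mpr (List.forall₂_same.mpr fun r _ x => ?_)
  exact map_mul e r x

/-- **local generation by a regular sequence** -/
theorem exists_weaklyRegular (I 𝔭 : Ideal P) [h𝔭 : 𝔭.IsPrime] (h : LocKReg I 𝔭) (hI : I ≤ 𝔭)
    (B : Type u) [CommRing B] [Algebra P B] [IsLocalization.AtPrime B 𝔭] :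
    ∃ l : List B, IsWeaklyRegular B l ∧ I.map (algebraMap P B) = Ideal.ofList l := by
  obtain ⟨g, hg, l, hl, hIl⟩ := h
  have hdisj : Disjoint (Submonoid.powers g : Set P) (𝔭 : Set P) := by
    rw [Set.disjoint_left]
    rintro x ⟨k, rfl⟩ hx
    exact hg (h𝔭.mem_of_pow_mem k hx)
  let Q' : Ideal (Localization.Away g) := 𝔭.map (algebraMap P (Localization.Away g))
  haveI hQ' : Q'.IsPrime :=
    IsLocalization.isPrime_of_isPrime_disjoint (Submonoid.powers g) _ 𝔭 h𝔭 hdisj
  have hcomap : Q'.comap (algebraMap P (Localization.Away g)) = 𝔭 :=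
    IsLocalization.under_map_of_isPrime_disjoint (Submonoid.powers g) _ h𝔭 hdisj
  haveI : IsNoetherianRing (Localization.Away g) :=
    IsLocalization.isNoetherianRing (Submonoid.powers g) _ inferInstance
  have hmem : ∀ x ∈ l, x ∈ Q' := fun x hx => by
    have h1 : x ∈ Ideal.span {y | y ∈ l} := Ideal.subset_span hx
    rw [← hIl] at h1
    exact Ideal.map_mono hI h1
  have hreg := Groth.Agent.Helper2.LciGlobal.isWeaklyRegular_atPrime Q' l hl hmem
  haveI h1 : IsLocalization.AtPrime (Localization.AtPrime Q')
      (Q'.comap (algebraMap P (Localization.Away g))) := inferInstance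
  haveI h2 : IsLocalization.AtPrime (Localization.AtPrime Q') 𝔭 := by
    have := h1
    simp only [hcomap] at this
    exact this
  let e : Localization.AtPrime Q' ≃ₐ[P] B := IsLocalization.algEquiv 𝔭.primeCompl _ _
  refine ⟨(l.map (algebraMap (Localization.Away g) (Localization.AtPrime Q'))).map
    e.toRingEquiv, isWeaklyRegular_map_ringEquiv e.toRingEquiv _ hreg, ?_⟩
  have h3 : (e.toRingEquiv : Localization.AtPrime Q' →+* B).comp
      ((algebraMap (Localization.Away g) (Localization.AtPrime Q')).comp
        (algebraMap P (Localization.Away g))) = algebraMap P B := by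
    ext a
    change e (algebraMap (Localization.Away g) (Localization.AtPrime Q')
      (algebraMap P (Localization.Away g) a)) = _
    rw [← IsScalarTower.algebraMap_apply, e.commutes]
  have h4 : Ideal.ofList l = I.map (algebraMap P (Localization.Away g)) := by
    rw [hIl]
  have h5 : (List.map (⇑e.toRingEquiv)
      (l.map (algebraMap (Localization.Away g) (Localization.AtPrime Q')))) =
      List.map (⇑(e.toRingEquiv : Localization.AtPrime Q' →+* B))
      (l.map (algebraMap (Localization.Away g) (Localization.AtPrime Q'))) := rfl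
  rw [h5, ← Ideal.map_ofList, ← Ideal.map_ofList, h4, Ideal.map_map, Ideal.map_map,
    RingHom.comp_assoc, h3]

end Groth.Agent.Helper9.XR4
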