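import Mathlib
import Groth.Prelude.Def_DualSh
import Groth.Prelude.Def_LCI2
import Groth.Agent.Helper9.XR3
import Groth.Agent.Helper9.XR4
import Groth.Agent.Helper9.FB6
import Groth.Agent.Helper9.BR3
import Groth.Agent.Helper9.RHB3
import Groth.Agent.Helper3.KPerfB
import Groth.Agent.Helper6.LocExt5
import Groth.Agent.Helper7.CKp4

/-!
# `RHom_P(A, P)` for a surjection `P → A` with Koszul-regular kernel: perfectness, and
the local structure `RHom_P(A, P)_q ≅ A_q[-c]`
-/

set_option autoImplicit false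
set_option linter.style.haveILetI false
set_option linter.unusedSectionVars false

universe u
open CategoryTheory CategoryTheory.Limits DerivedCategory
attribute [local instance] HasDerivedCategory.standard

namespace Groth.Agent.Helper9.XR5
open Groth.Agent.Helper3.DRingLib Groth.Agent.Helper6 Groth.Agent.Helper3.KzLoc
  Groth.Agent.Helper6.Coext

variable {P A : Type u} [CommRing P] [CommRing A] (ψ : P →+* A) (hψ : Function.Surjective ψ)
  (Rψ : Dual.D P ⥤ Dual.D A) (adj : DRing.restrictD ψ ⊣ Rψ)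

include hψ in
/-- the restriction of `A[0]` is `(P/ker ψ)[0]` -/
lemma nonempty_resUnitIso :
    Nonempty ((DRing.restrictD ψ).obj (Dual.inD A A) ≅ Dual.inD P (P ⧸ RingHom.ker ψ)) :=
  ⟨Groth.Agent.Helper9.RD1.resUnitIso ψ ≪≫
    ((DerivedCategory.singleFunctorIsoCompQ (ModuleCat.{u} P) 0).app (BA ψ)).symm ≪≫
      (Groth.Agent.Helper9.KR1.inDIso (Groth.Agent.Helper9.XR3.quotEquiv ψ hψ)).symm⟩

include hψ adj in
/-- `RHom_P(A, P)` is perfect over `P` -/
theorem isPerfect_res (hK : LCI.IsKoszulRegularIdeal (RingHom.ker ψ)) :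
    DRing.IsPerfect P ((DRing.restrictD ψ).obj (Rψ.obj (Dual.inD P P))) := by
  obtain ⟨e⟩ := nonempty_resUnitIso ψ hψ
  have hA : DRing.IsPerfect P ((DRing.restrictD ψ).obj (Dual.inD A A)) :=
    isPerfect_of_iso e.symm (Groth.Agent.Helper3.KPerfB.isPerfect_quot _ hK)
  obtain ⟨D, a, b, hv, hfp, ⟨e'⟩⟩ := Groth.Agent.Helper9.RD1.exists_dual_rep ψ Rψ adj hA
  exact ⟨D, a, b, hv, hfp, ⟨e'.symm⟩⟩

include hψ adj in
/-- **local structure**: `RHom_P(A, P) ⊗ A_q ≅ A_q[-c]` -/
theorem local_iso [IsNoetherianRing P] (q : Ideal A) [hq : q.IsPrime]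
    (hK : LocKReg (RingHom.ker ψ) (q.comap ψ)) :
    ∃ c : ℕ, Nonempty ((bcD A (Localization.AtPrime q)).obj (Rψ.obj (Dual.inD P P)) ≅
      (Dual.inD (Localization.AtPrime q) (Localization.AtPrime q))⟦-(c : ℤ)⟧) := by
  letI : Algebra P A := ψ.toAlgebra
  have hπ : Function.Surjective (Localization.localRingHom (q.comap ψ) q ψ rfl) :=
    Groth.Agent.Helper7.CKd.localRingHom_surjective_of_surjective ψ hψ (q.comap ψ) q rfl
  have hker : RingHom.ker (Localization.localRingHom (q.comap ψ) q ψ rfl) =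
      (RingHom.ker ψ).map (algebraMap P (Localization.AtPrime (q.comap ψ))) :=
    Groth.Agent.Helper7.CKd.ker_localRingHom_of_surjective ψ hψ (q.comap ψ) q rfl
  have hle : RingHom.ker ψ ≤ q.comap ψ := fun x hx => by
    rw [Ideal.mem_comap, (RingHom.mem_ker).mp hx]
    exact q.zero_mem
  obtain ⟨l, hl, hIl⟩ := Groth.Agent.Helper9.XR4.exists_weaklyRegular (RingHom.ker ψ) (q.comap ψ)
    hK hle (Localization.AtPrime (q.comap ψ))
  have hE : Groth.Agent.Helper9.XR2.ExtData
      (RingHom.ker (Localization.localRingHom (q.comap ψ) q ψ rfl)) (l.length : ℤ) := by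
    rw [hker, hIl]
    exact Groth.Agent.Helper9.XR2.extData_ofList l hl
  haveI := Groth.Agent.Helper9.BR3.isLeftAdjoint_restrictD
    (Localization.localRingHom (q.comap ψ) q ψ rfl)
  have adj' := Adjunction.ofIsLeftAdjoint
    (DRing.restrictD (Localization.localRingHom (q.comap ψ) q ψ rfl))
  obtain ⟨e1⟩ := Groth.Agent.Helper9.XR3.nonempty_iso_shift hπ _ adj' _ hE
  refine ⟨l.length, ?_⟩
  -- base change
  letI : Algebra (Localization.AtPrime (q.comap ψ)) (Localization.AtPrime q) :=
    (Localization.localRingHom (q.comap ψ) q ψ rfl).toAlgebra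
  haveI : IsScalarTower P (Localization.AtPrime (q.comap ψ)) (Localization.AtPrime q) :=
    IsScalarTower.of_algebraMap_eq (fun x => by
      change _ = Localization.localRingHom (q.comap ψ) q ψ rfl _
      rw [Localization.localRingHom_to_map]
      rfl)
  have hsub : Algebra.algebraMapSubmonoid A (q.comap ψ).primeCompl = q.primeCompl := by
    ext a
    constructor
    · rintro ⟨p, hp, rfl⟩
      exact hp
    · intro ha
      obtain ⟨p, rfl⟩ := hψ a
      exact ⟨p, ha, rfl⟩
  haveI : IsLocalization (Algebra.algebraMapSubmonoid A (q.comap ψ).primeCompl)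
      (Localization.AtPrime q) := by
    rw [hsub]
    infer_instance
  haveI : Algebra.IsPushout P A (Localization.AtPrime (q.comap ψ)) (Localization.AtPrime q) :=
    Algebra.isPushout_of_isLocalization (q.comap ψ).primeCompl _ _ _
  haveI := HasLBC.hasLBaseChange (algebraMap P (Localization.AtPrime (q.comap ψ)))
  haveI := HasLBC.hasLBaseChange (algebraMap A (Localization.AtPrime q))
  haveI : Module.Finite P A := Module.Finite.of_surjective (Algebra.linearMap P A) hψ
  have hpc : DRing.IsPseudoCoherentModule' P A :=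
    Groth.Agent.Helper9.FB6.isPseudoCoherentModule'_of_finite A
  haveI : (Dual.inD P P).IsGE 0 := inferInstance
  obtain ⟨e2⟩ := Groth.Agent.Helper9.FB6.nonempty_bcIso (R := P) (A := A)
    (R' := Localization.AtPrime (q.comap ψ)) (A' := Localization.AtPrime q) adj adj' hpc
    (Dual.inD P P) 0 inferInstance
  let u := Groth.Agent.Helper9.RHB3.lbcUnit (algebraMap P (Localization.AtPrime (q.comap ψ)))
    (LBCAdj.adj _)
  exact ⟨(LocExt.lbcIsoBcD A (Localization.AtPrime q) _).symm ≪≫ e2 ≪≫
    (Functor.rightAdjoint (DRing.restrictD (Localization.localRingHom (q.comap ψ) q ψ rfl))).mapIso u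
      ≪≫ e1⟩

end Groth.Agent.Helper9.XR5
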