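import Mathlib
import Groth.Prelude.Def_DualSh
import Groth.Prelude.Def_LCI2
import Groth.Agent.Helper9.XR5
import Groth.Agent.Helper9.RE4
import Groth.Agent.Helper6.ShrGor1
import Groth.Agent.Helper3.DRingRestr2

/-!
# `ω_{A/R} = φ^!(R)` is invertible for a presentation with Koszul-regular kernel
-/

set_option autoImplicit false
set_option linter.style.haveILetI false
set_option linter.unusedSectionVars false

universe u
open CategoryTheory CategoryTheory.Limits DerivedCategory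
attribute [local instance] HasDerivedCategory.standard

namespace Groth.Agent.Helper9.XR6
open Groth.Agent.Helper3.DRingLib Groth.Agent.Helper6 Groth.Agent.Helper3.KzLoc

variable (R A : Type u) [CommRing R] [CommRing A] [IsNoetherianRing R]
  [Algebra R A] (n : ℕ) (ψ : MvPolynomial (Fin n) R →ₐ[R] A) (hψ : Function.Surjective ψ)
  [DRing.HasLBaseChange (algebraMap R (MvPolynomial (Fin n) R))]
  (Rψ : Dual.D (MvPolynomial (Fin n) R) ⥤ Dual.D A) (adj : DRing.restrictD ψ.toRingHom ⊣ Rψ)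
  (hK : LCI.IsKoszulRegularIdeal (RingHom.ker ψ.toRingHom))

/-- `φ^!(R) ≅ RHom_P(A, P)[n]` -/
noncomputable def shriekUnitIso :
    Dual2.shriekVia n Rψ (Dual.inD R R) ≅
      (Rψ.obj (Dual.inD (MvPolynomial (Fin n) R) (MvPolynomial (Fin n) R)))⟦(n : ℤ)⟧ :=
  (CategoryTheory.shiftFunctor _ (n : ℤ)).mapIso
    (Rψ.mapIso (Groth.Agent.Helper9.RHB3.lbcUnit (algebraMap R (MvPolynomial (Fin n) R))
      (Groth.Agent.Helper6.LBCAdj.adj _)))

include hψ adj hK in
/-- the restriction of `ω` to `P` is perfect -/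
theorem isPerfect_restrict_shriek :
    DRing.IsPerfect (MvPolynomial (Fin n) R)
      ((DRing.restrictD ψ.toRingHom).obj (Dual2.shriekVia n Rψ (Dual.inD R R))) := by
  have h1 := Groth.Agent.Helper9.XR5.isPerfect_res ψ.toRingHom hψ Rψ adj hK
  refine isPerfect_of_iso ((DRing.restrictD ψ.toRingHom).mapIso
    (shriekUnitIso R A n Rψ).symm) ?_
  exact isPerfect_of_iso (((DRing.restrictD ψ.toRingHom).commShiftIso (n : ℤ)).symm.app _)
    (isPerfect_shift (n : ℤ) h1)

include hψ adj hK in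
/-- `ω` has bounded cohomology -/
theorem bounded :
    ∃ a b : ℤ, ∀ i : ℤ, (i < a ∨ b < i) →
      Subsingleton (Dual.HD A (Dual2.shriekVia n Rψ (Dual.inD R R)) i) := by
  obtain ⟨D, a, b, hv, -, ⟨e⟩⟩ := isPerfect_restrict_shriek R A n ψ hψ Rψ adj hK
  refine ⟨a, b, fun i hi => ?_⟩
  haveI := DFinExt.subsingleton_HD_toD D i (hv i hi)
  haveI : Subsingleton (Dual.HD (MvPolynomial (Fin n) R) ((DRing.restrictD ψ.toRingHom).obj
      (Dual2.shriekVia n Rψ (Dual.inD R R))) i) :=
    ((homologyFunctor (ModuleCat.{u} (MvPolynomial (Fin n) R)) i).mapIso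
      e).toLinearEquiv.symm.toEquiv.subsingleton
  exact (subsingleton_HD_rD_iff ψ.toRingHom _ i).mp inferInstance

include hψ adj hK in
/-- `ω` has finite cohomology modules -/
theorem finite [IsNoetherianRing A] (i : ℤ) :
    Module.Finite A (Dual.HD A (Dual2.shriekVia n Rψ (Dual.inD R R)) i) := by
  have hperf := isPerfect_restrict_shriek R A n ψ hψ Rψ adj hK
  letI : Algebra (MvPolynomial (Fin n) R) A := ψ.toRingHom.toAlgebra
  haveI : Module.Finite (MvPolynomial (Fin n) R) A :=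
    Module.Finite.of_surjective (Algebra.linearMap (MvPolynomial (Fin n) R) A) hψ
  have hB : DRing.IsPseudoCoherent' (MvPolynomial (Fin n) R)
      (Dual.inD (MvPolynomial (Fin n) R) A) :=
    Groth.Agent.Helper9.FB6.isPseudoCoherentModule'_of_finite A
  refine Groth.Agent.Helper9.RE4.finite_HD_of_isPseudoCoherent' _ ?_ i
  rw [isPseudoCoherent'_rD_iff hB]
  exact ((isPerfect_iff_pc_and_torDim _).1 hperf).1

include hψ adj hK in
/-- **`ω_{A/R}` is invertible** (termwise-localization form) -/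
theorem main [IsNoetherianRing A] (q : PrimeSpectrum A) :
    ∃ t : A, t ∉ q.asIdeal ∧ ∃ m : ℤ,
      Nonempty ((bcD A (Localization.Away t)).obj (Dual2.shriekVia n Rψ (Dual.inD R R)) ≅
        (Dual.inD (Localization.Away t) (Localization.Away t))⟦m⟧) := by
  obtain ⟨a, b, hab⟩ := bounded R A n ψ hψ Rψ adj hK
  haveI : (Dual2.shriekVia n Rψ (Dual.inD R R)).IsGE a :=
    isGE_of_HD _ a (fun i hi => hab i (Or.inl hi))
  haveI : (Dual2.shriekVia n Rψ (Dual.inD R R)).IsLE b :=
    isLE_of_HD _ b (fun i hi => hab i (Or.inr hi))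
  have hf := finite R A n ψ hψ Rψ adj hK
  have hloc : LocKReg (RingHom.ker ψ.toRingHom) (q.asIdeal.comap ψ.toRingHom) := by
    refine hK ⟨q.asIdeal.comap ψ.toRingHom, inferInstance⟩ (fun x hx => ?_)
    change ψ.toRingHom x ∈ q.asIdeal
    rw [(RingHom.mem_ker).mp hx]
    exact q.asIdeal.zero_mem
  obtain ⟨c, ⟨e⟩⟩ := Groth.Agent.Helper9.XR5.local_iso ψ.toRingHom hψ Rψ adj q.asIdeal hloc
  let e' : (bcD A (Localization.AtPrime q.asIdeal)).obj (Dual2.shriekVia n Rψ (Dual.inD R R)) ≅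
      (Dual.inD (Localization.AtPrime q.asIdeal) (Localization.AtPrime q.asIdeal))⟦-(c : ℤ) + n⟧ :=
    (bcD A (Localization.AtPrime q.asIdeal)).mapIso (shriekUnitIso R A n Rψ) ≪≫
      ((bcD A (Localization.AtPrime q.asIdeal)).commShiftIso (n : ℤ)).app _ ≪≫
      (shiftFunctor _ (n : ℤ)).mapIso e ≪≫
      ((shiftFunctorAdd' _ (-(c : ℤ)) (n : ℤ) (-(c : ℤ) + n) rfl).app _).symm
  obtain ⟨t, ht, he⟩ := ShrGor.exists_away_of_atPrime _ a b hf q _ e'
  exact ⟨t, ht, _, he⟩

end Groth.Agent.Helper9.XR6
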