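import Mathlib

/-!
# `Hom(P, J)` is injective for `P` flat and `J` injective; `Hom(J₁, J₂)` is flat for
injective modules over a Noetherian ring
-/

set_option autoImplicit false
set_option linter.style.haveILetI false
set_option linter.unusedSectionVars false

universe u
open TensorProduct

namespace Groth.Agent.Helper9.XT1

variable {A : Type u} [CommRing A]

/-- `Hom(P, J)` is injective when `P` is flat and `J` is injective -/
theorem injective_hom (P J : Type u) [AddCommGroup P] [Module A P] [AddCommGroup J] [Module A J]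
    [Module.Flat A P] [Module.Injective A J] : Module.Injective A (P →ₗ[A] J) := by
  refine ⟨fun X Y _ _ _ _ f hf g => ?_⟩
  have hinj : Function.Injective (f.rTensor P) :=
    Module.Flat.rTensor_preserves_injective_linearMap f hf
  obtain ⟨h, hh⟩ := Module.Injective.extension_property A J (X ⊗[A] P) (Y ⊗[A] P)
    (f.rTensor P) hinj (TensorProduct.lift g)
  refine ⟨TensorProduct.curry h, fun x => ?_⟩
  ext p
  have := LinearMap.congr_fun hh (x ⊗ₜ p)
  simpa using this

section flat

variable [IsNoetherianRing A] (J₁ J₂ : Type u) [AddCommGroup J₁] [Module A J₁] [AddCommGroup J₂]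
  [Module A J₂] [Module.Injective A J₁] [Module.Injective A J₂]

/-- the key factorisation: maps `f i : J₁ → J₂` with `∑ x i • f i = 0` are combinations of maps
along the relations between the `x i` -/
lemma exists_factor {k : ℕ} (x : Fin k → A) (f : Fin k → (J₁ →ₗ[A] J₂))
    (hf : ∑ i, x i • f i = 0) :
    ∃ (m : ℕ) (ρ : Fin m → Fin k → A) (g : Fin m → (J₁ →ₗ[A] J₂)),
      (∀ j, ∑ i, ρ j i * x i = 0) ∧ ∀ i, f i = ∑ j, ρ j i • g j := by
  classical
  -- the module of relations
  let π : (Fin k → A) →ₗ[A] A := Fintype.linearCombination A x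
  have hfg : (LinearMap.ker π).FG := IsNoetherian.noetherian _
  obtain ⟨m, ρ, hρ⟩ := Submodule.fg_iff_exists_fin_generating_family.mp hfg
  have hρker : ∀ j, ρ j ∈ LinearMap.ker π := fun j => by
    rw [← hρ]
    exact Submodule.subset_span ⟨j, rfl⟩
  have hρx : ∀ j, ∑ i, ρ j i * x i = 0 := fun j => by
    have := hρker j
    rw [LinearMap.mem_ker, Fintype.linearCombination_apply] at this
    simpa [smul_eq_mul] using this
  -- the two maps
  let F : (Fin k → J₁) →ₗ[A] J₂ := ∑ i, (f i).comp (LinearMap.proj i)
  let T : (Fin k → J₁) →ₗ[A] (Fin m → J₁) :=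
    LinearMap.pi (fun j => ∑ i, ρ j i • (LinearMap.proj i : (Fin k → J₁) →ₗ[A] J₁))
  have hker : LinearMap.ker T ≤ LinearMap.ker F := by
    intro v hv
    rw [LinearMap.mem_ker] at hv ⊢
    -- `v` defines a map on the ideal generated by the `x i`
    let φ : (Fin k → A) →ₗ[A] J₁ := Fintype.linearCombination A v
    have hφ : LinearMap.ker π ≤ LinearMap.ker φ := by
      rw [← hρ, Submodule.span_le]
      rintro _ ⟨j, rfl⟩
      change φ (ρ j) = 0
      have h1 := congrFun hv j
      simp only [T, LinearMap.pi_apply, LinearMap.sum_apply, LinearMap.smul_apply,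
        LinearMap.proj_apply, Pi.zero_apply] at h1
      simpa [φ, Fintype.linearCombination_apply] using h1
    let ψ : LinearMap.range π →ₗ[A] J₁ :=
      (LinearMap.ker π).liftQ φ hφ ∘ₗ (π.quotKerEquivRange).symm.toLinearMap
    obtain ⟨ψ', hψ'⟩ := Module.Injective.extension_property A J₁ (LinearMap.range π) A
      (LinearMap.range π).subtype Subtype.val_injective ψ
    have hsum : ∀ i, ∑ j, (Pi.single i (1 : A) : Fin k → A) j * x j = x i := fun i => by
      rw [Finset.sum_eq_single i]
      · simp
      · intro b _ hb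
        simp [Pi.single_eq_of_ne hb]
      · simp
    have hv' : ∀ i, v i = x i • ψ' 1 := fun i => by
      have hxi : x i ∈ LinearMap.range π := ⟨Pi.single i 1, by
        simp only [π, Fintype.linearCombination_apply, smul_eq_mul]
        exact hsum i⟩
      have h1 : ψ' (x i) = ψ ⟨x i, hxi⟩ := by
        rw [← hψ']
        rfl
      have h2 : ψ ⟨x i, hxi⟩ = v i := by
        have h3 : (π.quotKerEquivRange).symm ⟨x i, hxi⟩ =
            (LinearMap.ker π).mkQ (Pi.single i 1) := by
          rw [LinearEquiv.symm_apply_eq]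
          apply Subtype.ext
          simp only [π, Submodule.mkQ_apply, LinearMap.quotKerEquivRange_apply_mk,
            Fintype.linearCombination_apply, smul_eq_mul]
          exact (hsum i).symm
        change (LinearMap.ker π).liftQ φ hφ ((π.quotKerEquivRange).symm ⟨x i, hxi⟩) = v i
        rw [h3, Submodule.mkQ_apply, Submodule.liftQ_apply]
        simp [φ, Fintype.linearCombination_apply]
      rw [← h2, ← h1]
      have : x i = x i • (1 : A) := by simp
      conv_lhs => rw [this, map_smul]
    have h4 : F v = ∑ i, (x i • f i) (ψ' 1) := by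
      simp only [F, LinearMap.sum_apply, LinearMap.comp_apply, LinearMap.proj_apply,
        LinearMap.smul_apply]
      refine Finset.sum_congr rfl (fun i _ => ?_)
      rw [hv' i, map_smul]
    rw [h4, ← LinearMap.sum_apply, hf, LinearMap.zero_apply]
  -- factor `F` through `T`
  let F' : ((Fin k → J₁) ⧸ LinearMap.ker T) →ₗ[A] J₂ := (LinearMap.ker T).liftQ F hker
  let T' : ((Fin k → J₁) ⧸ LinearMap.ker T) →ₗ[A] (Fin m → J₁) :=
    (LinearMap.ker T).liftQ T le_rfl
  have hT' : Function.Injective T' := by
    rw [← LinearMap.ker_eq_bot]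
    exact Submodule.ker_liftQ_eq_bot _ _ _ le_rfl
  obtain ⟨G, hG⟩ := Module.Injective.extension_property A J₂ _ _ T' hT' F'
  have hGT : ∀ v, G (T v) = F v := fun v => by
    have := LinearMap.congr_fun hG ((LinearMap.ker T).mkQ v)
    simpa [T', F'] using this
  refine ⟨m, ρ, fun j => G.comp (LinearMap.single A (fun _ => J₁) j), hρx, fun i => ?_⟩
  ext u
  have h5 := hGT (Pi.single i u)
  have h6 : F (Pi.single i u) = f i u := by
    simp only [F, LinearMap.sum_apply, LinearMap.comp_apply, LinearMap.proj_apply]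
    rw [Finset.sum_eq_single i]
    · simp
    · intro b _ hb
      simp [Pi.single_eq_of_ne hb]
    · simp
  have h7 : T (Pi.single i u) = ∑ j, Pi.single j (ρ j i • u) := by
    ext j
    simp only [T, LinearMap.pi_apply, LinearMap.sum_apply, LinearMap.smul_apply,
      LinearMap.proj_apply, Finset.sum_apply]
    rw [Finset.sum_eq_single i, Finset.sum_eq_single j]
    · simp
    · intro b _ hb
      simp [Pi.single_eq_of_ne hb.symm]
    · simp
    · intro b _ hb
      simp [Pi.single_eq_of_ne hb]
    · simp
  rw [← h6, ← h5, h7, map_sum]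
  simp only [LinearMap.sum_apply, LinearMap.smul_apply, LinearMap.comp_apply]
  refine Finset.sum_congr rfl (fun j _ => ?_)
  rw [← map_smul]
  congr 1
  ext j'
  by_cases h : j' = j
  · subst h
    simp
  · simp [Pi.single_eq_of_ne h]

/-- **`Hom(J₁, J₂)` is flat** for injective modules over a Noetherian ring -/
theorem flat_hom : Module.Flat A (J₁ →ₗ[A] J₂) := by
  classical
  rw [Module.Flat.iff_lTensor_injective']
  intro I
  rw [← LinearMap.ker_eq_bot, LinearMap.ker_eq_bot']
  intro t ht
  obtain ⟨k, x, hx⟩ := Submodule.fg_iff_exists_fin_generating_family.mp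
    (IsNoetherian.noetherian I)
  have hxI : ∀ i, x i ∈ I := fun i => by
    rw [← hx]
    exact Submodule.subset_span ⟨i, rfl⟩
  -- write `t` as a sum of `f i ⊗ x i`
  have hrep : ∀ t : (J₁ →ₗ[A] J₂) ⊗[A] I, ∃ f : Fin k → (J₁ →ₗ[A] J₂),
      t = ∑ i, f i ⊗ₜ[A] (⟨x i, hxI i⟩ : I) := by
    intro t
    induction t using TensorProduct.induction_on with
    | zero => exact ⟨fun _ => 0, by simp⟩
    | tmul f y =>
      have hy : (y : A) ∈ Submodule.span A (Set.range x) := by
        rw [hx]
        exact y.2
      obtain ⟨c, hc⟩ := (Submodule.mem_span_range_iff_exists_fun A).mp hy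
      refine ⟨fun i => c i • f, ?_⟩
      have hy' : y = ∑ i, c i • (⟨x i, hxI i⟩ : I) := by
        apply Subtype.ext
        rw [← hc]
        simp
      rw [hy', TensorProduct.tmul_sum]
      refine Finset.sum_congr rfl (fun i _ => ?_)
      rw [TensorProduct.tmul_smul, TensorProduct.smul_tmul']
    | add t₁ t₂ h₁ h₂ =>
      obtain ⟨f₁, rfl⟩ := h₁
      obtain ⟨f₂, rfl⟩ := h₂
      refine ⟨fun i => f₁ i + f₂ i, ?_⟩
      rw [← Finset.sum_add_distrib]
      refine Finset.sum_congr rfl (fun i _ => ?_)
      rw [TensorProduct.add_tmul]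
  obtain ⟨f, rfl⟩ := hrep t
  have h0 : ∑ i, x i • f i = 0 := by
    rw [map_sum] at ht
    have h1 := congrArg (TensorProduct.rid A (J₁ →ₗ[A] J₂)) ht
    rw [map_sum, map_zero] at h1
    simp only [LinearMap.lTensor_tmul, Submodule.subtype_apply, TensorProduct.rid_tmul] at h1
    exact h1
  obtain ⟨m, ρ, g, hρ, hfg⟩ := exists_factor J₁ J₂ x f h0
  calc ∑ i, f i ⊗ₜ[A] (⟨x i, hxI i⟩ : I)
      = ∑ i, ∑ j, g j ⊗ₜ[A] (ρ j i • (⟨x i, hxI i⟩ : I)) := by
        refine Finset.sum_congr rfl (fun i _ => ?_)
        rw [hfg i, TensorProduct.sum_tmul]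
        refine Finset.sum_congr rfl (fun j _ => ?_)
        rw [TensorProduct.smul_tmul]
    _ = ∑ j, g j ⊗ₜ[A] (∑ i, ρ j i • (⟨x i, hxI i⟩ : I)) := by
        rw [Finset.sum_comm]
        refine Finset.sum_congr rfl (fun j _ => ?_)
        rw [TensorProduct.tmul_sum]
    _ = 0 := by
        refine Finset.sum_eq_zero (fun j _ => ?_)
        have : (∑ i, ρ j i • (⟨x i, hxI i⟩ : I)) = 0 := by
          apply Subtype.ext
          simp only [Submodule.coe_sum, Submodule.coe_smul, smul_eq_mul, Submodule.coe_zero]
          exact hρ j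
        rw [this, TensorProduct.tmul_zero]

end flat

end Groth.Agent.Helper9.XT1
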