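import Mathlib
import Groth.Prelude.Def_DRing4
import Groth.Agent.Helper9.XT1

/-!
# Terms of the Hom complex `Hom•(K, L)`: vanishing, injectivity, flatness
-/

set_option autoImplicit false
set_option linter.style.haveILetI false
set_option linter.unusedSectionVars false

universe u
open CategoryTheory CategoryTheory.Limits CochainComplex CochainComplex.HomComplex

namespace Groth.Agent.Helper9.XT2

variable {A : Type u} [CommRing A]

lemma injective_of_linearEquiv {M N : Type u} [AddCommGroup M] [Module A M] [AddCommGroup N]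
    [Module A N] (e : M ≃ₗ[A] N) [Module.Injective A M] : Module.Injective A N := by
  refine ⟨fun X Y _ _ _ _ f hf g => ?_⟩
  obtain ⟨h, hh⟩ := Module.Injective.extension_property A M X Y f hf (e.symm.toLinearMap ∘ₗ g)
  refine ⟨e.toLinearMap ∘ₗ h, fun x => ?_⟩
  have := LinearMap.congr_fun hh x
  simp only [LinearMap.comp_apply, LinearEquiv.coe_coe] at this ⊢
  rw [this, e.apply_symm_apply]

/-- vanishing of the terms of `Hom•(K, L)` -/
theorem vanishesOutside_homCx (K L : DRing.Cx A) (a b c d : ℤ)
    (hK : DRing.VanishesOutside K a b) (hL : DRing.VanishesOutside L c d) :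
    DRing.VanishesOutside (DRing.homCx K L) (c - b) (d - a) := by
  intro n hn
  haveI : Subsingleton (Cochain K L n) := by
    refine ⟨fun z₁ z₂ => Cochain.ext _ _ (fun p q hpq => ?_)⟩
    by_cases hp : p < a ∨ b < p
    · exact (hK p hp).eq_of_src _ _
    · have hq : q < c ∨ d < q := by omega
      exact (hL q hq).eq_of_tgt _ _
  exact ModuleCat.isZero_of_subsingleton (ModuleCat.of A (Cochain K L n))

/-- `Hom•(K, L)` has injective terms when `K` has flat terms and `L` injective terms -/
theorem termwiseInjective_homCx (K L : DRing.Cx A) (hK : DRing.TermwiseFlat K)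
    (hL : DRing.TermwiseInjective L) : DRing.TermwiseInjective (DRing.homCx K L) := by
  intro n
  haveI : ∀ T : Triplet n, Module.Injective A (K.X T.p ⟶ L.X T.q) := fun T => by
    haveI := hK T.p
    haveI := hL T.q
    haveI := Groth.Agent.Helper9.XT1.injective_hom (A := A) (K.X T.p) (L.X T.q)
    exact injective_of_linearEquiv (ModuleCat.homLinearEquiv (S := A)).symm
  exact (inferInstance : Module.Injective A (∀ T : Triplet n, (K.X T.p ⟶ L.X T.q)))

/-- the terms of `Hom•(K, L)` as a finite product, for bounded `K` -/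
noncomputable def cochainEquivFin (K L : DRing.Cx A) (a b : ℤ) (hK : DRing.VanishesOutside K a b)
    (n : ℤ) : Cochain K L n ≃ₗ[A] ((p : Finset.Icc a b) → (K.X p.1 ⟶ L.X (p.1 + n))) where
  toFun z := fun p => z.v p.1 (p.1 + n) rfl
  map_add' z z' := rfl
  map_smul' x z := rfl
  invFun w := Cochain.mk (fun p q hpq =>
    if h : p ∈ Finset.Icc a b then w ⟨p, h⟩ ≫ eqToHom (by rw [hpq]) else 0)
  left_inv z := by
    refine Cochain.ext _ _ (fun p q hpq => ?_)
    subst hpq
    by_cases h : p ∈ Finset.Icc a b
    · rw [Cochain.mk_v, dif_pos h]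
      simp
    · have hp : p < a ∨ b < p := by
        rw [Finset.mem_Icc] at h
        omega
      exact (hK p hp).eq_of_src _ _
  right_inv w := by
    funext p
    change (Cochain.mk _).v p.1 (p.1 + n) rfl = w p
    rw [Cochain.mk_v, dif_pos p.2]
    simp

/-- `Hom•(K, L)` has flat terms when `K` is bounded with injective terms and `L` has injective
terms, over a Noetherian ring -/
theorem termwiseFlat_homCx [IsNoetherianRing A] (K L : DRing.Cx A) (a b : ℤ)
    (hK : DRing.VanishesOutside K a b) (hKi : DRing.TermwiseInjective K)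
    (hL : DRing.TermwiseInjective L) : DRing.TermwiseFlat (DRing.homCx K L) := by
  intro n
  haveI : ∀ p : Finset.Icc a b, Module.Flat A (K.X p.1 ⟶ L.X (p.1 + n)) := fun p => by
    haveI := hKi p.1
    haveI := hL (p.1 + n)
    haveI := Groth.Agent.Helper9.XT1.flat_hom (A := A) (K.X p.1) (L.X (p.1 + n))
    exact Module.Flat.of_linearEquiv (ModuleCat.homLinearEquiv (S := A))
  haveI : Module.Flat A ((p : Finset.Icc a b) → (K.X p.1 ⟶ L.X (p.1 + n))) :=
    Module.Flat.of_linearEquiv
      (DFinsupp.linearEquivFunOnFintype (R := A)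
        (M := fun p : Finset.Icc a b => (K.X p.1 ⟶ L.X (p.1 + n)))).symm
  exact Module.Flat.of_linearEquiv (cochainEquivFin K L a b hK n)

end Groth.Agent.Helper9.XT2
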