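import Mathlib
import Groth.Prelude.Def_DRing4
import Groth.Prelude.Def_DDual2
import Groth.Agent.Helper9.XT2
import Groth.Agent.Helper6.BiD9
import Groth.Agent.Helper6.LocExt4
import Groth.Agent.Helper3.DRingTor6

/-!
# Finite Tor-dimension of `G` versus finite injective dimension of `RHom(G, ω)`
-/

set_option autoImplicit false
set_option linter.style.haveILetI false
set_option linter.unusedSectionVars false

universe u
open CategoryTheory CategoryTheory.Limits CochainComplex CochainComplex.HomComplex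
  Pretriangulated DerivedCategory
attribute [local instance] HasDerivedCategory.standard

namespace Groth.Agent.Helper9.XT3
open Groth.Agent.Helper3.DRingLib Groth.Agent.Helper6.LocExt Groth.Agent.Helper6.BiD

variable {A : Type u} [CommRing A] [IsNoetherianRing A]

theorem main (ω : Dual.D A) (hω : Dual.IsDualizing A ω) (G : DRing.Cx A) [DRing.HasRHomCx G]
    (hfin : ∀ i : ℤ, Module.Finite A (Dual.HD A (DRing.toD G) i))
    (hbdd : ∃ a b : ℤ, ∀ i : ℤ, (i < a ∨ b < i) → Subsingleton (Dual.HD A (DRing.toD G) i)) :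
    DRing.HasFiniteTorDimCx A (DRing.toD G) ↔
      DRing.HasFiniteInjDim A ((DRing.RHomCx G).obj ω) := by
  obtain ⟨I, a, b, hv, hinj, hKI, ⟨e⟩, hend, hext⟩ := exists_dualizing_rep ω hω
  haveI := hKI
  let rG : (DRing.RHomCx G).obj ω ≅ DRing.toD (DRing.homCx G I) :=
    (DRing.RHomCx G).mapIso e.symm ≪≫ Groth.Agent.Helper6.RHomInj.rhomIso G I
  obtain ⟨a₀, b₀, hab⟩ := hbdd
  constructor
  · intro htd
    haveI : (DRing.toD G).IsLE b₀ := isLE_of_HD _ b₀ (fun i hi => hab i (Or.inr hi))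
    have hpc : DRing.IsPseudoCoherent' A (DRing.toD G) :=
      (isPseudoCoherent'_iff_forall _).mpr (pc_of_finite (DRing.toD G) b₀ hfin)
    obtain ⟨V, c, d, hVv, hVp, ⟨eV⟩⟩ := (isPerfect_iff_pc_and_torDim _).2 ⟨hpc, htd⟩
    obtain ⟨θ⟩ := D_iso_of_iso I eV
    refine ⟨a - d, b - c, DRing.homCx V I,
      Groth.Agent.Helper9.XT2.vanishesOutside_homCx V I c d a b hVv hv,
      Groth.Agent.Helper9.XT2.termwiseInjective_homCx V I (fun i => ?_) hinj,
      ⟨θ ≪≫ rG.symm⟩⟩
    obtain ⟨h1, h2⟩ := hVp i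
    infer_instance
  · rintro ⟨c, d, J, hJv, hJi, ⟨eJ⟩⟩
    haveI hqi := quasiIso_eta I a b hv hinj hend hext G hfin
    haveI : IsIso (Q.map (eta G I)) :=
      (DerivedCategory.isIso_Q_map_iff_quasiIso (φ := eta G I)).mpr hqi
    obtain ⟨θ⟩ := D_iso_of_iso I (eJ ≪≫ rG)
    exact ⟨a - d, b - c, DRing.homCx J I,
      Groth.Agent.Helper9.XT2.vanishesOutside_homCx J I c d a b hJv hv,
      Groth.Agent.Helper9.XT2.termwiseFlat_homCx J I c d hJv hJi hinj,
      ⟨θ ≪≫ (asIso (Q.map (eta G I))).symm⟩⟩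

end Groth.Agent.Helper9.XT3
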