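import Mathlib
import Groth.Agent.Helper5.RegLoc6
import Groth.Agent.Helper5.SmRelDim1
import Groth.Agent.Helper2.CMPoly

/-!
# Fibre dimension bookkeeping for a quotient of a polynomial ring

For `P = R[x_1..x_n]`, an ideal `J ≤ q` and the fibre local ring `F = P_q / p P_q`:
`dim F - dim F/JF = n - d` where `d` is the local fibre dimension of `Spec (P/J) → Spec R`.
-/

set_option autoImplicit false
set_option linter.style.haveILetI false
set_option linter.unusedSectionVars false

universe u
open CategoryTheory AlgebraicGeometry IsLocalRing TensorProduct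

namespace Groth.Agent.Helper9.YA1

open Groth.Agent.Helper5.RegLoc Groth.Agent.Helper2.SnFib Groth.Agent.Helper2.CMFields

variable (R : Type u) [CommRing R] [IsNoetherianRing R] (n : ℕ)

/-- the fibre rings of a polynomial ring are Cohen–Macaulay -/
lemma cm_fibre (p : PrimeSpectrum R) :
    LocCoh.IsCohenMacaulayRing (p.asIdeal.Fiber (MvPolynomial (Fin n) R)) := by
  have e : p.asIdeal.ResidueField ⊗[R] MvPolynomial (Fin n) R ≃ₐ[p.asIdeal.ResidueField]
      MvPolynomial (Fin n) p.asIdeal.ResidueField :=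
    MvPolynomial.algebraTensorAlgEquiv R p.asIdeal.ResidueField
  haveI : IsRegularRing (MvPolynomial (Fin n) p.asIdeal.ResidueField) := inferInstance
  haveI : IsRegularRing (p.asIdeal.Fiber (MvPolynomial (Fin n) R)) :=
    IsRegularRing.of_ringEquiv e.symm.toRingEquiv
  haveI : IsNoetherianRing (p.asIdeal.Fiber (MvPolynomial (Fin n) R)) :=
    isNoetherianRing_of_ringEquiv _ e.symm.toRingEquiv
  rw [isCohenMacaulayRing_iff]
  intro m
  exact hasSk_of_isRegularRing _ m

/-- the fibre local rings of a polynomial ring are Cohen–Macaulay -/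
lemma cm_fibLocRing (q : PrimeSpectrum (MvPolynomial (Fin n) R)) :
    LocCoh.IsCohenMacaulayLocalRing (EGA4.FibLocRing R (MvPolynomial (Fin n) R) q.asIdeal) := by
  obtain ⟨eF⟩ := fibLocRing_equiv_fibre_stalk R (MvPolynomial (Fin n) R) q
  exact Groth.Agent.Lead.CMCl.cm_of_ringEquiv eF.symm
    (h := cm_fibre_stalk R (MvPolynomial (Fin n) R) q (cm_fibre R n))

set_option maxHeartbeats 1000000 in
/-- dimension bookkeeping -/
theorem dims (J : Ideal (MvPolynomial (Fin n) R)) (z : PrimeSpectrum (MvPolynomial (Fin n) R ⧸ J))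
    (q : PrimeSpectrum (MvPolynomial (Fin n) R))
    (hq : q.asIdeal = z.asIdeal.comap (Ideal.Quotient.mk J)) (d : ℕ)
    (hd : FlatMor.fibreDimAt
      (Spec.map (CommRingCat.ofHom (algebraMap R (MvPolynomial (Fin n) R ⧸ J)))) z = d) :
    ∃ k k' : ℕ, ringKrullDim (EGA4.FibLocRing R (MvPolynomial (Fin n) R) q.asIdeal) = k ∧
      ringKrullDim (EGA4.FibLocRing R (MvPolynomial (Fin n) R) q.asIdeal ⧸
        J.map (algebraMap (MvPolynomial (Fin n) R)
          (EGA4.FibLocRing R (MvPolynomial (Fin n) R) q.asIdeal))) = k' ∧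
      k + d = k' + n := by
  have hJq : J ≤ q.asIdeal := by
    rw [hq]
    intro x hx
    show Ideal.Quotient.mk J x ∈ z.asIdeal
    rw [Ideal.Quotient.eq_zero_iff_mem.2 hx]
    exact z.asIdeal.zero_mem
  have hzq : z.asIdeal = q.asIdeal.map (Ideal.Quotient.mk J) := by
    rw [hq, Ideal.map_comap_of_surjective _ Ideal.Quotient.mk_surjective]
  obtain ⟨eF⟩ := fibLocRing_equiv_fibre_stalk R (MvPolynomial (Fin n) R) q
  obtain ⟨eQ⟩ := fibLocRing_quotient_equiv R (MvPolynomial (Fin n) R) J q.asIdeal hJq z.asIdeal hzq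
  obtain ⟨eF'⟩ := fibLocRing_equiv_fibre_stalk R (MvPolynomial (Fin n) R ⧸ J) z
  have e1 := ringKrullDim_eq_of_ringEquiv eF
  have e2 : ringKrullDim (EGA4.FibLocRing R (MvPolynomial (Fin n) R) q.asIdeal ⧸
        J.map (algebraMap (MvPolynomial (Fin n) R)
          (EGA4.FibLocRing R (MvPolynomial (Fin n) R) q.asIdeal))) =
      ringKrullDim (EGA4.FibLocRing R (MvPolynomial (Fin n) R ⧸ J) z.asIdeal) :=
    ringKrullDim_eq_of_ringEquiv
      (R := (EGA4.FibLocRing R (MvPolynomial (Fin n) R) q.asIdeal ⧸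
        J.map (algebraMap (MvPolynomial (Fin n) R)
          (EGA4.FibLocRing R (MvPolynomial (Fin n) R) q.asIdeal))))
      (S := EGA4.FibLocRing R (MvPolynomial (Fin n) R ⧸ J) z.asIdeal) eQ
  have e3 := ringKrullDim_eq_of_ringEquiv eF'
  set φ := Spec.map (CommRingCat.ofHom (algebraMap R (MvPolynomial (Fin n) R))) with hφ
  set g := Spec.map (CommRingCat.ofHom (algebraMap R (MvPolynomial (Fin n) R ⧸ J))) with hg
  haveI : LocallyOfFiniteType φ := by
    rw [hφ, HasRingHomProperty.Spec_iff (P := @LocallyOfFiniteType)]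
    exact RingHom.finiteType_algebraMap.2 inferInstance
  haveI : LocallyOfFiniteType g := by
    rw [hg, HasRingHomProperty.Spec_iff (P := @LocallyOfFiniteType)]
    exact RingHom.finiteType_algebraMap.2 inferInstance
  obtain ⟨k, t, hk, -, ht, hkt⟩ := Groth.Agent.Helper5.SubDim.fibreDimAt_eq φ q
  obtain ⟨k', t', hk', -, ht', hkt'⟩ := Groth.Agent.Helper5.SubDim.fibreDimAt_eq g z
  have hn : FlatMor.fibreDimAt φ q = (n : WithBot ℕ∞) :=
    Groth.Agent.Helper5.SmRelDim.fibreDimAt_SpecMap_C (CommRingCat.of R) n q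
  -- the transcendence degrees agree
  let ι : Spec (CommRingCat.of (MvPolynomial (Fin n) R ⧸ J)) ⟶
      Spec (CommRingCat.of (MvPolynomial (Fin n) R)) :=
    Spec.map (CommRingCat.ofHom (Ideal.Quotient.mk J))
  haveI : IsClosedImmersion ι := IsClosedImmersion.spec_of_surjective _ Ideal.Quotient.mk_surjective
  have hgι : g = ι ≫ φ := by
    rw [hg, hφ, ← Spec.map_comp]
    rfl
  have hιz : ι z = q := by
    apply PrimeSpectrum.ext
    exact hq.symm
  have htr := Groth.Agent.Helper5.SubDim.trdeg_closedImmersion_comp ι φ z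
  have key : ∀ (g' : Spec (CommRingCat.of (MvPolynomial (Fin n) R ⧸ J)) ⟶ Spec (CommRingCat.of R))
      (_ : g' = ι ≫ φ) (q' : ↥(Spec (CommRingCat.of (MvPolynomial (Fin n) R)))) (_ : ι z = q'),
      @Algebra.trdeg ((Spec (CommRingCat.of R)).residueField (g' z))
        ((Spec (CommRingCat.of (MvPolynomial (Fin n) R ⧸ J))).residueField z) _ _
        (g'.residueFieldMap z).hom.toAlgebra =
      @Algebra.trdeg ((Spec (CommRingCat.of R)).residueField (φ q'))
        ((Spec (CommRingCat.of (MvPolynomial (Fin n) R))).residueField q') _ _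
        (φ.residueFieldMap q').hom.toAlgebra := by
    intro g' hg' q' hq'
    subst hg' hq'
    exact htr
  have htt : t' = t := by
    have h1 := key g hgι q hιz
    rw [ht, ht'] at h1
    exact_mod_cast h1
  subst htt
  refine ⟨k, k', e1.trans hk, (e2.trans e3).trans hk', ?_⟩
  rw [hkt] at hn
  rw [hkt'] at hd
  have h1 : k + t' = n := by exact_mod_cast hn
  have h2 : k' + t' = d := by exact_mod_cast hd
  omega

end Groth.Agent.Helper9.YA1
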