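import Mathlib
import Groth.Agent.Helper9.YA1
import Groth.Agent.Helper6.FlatDepthI
import Groth.Agent.Helper6.CMIdealDepth
import Groth.Agent.Helper7.DepthFin
import Groth.Agent.Helper2.FlatLoc

/-!
# Grade of the kernel of a presentation, localized: `depth_J (P_q) ≥ n - d`
-/

set_option autoImplicit false
set_option linter.style.haveILetI false
set_option linter.unusedSectionVars false

universe u
open CategoryTheory AlgebraicGeometry IsLocalRing TensorProduct

namespace Groth.Agent.Helper9.YA2

variable (R : Type u) [CommRing R] [IsNoetherianRing R] (n : ℕ)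

set_option maxHeartbeats 1000000 in
/-- depth along `J` of the fibre local ring -/
theorem depth_fib (J : Ideal (MvPolynomial (Fin n) R)) (z : PrimeSpectrum (MvPolynomial (Fin n) R ⧸ J))
    (q : PrimeSpectrum (MvPolynomial (Fin n) R))
    (hq : q.asIdeal = z.asIdeal.comap (Ideal.Quotient.mk J)) (d : ℕ)
    (hd : FlatMor.fibreDimAt
      (Spec.map (CommRingCat.ofHom (algebraMap R (MvPolynomial (Fin n) R ⧸ J)))) z = d) :
    ((n - d : ℕ) : ℕ∞) ≤ LocCoh.idealDepth
      (J.map (algebraMap (MvPolynomial (Fin n) R)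
        (EGA4.FibLocRing R (MvPolynomial (Fin n) R) q.asIdeal)))
      (EGA4.FibLocRing R (MvPolynomial (Fin n) R) q.asIdeal) := by
  obtain ⟨k, k', hk, hk', hkd⟩ := YA1.dims R n J z q hq d hd
  set F := EGA4.FibLocRing R (MvPolynomial (Fin n) R) q.asIdeal with hF
  set I : Ideal F := J.map (algebraMap (MvPolynomial (Fin n) R) F) with hI
  haveI hcm : LocCoh.IsCohenMacaulayLocalRing F := YA1.cm_fibLocRing R n q
  have hJq : J ≤ q.asIdeal := by
    rw [hq]
    intro x hx
    show Ideal.Quotient.mk J x ∈ z.asIdeal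
    rw [Ideal.Quotient.eq_zero_iff_mem.2 hx]
    exact z.asIdeal.zero_mem
  have hIm : I ≤ maximalIdeal F := by
    rw [hI, Ideal.map_le_iff_le_comap]
    intro y hy
    have hyq : y ∈ q.asIdeal := hJq hy
    have h1 : algebraMap (MvPolynomial (Fin n) R) (Localization.AtPrime q.asIdeal) y ∈
        maximalIdeal (Localization.AtPrime q.asIdeal) :=
      (IsLocalization.AtPrime.to_map_mem_maximal_iff _ q.asIdeal y).2 hyq
    rw [Ideal.mem_comap, IsScalarTower.algebraMap_apply (MvPolynomial (Fin n) R)
      (Localization.AtPrime q.asIdeal) F]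
    by_contra hnot
    rw [IsLocalRing.mem_maximalIdeal, mem_nonunits_iff, not_not] at hnot
    have hloc : IsLocalHom (algebraMap (Localization.AtPrime q.asIdeal) F) :=
      IsLocalHom.of_surjective _ Ideal.Quotient.mk_surjective
    exact (IsLocalRing.mem_maximalIdeal _).1 h1 (hloc.map_nonunit _ hnot)
  have hItop : I ≠ ⊤ := fun h =>
    (IsLocalRing.maximalIdeal.isMaximal F).ne_top (top_le_iff.1 (h ▸ hIm))
  have hsd : Module.supportDim F F = (k : WithBot ℕ∞) := by
    rw [Module.supportDim_self_eq_ringKrullDim]; exact hk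
  have hdepth : LocCoh.depth F F = (k : ℕ∞) := by
    have h1 := hcm.supportDim_eq_depth
    rw [hsd] at h1
    have h2 : ((k : ℕ∞) : WithBot ℕ∞) = ((LocCoh.depth F F : ℕ∞) : WithBot ℕ∞) := h1
    exact (WithBot.coe_injective h2).symm
  have hcmM : LocCoh.IsCohenMacaulayModule F F := hcm.supportDim_eq_depth
  have key := Groth.Agent.Helper6.CMIdealDepth.cm_supportDim_le I hItop k F hcmM hdepth
  have hItop' : (I • (⊤ : Submodule F F)) = I := by
    rw [smul_eq_mul, Ideal.mul_top]
  have hq' : Module.supportDim F (F ⧸ I • (⊤ : Submodule F F)) = (k' : WithBot ℕ∞) := by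
    rw [Module.supportDim_eq_of_equiv (Submodule.quotEquivOfEq _ _ hItop'),
      Module.supportDim_quotient_eq_ringKrullDim]
    exact hk'
  rw [hsd, hq'] at key
  generalize LocCoh.idealDepth I F = D at key ⊢
  induction D using ENat.recTopCoe with
  | top => exact le_top
  | coe m =>
    have h1 : ((k : ℕ∞) : WithBot ℕ∞) ≤ (((k' + m : ℕ) : ℕ∞) : WithBot ℕ∞) := by
      push_cast
      exact key
    have h2 : k ≤ k' + m := by exact_mod_cast h1
    exact_mod_cast (by omega : n - d ≤ m)

end Groth.Agent.Helper9.YA2
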