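import Mathlib
import Groth.Agent.Helper9.YA2

/-!
# Grade of the kernel of a presentation, localized: `depth_J (P_q) ≥ n - d`
-/

set_option autoImplicit false
set_option linter.style.haveILetI false
set_option linter.unusedSectionVars false

universe u
open CategoryTheory AlgebraicGeometry IsLocalRing TensorProduct

namespace Groth.Agent.Helper9.YA3

variable (R : Type u) [CommRing R] [IsNoetherianRing R] (n : ℕ)

set_option maxHeartbeats 1000000 in
/-- depth along `J` of the local ring `P_q` -/
theorem depth_loc (J : Ideal (MvPolynomial (Fin n) R)) (z : PrimeSpectrum (MvPolynomial (Fin n) R ⧸ J))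
    (q : PrimeSpectrum (MvPolynomial (Fin n) R))
    (hq : q.asIdeal = z.asIdeal.comap (Ideal.Quotient.mk J)) (d : ℕ)
    (hd : FlatMor.fibreDimAt
      (Spec.map (CommRingCat.ofHom (algebraMap R (MvPolynomial (Fin n) R ⧸ J)))) z = d) :
    ((n - d : ℕ) : ℕ∞) ≤ LocCoh.idealDepth
      (J.map (algebraMap (MvPolynomial (Fin n) R) (Localization.AtPrime q.asIdeal)))
      (Localization.AtPrime q.asIdeal) := by
  have h1 := YA2.depth_fib R n J z q hq d hd
  set B := Localization.AtPrime q.asIdeal with hB
  set F := EGA4.FibLocRing R (MvPolynomial (Fin n) R) q.asIdeal with hF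
  set p := q.asIdeal.comap (algebraMap R (MvPolynomial (Fin n) R)) with hp
  haveI : p.IsPrime := Ideal.comap_isPrime _ _
  haveI : q.asIdeal.LiesOver p := ⟨rfl⟩
  letI := Localization.AtPrime.algebraOfLiesOver p q.asIdeal
  haveI : IsLocalHom (algebraMap (Localization.AtPrime p) B) :=
    Localization.isLocalHom_localRingHom _ _ _ Ideal.LiesOver.over
  have hJq : J ≤ q.asIdeal := by
    rw [hq]
    intro x hx
    show Ideal.Quotient.mk J x ∈ z.asIdeal
    rw [Ideal.Quotient.eq_zero_iff_mem.2 hx]
    exact z.asIdeal.zero_mem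
  have hIm : J.map (algebraMap (MvPolynomial (Fin n) R) B) ≤ maximalIdeal B := by
    rw [Ideal.map_le_iff_le_comap]
    intro y hy
    exact (IsLocalization.AtPrime.to_map_mem_maximal_iff _ q.asIdeal y).2 (hJq hy)
  have hItop : J.map (algebraMap (MvPolynomial (Fin n) R) B) ≠ ⊤ := fun h =>
    (IsLocalRing.maximalIdeal.isMaximal B).ne_top (top_le_iff.1 (h ▸ hIm))
  have hI : (EGA4.mB (Localization.AtPrime p) B • (⊤ : Submodule B B)) =
      p.map (algebraMap R B) := by
    rw [smul_eq_mul, Ideal.mul_top]
    exact Groth.Agent.Helper2.FlatLoc.map_maximalIdeal R (MvPolynomial (Fin n) R) q.asIdeal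
  let e2 : EGA4.FibMod (Localization.AtPrime p) B B ≃ₗ[B] F := Submodule.quotEquivOfEq _ _ hI
  haveI : Module.Finite B F :=
    Module.Finite.of_surjective (Algebra.linearMap B F) Ideal.Quotient.mk_surjective
  have h2 : LocCoh.idealDepth (J.map (algebraMap (MvPolynomial (Fin n) R) B)) F =
      LocCoh.idealDepth ((J.map (algebraMap (MvPolynomial (Fin n) R) B)).map (algebraMap B F)) F :=
    Groth.Agent.Helper7.DepthFin.idealDepth_map_eq _ F
  rw [Ideal.map_map, ← IsScalarTower.algebraMap_eq] at h2
  have h3 : LocCoh.idealDepth (J.map (algebraMap (MvPolynomial (Fin n) R) B))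
      (EGA4.FibMod (Localization.AtPrime p) B B) =
      LocCoh.idealDepth (J.map (algebraMap (MvPolynomial (Fin n) R) B)) F :=
    Groth.Agent.Helper2.DepthCM.idealDepth_congr _ e2
  apply Groth.Agent.Helper6.FlatDepthI.idealDepth_ge_fib (A := Localization.AtPrime p) (B := B)
    (J.map (algebraMap (MvPolynomial (Fin n) R) B)) hItop (n - d) B
  rw [h3, h2]
  exact h1

end Groth.Agent.Helper9.YA3
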