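import Mathlib
import Groth.Agent.Helper5.EtFib
import Groth.Prelude.Def_Flat

/-!
# Fibre dimension: transport from `A` to `P/ker ψ` along a presentation
-/

set_option autoImplicit false
set_option linter.style.haveILetI false
set_option linter.unusedSectionVars false

universe u
open CategoryTheory AlgebraicGeometry

namespace Groth.Agent.Helper9.YA4

variable (R A : Type u) [CommRing R] [CommRing A] [Algebra R A] (n : ℕ)
  (ψ : MvPolynomial (Fin n) R →ₐ[R] A) (hψ : Function.Surjective ψ)

include hψ in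
theorem exists_point (q : PrimeSpectrum A) :
    ∃ z : PrimeSpectrum (MvPolynomial (Fin n) R ⧸ RingHom.ker ψ.toRingHom),
      q.asIdeal.comap ψ.toRingHom =
        z.asIdeal.comap (Ideal.Quotient.mk (RingHom.ker ψ.toRingHom)) ∧
      FlatMor.fibreDimAt (Spec.map (CommRingCat.ofHom
        (algebraMap R (MvPolynomial (Fin n) R ⧸ RingHom.ker ψ.toRingHom)))) z =
      FlatMor.fibreDimAt (Spec.map (CommRingCat.ofHom (algebraMap R A))) q := by
  let e : (MvPolynomial (Fin n) R ⧸ RingHom.ker ψ.toRingHom) ≃+* A :=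
    RingHom.quotientKerEquivOfSurjective (f := ψ.toRingHom) hψ
  have he : ∀ x, e (Ideal.Quotient.mk _ x) = ψ x := fun x => rfl
  have hcomp : e.toRingHom.comp
      (algebraMap R (MvPolynomial (Fin n) R ⧸ RingHom.ker ψ.toRingHom)) = algebraMap R A := by
    ext r
    show e (Ideal.Quotient.mk _ (algebraMap R (MvPolynomial (Fin n) R) r)) = _
    rw [he]
    exact ψ.commutes r
  let ρ : Spec (CommRingCat.of A) ⟶
      Spec (CommRingCat.of (MvPolynomial (Fin n) R ⧸ RingHom.ker ψ.toRingHom)) :=
    Spec.map (CommRingCat.ofHom e.toRingHom)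
  haveI : IsIso ρ := by
    have : IsIso (CommRingCat.ofHom e.toRingHom) := (e.toCommRingCatIso).isIso_hom
    infer_instance
  refine ⟨ρ q, ?_, ?_⟩
  · show _ = ((q.asIdeal.comap e.toRingHom)).comap _
    rw [Ideal.comap_comap]
    congr 1
  · have h1 := Groth.Agent.Helper5.EtFib.fibreDimAt_etale_comp ρ (Spec.map (CommRingCat.ofHom
        (algebraMap R (MvPolynomial (Fin n) R ⧸ RingHom.ker ψ.toRingHom)))) q
    rw [← h1]
    congr 1
    rw [← Spec.map_comp, ← CommRingCat.ofHom_comp, hcomp]

end Groth.Agent.Helper9.YA4
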