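import Mathlib
import Groth.Agent.Helper9.YA1
import Groth.Agent.Helper2.NormalPt

/-!
# The fibre local rings of a polynomial ring: regular of dimension at most `n`
-/

set_option autoImplicit false
set_option linter.style.haveILetI false
set_option linter.unusedSectionVars false

universe u
open CategoryTheory AlgebraicGeometry IsLocalRing TensorProduct

namespace Groth.Agent.Helper9.YA5

open Groth.Agent.Helper5.RegLoc

variable (R : Type u) [CommRing R] [IsNoetherianRing R] (n : ℕ)

/-- the fibre local rings of a polynomial ring are regular -/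
lemma regular_fibLocRing (q : Ideal (MvPolynomial (Fin n) R)) [q.IsPrime] :
    IsRegularLocalRing (EGA4.FibLocRing R (MvPolynomial (Fin n) R) q) := by
  apply Groth.Agent.Helper2.NormalPt.fibLocRing_regular
  set p := q.comap (algebraMap R (MvPolynomial (Fin n) R)) with hp
  have e : p.ResidueField ⊗[R] MvPolynomial (Fin n) R ≃ₐ[p.ResidueField]
      MvPolynomial (Fin n) p.ResidueField :=
    MvPolynomial.algebraTensorAlgEquiv R p.ResidueField
  haveI : IsRegularRing (MvPolynomial (Fin n) p.ResidueField) := inferInstance
  exact IsRegularRing.of_ringEquiv e.symm.toRingEquiv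

set_option maxHeartbeats 1000000 in
/-- the fibre local rings of a polynomial ring in `n` variables have dimension at most `n` -/
theorem dim_le (q : PrimeSpectrum (MvPolynomial (Fin n) R)) :
    ∃ k : ℕ, ringKrullDim (EGA4.FibLocRing R (MvPolynomial (Fin n) R) q.asIdeal) = k ∧ k ≤ n := by
  obtain ⟨eF⟩ := fibLocRing_equiv_fibre_stalk R (MvPolynomial (Fin n) R) q
  have e1 := ringKrullDim_eq_of_ringEquiv eF
  set φ := Spec.map (CommRingCat.ofHom (algebraMap R (MvPolynomial (Fin n) R))) with hφ
  haveI : LocallyOfFiniteType φ := by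
    rw [hφ, HasRingHomProperty.Spec_iff (P := @LocallyOfFiniteType)]
    exact RingHom.finiteType_algebraMap.2 inferInstance
  obtain ⟨k, t, hk, -, ht, hkt⟩ := Groth.Agent.Helper5.SubDim.fibreDimAt_eq φ q
  have hn : FlatMor.fibreDimAt φ q = (n : WithBot ℕ∞) :=
    Groth.Agent.Helper5.SmRelDim.fibreDimAt_SpecMap_C (CommRingCat.of R) n q
  rw [hkt] at hn
  have h1 : k + t = n := by exact_mod_cast hn
  exact ⟨k, e1.trans hk, by omega⟩

end Groth.Agent.Helper9.YA5
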