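import Mathlib
import Groth.Prelude.Def_DualSh
import Groth.Prelude.Def_CAlg
import Groth.Agent.Helper6.DepthLemma

/-!
# Depth gives vanishing of morphisms `B/I ⟶ B[j]` in `D(B)`
-/

set_option autoImplicit false
set_option linter.style.haveILetI false
set_option linter.unusedSectionVars false

universe u
open CategoryTheory CategoryTheory.Limits DerivedCategory Abelian
attribute [local instance] HasDerivedCategory.standard

namespace Groth.Agent.Helper9.YB1

variable {B : Type u} [CommRing B]

lemma subsingleton_hom_neg (M N : Type u) [AddCommGroup M] [Module B M] [AddCommGroup N]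
    [Module B N] (j : ℤ) (hj : j < 0) : Subsingleton (Dual.inD B M ⟶ (Dual.inD B N)⟦j⟧) := by
  haveI : ((Dual.inD B N)⟦j⟧).IsGE (-j) :=
    TStructure.t.isGE_shift (Dual.inD B N) 0 j (-j) (by omega)
  refine ⟨fun f g => ?_⟩
  rw [TStructure.t.zero_of_isLE_of_isGE f 0 (-j) (by omega) inferInstance inferInstance,
    TStructure.t.zero_of_isLE_of_isGE g 0 (-j) (by omega) inferInstance inferInstance]

theorem subsingleton_hom_of_depth [IsNoetherianRing B] (I : Ideal B) (m : ℕ)
    (h : (m : ℕ∞) ≤ LocCoh.idealDepth I B) (j : ℤ) (hj : j < m) :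
    Subsingleton (Dual.inD B (B ⧸ I) ⟶ (Dual.inD B B)⟦j⟧) := by
  by_cases hneg : j < 0
  · exact subsingleton_hom_neg _ _ j hneg
  · obtain ⟨i, rfl⟩ : ∃ i : ℕ, j = (i : ℤ) := ⟨j.toNat, by omega⟩
    have hv := (Groth.Agent.Helper6.DepthLemma.le_idealDepth_iff_extVan I B m).mp h i
      (by exact_mod_cast hj)
    exact (Ext.homEquiv (X := Groth.Agent.Helper2.DepthRees.Q I)
      (Y := ModuleCat.of B B) (n := i)).symm.subsingleton

end Groth.Agent.Helper9.YB1
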