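import Mathlib
import Groth.Prelude.Def_DualSh
import Groth.Agent.Helper6.LocExt4
import Groth.Agent.Helper9.KR1

/-!
# Vanishing of `Hom(B/JB, B[j])` over a localization gives torsion of `Hom(P/J, P[j])`
-/

set_option autoImplicit false
set_option linter.style.haveILetI false
set_option linter.unusedSectionVars false

universe u
open CategoryTheory CategoryTheory.Limits DerivedCategory TensorProduct
attribute [local instance] HasDerivedCategory.standard

namespace Groth.Agent.Helper9.YB2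
open Groth.Agent.Helper3.DRingLib Groth.Agent.Helper6

variable {P : Type u} [CommRing P] [IsNoetherianRing P] (S : Submonoid P) (B : Type u) [CommRing B]
  [Algebra P B] [IsLocalization S B] [Module.Flat P B]

theorem exists_smul_eq_zero (J : Ideal P) (j : ℤ)
    (h : Subsingleton (Dual.inD B (B ⧸ J.map (algebraMap P B)) ⟶ (Dual.inD B B)⟦j⟧))
    (f : Dual.inD P (P ⧸ J) ⟶ (Dual.inD P P)⟦j⟧) : ∃ s ∈ S, s • f = 0 := by
  haveI : ((Dual.inD P P)⟦j⟧).IsGE (-j) :=
    TStructure.t.isGE_shift (Dual.inD P P) 0 j (-j) (by omega)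
  have hX : ∀ m : ℤ, DRing.IsPseudoCoherent P m (Dual.inD P (P ⧸ J)) :=
    fun m => LocExt.pc_inD (P ⧸ J) m
  refine LocExt.locInj_of_pc S B (Dual.inD P (P ⧸ J)) ((Dual.inD P P)⟦j⟧) hX (-j) f ?_
  -- the target is a subsingleton
  let eX : (bcD P B).obj (Dual.inD P (P ⧸ J)) ≅ Dual.inD B (B ⧸ J.map (algebraMap P B)) :=
    bcDInD B (P ⧸ J) ≪≫
      Groth.Agent.Helper9.KR1.inDIso
        (Algebra.TensorProduct.quotIdealMapEquivTensorQuot B J).symm.toLinearEquiv
  let eY : (bcD P B).obj ((Dual.inD P P)⟦j⟧) ≅ (Dual.inD B B)⟦j⟧ :=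
    ((bcD P B).commShiftIso j).app (Dual.inD P P) ≪≫
      (shiftFunctor (Dual.D B) j).mapIso (bcDInD B P ≪≫
        Groth.Agent.Helper9.KR1.inDIso (TensorProduct.AlgebraTensorModule.rid P B B))
  haveI : Subsingleton ((bcD P B).obj (Dual.inD P (P ⧸ J)) ⟶ (bcD P B).obj ((Dual.inD P P)⟦j⟧)) :=
    (Iso.homCongr eX eY).subsingleton
  exact Subsingleton.elim _ _

end Groth.Agent.Helper9.YB2
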