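import Mathlib
import Groth.Prelude.Def_DualSh
import Groth.Agent.Helper9.XR3

/-!
# `H^j(RHom_B(C, B)) ≃ Hom_{D(B)}(B/J, B[j])`, `B`-linearly
-/

set_option autoImplicit false
set_option linter.style.haveILetI false
set_option linter.unusedSectionVars false

universe u
open CategoryTheory CategoryTheory.Limits DerivedCategory Pretriangulated
attribute [local instance] HasDerivedCategory.standard

namespace Groth.Agent.Helper9.YB3
open Groth.Agent.Helper9.XR1 Groth.Agent.Helper9.XR2 Groth.Agent.Helper3.DRingLib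
  Groth.Agent.Helper6.Coext Groth.Agent.Helper6.BiD Groth.Agent.Helper9.XR3

variable {B C : Type u} [CommRing B] [CommRing C] {π : B →+* C} (hπ : Function.Surjective π)

include hπ in
theorem nonempty_HD_equiv (Rπ : Dual.D B ⥤ Dual.D C) (adj : DRing.restrictD π ⊣ Rπ) (j : ℤ) :
    Nonempty ((rF π).obj ((homologyFunctor (ModuleCat.{u} C) j).obj (Rπ.obj (Dual.inD B B))) ≃ₗ[B]
      (Dual.inD B (B ⧸ RingHom.ker π) ⟶ (Dual.inD B B)⟦j⟧)) := by
  obtain ⟨I, hI0, hIinj, hKI, ⟨eI⟩, ⟨eR⟩⟩ :=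
    Groth.Agent.Helper9.RD1.exists_injective_model π Rπ adj
  haveI := hKI
  set Y := DRing.toD ((cCx π).obj I) with hY
  let eS : DRing.toD (SB π) ≅ Dual.inD B (B ⧸ RingHom.ker π) :=
    ((DerivedCategory.singleFunctorIsoCompQ (ModuleCat.{u} B) 0).app (BA π)).symm ≪≫
      (Groth.Agent.Helper9.KR1.inDIso (quotEquiv π hπ)).symm
  let k1 : Dual.HD B ((DRing.restrictD π).obj Y) j ≃ₗ[B]
      (Dual.inD B (B ⧸ RingHom.ker π) ⟶ (Dual.inD B B)⟦j⟧) :=
    ((homologyFunctor (ModuleCat.{u} B) j).mapIso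
        (Groth.Agent.Helper9.RD1.ιIso π I)).toLinearEquiv ≪≫ₗ Psi' (SB π) I j ≪≫ₗ
      Linear.homCongr B eS ((shiftFunctor (Dual.D B) j).mapIso eI)
  let k2 : (rF π).obj ((homologyFunctor (ModuleCat.{u} C) j).obj (Rπ.obj (Dual.inD B B))) ≃ₗ[B]
      (rF π).obj ((homologyFunctor (ModuleCat.{u} C) j).obj Y) :=
    ((rF π).mapIso ((homologyFunctor (ModuleCat.{u} C) j).mapIso eR)).toLinearEquiv
  exact ⟨k2 ≪≫ₗ (rDHDIso π Y j).toLinearEquiv.symm ≪≫ₗ k1⟩

end Groth.Agent.Helper9.YB3
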