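import Mathlib
import Groth.Prelude.Def_DualSh
import Groth.Prelude.Def_Flat
import Groth.Agent.Helper9.YA3
import Groth.Agent.Helper9.YA4
import Groth.Agent.Helper9.YB1
import Groth.Agent.Helper9.YB2
import Groth.Agent.Helper9.YB3
import Groth.Agent.Helper9.XR6

/-!
# `H^i(ω_{A/R})_q = 0` for `i < -d`, `d` the local fibre dimension at `q`
-/

set_option autoImplicit false
set_option linter.style.haveILetI false
set_option linter.unusedSectionVars false

universe u
open CategoryTheory CategoryTheory.Limits DerivedCategory AlgebraicGeometry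
attribute [local instance] HasDerivedCategory.standard

namespace Groth.Agent.Helper9.YB4
open Groth.Agent.Helper3.DRingLib Groth.Agent.Helper6.Coext

variable (R A : Type u) [CommRing R] [CommRing A] [IsNoetherianRing R] [IsNoetherianRing A]
  [Algebra R A] (n : ℕ) (ψ : MvPolynomial (Fin n) R →ₐ[R] A) (hψ : Function.Surjective ψ)
  [DRing.HasLBaseChange (algebraMap R (MvPolynomial (Fin n) R))]
  (Rψ : Dual.D (MvPolynomial (Fin n) R) ⥤ Dual.D A) (adj : DRing.restrictD ψ.toRingHom ⊣ Rψ)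

include hψ adj in
/-- torsion of `H^j(RHom_P(A, P))` below the grade -/
theorem exists_smul_eq_zero (q : PrimeSpectrum A) (d : ℕ)
    (hd : FlatMor.fibreDimAt (Spec.map (CommRingCat.ofHom (algebraMap R A))) q = d) (j : ℤ)
    (hj : j < ((n - d : ℕ) : ℤ))
    (m : (homologyFunctor (ModuleCat.{u} A) j).obj
      (Rψ.obj (Dual.inD (MvPolynomial (Fin n) R) (MvPolynomial (Fin n) R)))) :
    ∃ s ∈ q.asIdeal.primeCompl, s • m = 0 := by
  obtain ⟨z, hz, hdz⟩ := YA4.exists_point R A n ψ hψ q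
  let q' : PrimeSpectrum (MvPolynomial (Fin n) R) :=
    ⟨q.asIdeal.comap ψ.toRingHom, Ideal.comap_isPrime _ _⟩
  have hdepth := YA3.depth_loc R n (RingHom.ker ψ.toRingHom) z q' hz d (hdz.trans hd)
  haveI := YB1.subsingleton_hom_of_depth
    ((RingHom.ker ψ.toRingHom).map
      (algebraMap (MvPolynomial (Fin n) R) (Localization.AtPrime q'.asIdeal))) (n - d) hdepth j hj
  obtain ⟨k⟩ := YB3.nonempty_HD_equiv (π := ψ.toRingHom) hψ Rψ adj j
  obtain ⟨t, ht, htk⟩ := YB2.exists_smul_eq_zero q'.asIdeal.primeCompl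
    (Localization.AtPrime q'.asIdeal) (RingHom.ker ψ.toRingHom) j inferInstance (k m)
  refine ⟨ψ t, ht, ?_⟩
  have h1 : k (t • (show (rF ψ.toRingHom).obj ((homologyFunctor (ModuleCat.{u} A) j).obj
      (Rψ.obj (Dual.inD (MvPolynomial (Fin n) R) (MvPolynomial (Fin n) R)))) from m)) = 0 := by
    rw [map_smul]
    exact htk
  have h2 := k.injective (h1.trans (map_zero k).symm)
  exact h2

include hψ adj in
/-- `H^i(ω_{A/R})_q = 0` for `i < -d` -/
theorem subsingleton_localized (q : PrimeSpectrum A) (d : ℕ)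
    (hd : FlatMor.fibreDimAt (Spec.map (CommRingCat.ofHom (algebraMap R A))) q = d) (i : ℤ)
    (hi : i < -(d : ℤ)) :
    Subsingleton (LocalizedModule q.asIdeal.primeCompl
      (Dual.HD A (Dual2.shriekVia n Rψ (Dual.inD R R)) i)) := by
  rw [LocalizedModule.subsingleton_iff]
  intro m
  let e1 : Dual.HD A (Dual2.shriekVia n Rψ (Dual.inD R R)) i ≃ₗ[A]
      Dual.HD A (Rψ.obj (Dual.inD (MvPolynomial (Fin n) R) (MvPolynomial (Fin n) R))) ((n : ℤ) + i) :=
    ((homologyFunctor (ModuleCat.{u} A) i).mapIso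
      (Groth.Agent.Helper9.XR6.shriekUnitIso R A n Rψ)).toLinearEquiv ≪≫ₗ
      hdShift _ (n : ℤ) i ((n : ℤ) + i) rfl
  obtain ⟨s, hs, hsm⟩ := exists_smul_eq_zero R A n ψ hψ Rψ adj q d hd ((n : ℤ) + i)
    (by omega) (e1 m)
  refine ⟨s, hs, ?_⟩
  apply e1.injective
  rw [map_smul, hsm, map_zero]

end Groth.Agent.Helper9.YB4
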