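import Mathlib
import Groth.Prelude.Def_DualSh
import Groth.Agent.Helper9.YA5
import Groth.Agent.Helper6.PdFib
import Groth.Agent.Helper1.RegGlobalDim
import Groth.Agent.Helper2.FlatLoc

/-!
# Projective dimension of `A_q` over `P_q` is at most `n` for `A` flat over `R`
-/

set_option autoImplicit false
set_option linter.style.haveILetI false
set_option linter.unusedSectionVars false

universe u
open CategoryTheory CategoryTheory.Limits IsLocalRing TensorProduct

namespace Groth.Agent.Helper9.YC1

variable (R : Type u) [CommRing R] [IsNoetherianRing R] (n : ℕ)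

set_option maxHeartbeats 1000000 in
/-- flatness of the localized quotient -/
theorem flat_quot (J : Ideal (MvPolynomial (Fin n) R)) (hflat : Module.Flat R (MvPolynomial (Fin n) R ⧸ J))
    (q : Ideal (MvPolynomial (Fin n) R)) [q.IsPrime] :
    letI := Localization.AtPrime.algebraOfLiesOver
      (q.comap (algebraMap R (MvPolynomial (Fin n) R))) q
    Module.Flat (Localization.AtPrime (q.comap (algebraMap R (MvPolynomial (Fin n) R))))
      (Localization.AtPrime q ⧸ J.map (algebraMap (MvPolynomial (Fin n) R) (Localization.AtPrime q))) := by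
  letI := Localization.AtPrime.algebraOfLiesOver
      (q.comap (algebraMap R (MvPolynomial (Fin n) R))) q
  haveI h1 : Module.Flat (MvPolynomial (Fin n) R ⧸ J)
      (Localization.AtPrime q ⧸ J.map (algebraMap (MvPolynomial (Fin n) R) (Localization.AtPrime q))) :=
    IsLocalization.flat
      (Localization.AtPrime q ⧸ J.map (algebraMap (MvPolynomial (Fin n) R) (Localization.AtPrime q)))
      (Algebra.algebraMapSubmonoid (MvPolynomial (Fin n) R ⧸ J) q.primeCompl)
  haveI : IsScalarTower R (MvPolynomial (Fin n) R ⧸ J)
      (Localization.AtPrime q ⧸ J.map (algebraMap (MvPolynomial (Fin n) R) (Localization.AtPrime q))) :=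
    (IsScalarTower.of_algebraMap_eq (R := R) (S := MvPolynomial (Fin n) R ⧸ J)
      (A := Localization.AtPrime q ⧸
        J.map (algebraMap (MvPolynomial (Fin n) R) (Localization.AtPrime q))) (fun r => rfl) :)
  haveI h2 : Module.Flat R
      (Localization.AtPrime q ⧸ J.map (algebraMap (MvPolynomial (Fin n) R) (Localization.AtPrime q))) :=
    Module.Flat.trans R (MvPolynomial (Fin n) R ⧸ J) _
  rw [Module.flat_iff_of_isLocalization
    (Localization.AtPrime (q.comap (algebraMap R (MvPolynomial (Fin n) R))))
    (q.comap (algebraMap R (MvPolynomial (Fin n) R))).primeCompl]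
  exact h2

set_option maxHeartbeats 1000000 in
/-- `pd_{P_q}(P_q / J P_q) ≤ n` when `P/J` is flat over `R` -/
theorem pd_lt (J : Ideal (MvPolynomial (Fin n) R))
    (hflat : Module.Flat R (MvPolynomial (Fin n) R ⧸ J))
    (q : PrimeSpectrum (MvPolynomial (Fin n) R)) :
    HasProjectiveDimensionLT (ModuleCat.of (Localization.AtPrime q.asIdeal)
      (Localization.AtPrime q.asIdeal ⧸
        J.map (algebraMap (MvPolynomial (Fin n) R) (Localization.AtPrime q.asIdeal)))) (n + 1) := by
  set B := Localization.AtPrime q.asIdeal with hB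
  set p := q.asIdeal.comap (algebraMap R (MvPolynomial (Fin n) R)) with hp
  haveI : p.IsPrime := Ideal.comap_isPrime _ _
  haveI : q.asIdeal.LiesOver p := ⟨rfl⟩
  letI := Localization.AtPrime.algebraOfLiesOver p q.asIdeal
  haveI : IsLocalHom (algebraMap (Localization.AtPrime p) B) :=
    Localization.isLocalHom_localRingHom _ _ _ Ideal.LiesOver.over
  haveI hfl := flat_quot R n J hflat q.asIdeal
  obtain ⟨k, hk, hkn⟩ := YA5.dim_le R n q
  haveI hreg := YA5.regular_fibLocRing R n q.asIdeal
  have hI : EGA4.mB (Localization.AtPrime p) B = p.map (algebraMap R B) :=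
    Groth.Agent.Helper2.FlatLoc.map_maximalIdeal R (MvPolynomial (Fin n) R) q.asIdeal
  let e : EGA4.FibLocRing R (MvPolynomial (Fin n) R) q.asIdeal ≃+*
      EGA4.FibRing (Localization.AtPrime p) B := Ideal.quotEquivOfEq hI.symm
  haveI : IsRegularLocalRing (EGA4.FibRing (Localization.AtPrime p) B) :=
    IsRegularLocalRing.of_ringEquiv e
  have hk' : ringKrullDim (EGA4.FibRing (Localization.AtPrime p) B) = k :=
    (ringKrullDim_eq_of_ringEquiv e).symm.trans hk
  have h1 := Groth.Agent.Helper1.TorLib.hasProjectiveDimensionLT_of_isRegularLocalRing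
    (A := EGA4.FibRing (Localization.AtPrime p) B) k hk'
    (ModuleCat.of _ (EGA4.FibMod (Localization.AtPrime p) B
      (B ⧸ J.map (algebraMap (MvPolynomial (Fin n) R) B))))
  have h2 := (Groth.Agent.Helper6.PdFib.pdLT_iff (A := Localization.AtPrime p) (B := B) (k + 1)
    (B ⧸ J.map (algebraMap (MvPolynomial (Fin n) R) B))).mpr h1
  exact hasProjectiveDimensionLT_of_ge _ (k + 1) (n + 1) (by omega)

end Groth.Agent.Helper9.YC1
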