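import Mathlib
import Groth.Prelude.Def_DualSh
import Groth.Prelude.Def_Flat
import Groth.Agent.Helper9.YC1
import Groth.Agent.Helper9.YB2
import Groth.Agent.Helper9.YB3
import Groth.Agent.Helper9.XR6

/-!
# `H^i(ω_{A/R})_q = 0` for `i > 0` when `A` is flat over `R`
-/

set_option autoImplicit false
set_option linter.style.haveILetI false
set_option linter.unusedSectionVars false

universe u
open CategoryTheory CategoryTheory.Limits DerivedCategory AlgebraicGeometry Abelian
attribute [local instance] HasDerivedCategory.standard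

namespace Groth.Agent.Helper9.YC2
open Groth.Agent.Helper3.DRingLib Groth.Agent.Helper6.Coext

theorem subsingleton_hom_of_pd {B : Type u} [CommRing B] (I : Ideal B) (m : ℕ)
    (h : HasProjectiveDimensionLT (ModuleCat.of B (B ⧸ I)) m) (j : ℤ) (hj : (m : ℤ) ≤ j) :
    Subsingleton (Dual.inD B (B ⧸ I) ⟶ (Dual.inD B B)⟦j⟧) := by
  obtain ⟨i, rfl⟩ : ∃ i : ℕ, j = (i : ℤ) := ⟨j.toNat, by omega⟩
  have hv : Subsingleton (Ext (ModuleCat.of B (B ⧸ I)) (ModuleCat.of B B) i) :=
    HasProjectiveDimensionLT.subsingleton (ModuleCat.of B (B ⧸ I)) m i (by exact_mod_cast hj)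
      (ModuleCat.of B B)
  exact (Ext.homEquiv (X := ModuleCat.of B (B ⧸ I))
    (Y := ModuleCat.of B B) (n := i)).symm.subsingleton

variable (R A : Type u) [CommRing R] [CommRing A] [IsNoetherianRing R] [IsNoetherianRing A]
  [Algebra R A] (n : ℕ) (ψ : MvPolynomial (Fin n) R →ₐ[R] A) (hψ : Function.Surjective ψ)
  [DRing.HasLBaseChange (algebraMap R (MvPolynomial (Fin n) R))]
  (Rψ : Dual.D (MvPolynomial (Fin n) R) ⥤ Dual.D A) (adj : DRing.restrictD ψ.toRingHom ⊣ Rψ)

include hψ in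
theorem flat_quot_ker [Module.Flat R A] :
    Module.Flat R (MvPolynomial (Fin n) R ⧸ RingHom.ker ψ.toRingHom) := by
  let e : (MvPolynomial (Fin n) R ⧸ RingHom.ker ψ.toRingHom) ≃+* A :=
    RingHom.quotientKerEquivOfSurjective (f := ψ.toRingHom) hψ
  let e' : (MvPolynomial (Fin n) R ⧸ RingHom.ker ψ.toRingHom) ≃ₗ[R] A :=
    { e with
      map_smul' := fun r x => by
        obtain ⟨x, rfl⟩ := Ideal.Quotient.mk_surjective x
        change e (r • Ideal.Quotient.mk _ x) = r • e (Ideal.Quotient.mk _ x)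
        rw [Algebra.smul_def, Algebra.smul_def, map_mul]
        congr 1
        change e (Ideal.Quotient.mk _ (algebraMap R _ r)) = _
        exact ψ.commutes r }
  exact Module.Flat.of_linearEquiv e'

include hψ adj in
/-- torsion of `H^j(RHom_P(A, P))` above `n` -/
theorem exists_smul_eq_zero [Module.Flat R A] (q : PrimeSpectrum A) (j : ℤ)
    (hj : (n : ℤ) < j)
    (m : (homologyFunctor (ModuleCat.{u} A) j).obj
      (Rψ.obj (Dual.inD (MvPolynomial (Fin n) R) (MvPolynomial (Fin n) R)))) :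
    ∃ s ∈ q.asIdeal.primeCompl, s • m = 0 := by
  let q' : PrimeSpectrum (MvPolynomial (Fin n) R) :=
    ⟨q.asIdeal.comap ψ.toRingHom, Ideal.comap_isPrime _ _⟩
  have hpd := YC1.pd_lt R n (RingHom.ker ψ.toRingHom) (flat_quot_ker R A n ψ hψ) q'
  haveI := subsingleton_hom_of_pd
    ((RingHom.ker ψ.toRingHom).map
      (algebraMap (MvPolynomial (Fin n) R) (Localization.AtPrime q'.asIdeal))) (n + 1) hpd j
      (by push_cast; omega)
  obtain ⟨k⟩ := YB3.nonempty_HD_equiv (π := ψ.toRingHom) hψ Rψ adj j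
  obtain ⟨t, ht, htk⟩ := YB2.exists_smul_eq_zero q'.asIdeal.primeCompl
    (Localization.AtPrime q'.asIdeal) (RingHom.ker ψ.toRingHom) j inferInstance (k m)
  refine ⟨ψ t, ht, ?_⟩
  have h1 : k (t • (show (rF ψ.toRingHom).obj ((homologyFunctor (ModuleCat.{u} A) j).obj
      (Rψ.obj (Dual.inD (MvPolynomial (Fin n) R) (MvPolynomial (Fin n) R)))) from m)) = 0 := by
    rw [map_smul]
    exact htk
  have h2 := k.injective (h1.trans (map_zero k).symm)
  exact h2

include hψ adj in
/-- `H^i(ω_{A/R})_q = 0` for `i > 0` when `A` is `R`-flat -/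
theorem subsingleton_localized [Module.Flat R A] (q : PrimeSpectrum A) (i : ℤ)
    (hi : 0 < i) :
    Subsingleton (LocalizedModule q.asIdeal.primeCompl
      (Dual.HD A (Dual2.shriekVia n Rψ (Dual.inD R R)) i)) := by
  rw [LocalizedModule.subsingleton_iff]
  intro m
  let e1 : Dual.HD A (Dual2.shriekVia n Rψ (Dual.inD R R)) i ≃ₗ[A]
      Dual.HD A (Rψ.obj (Dual.inD (MvPolynomial (Fin n) R) (MvPolynomial (Fin n) R))) ((n : ℤ) + i) :=
    ((homologyFunctor (ModuleCat.{u} A) i).mapIso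
      (Groth.Agent.Helper9.XR6.shriekUnitIso R A n Rψ)).toLinearEquiv ≪≫ₗ
      hdShift _ (n : ℤ) i ((n : ℤ) + i) rfl
  obtain ⟨s, hs, hsm⟩ := exists_smul_eq_zero R A n ψ hψ Rψ adj q ((n : ℤ) + i)
    (by omega) (e1 m)
  refine ⟨s, hs, ?_⟩
  apply e1.injective
  rw [map_smul, hsm, map_zero]

end Groth.Agent.Helper9.YC2
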