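import Mathlib
import Groth.Prelude.Def_DualSh
import Groth.Agent.Helper6.LBCFibre
import Groth.Agent.Helper3.DRingRestr

/-!
# Exactness of `(k ⊗_R A) ⊗_A E` gives exactness of `E ⊗_R k`
-/

set_option autoImplicit false
set_option linter.style.haveILetI false
set_option linter.unusedSectionVars false

universe u
open CategoryTheory CategoryTheory.Limits TensorProduct HomologicalComplex

namespace Groth.Agent.Helper9.YC3
open Groth.Agent.Helper3.DRingLib Groth.Agent.Helper6

attribute [local instance] Algebra.TensorProduct.rightAlgebra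

variable {R A : Type u} [CommRing R] [CommRing A] [Algebra R A] (k : Type u) [CommRing k]
  [Algebra R k]

/-- `k ⊗[R] A ≃ A ⊗[R] k`, `A`-linearly -/
noncomputable def commA : (k ⊗[R] A) ≃ₗ[A] (A ⊗[R] k) :=
  { (Algebra.TensorProduct.comm R k A).toLinearEquiv with
    map_smul' := fun a x => by
      change (Algebra.TensorProduct.comm R k A) (a • x) =
        a • (Algebra.TensorProduct.comm R k A) x
      rw [Algebra.smul_def, map_mul, Algebra.smul_def]
      rfl }

lemma commA_tmul (c : k) (a : A) : commA (R := R) k (c ⊗ₜ[R] a) = a ⊗ₜ[R] c := rfl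

section theta

variable (M : Type u) [AddCommGroup M] [Module A M] [Module R M] [IsScalarTower R A M]

/-- `(k ⊗[R] A) ⊗[A] M ≃ M ⊗[R] k` -/
noncomputable def theta : ((k ⊗[R] A) ⊗[A] M) ≃ₗ[A] (M ⊗[R] k) :=
  TensorProduct.comm A (k ⊗[R] A) M ≪≫ₗ
    TensorProduct.congr (LinearEquiv.refl A M) (commA (R := R) k) ≪≫ₗ
    TensorProduct.AlgebraTensorModule.cancelBaseChange R A A M k

lemma theta_tmul (c : k) (a : A) (m : M) :
    theta (R := R) k M ((c ⊗ₜ[R] a) ⊗ₜ[A] m) = (a • m) ⊗ₜ[R] c := by
  simp [theta, commA_tmul]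

end theta

section nat

variable {M N : Type u} [AddCommGroup M] [Module A M] [Module R M] [IsScalarTower R A M]
  [AddCommGroup N] [Module A N] [Module R N] [IsScalarTower R A N]

lemma theta_natural (f : M →ₗ[A] N) (x : (k ⊗[R] A) ⊗[A] M) :
    theta (R := R) k N ((f.lTensor (k ⊗[R] A)) x) =
      ((f.restrictScalars R).rTensor k) (theta (R := R) k M x) := by
  induction x using TensorProduct.induction_on with
  | zero => simp
  | add x y hx hy => simp only [map_add, hx, hy]
  | tmul t m =>
    induction t using TensorProduct.induction_on with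
    | zero => simp
    | add x y hx hy =>
      simp only [TensorProduct.add_tmul, map_add, hx, hy]
    | tmul c a =>
      rw [LinearMap.lTensor_tmul, theta_tmul, theta_tmul, LinearMap.rTensor_tmul]
      simp

end nat

section exact

variable {M₁ M₂ M₃ : Type u} [AddCommGroup M₁] [Module A M₁] [Module R M₁] [IsScalarTower R A M₁]
  [AddCommGroup M₂] [Module A M₂] [Module R M₂] [IsScalarTower R A M₂]
  [AddCommGroup M₃] [Module A M₃] [Module R M₃] [IsScalarTower R A M₃]

theorem exact_rTensor_of_exact_lTensor (d₁ : M₁ →ₗ[A] M₂) (d₂ : M₂ →ₗ[A] M₃)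
    (h : Function.Exact (d₁.lTensor (k ⊗[R] A)) (d₂.lTensor (k ⊗[R] A)))
    (x : M₂ ⊗[R] k) (hx : ((d₂.restrictScalars R).rTensor k) x = 0) :
    ∃ y : M₁ ⊗[R] k, ((d₁.restrictScalars R).rTensor k) y = x := by
  have h1 : (d₂.lTensor (k ⊗[R] A)) ((theta (R := R) k M₂).symm x) = 0 := by
    apply (theta (R := R) k M₃).injective
    rw [theta_natural, LinearEquiv.apply_symm_apply, hx, map_zero]
  obtain ⟨y', hy'⟩ := (h _).mp h1
  refine ⟨theta (R := R) k M₁ y', ?_⟩
  rw [← theta_natural, hy', LinearEquiv.apply_symm_apply]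

end exact

/-- exactness of the base change to `k ⊗[R] A` gives exactness of the fibre complex -/
theorem exactAt_tensorCx_of_exactAt_bcCx (E : DRing.Cx A) (j : ℤ)
    (h : ((bcCx A (k ⊗[R] A)).obj E).ExactAt j) :
    (DRing.tensorCx ((rCx (algebraMap R A)).obj E) (ModuleCat.of R k)).ExactAt j := by
  letI m1 : Module R (E.X (j - 1)) := Module.compHom _ (algebraMap R A)
  haveI t1 : IsScalarTower R A (E.X (j - 1)) :=
    IsScalarTower.of_algebraMap_smul (fun r m => rfl)
  letI m2 : Module R (E.X j) := Module.compHom _ (algebraMap R A)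
  haveI t2 : IsScalarTower R A (E.X j) := IsScalarTower.of_algebraMap_smul (fun r m => rfl)
  letI m3 : Module R (E.X (j + 1)) := Module.compHom _ (algebraMap R A)
  haveI t3 : IsScalarTower R A (E.X (j + 1)) := IsScalarTower.of_algebraMap_smul (fun r m => rfl)
  have hex := LBCFibre.exact_lTensor_of_exactAt_bcCx (k ⊗[R] A) E (j - 1) j (j + 1)
    (by omega) rfl h
  rw [exactAt_iff_forall _ (j - 1) j (j + 1) (by omega) rfl]
  have hex' : ∀ x : (E.X j) ⊗[R] k,
      (((E.d j (j + 1)).hom.restrictScalars R).rTensor k) x = 0 →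
        ∃ y : (E.X (j - 1)) ⊗[R] k,
          (((E.d (j - 1) j).hom.restrictScalars R).rTensor k) y = x :=
    fun x hx => exact_rTensor_of_exact_lTensor k (E.d (j - 1) j).hom (E.d j (j + 1)).hom hex x hx
  intro x hx
  exact hex' x hx

end Groth.Agent.Helper9.YC3
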