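import Mathlib
import Groth.Prelude.Def_DualSh
import Groth.Prelude.Def_Flat
import Groth.Agent.Helper5.FibBound
import Groth.Agent.Helper5.BCMin13
import Groth.Agent.Helper9.YB4
import Groth.Agent.Helper9.FC1
import Groth.Agent.Helper9.BR3
import Groth.Agent.Helper9.RHB3
import Groth.Agent.Helper6.LBCFlatCx
import Groth.Agent.Helper9.YC3

/-!
# Vanishing of `H^i(ω_{A/R})` and of its fibres below `-d`
-/

set_option autoImplicit false
set_option linter.style.haveILetI false
set_option linter.unusedSectionVars false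

universe u
open CategoryTheory CategoryTheory.Limits DerivedCategory AlgebraicGeometry TensorProduct
attribute [local instance] HasDerivedCategory.standard

namespace Groth.Agent.Helper9.YC4
open Groth.Agent.Helper3.DRingLib Groth.Agent.Helper6

section dim

variable (R A : Type u) [CommRing R] [CommRing A] [Algebra R A]

theorem fibreDimAt_tensor (k : Type u) [CommRing k] [Algebra R k] [Algebra.FiniteType R A]
    (q' : PrimeSpectrum (k ⊗[R] A)) :
    FlatMor.fibreDimAt (Spec.map (CommRingCat.ofHom (algebraMap k (k ⊗[R] A)))) q' =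
      FlatMor.fibreDimAt (Spec.map (CommRingCat.ofHom (algebraMap R A)))
        (q'.comap (Algebra.TensorProduct.includeRight : A →ₐ[R] k ⊗[R] A).toRingHom) := by
  haveI : LocallyOfFiniteType (Spec.map (CommRingCat.ofHom (algebraMap R A))) := by
    rw [HasRingHomProperty.Spec_iff (P := @LocallyOfFiniteType)]
    exact RingHom.finiteType_algebraMap.2 inferInstance
  have hsq := (isPullback_SpecMap_of_isPushout _ _ _ _
    (CommRingCat.isPushout_tensorProduct R k A)).flip
  exact Groth.Agent.Helper5.BCMin.fibreDimAt_of_isPullback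
    (Spec.map (CommRingCat.ofHom (algebraMap R A)))
    (Spec.map (CommRingCat.ofHom (algebraMap R k)))
    (Spec.map (CommRingCat.ofHom
      (Algebra.TensorProduct.includeRight : A →ₐ[R] k ⊗[R] A).toRingHom))
    (Spec.map (CommRingCat.ofHom (algebraMap k (k ⊗[R] A)))) hsq q'

end dim

section global

variable (R A : Type u) [CommRing R] [CommRing A] [IsNoetherianRing R] [IsNoetherianRing A]
  [Algebra R A] (n : ℕ) (ψ : MvPolynomial (Fin n) R →ₐ[R] A) (hψ : Function.Surjective ψ)
  [DRing.HasLBaseChange (algebraMap R (MvPolynomial (Fin n) R))]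
  (Rψ : Dual.D (MvPolynomial (Fin n) R) ⥤ Dual.D A) (adj : DRing.restrictD ψ.toRingHom ⊣ Rψ)

include hψ in
lemma finiteType : Algebra.FiniteType R A :=
  Algebra.FiniteType.of_surjective ψ hψ

include hψ adj in
/-- `H^i(ω_{A/R}) = 0` for `i < -d` when all fibres have local dimension `≤ d` everywhere -/
theorem subsingleton_HD_of_lt (d : ℕ)
    (hfd : ∀ q : PrimeSpectrum A,
      FlatMor.fibreDimAt (Spec.map (CommRingCat.ofHom (algebraMap R A))) q ≤ (d : WithBot ℕ∞))
    (i : ℤ) (hi : i < -(d : ℤ)) :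
    Subsingleton (Dual.HD A (Dual2.shriekVia n Rψ (Dual.inD R R)) i) := by
  haveI := finiteType R A n ψ hψ
  haveI : LocallyOfFiniteType (Spec.map (CommRingCat.ofHom (algebraMap R A))) := by
    rw [HasRingHomProperty.Spec_iff (P := @LocallyOfFiniteType)]
    exact RingHom.finiteType_algebraMap.2 inferInstance
  refine Module.subsingleton_of_localization_maximal (R := A)
    (fun (P : Ideal A) _ => LocalizedModule P.primeCompl
      (Dual.HD A (Dual2.shriekVia n Rψ (Dual.inD R R)) i))
    (fun (P : Ideal A) _ => LocalizedModule.mkLinearMap P.primeCompl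
      (Dual.HD A (Dual2.shriekVia n Rψ (Dual.inD R R)) i)) (fun P hP => ?_)
  let q : PrimeSpectrum A := ⟨P, hP.isPrime⟩
  obtain ⟨m, hm⟩ := Groth.Agent.Helper5.SubDim.fibreDimAt_nat
    (Spec.map (CommRingCat.ofHom (algebraMap R A))) q
  have hmd : m ≤ d := by
    have h1 := hfd q
    rw [hm] at h1
    exact_mod_cast h1
  exact YB4.subsingleton_localized R A n ψ hψ Rψ adj q m hm i (by omega)

end global

section fibre

variable (R A : Type u) [CommRing R] [CommRing A] [IsNoetherianRing R] [IsNoetherianRing A]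
  [Algebra R A] [Module.Flat R A] (n : ℕ) (ψ : MvPolynomial (Fin n) R →ₐ[R] A)
  (hψ : Function.Surjective ψ)
  [DRing.HasLBaseChange (algebraMap R (MvPolynomial (Fin n) R))]
  (Rψ : Dual.D (MvPolynomial (Fin n) R) ⥤ Dual.D A) (adj : DRing.restrictD ψ.toRingHom ⊣ Rψ)

include hψ adj in
/-- the base change of `ω` to a fibre vanishes in degrees `< -d` -/
theorem fibre_vanishing (k : Type u) [Field k] [Algebra R k]
    [DRing.HasLBaseChange (Algebra.TensorProduct.includeRight : A →ₐ[R] k ⊗[R] A).toRingHom]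
    (d : ℕ)
    (hfd : ∀ q : PrimeSpectrum A,
      FlatMor.fibreDimAt (Spec.map (CommRingCat.ofHom (algebraMap R A))) q ≤ (d : WithBot ℕ∞))
    (i : ℤ) (hi : i < -(d : ℤ)) :
    Subsingleton (Dual.HD (k ⊗[R] A)
      ((DRing.LBaseChange (Algebra.TensorProduct.includeRight : A →ₐ[R] k ⊗[R] A).toRingHom).obj
        (Dual2.shriekVia n Rψ (Dual.inD R R))) i) := by
  haveI := finiteType R A n ψ hψ
  haveI := HasLBC.hasLBaseChange (algebraMap k (MvPolynomial (Fin n) k))
  haveI := HasLBC.hasLBaseChange (algebraMap R k)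
  haveI := Groth.Agent.Helper9.BR3.isLeftAdjoint_restrictD
    (Groth.Agent.Helper9.FB6.ψ' R k A n ψ).toRingHom
  have adj'' := Adjunction.ofIsLeftAdjoint
    (DRing.restrictD (Groth.Agent.Helper9.FB6.ψ' R k A n ψ).toRingHom)
  obtain ⟨e1⟩ := Groth.Agent.Helper9.FC1.main R k A n ψ hψ adj adj'' (Dual.inD R R)
  have hsurj := Groth.Agent.Helper9.FB6.ψ'_surjective (R' := k) hψ
  haveI : IsNoetherianRing (k ⊗[R] A) :=
    isNoetherianRing_of_surjective _ _ (Groth.Agent.Helper9.FB6.ψ' R k A n ψ).toRingHom hsurj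
  let u := Groth.Agent.Helper9.RHB3.lbcUnit (algebraMap R k) (LBCAdj.adj _)
  have hv := subsingleton_HD_of_lt k (k ⊗[R] A) n (Groth.Agent.Helper9.FB6.ψ' R k A n ψ) hsurj
    _ adj'' d (fun q' => by
      rw [fibreDimAt_tensor R A k q']
      exact hfd _) i hi
  let e : (DRing.LBaseChange (Algebra.TensorProduct.includeRight : A →ₐ[R] k ⊗[R] A).toRingHom).obj
        (Dual2.shriekVia n Rψ (Dual.inD R R)) ≅
      Dual2.shriekVia n (Functor.rightAdjoint
        (DRing.restrictD (Groth.Agent.Helper9.FB6.ψ' R k A n ψ).toRingHom)) (Dual.inD k k) :=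
    e1 ≪≫ (shiftFunctor _ (n : ℤ)).mapIso ((Functor.rightAdjoint
      (DRing.restrictD (Groth.Agent.Helper9.FB6.ψ' R k A n ψ).toRingHom)).mapIso
      ((DRing.LBaseChange (algebraMap k (MvPolynomial (Fin n) k))).mapIso u))
  exact ((homologyFunctor (ModuleCat.{u} (k ⊗[R] A)) i).mapIso
    e).toLinearEquiv.toEquiv.subsingleton

include hψ adj in
/-- fibre exactness of a bounded above flat representative of `ω` -/
theorem fibre_exactAt (k : Type u) [Field k] [Algebra R k] (d : ℕ)
    (hfd : ∀ q : PrimeSpectrum A,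
      FlatMor.fibreDimAt (Spec.map (CommRingCat.ofHom (algebraMap R A))) q ≤ (d : WithBot ℕ∞))
    (E : DRing.Cx A) (b : ℤ) (hv : DRing.VanishesAbove E b) (hf : DRing.TermwiseFlat E)
    (e : DRing.toD E ≅ Dual2.shriekVia n Rψ (Dual.inD R R))
    (i : ℤ) (hi : i < -(d : ℤ)) :
    (DRing.tensorCx ((rCx (algebraMap R A)).obj E) (ModuleCat.of R k)).ExactAt i := by
  letI := Algebra.TensorProduct.rightAlgebra (R := R) (A := k) (B := A)
  haveI := HasLBC.hasLBaseChange
    (Algebra.TensorProduct.includeRight : A →ₐ[R] k ⊗[R] A).toRingHom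
  haveI := fibre_vanishing R A n ψ hψ Rψ adj k d hfd i hi
  obtain ⟨e2⟩ := LBCFlatCx.nonempty_lbcIso_of_flat
    (Algebra.TensorProduct.includeRight : A →ₐ[R] k ⊗[R] A).toRingHom E b hv hf
  apply YC3.exactAt_tensorCx_of_exactAt_bcCx k E i
  refine exactAt_of_isZero _ i (IsZero.of_iso (ModuleCat.isZero_of_subsingleton _)
    ((DerivedCategory.homologyFunctor _ i).mapIso
      (e2.symm ≪≫ (DRing.LBaseChange
        (Algebra.TensorProduct.includeRight : A →ₐ[R] k ⊗[R] A).toRingHom).mapIso e)))

end fibre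

end Groth.Agent.Helper9.YC4
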