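import Mathlib
import Groth.Prelude.Def_DualSh
import Groth.Prelude.Def_Flat
import Groth.Agent.Helper9.YC2
import Groth.Agent.Helper9.YC4
import Groth.Agent.Helper9.RD2
import Groth.Agent.Helper9.FC4

/-!
# Tor amplitude `[-d, 0]` of `ω_{A/R}` over `R` for `A` flat with fibres of dimension `≤ d`
-/

set_option autoImplicit false
set_option linter.style.haveILetI false
set_option linter.unusedSectionVars false

universe u
open CategoryTheory CategoryTheory.Limits DerivedCategory AlgebraicGeometry TensorProduct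
attribute [local instance] HasDerivedCategory.standard

namespace Groth.Agent.Helper9.YC5
open Groth.Agent.Helper3.DRingLib Groth.Agent.Helper6 Groth.Agent.Helper9.TorOpen1

variable (R A : Type u) [CommRing R] [CommRing A] [IsNoetherianRing R] [IsNoetherianRing A]
  [Algebra R A] [Module.Flat R A] (n : ℕ) (ψ : MvPolynomial (Fin n) R →ₐ[R] A)
  (hψ : Function.Surjective ψ)
  [DRing.HasLBaseChange (algebraMap R (MvPolynomial (Fin n) R))]
  (Rψ : Dual.D (MvPolynomial (Fin n) R) ⥤ Dual.D A) (adj : DRing.restrictD ψ.toRingHom ⊣ Rψ)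

include hψ adj in
/-- `H^i(ω_{A/R}) = 0` for `i > 0` -/
theorem subsingleton_HD_of_pos (i : ℤ) (hi : 0 < i) :
    Subsingleton (Dual.HD A (Dual2.shriekVia n Rψ (Dual.inD R R)) i) := by
  refine Module.subsingleton_of_localization_maximal (R := A)
    (fun (P : Ideal A) _ => LocalizedModule P.primeCompl
      (Dual.HD A (Dual2.shriekVia n Rψ (Dual.inD R R)) i))
    (fun (P : Ideal A) _ => LocalizedModule.mkLinearMap P.primeCompl
      (Dual.HD A (Dual2.shriekVia n Rψ (Dual.inD R R)) i)) (fun P hP => ?_)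
  let q : PrimeSpectrum A := ⟨P, hP.isPrime⟩
  exact YC2.subsingleton_localized R A n ψ hψ Rψ adj q i hi

include hψ adj in
theorem isLE_zero : (Dual2.shriekVia n Rψ (Dual.inD R R)).IsLE 0 := by
  rw [DerivedCategory.isLE_iff]
  intro i hi
  haveI := subsingleton_HD_of_pos R A n ψ hψ Rψ adj i hi
  exact ModuleCat.isZero_of_subsingleton _

include hψ adj in
/-- **tor amplitude of `ω_{A/R}`** -/
theorem torAmp (d : ℕ)
    (hfd : ∀ q : PrimeSpectrum A,
      FlatMor.fibreDimAt (Spec.map (CommRingCat.ofHom (algebraMap R A))) q ≤ (d : WithBot ℕ∞)) :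
    DRing.HasTorAmplitudeIn R (-(d : ℤ)) 0
      ((DRing.restrictD (algebraMap R A)).obj (Dual2.shriekVia n Rψ (Dual.inD R R))) := by
  haveI hft := YC4.finiteType R A n ψ hψ
  haveI : Algebra.FinitePresentation R A := Algebra.FinitePresentation.of_finiteType.mp hft
  obtain ⟨E, b, hv, hff, ⟨e⟩⟩ := (Groth.Agent.Helper9.RD2.isRelPerfect_shriek R A n ψ hψ Rψ adj).1
  have hf : DRing.TermwiseFlat E := fun i => by
    haveI := (hff i).2
    infer_instance
  have hex : ∀ i, i < -(d : ℤ) → E.ExactAt i := fun i hi => by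
    haveI := YC4.subsingleton_HD_of_lt R A n ψ hψ Rψ adj d hfd i hi
    exact exactAt_of_isZero E i (IsZero.of_iso (ModuleCat.isZero_of_subsingleton _)
      ((DerivedCategory.homologyFunctor _ i).mapIso e))
  let eF : DRing.toD ((rCx (algebraMap R A)).obj E) ≅
      (DRing.restrictD (algebraMap R A)).obj (Dual2.shriekVia n Rψ (Dual.inD R R)) :=
    (rDToD (algebraMap R A) E).symm ≪≫ (DRing.restrictD (algebraMap R A)).mapIso e
  have hall : ∀ (𝔪 : MaximalSpectrum A),
      DRing.HasTorAmplitudeIn R (-(d : ℤ)) b (DRing.toD (Floc (A := R) 𝔪.asIdeal E)) := by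
    intro 𝔪
    haveI := 𝔪.isMaximal.isPrime
    let p : Ideal R := 𝔪.asIdeal.comap (algebraMap R A)
    haveI : p.IsPrime := Ideal.comap_isPrime _ _
    exact Groth.Agent.Helper9.FC3.hasTorAmplitudeIn_Floc p 𝔪.asIdeal rfl E b hv hff _ hex
      (YC4.fibre_exactAt R A n ψ hψ Rψ adj p.ResidueField d hfd E b hv hf e _ (by omega))
  have hup := Groth.Agent.Helper9.RLT3.up (algebraMap R A)
    (fun 𝔪 : MaximalSpectrum A => Localization.AtPrime 𝔪.asIdeal)
    (fun _ => R) (fun _ => RingHom.id R) (fun _ => RingHom.Flat.id R)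
    (fun 𝔪 => algebraMap R (Localization.AtPrime 𝔪.asIdeal))
    (fun 𝔪 => RingHom.ext fun a =>
      (IsScalarTower.algebraMap_apply R A (Localization.AtPrime 𝔪.asIdeal) a).symm)
    (Groth.Agent.Helper9.RLT2.jointlyFaithful_maximal A) E (-(d : ℤ)) b hall
  have h1 : DRing.HasTorAmplitudeIn R (-(d : ℤ)) b
      ((DRing.restrictD (algebraMap R A)).obj (Dual2.shriekVia n Rψ (Dual.inD R R))) :=
    hasTorAmplitudeIn_of_iso eF _ _ hup
  have h2 := ((hasTorAmplitudeIn_iff' _ _ _).1 h1).2
  haveI := isLE_zero R A n ψ hψ Rψ adj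
  exact (hasTorAmplitudeIn_iff' _ _ _).2
    ⟨(rD_isLE_iff (algebraMap R A) _ 0).mpr inferInstance, h2⟩

end Groth.Agent.Helper9.YC5
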