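import Mathlib
import Groth.Prelude.Def_DualSh
import Groth.Prelude.Def_Flat
import Groth.Prelude.Def_Dual3
import Groth.Agent.Helper9.YA5

/-!
# Height of the kernel of a presentation, from residual transcendence degrees at minimal primes
-/

set_option autoImplicit false
set_option linter.style.haveILetI false
set_option linter.unusedSectionVars false

universe u
open CategoryTheory AlgebraicGeometry IsLocalRing TensorProduct

namespace Groth.Agent.Helper9.ZA1

open Groth.Agent.Helper5.RegLoc

variable (R : Type u) [CommRing R] [IsNoetherianRing R] (n : ℕ)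

set_option maxHeartbeats 1000000 in
/-- the height of a prime of the polynomial ring is at least `n` minus the residual
transcendence degree -/
theorem height_ge (Q : PrimeSpectrum (MvPolynomial (Fin n) R)) :
    ∃ k t : ℕ, k + t = n ∧
      Dual3.resTrdeg (Spec.map (CommRingCat.ofHom (algebraMap R (MvPolynomial (Fin n) R)))) Q =
        (t : Cardinal.{u}) ∧
      (k : ℕ∞) ≤ Q.asIdeal.height := by
  obtain ⟨eF⟩ := fibLocRing_equiv_fibre_stalk R (MvPolynomial (Fin n) R) Q
  have e1 := ringKrullDim_eq_of_ringEquiv eF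
  set φ := Spec.map (CommRingCat.ofHom (algebraMap R (MvPolynomial (Fin n) R))) with hφ
  haveI : LocallyOfFiniteType φ := by
    rw [hφ, HasRingHomProperty.Spec_iff (P := @LocallyOfFiniteType)]
    exact RingHom.finiteType_algebraMap.2 inferInstance
  obtain ⟨k, t, hk, -, ht, hkt⟩ := Groth.Agent.Helper5.SubDim.fibreDimAt_eq φ Q
  have hn : FlatMor.fibreDimAt φ Q = (n : WithBot ℕ∞) :=
    Groth.Agent.Helper5.SmRelDim.fibreDimAt_SpecMap_C (CommRingCat.of R) n Q
  rw [hkt] at hn
  have h1 : k + t = n := by exact_mod_cast hn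
  refine ⟨k, t, h1, ht, ?_⟩
  have h2 : ringKrullDim (EGA4.FibLocRing R (MvPolynomial (Fin n) R) Q.asIdeal) ≤
      ringKrullDim (Localization.AtPrime Q.asIdeal) := ringKrullDim_quotient_le _
  rw [e1, hk, IsLocalization.AtPrime.ringKrullDim_eq_height Q.asIdeal] at h2
  exact_mod_cast h2

variable (A : Type u) [CommRing A] [Algebra R A] (ψ : MvPolynomial (Fin n) R →ₐ[R] A)
  (hψ : Function.Surjective ψ)

include hψ in
/-- residual transcendence degrees agree along the closed immersion `Spec A → Spec P` -/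
theorem resTrdeg_comap (q : PrimeSpectrum A) :
    Dual3.resTrdeg (Spec.map (CommRingCat.ofHom (algebraMap R A))) q =
      Dual3.resTrdeg (Spec.map (CommRingCat.ofHom (algebraMap R (MvPolynomial (Fin n) R))))
        (⟨q.asIdeal.comap ψ.toRingHom, Ideal.comap_isPrime _ _⟩ :
          PrimeSpectrum (MvPolynomial (Fin n) R)) := by
  set φ := Spec.map (CommRingCat.ofHom (algebraMap R (MvPolynomial (Fin n) R))) with hφ
  set g := Spec.map (CommRingCat.ofHom (algebraMap R A)) with hg
  let ι : Spec (CommRingCat.of A) ⟶ Spec (CommRingCat.of (MvPolynomial (Fin n) R)) :=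
    Spec.map (CommRingCat.ofHom ψ.toRingHom)
  haveI : IsClosedImmersion ι := IsClosedImmersion.spec_of_surjective _ hψ
  have hgι : g = ι ≫ φ := by
    rw [hg, hφ, ← Spec.map_comp]
    congr 1
    ext x
    exact (ψ.commutes x).symm
  have hιz : ι q = (⟨q.asIdeal.comap ψ.toRingHom, Ideal.comap_isPrime _ _⟩ :
      PrimeSpectrum (MvPolynomial (Fin n) R)) := rfl
  have htr := Groth.Agent.Helper5.SubDim.trdeg_closedImmersion_comp ι φ q
  have key : ∀ (g' : Spec (CommRingCat.of A) ⟶ Spec (CommRingCat.of R))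
      (_ : g' = ι ≫ φ) (q' : ↥(Spec (CommRingCat.of (MvPolynomial (Fin n) R)))) (_ : ι q = q'),
      @Algebra.trdeg ((Spec (CommRingCat.of R)).residueField (g' q))
        ((Spec (CommRingCat.of A)).residueField q) _ _
        (g'.residueFieldMap q).hom.toAlgebra =
      @Algebra.trdeg ((Spec (CommRingCat.of R)).residueField (φ q'))
        ((Spec (CommRingCat.of (MvPolynomial (Fin n) R))).residueField q') _ _
        (φ.residueFieldMap q').hom.toAlgebra := by
    intro g' hg' q' hq'
    subst hg' hq'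
    exact htr
  exact key g hgι _ hιz

include hψ in
/-- the height of the kernel of the presentation -/
theorem height_ker_ge (r : ℕ)
    (hr : ∀ q : PrimeSpectrum A, q.asIdeal ∈ minimalPrimes A →
      Dual3.resTrdeg (Spec.map (CommRingCat.ofHom (algebraMap R A))) q ≤ (r : Cardinal.{u})) :
    ((n - r : ℕ) : ℕ∞) ≤ (RingHom.ker ψ.toRingHom).height := by
  rw [Ideal.height_eq_inf_minimalPrimes]
  refine le_iInf₂ (fun Q hQ => ?_)
  have hker : RingHom.ker ψ.toRingHom = Ideal.comap ψ.toRingHom ⊥ := rfl
  rw [hker, Ideal.comap_minimalPrimes_eq_of_surjective (f := ψ.toRingHom) hψ] at hQ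
  obtain ⟨q0, hq0, rfl⟩ := hQ
  haveI : q0.IsPrime := hq0.1.1
  obtain ⟨k, t, hkt, htr, hk⟩ := height_ge R n
    (⟨q0.comap ψ.toRingHom, Ideal.comap_isPrime _ _⟩ : PrimeSpectrum (MvPolynomial (Fin n) R))
  have h1 := hr ⟨q0, inferInstance⟩ hq0
  rw [resTrdeg_comap R n A ψ hψ ⟨q0, inferInstance⟩, htr] at h1
  have h2 : t ≤ r := by exact_mod_cast h1
  refine le_trans ?_ hk
  exact_mod_cast (by omega : n - r ≤ k)

end Groth.Agent.Helper9.ZA1
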