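import Mathlib
import Groth.Prelude.Def_DualSh
import Groth.Prelude.Def_CAlg
import Groth.Agent.Helper9.YA1
import Groth.Agent.Helper2.FlatLoc
import Groth.Agent.Helper6.CMIdealDepth
import Groth.Agent.Helper6.CISat

/-!
# Localizations of a polynomial ring over a Cohen–Macaulay local base are Cohen–Macaulay;
grade of an ideal from its height
-/

set_option autoImplicit false
set_option linter.style.haveILetI false
set_option linter.unusedSectionVars false

universe u
open CategoryTheory AlgebraicGeometry IsLocalRing TensorProduct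

namespace Groth.Agent.Helper9.ZA2

variable (R : Type u) [CommRing R] [IsNoetherianRing R] (n : ℕ)

/-- in a Cohen–Macaulay local ring the Krull dimension is the depth -/
lemma cm_dim_eq_depth (S : Type u) [CommRing S] [hS : LocCoh.IsCohenMacaulayLocalRing S] :
    ringKrullDim S = ((LocCoh.depth S S : ℕ∞) : WithBot ℕ∞) := by
  rw [← hS.supportDim_eq_depth, Module.supportDim_self_eq_ringKrullDim]

set_option maxHeartbeats 1000000 in
/-- `P_q` is Cohen–Macaulay when `R_{q ∩ R}` is -/
theorem cm_loc (q : PrimeSpectrum (MvPolynomial (Fin n) R))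
    [hR : LocCoh.IsCohenMacaulayLocalRing
      (Localization.AtPrime (q.asIdeal.comap (algebraMap R (MvPolynomial (Fin n) R))))] :
    LocCoh.IsCohenMacaulayLocalRing (Localization.AtPrime q.asIdeal) := by
  haveI hcmF : LocCoh.IsCohenMacaulayLocalRing
      (EGA4.FibLocRing R (MvPolynomial (Fin n) R) q.asIdeal) := YA1.cm_fibLocRing R n q
  have hht := Groth.Agent.Helper2.FlatLoc.height_eq R (MvPolynomial (Fin n) R) q.asIdeal
  have hdp := Groth.Agent.Helper2.FlatLoc.depth_eq R (MvPolynomial (Fin n) R) q.asIdeal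
  -- base
  have h1 := cm_dim_eq_depth
    (Localization.AtPrime (q.asIdeal.comap (algebraMap R (MvPolynomial (Fin n) R))))
  rw [IsLocalization.AtPrime.ringKrullDim_eq_height
    (q.asIdeal.comap (algebraMap R (MvPolynomial (Fin n) R)))] at h1
  have h1' := WithBot.coe_injective h1
  -- fibre
  have h2 := cm_dim_eq_depth (EGA4.FibLocRing R (MvPolynomial (Fin n) R) q.asIdeal)
  rw [← IsLocalRing.maximalIdeal_height_eq_ringKrullDim] at h2
  have h2' := WithBot.coe_injective h2
  refine { supportDim_eq_depth := ?_ }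
  rw [Module.supportDim_self_eq_ringKrullDim,
    IsLocalization.AtPrime.ringKrullDim_eq_height q.asIdeal, hdp, hht, h1', h2']

set_option maxHeartbeats 1000000 in
/-- grade and dimension of the quotient from the height, in a Cohen–Macaulay localization -/
theorem depth_loc (J : Ideal (MvPolynomial (Fin n) R)) (q : PrimeSpectrum (MvPolynomial (Fin n) R))
    (hJq : J ≤ q.asIdeal)
    [hR : LocCoh.IsCohenMacaulayLocalRing
      (Localization.AtPrime (q.asIdeal.comap (algebraMap R (MvPolynomial (Fin n) R))))]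
    (m : ℕ) (hm : (m : ℕ∞) ≤ J.height) :
    ∃ k k' : ℕ, ringKrullDim (Localization.AtPrime q.asIdeal) = k ∧
      ringKrullDim (Localization.AtPrime q.asIdeal ⧸
        J.map (algebraMap (MvPolynomial (Fin n) R) (Localization.AtPrime q.asIdeal))) = k' ∧
      k' + m ≤ k ∧
      LocCoh.depth (Localization.AtPrime q.asIdeal) (Localization.AtPrime q.asIdeal) = k ∧
      (m : ℕ∞) ≤ LocCoh.idealDepth
        (J.map (algebraMap (MvPolynomial (Fin n) R) (Localization.AtPrime q.asIdeal)))
        (Localization.AtPrime q.asIdeal) := by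
  set B := Localization.AtPrime q.asIdeal with hB
  set I : Ideal B := J.map (algebraMap (MvPolynomial (Fin n) R) B) with hI
  haveI hcm : LocCoh.IsCohenMacaulayLocalRing B := cm_loc R n q
  have hIm : I ≤ maximalIdeal B := by
    rw [hI, Ideal.map_le_iff_le_comap]
    intro y hy
    exact (IsLocalization.AtPrime.to_map_mem_maximal_iff _ q.asIdeal y).2 (hJq hy)
  have hItop : I ≠ ⊤ := fun h =>
    (IsLocalRing.maximalIdeal.isMaximal B).ne_top (top_le_iff.1 (h ▸ hIm))
  -- dimension of B
  have hkq : ringKrullDim B = (q.asIdeal.height : WithBot ℕ∞) :=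
    IsLocalization.AtPrime.ringKrullDim_eq_height q.asIdeal B
  have hfin : q.asIdeal.height ≠ ⊤ := Ideal.height_ne_top_of_isPrime
  obtain ⟨k, hk⟩ : ∃ k : ℕ, q.asIdeal.height = (k : ℕ∞) := ⟨q.asIdeal.height.toNat,
    (ENat.natCast_toNat hfin).symm⟩
  have hkB : ringKrullDim B = (k : WithBot ℕ∞) := by rw [hkq, hk]; rfl
  -- the height of I
  have hIh : (m : ℕ∞) ≤ I.height := by
    have h1 : J.height ≤ (I.under (MvPolynomial (Fin n) R)).height :=
      Ideal.height_mono Ideal.le_comap_map
    rw [IsLocalization.height_under q.asIdeal.primeCompl] at h1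
    exact hm.trans h1
  have hsum := Groth.Agent.Helper6.CISat.height_add_dim_quot_le I
  haveI : Nontrivial (B ⧸ I) := Ideal.Quotient.nontrivial_iff.2 hItop
  have hk'fin : ringKrullDim (B ⧸ I) ≤ (k : WithBot ℕ∞) := by
    rw [← hkB]; exact ringKrullDim_quotient_le I
  obtain ⟨k', hk'⟩ : ∃ k' : ℕ, ringKrullDim (B ⧸ I) = (k' : WithBot ℕ∞) := by
    have hnn : (0 : WithBot ℕ∞) ≤ ringKrullDim (B ⧸ I) := ringKrullDim_nonneg_of_nontrivial
    generalize ringKrullDim (B ⧸ I) = x at hk'fin hnn
    induction x using WithBot.recBotCoe with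
    | bot => simp at hnn
    | coe y =>
      induction y using ENat.recTopCoe with
      | top =>
        exfalso
        have : ((⊤ : ℕ∞) : WithBot ℕ∞) ≤ ((k : ℕ∞) : WithBot ℕ∞) := hk'fin
        rw [WithBot.coe_le_coe] at this
        simp at this
      | coe y => exact ⟨y, rfl⟩
  have hkk' : k' + m ≤ k := by
    rw [hk', hkB] at hsum
    have h2 : ((m : ℕ∞) : WithBot ℕ∞) + ((k' : ℕ) : WithBot ℕ∞) ≤ ((k : ℕ) : WithBot ℕ∞) :=
      le_trans (by gcongr; exact WithBot.coe_le_coe.2 hIh) hsum
    have h3 : (((m + k' : ℕ) : ℕ∞) : WithBot ℕ∞) ≤ (((k : ℕ) : ℕ∞) : WithBot ℕ∞) := by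
      push_cast
      exact h2
    have h4 : m + k' ≤ k := by exact_mod_cast h3
    omega
  have hsd : Module.supportDim B B = (k : WithBot ℕ∞) := by
    rw [Module.supportDim_self_eq_ringKrullDim]; exact hkB
  have hdepth : LocCoh.depth B B = (k : ℕ∞) := by
    have h1 := hcm.supportDim_eq_depth
    rw [hsd] at h1
    have h2 : ((k : ℕ∞) : WithBot ℕ∞) = ((LocCoh.depth B B : ℕ∞) : WithBot ℕ∞) := h1
    exact (WithBot.coe_injective h2).symm
  refine ⟨k, k', hkB, hk', hkk', hdepth, ?_⟩
  have hcmM : LocCoh.IsCohenMacaulayModule B B := hcm.supportDim_eq_depth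
  have key := Groth.Agent.Helper6.CMIdealDepth.cm_supportDim_le I hItop k B hcmM hdepth
  have hItop' : (I • (⊤ : Submodule B B)) = I := by
    rw [smul_eq_mul, Ideal.mul_top]
  have hq' : Module.supportDim B (B ⧸ I • (⊤ : Submodule B B)) = (k' : WithBot ℕ∞) := by
    rw [Module.supportDim_eq_of_equiv (Submodule.quotEquivOfEq _ _ hItop'),
      Module.supportDim_quotient_eq_ringKrullDim]
    exact hk'
  rw [hsd, hq'] at key
  generalize LocCoh.idealDepth I B = D at key ⊢
  induction D using ENat.recTopCoe with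
  | top => exact le_top
  | coe d =>
    have h1 : ((k : ℕ∞) : WithBot ℕ∞) ≤ (((k' + d : ℕ) : ℕ∞) : WithBot ℕ∞) := by
      push_cast
      exact key
    have h2 : k ≤ k' + d := by exact_mod_cast h1
    exact_mod_cast (by omega : m ≤ d)

end Groth.Agent.Helper9.ZA2
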