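import Mathlib
import Groth.Prelude.Def_DualSh
import Groth.Prelude.Def_Flat
import Groth.Prelude.Def_Dual3
import Groth.Agent.Helper9.ZA1
import Groth.Agent.Helper9.ZA2
import Groth.Agent.Helper9.YB1
import Groth.Agent.Helper9.YB2
import Groth.Agent.Helper9.YB3
import Groth.Agent.Helper9.XR6
import Groth.Agent.Lead.CMCl

/-!
# `S⁻¹ H^i(ω_{A/R}) = 0` for `i < -r` over a Cohen–Macaulay base point
-/

set_option autoImplicit false
set_option linter.style.haveILetI false
set_option linter.unusedSectionVars false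

universe u
open CategoryTheory CategoryTheory.Limits DerivedCategory AlgebraicGeometry
attribute [local instance] HasDerivedCategory.standard

namespace Groth.Agent.Helper9.ZA3
open Groth.Agent.Helper3.DRingLib Groth.Agent.Helper6.Coext

variable (R A : Type u) [CommRing R] [CommRing A] [IsNoetherianRing R] [IsNoetherianRing A]
  [Algebra R A] (n : ℕ) (ψ : MvPolynomial (Fin n) R →ₐ[R] A) (hψ : Function.Surjective ψ)
  [DRing.HasLBaseChange (algebraMap R (MvPolynomial (Fin n) R))]
  (Rψ : Dual.D (MvPolynomial (Fin n) R) ⥤ Dual.D A) (adj : DRing.restrictD ψ.toRingHom ⊣ Rψ)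
  (p : Ideal R) [p.IsPrime] [LocCoh.IsCohenMacaulayLocalRing (Localization.AtPrime p)]

/-- the contraction to `R` of the preimage in `P` of a prime of `A` -/
lemma comap_comap (q : PrimeSpectrum A) :
    (q.asIdeal.comap ψ.toRingHom).comap (algebraMap R (MvPolynomial (Fin n) R)) =
      q.asIdeal.comap (algebraMap R A) := by
  ext x
  simp only [Ideal.mem_comap]
  have : ψ.toRingHom (algebraMap R (MvPolynomial (Fin n) R) x) = algebraMap R A x := ψ.commutes x
  rw [this]

/-- Cohen–Macaulayness at the generizations of `p` -/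
lemma cm_of_comap_le (q : PrimeSpectrum A) (hq : q.asIdeal.comap (algebraMap R A) ≤ p) :
    LocCoh.IsCohenMacaulayLocalRing (Localization.AtPrime
      ((q.asIdeal.comap ψ.toRingHom).comap (algebraMap R (MvPolynomial (Fin n) R)))) := by
  haveI : ((q.asIdeal.comap ψ.toRingHom).comap
      (algebraMap R (MvPolynomial (Fin n) R))).IsPrime := Ideal.comap_isPrime _ _
  refine Groth.Agent.Lead.CMCl.cm_of_le p
    ((q.asIdeal.comap ψ.toRingHom).comap (algebraMap R (MvPolynomial (Fin n) R))) ?_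
    (Localization.AtPrime p) (Localization.AtPrime
      ((q.asIdeal.comap ψ.toRingHom).comap (algebraMap R (MvPolynomial (Fin n) R))))
  rw [comap_comap]
  exact hq

include hψ adj in
/-- torsion of `H^j(RHom_P(A, P))` below `n - r` -/
theorem exists_smul_eq_zero (r : ℕ)
    (hr : ∀ q : PrimeSpectrum A, q.asIdeal ∈ minimalPrimes A →
      Dual3.resTrdeg (Spec.map (CommRingCat.ofHom (algebraMap R A))) q ≤ (r : Cardinal.{u}))
    (q : PrimeSpectrum A) (hq : q.asIdeal.comap (algebraMap R A) ≤ p) (j : ℤ)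
    (hj : j < ((n - r : ℕ) : ℤ))
    (m : (homologyFunctor (ModuleCat.{u} A) j).obj
      (Rψ.obj (Dual.inD (MvPolynomial (Fin n) R) (MvPolynomial (Fin n) R)))) :
    ∃ s ∈ q.asIdeal.primeCompl, s • m = 0 := by
  let q' : PrimeSpectrum (MvPolynomial (Fin n) R) :=
    ⟨q.asIdeal.comap ψ.toRingHom, Ideal.comap_isPrime _ _⟩
  haveI : LocCoh.IsCohenMacaulayLocalRing (Localization.AtPrime
      (q'.asIdeal.comap (algebraMap R (MvPolynomial (Fin n) R)))) :=
    cm_of_comap_le R A n ψ p q hq
  have hJq : RingHom.ker ψ.toRingHom ≤ q'.asIdeal := by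
    intro x hx
    show ψ.toRingHom x ∈ q.asIdeal
    rw [(RingHom.mem_ker).1 hx]
    exact q.asIdeal.zero_mem
  obtain ⟨k, k', -, -, -, -, hdepth⟩ := ZA2.depth_loc R n (RingHom.ker ψ.toRingHom) q' hJq (n - r)
    (ZA1.height_ker_ge R n A ψ hψ r hr)
  haveI := YB1.subsingleton_hom_of_depth
    ((RingHom.ker ψ.toRingHom).map
      (algebraMap (MvPolynomial (Fin n) R) (Localization.AtPrime q'.asIdeal))) (n - r) hdepth j hj
  obtain ⟨k⟩ := YB3.nonempty_HD_equiv (π := ψ.toRingHom) hψ Rψ adj j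
  obtain ⟨t, ht, htk⟩ := YB2.exists_smul_eq_zero q'.asIdeal.primeCompl
    (Localization.AtPrime q'.asIdeal) (RingHom.ker ψ.toRingHom) j inferInstance (k m)
  refine ⟨ψ t, ht, ?_⟩
  have h1 : k (t • (show (rF ψ.toRingHom).obj ((homologyFunctor (ModuleCat.{u} A) j).obj
      (Rψ.obj (Dual.inD (MvPolynomial (Fin n) R) (MvPolynomial (Fin n) R)))) from m)) = 0 := by
    rw [map_smul]
    exact htk
  have h2 := k.injective (h1.trans (map_zero k).symm)
  exact h2

/-- a module vanishes after inverting `S` if it vanishes at all primes disjoint from `S` -/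
lemma subsingleton_localized_of_primes {M : Type u} [AddCommGroup M] [Module A M]
    (S : Submonoid A)
    (h : ∀ q : PrimeSpectrum A, Disjoint (S : Set A) (q.asIdeal : Set A) →
      ∀ m : M, ∃ s ∈ q.asIdeal.primeCompl, s • m = 0) :
    Subsingleton (LocalizedModule S M) := by
  rw [LocalizedModule.subsingleton_iff]
  intro m
  by_contra hcon
  push Not at hcon
  let I : Ideal A := LinearMap.ker (LinearMap.toSpanSingleton A M m)
  have hdisj : Disjoint (S : Set A) (I : Set A) := by
    rw [Set.disjoint_left]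
    intro s hs hsI
    apply hcon s hs
    have : (LinearMap.toSpanSingleton A M m) s = 0 := hsI
    simpa [LinearMap.toSpanSingleton_apply] using this
  obtain ⟨Q, hQ, hIQ, hQS⟩ := Ideal.exists_le_prime_disjoint I S hdisj.symm
  obtain ⟨s, hs, hsm⟩ := h ⟨Q, hQ⟩ hQS.symm m
  apply hs
  apply hIQ
  show (LinearMap.toSpanSingleton A M m) s = 0
  rw [LinearMap.toSpanSingleton_apply]
  exact hsm

include hψ adj in
/-- `S⁻¹ H^i(ω_{A/R}) = 0` for `i < -r` -/
theorem subsingleton_localized (r : ℕ)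
    (hr : ∀ q : PrimeSpectrum A, q.asIdeal ∈ minimalPrimes A →
      Dual3.resTrdeg (Spec.map (CommRingCat.ofHom (algebraMap R A))) q ≤ (r : Cardinal.{u}))
    (i : ℤ) (hi : i < -(r : ℤ)) :
    Subsingleton (LocalizedModule (Algebra.algebraMapSubmonoid A p.primeCompl)
      (Dual.HD A (Dual2.shriekVia n Rψ (Dual.inD R R)) i)) := by
  apply subsingleton_localized_of_primes
  intro q hq m
  have hqp : q.asIdeal.comap (algebraMap R A) ≤ p := by
    intro x hx
    by_contra hxp
    exact Set.disjoint_left.1 hq ⟨x, hxp, rfl⟩ hx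
  let e1 : Dual.HD A (Dual2.shriekVia n Rψ (Dual.inD R R)) i ≃ₗ[A]
      Dual.HD A (Rψ.obj (Dual.inD (MvPolynomial (Fin n) R) (MvPolynomial (Fin n) R))) ((n : ℤ) + i) :=
    ((homologyFunctor (ModuleCat.{u} A) i).mapIso
      (Groth.Agent.Helper9.XR6.shriekUnitIso R A n Rψ)).toLinearEquiv ≪≫ₗ
      hdShift _ (n : ℤ) i ((n : ℤ) + i) rfl
  obtain ⟨s, hs, hsm⟩ := exists_smul_eq_zero R A n ψ hψ Rψ adj p r hr q hqp ((n : ℤ) + i)
    (by omega) (e1 m)
  refine ⟨s, hs, ?_⟩
  apply e1.injective
  rw [map_smul, hsm, map_zero]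

end Groth.Agent.Helper9.ZA3
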