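import Mathlib
import Groth.Agent.Helper9.LC2
import Groth.Agent.Helper9.LC3
import Groth.Agent.Helper9.Amp1

/-!
# Maps into the lowest cohomology of a bounded below object
-/

set_option autoImplicit false
set_option linter.style.haveILetI false
set_option linter.unusedSectionVars false
set_option linter.unusedVariables false

universe w v u

namespace Groth.Agent.Helper9.ZB1

open CategoryTheory Limits Pretriangulated DerivedCategory DerivedCategory.TStructure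
open Groth.Agent.Helper9.LC3

variable {𝒜 : Type u} [Category.{v} 𝒜] [Abelian 𝒜] [HasDerivedCategory.{w} 𝒜]

/-- if `Y ∈ D^{≥ c}`, `K ∈ D^{≤ 0}` and `i ≤ 1`, then maps `K ⟶ H^c(Y)[i]` inject into maps
`K ⟶ Y[c + i]`; in particular they vanish when the latter do -/
theorem subsingleton_hom_single_homology (K Y : DerivedCategory 𝒜) [K.IsLE 0] (c : ℤ) [Y.IsGE c]
    (i : ℤ) (hi : i ≤ 1) (h : Subsingleton (K ⟶ Y⟦c + i⟧)) :
    Subsingleton (K ⟶ (W ((homologyFunctor 𝒜 c).obj Y) 0)⟦i⟧) := by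
  obtain ⟨X, Z, f, g, δ, hT, hX0, hZ0, hfiso, -⟩ :=
    Groth.Agent.Helper9.Amp1.exists_trunc_triangle Y (c + 1)
  haveI hXle : X.IsLE c := by
    rw [DerivedCategory.isLE_iff]
    intro j hj
    exact hX0 j (by omega)
  haveI hXge : X.IsGE c := by
    rw [DerivedCategory.isGE_iff]
    intro j hj
    haveI := hfiso j (by omega)
    exact (Y.isZero_of_isGE c j hj).of_iso (asIso ((homologyFunctor 𝒜 j).map f))
  haveI hZge : Z.IsGE (c + 1) := by
    rw [DerivedCategory.isGE_iff]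
    intro j hj
    exact hZ0 j hj
  obtain ⟨F, ⟨e⟩, ⟨eF⟩⟩ := Groth.Agent.Helper9.LC2.exists_iso_single X c
  haveI := hfiso c (by omega)
  let eN : F ≅ (homologyFunctor 𝒜 c).obj Y := eF ≪≫ asIso ((homologyFunctor 𝒜 c).map f)
  -- `X[c + i] ≅ H^c(Y)[0][i]`
  let eX : X⟦c + i⟧ ≅ (W ((homologyFunctor 𝒜 c).obj Y) 0)⟦i⟧ :=
    (shiftFunctorAdd' (DerivedCategory 𝒜) c i (c + i) rfl).app X ≪≫
      (shiftFunctor (DerivedCategory 𝒜) i).mapIso
        ((shiftFunctor (DerivedCategory 𝒜) c).mapIso e ≪≫ wShift F c 0 c (by omega) ≪≫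
          (singleFunctor 𝒜 0).mapIso eN)
  suffices hs : Subsingleton (K ⟶ X⟦c + i⟧) from
    (Iso.homCongr (Iso.refl K) eX).symm.subsingleton
  refine ⟨fun φ₁ φ₂ => ?_⟩
  suffices hz : ∀ φ : K ⟶ X⟦c + i⟧, φ = 0 by rw [hz φ₁, hz φ₂]
  intro φ
  -- the shifted inverse-rotated triangle
  have hT' := Triangle.shift_distinguished _ (inv_rot_of_distTriang _ hT) (c + i)
  obtain ⟨ψ, hψ⟩ := Pretriangulated.Triangle.coyoneda_exact₂ _ hT' φ (h.elim _ _)
  haveI : (Z⟦(-1 : ℤ)⟧).IsGE (c + 2) :=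
    TStructure.t.isGE_shift Z (c + 1) (-1) (c + 2) (by omega)
  haveI : ((Z⟦(-1 : ℤ)⟧)⟦c + i⟧).IsGE (2 - i) :=
    TStructure.t.isGE_shift (Z⟦(-1 : ℤ)⟧) (c + 2) (c + i) (2 - i) (by omega)
  have hψ0 : ψ = 0 := TStructure.t.zero_of_isLE_of_isGE ψ 0 (2 - i) (by omega)
    inferInstance (by
      change (((Z⟦(-1 : ℤ)⟧)⟦c + i⟧)).IsGE (2 - i)
      infer_instance)
  rw [hψ, hψ0]
  exact zero_comp

end Groth.Agent.Helper9.ZB1
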