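import Mathlib
import Groth.Prelude.Def_DualSh
import Groth.Prelude.Def_CAlg
import Groth.Agent.Helper9.ZB1
import Groth.Agent.Helper9.YB1
import Groth.Agent.Helper9.SV1
import Groth.Agent.Helper9.KR1
import Groth.Agent.Helper9.FB6
import Groth.Agent.Helper3.DRingRestr
import Groth.Agent.Helper6.DepthLemma

/-!
# Depth of the lowest cohomology of `RHom_B(C, B)` over a quotient `C` of a local ring `B`
-/

set_option autoImplicit false
set_option linter.style.haveILetI false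
set_option linter.unusedSectionVars false

universe u
open CategoryTheory CategoryTheory.Limits DerivedCategory IsLocalRing Abelian
attribute [local instance] HasDerivedCategory.standard

namespace Groth.Agent.Helper9.ZB2
open Groth.Agent.Helper3.DRingLib Groth.Agent.Helper9.LC3

variable {B C : Type u} [CommRing B] [CommRing C] [IsLocalRing B] [IsLocalRing C]
  (π : B →+* C) (hπ : Function.Surjective π)

include hπ in
/-- membership in the maximal ideals along a surjection of local rings -/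
lemma map_mem_maximalIdeal_iff (b : B) : π b ∈ maximalIdeal C ↔ b ∈ maximalIdeal B := by
  haveI : IsLocalHom π := IsLocalHom.of_surjective π hπ
  rw [mem_maximalIdeal, mem_maximalIdeal, mem_nonunits_iff, mem_nonunits_iff, not_iff_not]
  exact ⟨fun h => isUnit_of_map_unit π b h, fun h => h.map π⟩

/-- the residue field of `C`, restricted to `B`, is the residue field of `B` -/
noncomputable def resEquiv :
    (B ⧸ maximalIdeal B) ≃ₗ[B] (rF π).obj (ModuleCat.of C (C ⧸ maximalIdeal C)) := by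
  let g : B →ₗ[B] (rF π).obj (ModuleCat.of C (C ⧸ maximalIdeal C)) :=
    { toFun := fun b => (Ideal.Quotient.mk (maximalIdeal C) (π b) : C ⧸ maximalIdeal C)
      map_add' := fun x y => by
        rw [map_add, map_add]
        rfl
      map_smul' := fun r x => by
        simp only [smul_eq_mul, map_mul, RingHom.id_apply]
        rfl }
  have hg : Function.Surjective g := fun y => by
    obtain ⟨c, rfl⟩ := Ideal.Quotient.mk_surjective (y : C ⧸ maximalIdeal C)
    obtain ⟨b, rfl⟩ := hπ c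
    exact ⟨b, rfl⟩
  have hker : LinearMap.ker g = maximalIdeal B := by
    ext b
    rw [LinearMap.mem_ker]
    change (Ideal.Quotient.mk (maximalIdeal C) (π b) : C ⧸ maximalIdeal C) = 0 ↔ _
    rw [Ideal.Quotient.eq_zero_iff_mem]
    exact map_mem_maximalIdeal_iff π hπ b
  exact (Submodule.quotEquivOfEq _ _ hker.symm) ≪≫ₗ g.quotKerEquivOfSurjective hg

variable [IsNoetherianRing B] [IsNoetherianRing C]
  (Rπ : Dual.D B ⥤ Dual.D C) (adj : DRing.restrictD π ⊣ Rπ)

include hπ adj in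
/-- `Hom_{D(C)}(κ, RHom_B(C, B)[j]) = 0` for `j < depth B` -/
theorem subsingleton_hom_residue (D : ℕ) (hD : (D : ℕ∞) ≤ LocCoh.depth B B) (j : ℤ)
    (hj : j < D) :
    Subsingleton (Dual.inD C (C ⧸ maximalIdeal C) ⟶ (Rπ.obj (Dual.inD B B))⟦j⟧) := by
  haveI h0 : Subsingleton (Dual.inD B (B ⧸ maximalIdeal B) ⟶ (Dual.inD B B)⟦j⟧) :=
    YB1.subsingleton_hom_of_depth (maximalIdeal B) D hD j hj
  obtain ⟨eS⟩ := Groth.Agent.Helper9.SV1.rightAdj_shift adj (Dual.inD B B) j
  let eK : (DRing.restrictD π).obj (Dual.inD C (C ⧸ maximalIdeal C)) ≅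
      Dual.inD B (B ⧸ maximalIdeal B) :=
    rDSingle π 0 (ModuleCat.of C (C ⧸ maximalIdeal C)) ≪≫
      (Groth.Agent.Helper9.KR1.inDIso (resEquiv π hπ)).symm
  have e1 : (Dual.inD C (C ⧸ maximalIdeal C) ⟶ (Rπ.obj (Dual.inD B B))⟦j⟧) ≃
      (Dual.inD C (C ⧸ maximalIdeal C) ⟶ Rπ.obj ((Dual.inD B B)⟦j⟧)) :=
    Iso.homCongr (Iso.refl _) eS.symm
  have e2 : (Dual.inD C (C ⧸ maximalIdeal C) ⟶ Rπ.obj ((Dual.inD B B)⟦j⟧)) ≃
      ((DRing.restrictD π).obj (Dual.inD C (C ⧸ maximalIdeal C)) ⟶ (Dual.inD B B)⟦j⟧) :=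
    (adj.homEquiv _ _).symm
  have e3 : ((DRing.restrictD π).obj (Dual.inD C (C ⧸ maximalIdeal C)) ⟶ (Dual.inD B B)⟦j⟧) ≃
      (Dual.inD B (B ⧸ maximalIdeal B) ⟶ (Dual.inD B B)⟦j⟧) :=
    Iso.homCongr eK (Iso.refl _)
  exact (e1.trans (e2.trans e3)).subsingleton

include hπ adj in
/-- **depth of the lowest cohomology** -/
theorem depth_ge (D : ℕ) (hD : (D : ℕ∞) ≤ LocCoh.depth B B) (c : ℤ)
    (hc : ∀ j : ℤ, j < c → Subsingleton (Dual.HD C (Rπ.obj (Dual.inD B B)) j))
    [Module.Finite C (Dual.HD C (Rπ.obj (Dual.inD B B)) c)]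
    (m : ℕ) (hm2 : m ≤ 2) (hmD : c + m ≤ D) :
    (m : ℕ∞) ≤ LocCoh.depth C (Dual.HD C (Rπ.obj (Dual.inD B B)) c) := by
  unfold LocCoh.depth
  rw [Groth.Agent.Helper6.DepthLemma.le_idealDepth_iff_extVan]
  intro i hi
  haveI : (Rπ.obj (Dual.inD B B)).IsGE c := Groth.Agent.Helper9.FB6.isGE_of_HD _ c hc
  haveI h1 : Subsingleton (Dual.inD C (C ⧸ maximalIdeal C) ⟶
      (Rπ.obj (Dual.inD B B))⟦c + (i : ℤ)⟧) :=
    subsingleton_hom_residue π hπ Rπ adj D hD (c + (i : ℤ)) (by omega)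
  haveI h2 := Groth.Agent.Helper9.ZB1.subsingleton_hom_single_homology
    (Dual.inD C (C ⧸ maximalIdeal C)) (Rπ.obj (Dual.inD B B)) c (i : ℤ) (by omega) h1
  exact (Ext.homEquiv (X := Groth.Agent.Helper2.DepthRees.Q (maximalIdeal C))
    (Y := ModuleCat.of C (Dual.HD C (Rπ.obj (Dual.inD B B)) c)) (n := i)).subsingleton

end Groth.Agent.Helper9.ZB2
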