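import Mathlib
import Groth.Prelude.Def_DualSh
import Groth.Agent.Helper9.FB6
import Groth.Agent.Helper9.RHB3
import Groth.Agent.Helper6.FlatBCH
import Groth.Agent.Helper6.HasLBC
import Groth.Agent.Helper3.DRingRestr

/-!
# Localization of `H^c(RHom_P(A, P))` at a prime of `A`
-/

set_option autoImplicit false
set_option linter.style.haveILetI false
set_option linter.unusedSectionVars false

universe u
open CategoryTheory CategoryTheory.Limits DerivedCategory TensorProduct
attribute [local instance] HasDerivedCategory.standard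

namespace Groth.Agent.Helper9.ZB3
open Groth.Agent.Helper3.DRingLib Groth.Agent.Helper6

variable {P A : Type u} [CommRing P] [CommRing A] [IsNoetherianRing P] (ψ : P →+* A)
  (hψ : Function.Surjective ψ) (q : Ideal A) [q.IsPrime]

/-- the local homomorphism `P_{q'} → A_q` -/
noncomputable abbrev φq : Localization.AtPrime (q.comap ψ) →+* Localization.AtPrime q :=
  Localization.localRingHom (q.comap ψ) q ψ rfl

include hψ in
lemma φq_surjective : Function.Surjective (φq ψ q) :=
  (RingHom.surjectiveOnStalks_of_surjective hψ).localRingHom_surjective (q.comap ψ) q rfl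

include hψ in
lemma algebraMapSubmonoid_eq :
    letI : Algebra P A := ψ.toAlgebra
    Algebra.algebraMapSubmonoid A (q.comap ψ).primeCompl = q.primeCompl := by
  letI : Algebra P A := ψ.toAlgebra
  ext a
  constructor
  · rintro ⟨x, hx, rfl⟩
    exact hx
  · intro ha
    obtain ⟨x, rfl⟩ := hψ a
    exact ⟨x, ha, rfl⟩

include hψ in
set_option maxHeartbeats 1000000 in
/-- `H^c(RHom_P(A, P))_q ≅ H^c(RHom_{P_{q'}}(A_q, P_{q'}))` -/
theorem nonempty_loc_equiv (Rψ : Dual.D P ⥤ Dual.D A) (adj : DRing.restrictD ψ ⊣ Rψ)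
    (Rφ : Dual.D (Localization.AtPrime (q.comap ψ)) ⥤ Dual.D (Localization.AtPrime q))
    (adjφ : DRing.restrictD (φq ψ q) ⊣ Rφ) (c : ℤ) :
    Nonempty (LocalizedModule q.primeCompl (Dual.HD A (Rψ.obj (Dual.inD P P)) c)
      ≃ₗ[Localization.AtPrime q]
      Dual.HD (Localization.AtPrime q)
        (Rφ.obj (Dual.inD (Localization.AtPrime (q.comap ψ))
          (Localization.AtPrime (q.comap ψ)))) c) := by
  set B := Localization.AtPrime (q.comap ψ) with hB
  set Aq := Localization.AtPrime q with hAq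
  letI algPA : Algebra P A := ψ.toAlgebra
  letI algBAq : Algebra B Aq := (φq ψ q).toAlgebra
  haveI t2 : IsScalarTower P B Aq := IsScalarTower.of_algebraMap_eq (fun x => by
    rw [IsScalarTower.algebraMap_apply P A Aq]
    exact (Localization.localRingHom_to_map (q.comap ψ) q ψ rfl x).symm)
  haveI hloc : IsLocalization (Algebra.algebraMapSubmonoid A (q.comap ψ).primeCompl) Aq := by
    rw [algebraMapSubmonoid_eq ψ hψ q]
    infer_instance
  haveI hpush : Algebra.IsPushout P A B Aq :=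
    Algebra.isPushout_of_isLocalization (q.comap ψ).primeCompl B A Aq
  haveI hfin : Module.Finite P A :=
    Module.Finite.of_surjective (Algebra.linearMap P A) hψ
  have hpc : DRing.IsPseudoCoherentModule' P A :=
    Groth.Agent.Helper9.FB6.isPseudoCoherentModule'_of_finite A
  haveI := HasLBC.hasLBaseChange (algebraMap P B)
  haveI := HasLBC.hasLBaseChange (algebraMap A Aq)
  obtain ⟨e1⟩ := Groth.Agent.Helper9.FB6.nonempty_bcIso (R := P) (A := A) (R' := B) (A' := Aq)
    adj adjφ hpc (Dual.inD P P) 0 inferInstance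
  let u := Groth.Agent.Helper9.RHB3.lbcUnit (algebraMap P B) (LBCAdj.adj _)
  set Y := Rψ.obj (Dual.inD P P) with hY
  let eL : (DRing.LBaseChange (algebraMap A Aq)).obj Y ≅ (FlatBC.ED A Aq).obj Y :=
    (Adjunction.leftAdjointUniq (LBCAdj.adj (algebraMap A Aq)) (FlatBC.adjD A Aq)).app Y
  let eY : (FlatBC.ED A Aq).obj Y ≅ Rφ.obj (Dual.inD B B) :=
    eL.symm ≪≫ e1 ≪≫ Rφ.mapIso u
  let i1 : Dual.HD Aq ((FlatBC.ED A Aq).obj Y) c ≃ₗ[Aq] Dual.HD Aq (Rφ.obj (Dual.inD B B)) c :=
    ((homologyFunctor (ModuleCat.{u} Aq) c).mapIso eY).toLinearEquiv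
  let i2 := (rDHDIso (algebraMap A Aq) ((FlatBC.ED A Aq).obj Y) c).toLinearEquiv
  obtain ⟨i3, -⟩ := FlatBC.exists_HD_equiv (B := Aq) Y c
  letI mA : Module A (Dual.HD Aq ((FlatBC.ED A Aq).obj Y) c) :=
    Module.compHom _ (algebraMap A Aq)
  haveI tA : IsScalarTower A Aq (Dual.HD Aq ((FlatBC.ED A Aq).obj Y) c) :=
    IsScalarTower.of_algebraMap_smul (fun _ _ => rfl)
  let j : Dual.HD Aq ((FlatBC.ED A Aq).obj Y) c ≃ₗ[A] Aq ⊗[A] Dual.HD A Y c := i2.symm ≪≫ₗ i3
  let j' : Dual.HD Aq ((FlatBC.ED A Aq).obj Y) c ≃ₗ[Aq] Aq ⊗[A] Dual.HD A Y c :=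
    LinearEquiv.extendScalarsOfIsLocalization q.primeCompl Aq j
  exact ⟨(LocalizedModule.equivTensorProduct q.primeCompl (Dual.HD A Y c)) ≪≫ₗ j'.symm ≪≫ₗ i1⟩

end Groth.Agent.Helper9.ZB3
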