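import Mathlib
import Groth.Prelude.Def_DualSh
import Groth.Prelude.Def_Flat
import Groth.Prelude.Def_Dual3
import Groth.Prelude.Def_CAlg
import Groth.Agent.Helper9.ZA3
import Groth.Agent.Helper9.ZB2
import Groth.Agent.Helper9.ZB3
import Groth.Agent.Helper9.BR3
import Groth.Agent.Helper6.DFinExt
import Groth.Agent.Helper2.DepthCM

/-!
# Serre's condition `(S_2)` for `H^{n-r}(RHom_P(A, P))` at the generizations of a
Cohen–Macaulay point of the base
-/

set_option autoImplicit false
set_option linter.style.haveILetI false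
set_option linter.unusedSectionVars false

universe u
open CategoryTheory CategoryTheory.Limits DerivedCategory AlgebraicGeometry IsLocalRing
attribute [local instance] HasDerivedCategory.standard

namespace Groth.Agent.Helper9.ZB4
open Groth.Agent.Helper3.DRingLib Groth.Agent.Helper6

section finite

variable {P A : Type u} [CommRing P] [CommRing A] [IsNoetherianRing P] (ψ : P →+* A)
  (hψ : Function.Surjective ψ) (Rψ : Dual.D P ⥤ Dual.D A) (adj : DRing.restrictD ψ ⊣ Rψ)

include hψ adj in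
/-- the cohomology modules of `RHom_P(A, P)` are finite -/
theorem finite_HD (c : ℤ) : Module.Finite A (Dual.HD A (Rψ.obj (Dual.inD P P)) c) := by
  obtain ⟨k⟩ := Groth.Agent.Helper9.YB3.nonempty_HD_equiv hψ Rψ adj c
  haveI : Module.Finite P (Dual.inD P (P ⧸ RingHom.ker ψ) ⟶ (Dual.inD P P)⟦c⟧) :=
    DFinExt.finite_base (P ⧸ RingHom.ker ψ) P c
  haveI h1 : Module.Finite P ((rF ψ).obj ((homologyFunctor (ModuleCat.{u} A) c).obj
      (Rψ.obj (Dual.inD P P)))) := Module.Finite.equiv k.symm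
  letI : Algebra P A := ψ.toAlgebra
  letI : Module P (Dual.HD A (Rψ.obj (Dual.inD P P)) c) := Module.compHom _ ψ
  haveI : IsScalarTower P A (Dual.HD A (Rψ.obj (Dual.inD P P)) c) :=
    IsScalarTower.of_algebraMap_smul (fun _ _ => rfl)
  haveI h2 : Module.Finite P (Dual.HD A (Rψ.obj (Dual.inD P P)) c) := h1
  exact Module.Finite.of_restrictScalars_finite P A _

end finite

section numerics

/-- the numerical core of the `(S_2)` estimate -/
lemma num (s : WithBot ℕ∞) (δ : ℕ∞) (k k' a : ℕ) (c : ℤ) (hs : s ≤ (k' : WithBot ℕ∞))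
    (hca : c ≤ (a : ℤ)) (hk : k' + a ≤ k)
    (h : ∀ m : ℕ, m ≤ 2 → c + m ≤ k → (m : ℕ∞) ≤ δ) :
    min ((2 : ℕ) : WithBot ℕ∞) s ≤ (δ : WithBot ℕ∞) := by
  have h1 := h (min 2 k') (min_le_left _ _) (by
    have : ((min 2 k' : ℕ) : ℤ) ≤ k' := by exact_mod_cast min_le_right _ _
    omega)
  calc min ((2 : ℕ) : WithBot ℕ∞) s ≤ min ((2 : ℕ) : WithBot ℕ∞) (k' : WithBot ℕ∞) :=
        min_le_min le_rfl hs
    _ = (((min 2 k' : ℕ) : ℕ∞) : WithBot ℕ∞) := by
        rcases le_total 2 k' with h2 | h2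
        · rw [min_eq_left h2, min_eq_left (by exact_mod_cast h2)]
          rfl
        · rw [min_eq_right h2, min_eq_right (by exact_mod_cast h2)]
          rfl
    _ ≤ (δ : WithBot ℕ∞) := WithBot.coe_le_coe.2 h1

end numerics

variable (R A : Type u) [CommRing R] [CommRing A] [IsNoetherianRing R] [IsNoetherianRing A]
  [Algebra R A] (n : ℕ) (ψ : MvPolynomial (Fin n) R →ₐ[R] A) (hψ : Function.Surjective ψ)
  [DRing.HasLBaseChange (algebraMap R (MvPolynomial (Fin n) R))]
  (Rψ : Dual.D (MvPolynomial (Fin n) R) ⥤ Dual.D A) (adj : DRing.restrictD ψ.toRingHom ⊣ Rψ)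
  (p : Ideal R) [p.IsPrime] [LocCoh.IsCohenMacaulayLocalRing (Localization.AtPrime p)]

include hψ adj in
set_option maxHeartbeats 1000000 in
/-- **`(S_2)` at a generization of the Cohen–Macaulay point** -/
theorem local_S2 (r : ℕ)
    (hr : ∀ q : PrimeSpectrum A, q.asIdeal ∈ minimalPrimes A →
      Dual3.resTrdeg (Spec.map (CommRingCat.ofHom (algebraMap R A))) q ≤ (r : Cardinal.{u}))
    (q : PrimeSpectrum A) (hq : q.asIdeal.comap (algebraMap R A) ≤ p) :
    min ((2 : ℕ) : WithBot ℕ∞)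
        (Module.supportDim (Localization.AtPrime q.asIdeal)
          (LocalizedModule q.asIdeal.primeCompl
            (Dual.HD A (Rψ.obj (Dual.inD (MvPolynomial (Fin n) R) (MvPolynomial (Fin n) R)))
              ((n : ℤ) - r)))) ≤
      ((LocCoh.depth (Localization.AtPrime q.asIdeal)
          (LocalizedModule q.asIdeal.primeCompl
            (Dual.HD A (Rψ.obj (Dual.inD (MvPolynomial (Fin n) R) (MvPolynomial (Fin n) R)))
              ((n : ℤ) - r))) : ℕ∞) : WithBot ℕ∞) := by
  set c : ℤ := (n : ℤ) - r with hc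
  let q' : PrimeSpectrum (MvPolynomial (Fin n) R) :=
    ⟨q.asIdeal.comap ψ.toRingHom, Ideal.comap_isPrime _ _⟩
  set B := Localization.AtPrime (q.asIdeal.comap ψ.toRingHom) with hB
  set Aq := Localization.AtPrime q.asIdeal with hAq
  haveI : LocCoh.IsCohenMacaulayLocalRing (Localization.AtPrime
      (q'.asIdeal.comap (algebraMap R (MvPolynomial (Fin n) R)))) :=
    ZA3.cm_of_comap_le R A n ψ p q hq
  have hJq : RingHom.ker ψ.toRingHom ≤ q'.asIdeal := by
    intro x hx
    show ψ.toRingHom x ∈ q.asIdeal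
    rw [(RingHom.mem_ker).1 hx]
    exact q.asIdeal.zero_mem
  obtain ⟨k, k', hk, hk', hkk', hdepth, -⟩ := ZA2.depth_loc R n (RingHom.ker ψ.toRingHom) q' hJq
    (n - r) (ZA1.height_ker_ge R n A ψ hψ r hr)
  -- the local duality functor
  haveI := Groth.Agent.Helper9.BR3.isLeftAdjoint_restrictD (ZB3.φq ψ.toRingHom q.asIdeal)
  have adjφ := Adjunction.ofIsLeftAdjoint (DRing.restrictD (ZB3.φq ψ.toRingHom q.asIdeal))
  set Rφ := Functor.rightAdjoint (DRing.restrictD (ZB3.φq ψ.toRingHom q.asIdeal)) with hRφ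
  have hsurj := ZB3.φq_surjective ψ.toRingHom hψ q.asIdeal
  have heq : ∀ j : ℤ, Nonempty (LocalizedModule q.asIdeal.primeCompl
      (Dual.HD A (Rψ.obj (Dual.inD (MvPolynomial (Fin n) R) (MvPolynomial (Fin n) R))) j)
      ≃ₗ[Aq] Dual.HD Aq (Rφ.obj (Dual.inD B B)) j) := fun j =>
    ZB3.nonempty_loc_equiv ψ.toRingHom hψ q.asIdeal Rψ adj Rφ adjφ j
  -- vanishing below `c`
  have hvan : ∀ j : ℤ, j < c → Subsingleton (Dual.HD Aq (Rφ.obj (Dual.inD B B)) j) := by
    intro j hj
    obtain ⟨e⟩ := heq j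
    haveI : Subsingleton (LocalizedModule q.asIdeal.primeCompl
        (Dual.HD A (Rψ.obj (Dual.inD (MvPolynomial (Fin n) R) (MvPolynomial (Fin n) R))) j)) := by
      rw [LocalizedModule.subsingleton_iff]
      intro m
      exact ZA3.exists_smul_eq_zero R A n ψ hψ Rψ adj p r hr q hq j (by omega) m
    exact e.symm.toEquiv.subsingleton
  obtain ⟨e⟩ := heq c
  haveI hfinA : Module.Finite A
      (Dual.HD A (Rψ.obj (Dual.inD (MvPolynomial (Fin n) R) (MvPolynomial (Fin n) R))) c) :=
    finite_HD ψ.toRingHom hψ Rψ adj c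
  haveI hfinL : Module.Finite Aq (LocalizedModule q.asIdeal.primeCompl
      (Dual.HD A (Rψ.obj (Dual.inD (MvPolynomial (Fin n) R) (MvPolynomial (Fin n) R))) c)) :=
    Module.Finite.of_isLocalizedModule q.asIdeal.primeCompl
      (LocalizedModule.mkLinearMap q.asIdeal.primeCompl _)
  haveI hfinN : Module.Finite Aq (Dual.HD Aq (Rφ.obj (Dual.inD B B)) c) :=
    Module.Finite.equiv e
  haveI : IsNoetherianRing B := IsLocalization.isNoetherianRing
    (q.asIdeal.comap ψ.toRingHom).primeCompl _ inferInstance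
  haveI : IsNoetherianRing Aq := IsLocalization.isNoetherianRing
    q.asIdeal.primeCompl _ inferInstance
  -- depth
  have hdep := fun (m : ℕ) (hm2 : m ≤ 2) (hmD : c + m ≤ k) =>
    ZB2.depth_ge (ZB3.φq ψ.toRingHom q.asIdeal) hsurj Rφ adjφ k (le_of_eq hdepth.symm) c hvan
      m hm2 hmD
  -- dimension
  have hdimAq : ringKrullDim Aq ≤ (k' : WithBot ℕ∞) := by
    rw [← hk']
    let g : (B ⧸ (RingHom.ker ψ.toRingHom).map (algebraMap (MvPolynomial (Fin n) R) B)) →+* Aq :=
      Ideal.Quotient.lift _ (ZB3.φq ψ.toRingHom q.asIdeal) (by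
        intro a ha
        have hle : (RingHom.ker ψ.toRingHom).map (algebraMap (MvPolynomial (Fin n) R) B) ≤
            RingHom.ker (ZB3.φq ψ.toRingHom q.asIdeal) := by
          rw [Ideal.map_le_iff_le_comap]
          intro x hx
          rw [Ideal.mem_comap, RingHom.mem_ker]
          have h1 := Localization.localRingHom_to_map (q.asIdeal.comap ψ.toRingHom) q.asIdeal
            ψ.toRingHom rfl x
          rw [(RingHom.mem_ker).1 hx, map_zero] at h1
          exact h1
        exact (RingHom.mem_ker).1 (hle ha))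
    have hg : Function.Surjective g := fun y => by
      obtain ⟨b, rfl⟩ := hsurj y
      exact ⟨Ideal.Quotient.mk _ b, Ideal.Quotient.lift_mk _ _ _⟩
    exact ringKrullDim_le_of_surjective g hg
  have hsupp : Module.supportDim Aq (Dual.HD Aq (Rφ.obj (Dual.inD B B)) c) ≤
      (k' : WithBot ℕ∞) :=
    (Module.supportDim_le_ringKrullDim Aq _).trans hdimAq
  have hmain := num _ _ k k' (n - r) c hsupp (by omega) hkk' hdep
  have hd : LocCoh.depth Aq (LocalizedModule q.asIdeal.primeCompl
      (Dual.HD A (Rψ.obj (Dual.inD (MvPolynomial (Fin n) R) (MvPolynomial (Fin n) R))) c)) =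
      LocCoh.depth Aq (Dual.HD Aq (Rφ.obj (Dual.inD B B)) c) :=
    Groth.Agent.Helper2.DepthCM.idealDepth_congr (maximalIdeal Aq) e
  rw [Module.supportDim_eq_of_equiv e, hd]
  exact hmain

end Groth.Agent.Helper9.ZB4
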