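import Mathlib
import Groth.Prelude.Def_CAlg
import Groth.Prelude.Def_EGA4b
import Groth.Agent.Helper6.SkOpen1

/-!
# Serre's condition `(S_k)` for a localization `S⁻¹M` from the primes disjoint from `S`
-/

set_option autoImplicit false
set_option linter.style.haveILetI false
set_option linter.unusedSectionVars false

universe u
open CategoryTheory TensorProduct IsLocalRing

namespace Groth.Agent.Helper9.ZB5

variable {A : Type u} [CommRing A] [IsNoetherianRing A] (S : Submonoid A)
  (M : Type u) [AddCommGroup M] [Module A M] [Module.Finite A M]

set_option maxHeartbeats 1000000 in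
/-- transfer of dimension and depth along `A_q → (S⁻¹A)_P` -/
theorem transfer (P : Ideal (Localization S)) [P.IsPrime]
    (q : Ideal A) [q.IsPrime] [P.LiesOver q] :
    Module.supportDim (Localization.AtPrime P)
        (LocalizedModule P.primeCompl (Localization S ⊗[A] M)) =
      Module.supportDim (Localization.AtPrime q) (LocalizedModule q.primeCompl M) ∧
    LocCoh.depth (Localization.AtPrime P)
        (LocalizedModule P.primeCompl (Localization S ⊗[A] M)) =
      LocCoh.depth (Localization.AtPrime q) (LocalizedModule q.primeCompl M) := by
  letI := Localization.AtPrime.algebraOfLiesOver q P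
  haveI : IsLocalHom (algebraMap (Localization.AtPrime q) (Localization.AtPrime P)) :=
    Localization.isLocalHom_localRingHom _ _ _ Ideal.LiesOver.over
  haveI : IsNoetherianRing (Localization S) :=
    IsLocalization.isNoetherianRing S _ inferInstance
  haveI : IsNoetherianRing (Localization.AtPrime q) :=
    IsLocalization.isNoetherianRing q.primeCompl _ inferInstance
  haveI : IsNoetherianRing (Localization.AtPrime P) :=
    IsLocalization.isNoetherianRing P.primeCompl _ inferInstance
  haveI : Module.Finite (Localization.AtPrime q) (LocalizedModule q.primeCompl M) :=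
    Module.Finite.of_isLocalizedModule q.primeCompl (LocalizedModule.mkLinearMap q.primeCompl M)
  have eI := Groth.Agent.Helper6.SkDescMod.locTensorEquiv M q P
  rcases subsingleton_or_nontrivial (LocalizedModule q.primeCompl M) with hsub | hnt
  · haveI : Subsingleton (Localization.AtPrime P ⊗[Localization.AtPrime q]
        LocalizedModule q.primeCompl M) := inferInstance
    haveI : Subsingleton (LocalizedModule P.primeCompl (Localization S ⊗[A] M)) :=
      eI.toEquiv.subsingleton
    refine ⟨?_, ?_⟩
    · rw [Module.supportDim_eq_bot_of_subsingleton, Module.supportDim_eq_bot_of_subsingleton]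
    · rw [Groth.Agent.Helper2.DepthLoc.depth_eq_top_of_subsingleton,
        Groth.Agent.Helper2.DepthLoc.depth_eq_top_of_subsingleton]
  · have hPmin : P ∈ (q.map (algebraMap A (Localization S))).minimalPrimes := by
      have hPq : q.map (algebraMap A (Localization S)) = P := by
        have hq : q = P.comap (algebraMap A (Localization S)) := Ideal.LiesOver.over
        rw [hq]
        exact IsLocalization.map_comap S _ P
      rw [hPq, Ideal.minimalPrimes_eq_subsingleton_self]
      exact Set.mem_singleton _
    have hfl := Groth.Agent.Helper2.SkDescent.isFiniteLength_fib (Localization.AtPrime q)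
      (Localization.AtPrime P)
      (Groth.Agent.Helper2.SkDescent.maximalIdeal_mem_minimalPrimes A (Localization S)
        q P hPmin)
    have hd : LocCoh.depth (Localization.AtPrime P)
        (LocalizedModule P.primeCompl (Localization S ⊗[A] M)) =
        LocCoh.depth (Localization.AtPrime P)
          (Localization.AtPrime P ⊗[Localization.AtPrime q] LocalizedModule q.primeCompl M) :=
      Groth.Agent.Helper2.DepthCM.idealDepth_congr _ eI
    have h0 : Module.supportDim (Localization.AtPrime P)
        (EGA4.FibMod (Localization.AtPrime q) (Localization.AtPrime P)
          (Localization.AtPrime P)) = 0 := by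
      have h1 := Groth.Agent.Helper1.SupportDim.supportDim_le_zero_of_isFiniteLength hfl
      haveI := Groth.Agent.Helper2.DepthFlat.fibMod_nontrivial (A := Localization.AtPrime q)
        (B := Localization.AtPrime P) (N := Localization.AtPrime P)
      have h2 : Module.supportDim (Localization.AtPrime P)
          (EGA4.FibMod (Localization.AtPrime q) (Localization.AtPrime P)
            (Localization.AtPrime P)) ≠ ⊥ := by
        rw [ne_eq, Module.supportDim_eq_bot_iff_subsingleton, not_subsingleton_iff_nontrivial]
        infer_instance
      generalize Module.supportDim (Localization.AtPrime P)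
          (EGA4.FibMod (Localization.AtPrime q) (Localization.AtPrime P)
            (Localization.AtPrime P)) = c at h1 h2 ⊢
      induction c with
      | bot => exact absurd rfl h2
      | coe c =>
        have h3 : c ≤ 0 := by exact_mod_cast h1
        have h4 : c = 0 := le_antisymm h3 (by simp)
        rw [h4]
        rfl
    refine ⟨?_, ?_⟩
    · rw [Module.supportDim_eq_of_equiv eI, Groth.Agent.Helper6.FlatGD.supportDim_tensor_eq]
      exact (congrArg (fun z => Module.supportDim (Localization.AtPrime q)
        (LocalizedModule q.primeCompl M) + z) h0).trans (add_zero _)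
    · rw [hd, Groth.Agent.Helper2.DepthFlat.main (A := Localization.AtPrime q)
        (B := Localization.AtPrime P) (M := LocalizedModule q.primeCompl M)
        (N := Localization.AtPrime P) hfl]

/-- **`(S_k)` for `S⁻¹M` from the primes disjoint from `S`** -/
theorem hasSk_localization (k : ℕ)
    (h : ∀ (q : Ideal A) [q.IsPrime], Disjoint (S : Set A) (q : Set A) →
      min (k : WithBot ℕ∞)
        (Module.supportDim (Localization.AtPrime q) (LocalizedModule q.primeCompl M)) ≤
      ((LocCoh.depth (Localization.AtPrime q) (LocalizedModule q.primeCompl M) : ℕ∞) :
        WithBot ℕ∞)) :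
    LocCoh.HasSk k (Localization S) (LocalizedModule S M) := by
  refine Groth.Agent.Helper6.SkQuot.hasSk_of_equiv k
    (LocalizedModule.equivTensorProduct S M).symm ?_
  intro P hP
  haveI : (P.comap (algebraMap A (Localization S))).IsPrime := Ideal.comap_isPrime _ _
  haveI : P.LiesOver (P.comap (algebraMap A (Localization S))) := ⟨rfl⟩
  have hdisj : Disjoint (S : Set A) (P.comap (algebraMap A (Localization S)) : Set A) :=
    ((IsLocalization.isPrime_iff_isPrime_disjoint S (Localization S) P).1 hP).2
  obtain ⟨h1, h2⟩ := transfer S M P (P.comap (algebraMap A (Localization S)))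
  rw [h1, h2]
  exact h _ hdisj

end Groth.Agent.Helper9.ZB5
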