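import Mathlib
import Groth.Prelude.Def_DualSh
import Groth.Prelude.Def_Flat
import Groth.Prelude.Def_Dual3
import Groth.Prelude.Def_CAlg
import Groth.Agent.Helper9.ZB4
import Groth.Agent.Helper9.ZB5
import Groth.Agent.Helper9.XR6

/-!
# `(S_2)` for `S⁻¹ H^{-r}(ω_{A/R})` over a Cohen–Macaulay point of the base
-/

set_option autoImplicit false
set_option linter.style.haveILetI false
set_option linter.unusedSectionVars false

universe u
open CategoryTheory CategoryTheory.Limits DerivedCategory AlgebraicGeometry IsLocalRing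
attribute [local instance] HasDerivedCategory.standard

namespace Groth.Agent.Helper9.ZB6
open Groth.Agent.Helper3.DRingLib Groth.Agent.Helper6 Groth.Agent.Helper6.Coext

variable (R A : Type u) [CommRing R] [CommRing A] [IsNoetherianRing R] [IsNoetherianRing A]
  [Algebra R A] (n : ℕ) (ψ : MvPolynomial (Fin n) R →ₐ[R] A) (hψ : Function.Surjective ψ)
  [DRing.HasLBaseChange (algebraMap R (MvPolynomial (Fin n) R))]
  (Rψ : Dual.D (MvPolynomial (Fin n) R) ⥤ Dual.D A) (adj : DRing.restrictD ψ.toRingHom ⊣ Rψ)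
  (p : Ideal R) [p.IsPrime] [LocCoh.IsCohenMacaulayLocalRing (Localization.AtPrime p)]

include hψ adj in
set_option maxHeartbeats 1000000 in
theorem hasS2 (r : ℕ)
    (hr : ∀ q : PrimeSpectrum A, q.asIdeal ∈ minimalPrimes A →
      Dual3.resTrdeg (Spec.map (CommRingCat.ofHom (algebraMap R A))) q ≤ (r : Cardinal.{u})) :
    LocCoh.HasSk 2 (Localization (Algebra.algebraMapSubmonoid A p.primeCompl))
      (LocalizedModule (Algebra.algebraMapSubmonoid A p.primeCompl)
        (Dual.HD A (Dual2.shriekVia n Rψ (Dual.inD R R)) (-(r : ℤ)))) := by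
  let e1 : Dual.HD A (Dual2.shriekVia n Rψ (Dual.inD R R)) (-(r : ℤ)) ≃ₗ[A]
      Dual.HD A (Rψ.obj (Dual.inD (MvPolynomial (Fin n) R) (MvPolynomial (Fin n) R)))
        ((n : ℤ) - r) :=
    ((homologyFunctor (ModuleCat.{u} A) (-(r : ℤ))).mapIso
      (Groth.Agent.Helper9.XR6.shriekUnitIso R A n Rψ)).toLinearEquiv ≪≫ₗ
      hdShift _ (n : ℤ) (-(r : ℤ)) ((n : ℤ) - r) (by ring)
  haveI hfin0 : Module.Finite A
      (Dual.HD A (Rψ.obj (Dual.inD (MvPolynomial (Fin n) R) (MvPolynomial (Fin n) R)))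
        ((n : ℤ) - r)) := ZB4.finite_HD ψ.toRingHom hψ Rψ adj _
  haveI hfin : Module.Finite A (Dual.HD A (Dual2.shriekVia n Rψ (Dual.inD R R)) (-(r : ℤ))) :=
    Module.Finite.equiv e1.symm
  apply ZB5.hasSk_localization
  intro q hqprime hdisj
  have hqp : q.comap (algebraMap R A) ≤ p := by
    intro x hx
    by_contra hxp
    exact Set.disjoint_left.1 hdisj ⟨x, hxp, rfl⟩ hx
  have h1 := ZB4.local_S2 R A n ψ hψ Rψ adj p r hr ⟨q, hqprime⟩ hqp
  let eL : LocalizedModule q.primeCompl
        (Dual.HD A (Dual2.shriekVia n Rψ (Dual.inD R R)) (-(r : ℤ))) ≃ₗ[Localization.AtPrime q]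
      LocalizedModule q.primeCompl
        (Dual.HD A (Rψ.obj (Dual.inD (MvPolynomial (Fin n) R) (MvPolynomial (Fin n) R)))
          ((n : ℤ) - r)) :=
    IsLocalizedModule.mapEquiv q.primeCompl (LocalizedModule.mkLinearMap q.primeCompl _)
      (LocalizedModule.mkLinearMap q.primeCompl _) (Localization.AtPrime q) e1
  have hd : LocCoh.depth (Localization.AtPrime q) (LocalizedModule q.primeCompl
        (Dual.HD A (Dual2.shriekVia n Rψ (Dual.inD R R)) (-(r : ℤ)))) =
      LocCoh.depth (Localization.AtPrime q) (LocalizedModule q.primeCompl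
        (Dual.HD A (Rψ.obj (Dual.inD (MvPolynomial (Fin n) R) (MvPolynomial (Fin n) R)))
          ((n : ℤ) - r))) :=
    Groth.Agent.Helper2.DepthCM.idealDepth_congr (maximalIdeal (Localization.AtPrime q)) eL
  rw [Module.supportDim_eq_of_equiv eL, hd]
  exact h1

end Groth.Agent.Helper9.ZB6
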