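import Mathlib
import Groth.Prelude.Def_EtBase

/-! Schemes all of whose points are closed: the local rings have nil maximal ideals, hence are
henselian; basic opens are closed. -/

set_option autoImplicit false
set_option linter.style.haveILetI false
universe u

open CategoryTheory CategoryTheory.Limits Opposite AlgebraicGeometry TopologicalSpace

namespace Groth.Agent.Helper9.ZeroDimLocal

/-- local rings with nil maximal ideal are henselian -/
theorem henselian_of_nil (A : Type*) [CommRing A] [IsLocalRing A]
    (h : ∀ x ∈ IsLocalRing.maximalIdeal A, IsNilpotent x) : HenselianLocalRing A where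
  is_henselian f _ a₀ h₁ h₂ := by
    obtain ⟨r, ⟨hr1, hr2⟩, -⟩ :=
      Polynomial.existsUnique_nilpotent_sub_and_aeval_eq_zero (P := f) (x := a₀)
        (by simpa using h _ h₁) (by simpa using h₂)
    refine ⟨r, by simpa [Polynomial.IsRoot] using hr2, ?_⟩
    have h3 : IsNilpotent (r - a₀) := by
      rw [← neg_sub]; exact hr1.neg
    exact nilradical_le_prime (IsLocalRing.maximalIdeal A) ((mem_nilradical).2 h3)

variable (S : Scheme.{u}) (h1 : ∀ s : S, IsClosed ({s} : Set S))

include h1 in
set_option backward.isDefEq.respectTransparency.types false in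
theorem isNilpotent_of_mem_maximalIdeal (s : S) (x : S.presheaf.stalk s)
    (hx : x ∈ IsLocalRing.maximalIdeal (S.presheaf.stalk s)) : IsNilpotent x := by
  rw [nilpotent_iff_mem_prime]
  intro J hJ
  let p : Spec (S.presheaf.stalk s) := ⟨J, hJ⟩
  have hy : (S.fromSpecStalk s) p ⤳ s := by
    have : (S.fromSpecStalk s) p ∈ Set.range (S.fromSpecStalk s) := Set.mem_range_self p
    rw [Scheme.range_fromSpecStalk] at this
    exact this
  have hy2 : s = (S.fromSpecStalk s) p := by
    have := (specializes_iff_mem_closure).1 hy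
    rw [(h1 _).closure_eq] at this
    exact this
  have hp : p = IsLocalRing.closedPoint (S.presheaf.stalk s) := by
    apply (S.fromSpecStalk s).isEmbedding.injective
    rw [← hy2]
    exact Scheme.fromSpecStalk_closedPoint.symm
  have hJ2 : J = IsLocalRing.maximalIdeal (S.presheaf.stalk s) :=
    congrArg PrimeSpectrum.asIdeal hp
  rw [hJ2]
  exact hx

include h1 in
theorem strictHens (h2 : ∀ s : S, IsSepClosed (S.residueField s)) (s : S) :
    EtCoh.IsStrictlyHenselianLocalRing (S.presheaf.stalk s) :=
  ⟨henselian_of_nil _ (isNilpotent_of_mem_maximalIdeal S h1 s), h2 s⟩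

include h1 in
set_option backward.isDefEq.respectTransparency.types false in
theorem isClosed_basicOpen (f : Γ(S, ⊤)) : IsClosed ((S.basicOpen f : S.Opens) : Set S) := by
  rw [← isOpen_compl_iff, isOpen_iff_forall_mem_open]
  intro s hs
  have hnu : ¬ IsUnit (S.presheaf.germ ⊤ s trivial f) := by
    intro hu
    exact hs ((Scheme.mem_basicOpen S f s trivial).2 hu)
  have hm : (S.presheaf.germ ⊤ s trivial f) ∈ IsLocalRing.maximalIdeal (S.presheaf.stalk s) :=
    (IsLocalRing.mem_maximalIdeal _).2 hnu
  obtain ⟨n, hn⟩ := isNilpotent_of_mem_maximalIdeal S h1 s _ hm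
  have hn' : S.presheaf.germ ⊤ s trivial (f ^ n) = S.presheaf.germ ⊤ s trivial 0 := by
    rw [map_pow, hn, map_zero]
  obtain ⟨W, hsW, iU, iV, hW⟩ := TopCat.Presheaf.germ_eq S.presheaf s (U := ⊤) (V := ⊤) trivial trivial _ _ hn'
  refine ⟨W, ?_, W.isOpen, hsW⟩
  intro u huW huD
  have hu1 : IsUnit (S.presheaf.germ ⊤ u trivial f) :=
    (Scheme.mem_basicOpen S f u trivial).1 huD
  have hu2 : (S.presheaf.germ ⊤ u trivial f) ^ n = 0 := by
    rw [← map_pow]
    have e1 := TopCat.Presheaf.germ_res_apply S.presheaf iU u huW (f ^ n)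
    have e2 := TopCat.Presheaf.germ_res_apply S.presheaf iV u huW (0 : Γ(S, ⊤))
    rw [← e1, hW, e2, map_zero]
  have : IsUnit (0 : S.presheaf.stalk u) := hu2 ▸ hu1.pow n
  exact not_isUnit_zero this

end Groth.Agent.Helper9.ZeroDimLocal
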