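import Mathlib
import Groth.Prelude.Def_EtZar
import Groth.Agent.Helper9.ZeroDimLocal
import Groth.Agent.Helper9.StrictHensNbhd
import Groth.Agent.Helper9.EtStrictHensCover

/-! Affine schemes all of whose points are closed with separably closed residue fields: global
sections of étale sheaves preserve epimorphisms, hence higher cohomology vanishes. -/

set_option autoImplicit false
set_option linter.style.haveILetI false
universe u

open CategoryTheory CategoryTheory.Limits Opposite AlgebraicGeometry TopologicalSpace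

namespace Groth.Agent.Helper9.ZeroDimCoh

variable {S : Scheme.{u}} {F G : EtCoh.Ab S} (φ : F ⟶ G) (t : G.obj.obj (op (EtCoh.top S)))

/-- the structure map of an open to the terminal object -/
noncomputable def toTop (U : S.Opens) : (EtZar.zarToEt S).obj U ⟶ EtCoh.top S :=
  MorphismProperty.Over.homMk U.ι (Category.comp_id _) trivial

lemma hom_top_ext {Z : S.Etale} (a b : Z ⟶ EtCoh.top S) : a = b :=
  (MorphismProperty.Over.mkIdTerminal EtCoh.etaleMP.{u} _).hom_ext a b

/-- `t` lifts along `φ` over the open `U` -/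
def Liftable (U : S.Opens) : Prop :=
  ∃ a : F.obj.obj (op ((EtZar.zarToEt S).obj U)), φ.hom.app _ a = G.obj.map (toTop U).op t

variable {φ t}

lemma liftable_of_hom {Z : S.Etale} (a : F.obj.obj (op Z)) (q : Z ⟶ EtCoh.top S)
    (ha : φ.hom.app _ a = G.obj.map q.op t) {U : S.Opens} (r : (EtZar.zarToEt S).obj U ⟶ Z) :
    Liftable φ t U := by
  refine ⟨F.obj.map r.op a, ?_⟩
  have h1 := NatTrans.naturality_apply φ.hom r.op a
  refine h1.trans ?_
  rw [ha]
  have e : r ≫ q = toTop U := hom_top_ext _ _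
  rw [← e, op_comp, G.obj.map_comp]
  rfl

lemma liftable_mono {U U' : S.Opens} (h : U' ≤ U) (hU : Liftable φ t U) : Liftable φ t U' := by
  obtain ⟨a, ha⟩ := hU
  exact liftable_of_hom a (toTop U) ha ((EtZar.zarToEt S).map (homOfLE h))

set_option backward.isDefEq.respectTransparency.types false in
theorem liftable_iSup {μ : Type*} (U : μ → S.Opens)
    (hd : ∀ a b, a ≠ b → Disjoint (U a) (U b)) (hU : ∀ a, Liftable φ t (U a)) :
    Liftable φ t (⨆ a, U a) := by
  choose s hs using hU
  let T : S.Etale := (EtZar.zarToEt S).obj (⨆ a, U a)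
  let O : μ → S.Etale := fun a => (EtZar.zarToEt S).obj (U a)
  let ι : ∀ a, O a ⟶ T := fun a => (EtZar.zarToEt S).map (homOfLE (le_iSup U a))
  have hmono : ∀ a, Mono (ι a) := fun a =>
    Groth.Agent.Helper9.EtDisjGlue.mono_of_mono_left (ι a)
      (show Mono (S.homOfLE (le_iSup U a)) from inferInstance)
  have hsurj : ∀ x : T.left, ∃ (a : μ) (z : (O a).left), (ι a).left z = x := by
    intro x
    have hx : (x : (⨆ a, U a).toScheme).1 ∈ ⨆ a, U a := (x : (⨆ a, U a).toScheme).2
    obtain ⟨a, ha⟩ := Opens.mem_iSup.1 hx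
    exact ⟨a, (⟨(x : (⨆ a, U a).toScheme).1, ha⟩ : (U a).toScheme),
      Scheme.homOfLE_apply' (le_iSup U a) _ ha⟩
  have hdisj : ∀ a b, a ≠ b → ∀ (za : (O a).left) (zb : (O b).left),
      (ι a).left za ≠ (ι b).left zb := by
    intro a b hab za zb h
    have h1 : (za : (U a).toScheme).1 = (zb : (U b).toScheme).1 := by
      have h2 : ((S.homOfLE (le_iSup U a)) (za : (U a).toScheme)).1 =
          ((S.homOfLE (le_iSup U b)) (zb : (U b).toScheme)).1 := congrArg Subtype.val h
      rwa [Scheme.homOfLE_apply, Scheme.homOfLE_apply] at h2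
    have h3 : (za : (U a).toScheme).1 ∈ U a ⊓ U b :=
      ⟨(za : (U a).toScheme).2, h1 ▸ (zb : (U b).toScheme).2⟩
    rw [(hd a b hab).eq_bot] at h3
    exact h3
  obtain ⟨s₀, hs₀, -⟩ := Groth.Agent.Helper9.EtDisjGlue.existsUnique_glue O ι hmono hsurj hdisj
    (F.obj ⋙ forget AddCommGrpCat) (Groth.Agent.Helper9.EtPropA.isSheaf_forget F) s
  obtain ⟨t₀, -, ht₀⟩ := Groth.Agent.Helper9.EtDisjGlue.existsUnique_glue O ι hmono hsurj hdisj
    (G.obj ⋙ forget AddCommGrpCat) (Groth.Agent.Helper9.EtPropA.isSheaf_forget G)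
    (fun a => G.obj.map (toTop (U a)).op t)
  refine ⟨s₀, ?_⟩
  have e1 : φ.hom.app (op T) s₀ = t₀ := by
    apply ht₀
    intro a
    have := NatTrans.naturality_apply φ.hom (ι a).op s₀
    refine this.symm.trans ?_
    rw [← hs a]
    exact congrArg (φ.hom.app (op (O a))) (hs₀ a)
  have e2 : G.obj.map (toTop (⨆ a, U a)).op t = t₀ := by
    apply ht₀
    intro a
    have e : ι a ≫ toTop (⨆ a, U a) = toTop (U a) := hom_top_ext _ _
    show G.obj.map (ι a).op (G.obj.map (toTop (⨆ a, U a)).op t) = G.obj.map (toTop (U a)).op t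
    rw [← e, op_comp, G.obj.map_comp]
    rfl
  rw [e1, e2]

theorem liftable_bot : Liftable φ t (⊥ : S.Opens) := by
  have := liftable_iSup (φ := φ) (t := t) (μ := PEmpty.{1}) (fun a => a.elim) (fun a => a.elim)
    (fun a => a.elim)
  rwa [iSup_of_empty] at this

theorem liftable_sup {U₁ U₂ : S.Opens} (hd : Disjoint U₁ U₂) (h₁ : Liftable φ t U₁)
    (h₂ : Liftable φ t U₂) : Liftable φ t (U₁ ⊔ U₂) := by
  have := liftable_iSup (φ := φ) (t := t) (μ := Bool) (fun b => cond b U₁ U₂)
    (by
      intro a b hab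
      cases a <;> cases b <;> simp_all [disjoint_comm])
    (by
      intro a
      cases a
      · exact h₂
      · exact h₁)
  rwa [← sup_eq_iSup] at this

theorem liftable_sup_of_isClosed {U D : S.Opens} (hD : IsClosed (D : Set S))
    (hU : Liftable φ t U) (hD' : Liftable φ t D) : Liftable φ t (U ⊔ D) := by
  let U' : S.Opens := ⟨(U : Set S) ∩ (D : Set S)ᶜ, U.isOpen.inter hD.isOpen_compl⟩
  have hU'U : U' ≤ U := fun x hx => hx.1
  have hdisj : Disjoint U' D := by
    rw [disjoint_iff]
    ext x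
    simp only [Opens.coe_inf, Set.mem_inter_iff, SetLike.mem_coe, Opens.coe_bot,
      Set.mem_empty_iff_false, iff_false, not_and]
    intro hx
    exact hx.2
  have he : U ⊔ D = U' ⊔ D := by
    ext x
    simp only [Opens.coe_sup, Set.mem_union, SetLike.mem_coe]
    constructor
    · rintro (hx | hx)
      · by_cases hxD : x ∈ D
        · exact Or.inr hxD
        · exact Or.inl ⟨hx, hxD⟩
      · exact Or.inr hx
    · rintro (hx | hx)
      · exact Or.inl hx.1
      · exact Or.inr hx
  rw [he]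
  exact liftable_sup hdisj (liftable_mono hU'U hU) hD'

theorem liftable_finset_sup (h1 : ∀ s : S, IsClosed ({s} : Set S))
    (T : Finset Γ(S, ⊤)) (hT : ∀ f ∈ T, Liftable φ t (S.basicOpen f)) :
    Liftable φ t (T.sup S.basicOpen) := by
  classical
  induction T using Finset.induction_on with
  | empty => simpa using liftable_bot
  | insert f T' hf ih =>
    rw [Finset.sup_insert, sup_comm]
    exact liftable_sup_of_isClosed (Groth.Agent.Helper9.ZeroDimLocal.isClosed_basicOpen S h1 f)
      (ih (fun g hg => hT g (Finset.mem_insert_of_mem hg))) (hT f (Finset.mem_insert_self f T'))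

variable (φ t)

set_option backward.isDefEq.respectTransparency.types false in
/-- local liftability near every point -/
theorem exists_liftable_nbhd [IsAffine S] [Epi φ]
    (hS : ∀ s : S, EtCoh.IsStrictlyHenselianLocalRing (S.presheaf.stalk s)) (s : S) :
    ∃ f : Γ(S, ⊤), s ∈ S.basicOpen f ∧ Liftable φ t (S.basicOpen f) := by
  have hloc : Presheaf.IsLocallySurjective S.smallEtaleTopology φ.hom :=
    (Sheaf.isLocallySurjective_iff_epi' AddCommGrpCat.{u + 1} φ).2 inferInstance
  obtain ⟨V, g, v, ⟨a, ha⟩, -, hv⟩ :=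
    (Groth.Agent.Helper9.EtAlmostCocont.mem_iff _ _).1 (hloc.imageSieve_mem t) s
  have : Etale V.hom := V.prop
  have hv' : V.hom v = s := by
    have h1 : g.left ≫ (EtCoh.top S).hom = V.hom := MorphismProperty.Over.w g
    have h2 : (g.left ≫ (EtCoh.top S).hom) v = s := hv
    rw [h1] at h2
    exact h2
  obtain ⟨W, hsW, σ, hσ1, -⟩ :=
    Groth.Agent.Helper9.StrictHensNbhd.exists_section_nbhd V.hom s (hS s) v hv'
  let r : (EtZar.zarToEt S).obj W ⟶ V := MorphismProperty.Over.homMk σ hσ1 trivial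
  have hW : Liftable φ t W := liftable_of_hom a g ha r
  obtain ⟨_, ⟨_, ⟨f, rfl⟩, rfl⟩, hsf, hfW⟩ :=
    (isBasis_basicOpen S).exists_subset_of_mem_open hsW W.isOpen
  exact ⟨f, hsf, liftable_mono hfW hW⟩

set_option backward.isDefEq.respectTransparency.types false in
theorem surjective_sections [IsAffine S] [Epi φ] (h1 : ∀ s : S, IsClosed ({s} : Set S))
    (h2 : ∀ s : S, IsSepClosed (S.residueField s)) :
    Function.Surjective (φ.hom.app (op (EtCoh.top S))) := by
  classical
  intro t
  have hS := Groth.Agent.Helper9.ZeroDimLocal.strictHens S h1 h2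
  choose f hf1 hf2 using exists_liftable_nbhd φ t hS
  obtain ⟨T, hT⟩ := CompactSpace.elim_nhds_subcover (fun s => ((S.basicOpen (f s) : S.Opens) : Set S))
    (fun s => (S.basicOpen (f s)).isOpen.mem_nhds (hf1 s))
  have hsup : (T.image f).sup S.basicOpen = ⊤ := by
    rw [eq_top_iff]
    intro x _
    have hx : x ∈ ⋃ s ∈ T, ((S.basicOpen (f s) : S.Opens) : Set S) := by rw [hT]; trivial
    simp only [Set.mem_iUnion] at hx
    obtain ⟨s, hsT, hxs⟩ := hx
    exact (Finset.le_sup (f := S.basicOpen) (Finset.mem_image_of_mem f hsT)) hxs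
  have hL : Liftable φ t ((T.image f).sup S.basicOpen) := liftable_finset_sup h1 _ (by
    intro g hg
    obtain ⟨s, -, rfl⟩ := Finset.mem_image.1 hg
    exact hf2 s)
  rw [hsup] at hL
  obtain ⟨a, ha⟩ := hL
  -- transport along the isomorphism `top ≅ zarToEt ⊤`
  let j : EtCoh.top S ⟶ (EtZar.zarToEt S).obj ⊤ :=
    MorphismProperty.Over.homMk S.topIso.inv (by
      show S.topIso.inv ≫ (⊤ : S.Opens).ι = 𝟙 S
      exact S.toIso_inv_ι) trivial
  refine ⟨F.obj.map j.op a, ?_⟩
  have h3 := NatTrans.naturality_apply φ.hom j.op a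
  refine h3.trans ?_
  rw [ha]
  have e : j ≫ toTop ⊤ = 𝟙 _ := hom_top_ext _ _
  have h4 : G.obj.map j.op (G.obj.map (toTop ⊤).op t) = G.obj.map (j ≫ toTop ⊤).op t := by
    rw [op_comp, G.obj.map_comp]
    rfl
  refine h4.trans ?_
  rw [e, op_id, G.obj.map_id]
  rfl

theorem main (S : Scheme.{u}) [IsAffine S] (h1 : ∀ s : S, IsClosed ({s} : Set S))
    (h2 : ∀ s : S, IsSepClosed (S.residueField s)) (F : EtCoh.Ab S) (i : ℕ) (hi : 1 ≤ i) :
    Subsingleton (EtCoh.H S F i) :=
  Groth.Agent.Helper9.EtStrictHensCover.subsingleton_H_of_surjective S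
    (fun φ _ => surjective_sections φ h1 h2) F i hi

end Groth.Agent.Helper9.ZeroDimCoh
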